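import Cfsg.Agent.Lib.Lin.SL2Char
import Cfsg.Agent.Lib.Char.CharInt
import Cfsg.Prelude.Def_DegreeGraph

/-!
# Character degrees of `SL₂(q)` and `PSL₂(q)`
-/

set_option autoImplicit false
set_option linter.unusedSectionVars false
set_option linter.unusedVariables false

namespace CA.H10L2
open Matrix Cfsg CA.SL2Basic CA.Mat2 CA.SL2Torus CA.SL2Class CA.SL2Char
open CChar.CharFun CChar.CharKer CChar.CharInt
open scoped MatrixGroups

variable {F : Type*} [Field F] [Fintype F] {S : Type*} [Group S] [Finite S] {d : ℕ}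

theorem degs_surj {G H : Type*} [Group G] [Group H] (f : G →* H) (hf : Function.Surjective f) :
    charDegrees H ⊆ charDegrees G := by
  rintro _ ⟨χ, rfl⟩
  exact ⟨⟨_, irr_comp_of_surjective χ.2 f hf⟩, by simp [charDegree]⟩

theorem degs_SL (h : d ∈ charDegrees SL(2, F)) : d = 1 ∨ d = Fintype.card F ∨
    d ∣ Fintype.card F + 1 ∨ d ∣ Fintype.card F - 1 := by
  classical
  obtain ⟨χ, rfl⟩ := h
  obtain ⟨g0, hg0⟩ := exists_aniso_SL F
  obtain ⟨n, -, hn⟩ := irr_apply_one χ.2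
  rw [charDegree_eq hn]
  rcases irr_deg hg0 χ.2 hn with h | h | h | h | h | h
  · exact Or.inl h.1
  · exact Or.inr (Or.inl h.1)
  · exact Or.inr (Or.inr (Or.inl h.1.dvd))
  · exact Or.inr (Or.inr (Or.inr (by rw [← h.1]; simp)))
  · exact Or.inr (Or.inr (Or.inl (h.1 ▸ dvd_mul_left n 2)))
  · exact Or.inr (Or.inr (Or.inr (by rw [← h.1]; simp)))

theorem mem_PSL {χ : SL(2, F) → ℂ} (h : IsIrrCharacter _ χ) (h1 : χ (-1) = χ 1) (hd : χ 1 = d) :
    ∃ ψ : IrrCharacter PSL(2, F), (∀ g : SL(2, F), ψ.1 g = χ g) ∧ charDegree ψ.1 = d := by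
  obtain ⟨ψ, h2, h3⟩ := irr_exists_quotient h (Subgroup.center _) fun g hg => by
    rcases (mem_center_iff g).1 hg with rfl | rfl
    exacts [rfl, h1]
  exact ⟨⟨ψ, h2⟩, h3, charDegree_eq ((h3 1).trans hd)⟩

theorem St_neg [DecidableEq F] : St F (-1) = St F 1 := by
  rw [← tr_neg_one_zero, St_central (by simp), St_one]

theorem exists_four {A : Type*} [Group A] [Finite A] [IsCyclic A] (h : ¬ Nat.card A ∣ 4) :
    ∃ η : A →* ℂˣ, (η ^ 2) ^ 2 ≠ 1 := by
  letI := IsCyclic.commGroup (α := A)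
  obtain ⟨x, hx⟩ := IsCyclic.exists_ofOrder_eq_natCard (α := A)
  obtain ⟨η, hη⟩ := CommGroup.exists_apply_ne_one_of_hasEnoughRootsOfUnity A ℂ (a := x ^ 4)
    fun e => h (hx ▸ orderOf_dvd_of_pow_eq_one e)
  exact ⟨η, fun e => hη (by simpa [← pow_mul] using DFunLike.congr_fun e x)⟩

theorem degs_PSL (h4 : 4 ≤ Fintype.card F) (h5 : Fintype.card F ≠ 5) :
    Fintype.card F ∈ charDegrees PSL(2, F) ∧ Fintype.card F + 1 ∈ charDegrees PSL(2, F) ∧
      Fintype.card F - 1 ∈ charDegrees PSL(2, F) := by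
  classical
  obtain ⟨g0, hg0⟩ := exists_aniso_SL F
  refine ⟨(mem_PSL irr_St St_neg St_one).imp fun _ h => h.2, ?_, ?_⟩
  · obtain ⟨η, hη⟩ := exists_four (A := Fˣ) (by
      rw [Nat.card_units, Nat.card_eq_fintype_card]
      intro e
      have := Nat.le_of_dvd (by norm_num) e
      generalize Fintype.card F = q at *
      obtain rfl : q = 4 := by omega
      omega)
    refine (mem_PSL ((irr_ps_iff (MulChar.ofUnitHom η ^ 2)).2 fun e => hη ?_) ?_
      ((ps_one _).trans (by simp))).imp fun _ h => h.2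
    · ext a
      simpa [MulChar.pow_apply_coe] using congrArg (fun χ : MulChar F ℂ => χ (a : F)) e
    · rw [← mul_one (-1 : SL(2, F)), ps_neg, sq, MulChar.mul_apply, ← map_mul]
      simp
  · have := isCyclic_C_aniso hg0
    obtain ⟨η, hη⟩ := exists_four (A := C g0) (by
      rw [card_C_aniso hg0, Nat.card_eq_fintype_card]
      intro e
      have := Nat.le_of_dvd (by norm_num) e
      omega)
    refine (mem_PSL (irr_cu hg0 hη) ?_ ((cu_one hg0 _).trans cast_pred)).imp fun _ h => h.2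
    have := cu_mul_central (η ^ 2) ⟨-1, neg_one_mem_C g0⟩ ((mem_center_iff _).2 (Or.inr rfl)) 1
    rw [MonoidHom.pow_apply, ← map_pow, show (⟨-1, neg_one_mem_C g0⟩ : C g0) ^ 2 = 1 from
      Subtype.ext (by simp)] at this
    simpa using this

theorem degs (hS : Nonempty (S ≃* PSL(2, F)) ∨ Nonempty (S ≃* SL(2, F))) :
    charDegrees PSL(2, F) ⊆ charDegrees S ∧ charDegrees S ⊆ charDegrees SL(2, F) := by
  have h := degs_surj (QuotientGroup.mk' (Subgroup.center SL(2, F))) (QuotientGroup.mk'_surjective _)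
  rcases hS with ⟨⟨e⟩⟩ | ⟨⟨e⟩⟩
  · exact ⟨degs_surj e.toMonoidHom e.surjective,
      (degs_surj e.symm.toMonoidHom e.symm.surjective).trans h⟩
  · exact ⟨h.trans (degs_surj e.toMonoidHom e.surjective),
      degs_surj e.symm.toMonoidHom e.symm.surjective⟩

theorem graph (h4 : 4 ≤ Fintype.card F) (h5 : Fintype.card F ≠ 5)
    (hS : Nonempty (S ≃* PSL(2, F)) ∨ Nonempty (S ≃* SL(2, F))) :
    degreePrimes S = {r : ℕ | r.Prime ∧ r ∣ Fintype.card F * (Fintype.card F ^ 2 - 1)} ∧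
    ∀ r s : ℕ, (degreeGraph S).Adj r s ↔ (r ≠ s ∧ r.Prime ∧ s.Prime ∧
      ((r ∣ Fintype.card F + 1 ∧ s ∣ Fintype.card F + 1) ∨
        (r ∣ Fintype.card F - 1 ∧ s ∣ Fintype.card F - 1))) := by
  obtain ⟨h1, h2⟩ := degs hS
  obtain ⟨a, b, c⟩ := degs_PSL h4 h5
  have e : Fintype.card F ^ 2 - 1 = (Fintype.card F + 1) * (Fintype.card F - 1) := by
    rw [← Nat.sq_sub_sq, one_pow]
  refine ⟨Set.ext fun r => and_congr_right fun hr => ⟨fun ⟨d, h3, h6⟩ => ?_, fun h => ?_⟩,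
    fun r s => and_congr_right fun hrs => and_congr_right fun hr => and_congr_right fun hs =>
      ⟨fun ⟨d, h3, h6⟩ => ?_, fun h => ?_⟩⟩
  · rw [e]
    rcases degs_SL (h2 h3) with h | h | h | h
    · exact (hr.not_dvd_one (h ▸ h6)).elim
    · exact (h ▸ h6).mul_right _
    · exact ((h6.trans h).mul_right _).mul_left _
    · exact ((h6.trans h).mul_left _).mul_left _
  · rw [e, hr.dvd_mul, hr.dvd_mul] at h
    rcases h with h | h | h
    exacts [⟨_, h1 a, h⟩, ⟨_, h1 b, h⟩, ⟨_, h1 c, h⟩]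
  · have h7 := (dvd_mul_right r s).trans h6
    have h8 := (dvd_mul_left s r).trans h6
    rcases degs_SL (h2 h3) with h | h | h | h
    · exact (hr.not_dvd_one (h ▸ h7)).elim
    · obtain ⟨p, _, n, hp, hn⟩ := FiniteField.card' F
      rw [h, hn] at h7 h8
      exact (hrs (((Nat.prime_dvd_prime_iff_eq hr hp).1 (hr.dvd_of_dvd_pow h7)).trans
        ((Nat.prime_dvd_prime_iff_eq hs hp).1 (hs.dvd_of_dvd_pow h8)).symm)).elim
    · exact Or.inl ⟨h7.trans h, h8.trans h⟩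
    · exact Or.inr ⟨h7.trans h, h8.trans h⟩
  · have hc := (Nat.coprime_primes hr hs).2 hrs
    rcases h with h | h
    exacts [⟨_, h1 b, hc.mul_dvd_of_dvd_of_dvd h.1 h.2⟩, ⟨_, h1 c, hc.mul_dvd_of_dvd_of_dvd h.1 h.2⟩]

end CA.H10L2
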