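import Cfsg.Agent.Lib.Char.H10Jor
import Cfsg.Agent.Lib.Char.H12Deg
import Cfsg.Agent.Lib.Grp.Trf
import Cfsg.Agent.Lib.Odd.BGMisc

/-! Blichfeldt's theorem and Jordan's theorem. -/

set_option autoImplicit false
set_option linter.unusedSectionVars false

namespace CA.H10Bli
open Cfsg CA.PF CA.H12Mon CA.H12Deg Subgroup
open CA.BG hiding cj_one cj_mul cj_inv_cj cj_cj_inv cj
open scoped ComplexConjugate commutatorElement

variable {Γ : Type*} [Group Γ] [Fintype Γ] {G H K L M N U A P Q : Subgroup Γ}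
  {χ β θ φ ψ : Γ → ℂ} {p q n : ℕ} {x y z : Γ}

/-- A character that is rational at an element of order `p` outside its kernel has degree at least
`p - 1`. -/
theorem le_of_rat (hp : p.Prime) (hψ : IsChar K ψ) (hx : x ∈ K) (ho : orderOf x = p)
    (hk : x ∉ cfker ψ) (h : ∀ k, k.Coprime p → ψ (x ^ k) = ψ x) : p ≤ charDegree ψ + 1 := by
  classical
  obtain ⟨a, ha⟩ := dot_char_over_nat (zpowers_le.2 hx) hψ (triv_char _)
  have h1 : (1 : Γ) ∈ fs ((zpowers x : Subgroup Γ) : Set Γ) := mem_fs.2 (one_mem _)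
  rw [dot_triv_right, ← Finset.add_sum_erase _ _ h1, Finset.sum_congr rfl (g := fun _ => ψ x)
    fun w hw => by
      obtain ⟨k, rfl⟩ := mem_powers_iff_mem_zpowers.2 (mem_fs.1 (Finset.mem_of_mem_erase hw))
      exact h k ((hp.coprime_iff_not_dvd.2 fun e => Finset.ne_of_mem_erase hw
        (orderOf_dvd_iff_pow_eq_one.1 (ho ▸ e))).symm), Finset.sum_const,
    Finset.card_erase_of_mem h1, card_fs, Nat.card_zpowers, ho, IsChar.deg hψ] at ha
  have hp0 : (p : ℂ) ≠ 0 := Nat.cast_ne_zero.2 hp.ne_zero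
  have hp1 : ((p - 1 : ℕ) : ℂ) ≠ 0 := Nat.cast_ne_zero.2 (by have := hp.two_le; omega)
  have h2 : ψ x = (((p * a - charDegree ψ : ℚ) / (p - 1 : ℕ) : ℚ) : ℂ) := by
    push_cast [-Nat.cast_sub] at *
    rw [nsmul_eq_mul] at ha
    field_simp at ha ⊢
    linear_combination ha
  obtain ⟨t, ht⟩ := CChar.CharInt.exists_int_of_rat_isIntegral (h2 ▸ hψ.isIntegral x)
  rw [← h2] at ht
  have h3 : (charDegree ψ : ℤ) + (p - 1) * t = p * a := by
    rw [ht, nsmul_eq_mul, Nat.cast_sub hp.one_le] at ha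
    field_simp at ha
    exact_mod_cast ha
  have h4 := hψ.norm_le x
  have h5 := mt (hψ.mem_cfker hx).2 hk
  rw [ht, IsChar.deg hψ] at h4 h5
  have h6 : t ≤ charDegree ψ := by
    rw [Complex.norm_intCast, Complex.norm_natCast] at h4
    exact_mod_cast (le_abs_self _).trans h4
  have h7 : t ≠ charDegree ψ := fun e => h5 (by exact_mod_cast e)
  have h8 : (2 : ℤ) ≤ p := by exact_mod_cast hp.two_le
  have h9 : 0 < (a : ℤ) - t := by
    by_contra hc
    nlinarith [lt_of_le_of_ne h6 h7]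
  have : (p : ℤ) ≤ charDegree ψ + 1 := by nlinarith [Int.natCast_nonneg a]
  exact_mod_cast this

/-- If there is no element of order divisible by `p q` then an irreducible character is `p`-rational
or `q`-rational. -/
theorem rat_or_rat (hp : p.Prime) (hq : q.Prime) (hψ : ψ ∈ irr K)
    (h : ∀ g ∈ K, p ∣ orderOf g → ¬ q ∣ orderOf g) (hx : x ∈ K) (hy : y ∈ K) (ho : orderOf x = p)
    (ho' : orderOf y = q) : (∀ k, k.Coprime p → ψ (x ^ k) = ψ x) ∨
      ∀ k, k.Coprime q → ψ (y ^ k) = ψ y := by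
  by_contra hc
  push Not at hc
  obtain ⟨⟨k, hk, h1⟩, l, hl, h2⟩ := hc
  obtain ⟨u, hu, hu'⟩ := make_pi_cfAut hp.pos hk Γ
  obtain ⟨w, hw, hw'⟩ := make_pi_cfAut hq.pos hl Γ
  have h3 := irr_aut u hψ
  have h4 := irr_aut w hψ
  have h5 := irr_aut u h4
  have e : ψ + aut u (aut w ψ) = aut u ψ + aut w ψ :=
    CF_ext (add_mem (irr_on hψ) (irr_on h5)) (add_mem (irr_on h3) (irr_on h4)) fun g hg => by
      show ψ g + u (aut w ψ g) = u (ψ g) + w (ψ g)
      by_cases hpg : p ∣ orderOf g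
      · rw [aut_apply, hw' K ψ (irr_VC hψ) g ((hq.coprime_iff_not_dvd.2 (h g hg hpg)).symm),
          add_comm]
      · have := (hp.coprime_iff_not_dvd.2 hpg).symm
        rw [hu' K ψ (irr_VC hψ) g this, hu' K _ (irr_VC h4) g this, aut_apply]
  have e2 := congrArg (fun f => dot K f ψ) e
  obtain ⟨m, hm⟩ := dot_char_char (irr_char h5) (irr_char hψ)
  simp only [dot_add_left, dot_irr_self hψ, hm] at e2
  rw [dot_irr_ne h3 hψ fun e => h1 (by
      rw [← (irr_char hψ).aut_apply u hx (ho ▸ hu)]; exact congrFun e x),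
    dot_irr_ne h4 hψ fun e => h2 (by
      rw [← (irr_char hψ).aut_apply w hy (ho' ▸ hw)]; exact congrFun e y)] at e2
  exact absurd e2 (by norm_cast; omega)

theorem le_cfker_of_constt (hχ : IsChar K χ)
    (h : ∀ ψ ∈ irr K, dot K χ ψ ≠ 0 → A ≤ cfker ψ) : A ≤ cfker χ := by
  rw [CF_expand hχ.CF]
  refine le_cfker_sum fun ψ hψ => ?_
  by_cases e : dot K χ ψ = 0
  · intro a _ y; simp [e]
  · exact le_cfker_smul _ (h ψ hψ e)

theorem exists_nrm (hp : p.Prime) (hP : Syl p P K) (hc : IsMulCommutative P) (hz : z ∈ P)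
    (h1 : z ≠ 1) (hK : K ≤ 𝓒₁(z)) : ∃ N, N < K ∧ K ≤ 𝓝(N) ∧ PiNat {p} (N.relIndex K) := by
  haveI := Fact.mk hp
  obtain ⟨e, he⟩ := hP.pi.isPGroup hp ⟨z, hz⟩
  obtain ⟨N, hN, -, h2, h3⟩ := CA.Trf.exists_normal_not_mem (G := K) (H := P.subgroupOf K) (K := ⊥)
    (commutator_le.2 fun a ha b hb => mem_bot.2 (Subtype.ext (commutatorElement_eq_one_iff_mul_comm.2
      (mem_cent.1 (comm_iff_le_cent.1 hc hb) a ha)))) (hP.not_dvd hp) (g := ⟨z, hP.le hz⟩) hz (e := e)
    (Subtype.ext (congrArg Subtype.val he :)) (fun e => h1 (congrArg Subtype.val (mem_bot.1 e)))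
    fun k _ t _ => mem_bot.2 (Subtype.ext (by
      have : Commute (t : Γ) z := BG.mem_cent1.1 (hK t.2)
      simp [(this.pow_right k).eq]))
  have h4 : (N.map K.subtype).subgroupOf K = N := comap_map_eq_self_of_injective K.subtype_injective N
  refine ⟨N.map K.subtype, lt_of_le_of_ne (map_subtype_le N) fun e => h2 ?_,
    (nrm_of_normal (map_subtype_le N) (h4.symm ▸ hN)).le_normalizer, ?_⟩
  · rw [← h4, e]; exact hP.le hz
  · rw [relIndex, h4]
    refine PiNat.of_dvd ?_ h3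
    rw [relIndex_bot_left, Nat.card_congr (subgroupOfEquivOfLe hP.le).toEquiv]
    exact hP.pi

section
variable (hχ : IsCharacter Γ χ) (hf : ∀ g, χ g = χ 1 → g = 1) (hn : charDegree χ = n)
include hχ hf

theorem eq_one_of_constt (hx : x ∈ K)
    (h : ∀ ψ ∈ irr K, dot K χ ψ ≠ 0 → x ∈ cfker ψ) : x = 1 := by
  have h1 := (isChar_top.2 hχ).Res (le_top : K ≤ ⊤)
  have h2 := cfker_apply (le_cfker_of_constt h1 (A := zpowers x) (fun ψ hψ e => zpowers_le.2
    (h ψ hψ (by rwa [dot_Res_left (irr_on hψ)] at e))) (mem_zpowers x))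
  rw [Res_of_mem _ hx, Res_one] at h2
  exact hf x h2

include hn

theorem comm_of_large (h : ∀ r, r.Prime → r ∣ ♯K → n < r) : IsMulCommutative K := by
  refine comm_iff_der_eq_bot.2 (eq_bot_iff.2 fun x hx => eq_one_of_constt hχ hf (der_le K hx)
    fun ψ hψ e => (irr_one_eq_one_iff hψ).1 ((deg_eq_one_iff hψ).1 ?_) hx)
  by_contra h1
  obtain ⟨r, hr, h2⟩ := Nat.exists_prime_and_dvd h1
  have := h r hr (h2.trans (deg_dvd_card hψ))
  have := Nat.le_of_dvd (deg_pos hψ) h2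
  have := deg_le le_top (isChar_top.2 hχ) hψ e
  omega

theorem exists_commute (hp : p.Prime) (hq : q.Prime) (hpq : p ≠ q) (h1 : n + 1 < p) (h2 : n + 1 < q)
    (h3 : p ∣ ♯K) (h4 : q ∣ ♯K) :
    ∃ x ∈ K, ∃ y ∈ K, orderOf x = p ∧ orderOf y = q ∧ x * y = y * x := by
  by_cases h : ∀ g ∈ K, p ∣ orderOf g → ¬ q ∣ orderOf g
  · obtain ⟨x, hx, ho⟩ := exists_orderOf_eq hp h3
    obtain ⟨y, hy, ho'⟩ := exists_orderOf_eq hq h4
    refine ⟨x, hx, y, hy, ho, ho', commutatorElement_eq_one_iff_mul_comm.1 (eq_one_of_constt hχ hf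
      (comm_le_of_le le_rfl le_rfl (commutator_mem_commutator hx hy)) fun ψ hψ e => ?_)⟩
    have h5 := deg_le le_top (isChar_top.2 hχ) hψ e
    have h6 := cfker_nrm (irr_CF hψ) (irr_ne_zero hψ)
    rcases rat_or_rat hp hq hψ h hx hy ho ho' with h7 | h7
    · have : x ∈ cfker ψ := by
        by_contra hc
        have := le_of_rat hp (irr_char hψ) hx ho hc h7
        omega
      simpa only [commutatorElement_def, mul_assoc] using mul_mem this (h6.conj hy (inv_mem this))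
    · have : y ∈ cfker ψ := by
        by_contra hc
        have := le_of_rat hq (irr_char hψ) hy ho' hc h7
        omega
      exact mul_mem (h6.conj hx this) (inv_mem this)
  · push Not at h
    obtain ⟨g, hg, h5, h6⟩ := h
    exact ⟨_, pow_mem hg _, _, pow_mem hg _, orderOf_pow_orderOf_div (orderOf_pos g).ne' h5,
      orderOf_pow_orderOf_div (orderOf_pos g).ne' h6, (Commute.pow_pow_self g _ _).eq⟩

theorem comm_of_pi' (h : IsPi {r | n + 1 < r} K) : IsMulCommutative K :=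
  comm_of_large hχ hf hn fun r hr e => (Nat.lt_succ_self n).trans (h r hr e)

theorem not_dvd_cent1 (hp : p.Prime) (h1 : n + 1 < p) (hx : x ∈ K) (ho : orderOf x = p) :
    PiNat {p}ᶜ ((K ⊓ 𝓒₁(x)).relIndex K) := by
  obtain ⟨P, hP, h⟩ := syl_superset hp (isPi_of_card_eq hp ((Nat.card_zpowers x).trans ho))
    (zpowers_le.2 hx)
  exact hP.le_of_idx (le_inf hP.le ((comm_iff_le_cent.1 (comm_of_pi' hχ hf hn
    (hP.pi.sub h1))).trans (cent_le_cent1 (h (mem_zpowers x)))))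

/-- Blichfeldt. -/
theorem exists_hall (K : Subgroup Γ) : ∃ H, Hall {r | n + 1 < r} H K := by
  induction K using (measure fun K : Subgroup Γ => ♯K).wf.induction with | _ K ih => ?_
  replace ih : ∀ L < K, ∃ H, Hall {r | n + 1 < r} H L := fun L h => ih L (card_lt_of_lt h)
  by_cases hc : ∃ p, p.Prime ∧ n + 1 < p ∧ ∃ z ∈ K, orderOf z = p ∧ K ≤ 𝓒₁(z)
  · obtain ⟨p, hp, h1, z, hz, ho, hK⟩ := hc
    obtain ⟨P, hP, h⟩ := syl_superset hp (isPi_of_card_eq hp ((Nat.card_zpowers z).trans ho))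
      (zpowers_le.2 hz)
    obtain ⟨N, hN, hn', hi⟩ := exists_nrm hp hP (comm_of_pi' hχ hf hn (hP.pi.sub h1))
      (h (mem_zpowers z)) (fun e => hp.ne_one (by rw [← ho, e, orderOf_one])) hK
    obtain ⟨H, hH⟩ := ih N hN
    by_cases h2 : ∀ q, q.Prime → n + 1 < q → ∀ Q, Syl q Q H → K ≤ 𝓝(Q)
    · have h3 : Hall ({r | n + 1 < r} \ {p}) 𝓞({r | n + 1 < r} \ {p}, K) K := by
        refine hall_of_forall_syl (core_le _ _) (core_pi _ _) fun q hq h4 _ => ?_
        obtain ⟨Q, hQ⟩ := syl_exists hq H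
        have h5 : Syl q Q K := (hQ.trans_syl hH h4.1).of_idx hN.le
          (hi.mono fun r (e : r = p) (e' : r = q) => h4.2 (e' ▸ e))
        exact ⟨Q, h5, le_core (hQ.pi.sub h4) h5.le (h2 q hq h4.1 Q hQ)⟩
      exact ⟨_, (Hall.sup hP h3 (hP.le.trans (le_norm_core _ _))).congr fun r _ _ =>
        ⟨fun e => e.elim (fun (e : r = p) => e ▸ h1) And.left,
          fun e => (em (r = p)).imp id fun e' => ⟨e, e'⟩⟩⟩
    · push Not at h2
      obtain ⟨q, hq, h3, Q, hQ, h4⟩ := h2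
      obtain ⟨H', hH'⟩ := ih (K ⊓ 𝓝(Q)) (lt_of_le_of_ne inf_le_left fun e => h4 (inf_eq_left.1 e))
      refine ⟨H', hH'.of_idx inf_le_left ?_⟩
      have h5 := (hQ.trans_syl hH h3).syl_frattini_sup hq hN.le hn'
      have h6 := card_sup_mul_inf (A := K ⊓ 𝓝(Q)) (inf_le_left.trans hn')
      rw [sup_comm, h5, ← card_mul_relIndex (inf_le_left : K ⊓ 𝓝(Q) ≤ K), mul_assoc,
        ← card_inf_mul_relIndex (K ⊓ 𝓝(Q)) N, mul_comm _ (Subgroup.relIndex _ N)] at h6
      rw [Nat.eq_of_mul_eq_mul_right (card_pos' _) (Nat.eq_of_mul_eq_mul_left (card_pos' _) h6)]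
      exact hH.le_of_idx (le_inf (hH.le.trans hN.le)
        (norm_of_comm (comm_of_pi' hχ hf hn hH.pi) hQ.le))
  · push Not at hc
    have hlt : ∀ p, p.Prime → n + 1 < p → ∀ z ∈ K, orderOf z = p → K ⊓ 𝓒₁(z) < K :=
      fun p hp h1 z hz ho => lt_of_le_of_ne inf_le_left fun e => hc p hp h1 z hz ho (inf_eq_left.1 e)
    by_cases h0 : IsPi {r | n + 1 < r}ᶜ K
    · exact ⟨⊥, hall_bot h0⟩
    obtain ⟨p, hp, h1, h2⟩ : ∃ p, p.Prime ∧ p ∣ ♯K ∧ n + 1 < p := by
      simpa [IsPi] using h0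
    obtain ⟨P, hP⟩ := syl_exists hp K
    obtain ⟨x, hx, ho⟩ := exists_orderOf_eq hp (hP.dvd_card hp rfl h1)
    obtain ⟨H, hH⟩ := ih (K ⊓ 𝓒(P))
      ((inf_le_inf_left K (cent_le_cent1 hx)).trans_lt (hlt p hp h2 x (hP.le hx) ho))
    refine ⟨H, hH.of_idx inf_le_left fun q hq h3 (h4 : n + 1 < q) => ?_⟩
    suffices ∃ Q, Syl q Q K ∧ Q ≤ 𝓒(P) by
      obtain ⟨Q, hQ, h⟩ := this
      exact not_dvd_relIndex_of_le hq hQ (le_inf hQ.le h) h3
    rcases eq_or_ne p q with rfl | hpq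
    · exact ⟨P, hP, comm_iff_le_cent.1 (comm_of_pi' hχ hf hn (hP.pi.sub h2))⟩
    obtain ⟨x, hx, y, hy, ho, ho', e⟩ := exists_commute hχ hf hn hp hq hpq h2 h4 h1
      (h3.trans (relIndex_dvd_card' _ _))
    obtain ⟨H1, hH1⟩ := ih _ (hlt p hp h2 x hx ho)
    obtain ⟨y', hy', ho''⟩ := exists_orderOf_eq hq (hH1.dvd_card hq h4 (ho' ▸
      orderOf_dvd_card_of_mem (mem_inf.2 ⟨hy, BG.mem_cent1.2 e.symm⟩)))
    have hy'' := (hH1.le hy').1
    obtain ⟨H2, hH2⟩ := ih _ (hlt q hq h4 y' hy'' ho'')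
    obtain ⟨P1, hP1⟩ := syl_exists hp H1
    obtain ⟨P2, hP2⟩ := syl_exists hp H2
    obtain ⟨Q2, hQ2⟩ := syl_exists hq H2
    have h5 : Syl p P1 K :=
      (hP1.trans_syl hH1 h2).of_idx inf_le_left (not_dvd_cent1 hχ hf hn hp h2 hx ho)
    have h6 : Syl p P2 K := (hP2.trans_syl hH2 h2).of_idx inf_le_left (h5.le_of_idx (le_inf h5.le
      (hP1.le.trans ((comm_iff_le_cent.1 (comm_of_pi' hχ hf hn hH1.pi)).trans (cent_le_cent1 hy')))))
    obtain ⟨g, hg, rfl⟩ := h6.syl_conj hp hP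
    exact ⟨_, ((hQ2.trans_syl hH2 h4).of_idx inf_le_left
      (not_dvd_cent1 hχ hf hn hq h4 hy'' ho'')).cj_mem hg,
      cent_cj g (cent_of_comm (comm_of_pi' hχ hf hn hH2.pi) hQ2.le hP2.le)⟩

end

theorem exists_core (hU : U ≤ P) : ∃ B, B ≤ U ∧ P ≤ 𝓝(B) ∧ B.relIndex P ∣ (U.relIndex P).factorial := by
  have h4 : ((U.subgroupOf P).normalCore.map P.subtype).subgroupOf P = _ :=
    comap_map_eq_self_of_injective P.subtype_injective _
  refine ⟨(U.subgroupOf P).normalCore.map P.subtype, map_le_iff_le_comap.2 (normalCore_le _),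
    (nrm_of_normal (map_subtype_le _) (h4.symm ▸ inferInstance)).le_normalizer, ?_⟩
  rw [relIndex, h4, normalCore_eq_ker, index_ker, relIndex, index, ← Nat.card_perm]
  exact card_subgroup_dvd_card _

/-- A monomial group of degree `n` has an abelian normal subgroup of index dividing `n !`. -/
theorem exists_mon (hP : Group.IsNilpotent P) (hφ : IsChar P φ) : ∃ B, B ≤ P ∧ P ≤ 𝓝(B) ∧
    ⁅B, B⁆ ≤ cfker φ ∧ B.relIndex P ∣ (charDegree φ).factorial := by
  induction hm : charDegree φ using Nat.strong_induction_on generalizing φ with | _ m ih => ?_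
  rcases eq_or_ne φ 0 with rfl | h0
  · exact ⟨P, le_rfl, le_normalizer, fun _ _ _ => rfl, by simp⟩
  obtain ⟨ψ, hψ, hd⟩ := hφ.exists_irr h0
  have h1 := hφ.sub_irr hψ hd
  have h2 : charDegree (φ - ψ) + charDegree ψ = m := by
    have := IsChar.deg h1
    rw [Pi.sub_apply, IsChar.deg hφ, irr_deg hψ, hm, sub_eq_iff_eq_add] at this
    exact_mod_cast this.symm
  obtain ⟨B, hB, h3, h4, h5⟩ := ih _ (by have := deg_pos hψ; omega) h1 rfl
  obtain ⟨U, hU, i, rfl⟩ := nil_mon hP hψ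
  obtain ⟨C, hC, h6, h7⟩ := exists_core hU
  rw [← deg_eq (χ := Ind P U (lin i)) (n := U.relIndex P)
    (by rw [Ind_one hU, lin_apply_one, mul_one])] at h7
  refine ⟨B ⊓ C, inf_le_left.trans hB, norm_inf h3 h6, ?_, ?_⟩
  · rw [← sub_add_cancel φ (Ind P U (lin i))]
    exact le_cfker_add ((der_mono inf_le_left).trans h4) ((der_mono inf_le_right).trans
      (le_cfker_Ind U (norm_comm h6 h6) ((der_mono hC).trans (der_le_cfker_lin i))))
  · rw [← relIndex_mul' inf_le_right (hC.trans hU), inf_relIndex_right, ← h2]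
    exact (mul_dvd_mul ((relIndex_dvd_of_norm h3 (hC.trans hU)).trans h5) h7).trans
      (Nat.factorial_mul_factorial_dvd_factorial_add _ _)

theorem fact_index_le (hp : p.Prime) [A.Normal] (h : ¬ p ∣ H.index) :
    A.index.factorization p ≤ (A.relIndex H).factorization p := by
  rw [← relIndex_mul_index (le_sup_right : A ≤ H ⊔ A), relIndex_sup_right,
    Nat.factorization_mul (relIndex_ne_zero' _ _) index_ne_zero_of_finite, Finsupp.add_apply,
    Nat.factorization_eq_zero_of_not_dvd fun e => h (e.trans (index_dvd_of_le le_sup_left)), add_zero]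

theorem relIndex_le_mul (A : Subgroup Γ) (h : H ≤ K) :
    A.relIndex K ≤ A.relIndex H * H.relIndex K := by
  rw [← inf_relIndex_right A H, relIndex_mul' inf_le_right h]
  exact relIndex_le_of_le_left inf_le_left (relIndex_ne_zero' _ _)

/-- Jordan. -/
theorem jordan (hχ : IsCharacter Γ χ) (hf : ∀ g, χ g = χ 1 → g = 1) (hn : charDegree χ = n)
    [A.Normal] (hA : ∀ H : Subgroup Γ, IsMulCommutative H → A.relIndex H ≤ 12 ^ n) :
    A.index ≤ n.factorial * 12 ^ (n * (Nat.primeCounting (n + 1) + 1)) := by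
  classical
  obtain ⟨H, hH⟩ := exists_hall hχ hf hn ⊤
  have h1 : ∀ p, ∃ P B : Subgroup Γ, p.Prime → Syl p P ⊤ ∧ B ≤ P ∧ IsMulCommutative B ∧
      B.relIndex P ∣ n.factorial := fun p => by
    by_cases hp : p.Prime
    · obtain ⟨P, hP⟩ := syl_exists hp (⊤ : Subgroup Γ)
      obtain ⟨B, h1, -, h2, h3⟩ := exists_mon (hP.pi.isNilpotent hp) ((isChar_top.2 hχ).Res hP.le)
      rw [deg_congr (Res_one P χ), hn] at h3
      refine ⟨P, B, fun _ => ⟨hP, h1, comm_iff_der_eq_bot.2 (eq_bot_iff.2 fun x hx => hf x ?_), h3⟩⟩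
      have := cfker_apply (h2 hx)
      rwa [Res_of_mem _ (h1 (der_le B hx)), Res_one] at this
    · exact ⟨⊥, ⊥, fun h => absurd h hp⟩
  choose P B h1 using h1
  have hs := fun p (h : p ∈ (n + 2).primesBelow) => h1 p (Nat.prime_of_mem_primesBelow h)
  have h2 : A.index ∣ A.relIndex H * ∏ p ∈ (n + 2).primesBelow, A.relIndex (P p) := by
    have h0 : ∏ p ∈ (n + 2).primesBelow, A.relIndex (P p) ≠ 0 :=
      Finset.prod_ne_zero_iff.2 fun _ _ => relIndex_ne_zero' _ _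
    refine (Nat.factorization_prime_le_iff_dvd index_ne_zero_of_finite
      (mul_ne_zero (relIndex_ne_zero' _ _) h0)).1 fun r hr => ?_
    rw [Nat.factorization_mul (relIndex_ne_zero' _ _) h0, Finsupp.add_apply]
    by_cases h : n + 1 < r
    · exact (fact_index_le hr fun e => hH.idx r hr (by rwa [relIndex_top_right]) h).trans le_self_add
    · have hm : r ∈ (n + 2).primesBelow := Nat.mem_primesBelow.2 ⟨by omega, hr⟩
      refine (fact_index_le (H := P r) hr fun e => (hs r hm).1.not_dvd hr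
        (by rwa [relIndex_top_right])).trans (le_add_left ?_)
      exact (Nat.factorization_le_iff_dvd (relIndex_ne_zero' _ _) h0).2
        (Finset.dvd_prod_of_mem _ hm) r
  have h3 : ∏ p ∈ (n + 2).primesBelow, (B p).relIndex (P p) ∣ n.factorial :=
    Finset.prod_dvd_of_isRelPrime (fun p hp q hq e => Nat.coprime_iff_isRelPrime.1
      (((hs p hp).1.pi.relIndex _).coprime (((hs q hq).1.pi.ne e.symm).relIndex _)))
      fun p hp => (hs p hp).2.2.2
  have h4 : ∏ p ∈ (n + 2).primesBelow, A.relIndex (P p) ≤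
      ∏ p ∈ (n + 2).primesBelow, 12 ^ n * (B p).relIndex (P p) := Finset.prod_le_prod' fun p hp =>
    (relIndex_le_mul A (hs p hp).2.1).trans (Nat.mul_le_mul_right _ (hA _ (hs p hp).2.2.1))
  rw [Finset.prod_mul_distrib, Finset.prod_const, Nat.primesBelow_card_eq_primeCounting'] at h4
  refine (Nat.le_of_dvd (Nat.pos_of_ne_zero (mul_ne_zero (relIndex_ne_zero' _ _)
    (Finset.prod_ne_zero_iff.2 fun _ _ => relIndex_ne_zero' _ _))) h2).trans
    ((Nat.mul_le_mul (hA H (comm_of_pi' hχ hf hn hH.pi)) (h4.trans (Nat.mul_le_mul_left _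
      (Nat.le_of_dvd n.factorial_pos h3)))).trans (le_of_eq ?_))
  rw [Nat.primeCounting, pow_mul]
  ring

end CA.H10Bli
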