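import Cfsg.Agent.Lib.Char.H10OW

/-!
# Characters of `p'`-degree: constituents, extensions and the common kernel
-/

set_option autoImplicit false
set_option linter.unusedSectionVars false

namespace CA.H10Ker
open Cfsg CA.PF CA.OQuo CA.H12Gl CA.H12Gl2 CA.H12Deg CA.H10OW Subgroup Function
open CA.BG hiding cj cj_one cj_mul cj_inv_cj cj_cj_inv mem_cent1
open scoped ComplexConjugate commutatorElement

variable {Γ : Type*} [Group Γ] [Fintype Γ] {G H K L N P : Subgroup Γ}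
  {χ β θ φ ψ η ξ : Γ → ℂ} {p : ℕ}

theorem exists_nd (h : IsChar K φ) (hp : ¬ p ∣ charDegree φ) :
    ∃ ψ ∈ irr K, dot K φ ψ ≠ 0 ∧ ¬ p ∣ charDegree ψ := by
  by_contra! h1
  obtain ⟨m, h2, h3⟩ := h.expand
  have h4 : charDegree φ = ∑ ψ ∈ irr K, m ψ * charDegree ψ := deg_eq (by
    rw [h3, Finset.sum_apply, Nat.cast_sum]
    exact Finset.sum_congr rfl fun ψ hψ => by
      rw [Pi.smul_apply, irr_deg hψ, nsmul_eq_mul, Nat.cast_mul])
  refine hp (h4 ▸ Finset.dvd_sum fun ψ hψ => ?_)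
  by_cases h5 : m ψ = 0
  · rw [h5, zero_mul]; exact dvd_zero _
  · exact (h1 ψ hψ (by rw [h2 ψ hψ]; exact_mod_cast h5)).mul_left _

theorem exists_under (hH : H ≤ K) (h : χ ∈ irr K) (hp : ¬ p ∣ charDegree χ) :
    ∃ θ ∈ irr H, dot H χ θ ≠ 0 ∧ ¬ p ∣ charDegree θ := by
  obtain ⟨θ, h1, h2, h3⟩ := exists_nd ((irr_char h).Res hH) (p := p)
    (by rwa [deg_congr (Res_one H χ)])
  exact ⟨θ, h1, by rwa [dot_Res_left (irr_on h1)] at h2, h3⟩

theorem exists_over (hp : p.Prime) (hH : H ≤ K) (hi : ¬ p ∣ H.relIndex K) (h : θ ∈ irr H)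
    (hd : ¬ p ∣ charDegree θ) : ∃ χ ∈ irr K, dot H χ θ ≠ 0 ∧ ¬ p ∣ charDegree χ := by
  obtain ⟨χ, h1, h2, h3⟩ := exists_nd ((irr_char h).Ind hH) (p := p) (by
    rw [deg_eq (n := H.relIndex K * charDegree θ) (by rw [Ind_one hH, irr_deg h, Nat.cast_mul])]
    exact fun e => (hp.dvd_mul.1 e).elim hi hd)
  rw [dot_Ind_left _ _ (irr_CInv h1)] at h2
  exact ⟨χ, h1, fun e => h2 (dot_comm_zero e), h3⟩

theorem ext_cop (hNK : Nrm N K) (hθ : θ ∈ irr N) (hs : K ≤ stab θ)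
    (hc : (N.relIndex K).Coprime (detOrder (fun n : N => θ n) * charDegree θ)) :
    ∃ η ∈ irr K, Res (N : Set Γ) η = θ := by
  have := hNK.normal
  have h1 := sub_irr hNK.le hθ
  obtain ⟨e, h2, h3⟩ := CA.Ext.exists_ext_of_coprime h1
    (CA.Clif.inertia_eq_top_iff'.2 fun g n => congrFun (mem_stab.1 (hs g.2)) _) (irr_deg hθ) (by
      rwa [← detOrder_comp (subgroupOfEquivOfLe hNK.le) (mem_irr.1 hθ).2] at hc)
  exact ⟨_, ext_mem_irr.2 h2, CF_ext (Res_on _ _) (irr_on hθ) fun x hx => by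
    rw [Res_of_mem _ hx, CA.Ind.ext_of_mem _ _ (hNK.le hx)]
    exact h3 ⟨⟨x, hNK.le hx⟩, hx⟩⟩

theorem eq_bot_of_irr (h : ∀ β ∈ irr K, β = triv K) : K = ⊥ := by
  refine eq_bot_iff.2 fun x hx => by_contra fun h1 => ?_
  obtain ⟨β, h2, -, h3⟩ := exists_irr_not_mem_cfker (nrm_bot K) hx h1
  rw [h β h2, cfker_triv] at h3
  exact h3 hx

variable [hp : Fact p.Prime]

theorem cop_relIndex (hP : IsPGroup p P) (hN : P ≤ 𝓝(N)) {n : ℕ} (hn : ¬ p ∣ n) :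
    (N.relIndex (P ⊔ N)).Coprime n := by
  obtain ⟨k, hk⟩ := IsPGroup.iff_card.1 hP
  rw [relIndex_sup_norm hN]
  exact (hk ▸ ((hp.1.coprime_iff_not_dvd.2 hn).pow_left k)).coprime_dvd_left (relIndex_dvd_card _ _)

theorem eq_triv_of_fpf (hP : IsPGroup p P) (hN : P ≤ 𝓝(N)) (hK : ¬ p ∣ ♯N)
    (hC : N ⊓ 𝓒(P) = ⊥) (h : θ ∈ irr N) (hs : P ≤ stab θ) : θ = triv N := by
  have h0 : ∀ β ∈ irr (⊥ : Subgroup Γ), β = triv ⊥ := fun β h => (le_cfker_iff_triv h).1 bot_le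
  have hs' : P ≤ stab (triv N) := fun g hg => cj_triv (conj_iff_of_norm (hN hg))
  obtain ⟨β, h1, h2⟩ := gr_exists hP hN hK hC.symm h hs
  obtain ⟨γ, h3, h4⟩ := gr_exists hP hN hK hC.symm (triv_irr N) hs'
  rw [h0 β h1] at h2
  rw [h0 γ h3] at h4
  exact gr_inj hP hN hK hC.symm h hs (triv_irr N) hs' (triv_irr ⊥) h2 h4

theorem fpf_of_eq_triv (hP : IsPGroup p P) (hN : P ≤ 𝓝(N))
    (h : ∀ θ ∈ irr N, P ≤ stab θ → ¬ p ∣ charDegree θ → θ = triv N) :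
    ¬ p ∣ ♯N ∧ N ⊓ 𝓒(P) = ⊥ := by
  classical
  have h1 : ¬ p ∣ ♯N := by
    have h1 := card_eq_sum_fixed hP hN
    rw [Finset.sum_eq_single_of_mem (triv N) (Finset.mem_filter.2 ⟨triv_irr N,
      fun g hg => cj_triv (conj_iff_of_norm (hN hg)), by
        rw [deg_eq (n := 1) (by simp)]; exact hp.1.not_dvd_one⟩)
      fun θ h2 h3 => (h3 (h θ (Finset.mem_filter.1 h2).1 (Finset.mem_filter.1 h2).2.1
        (Finset.mem_filter.1 h2).2.2)).elim, deg_eq (n := 1) (by simp)] at h1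
    rw [← ZMod.natCast_eq_zero_iff, h1]
    simp
  refine ⟨h1, eq_bot_of_irr fun β hβ => ?_⟩
  obtain ⟨θ, h2, h3, h4⟩ := gr_surj hP hN h1 rfl hβ
  have h5 := h4.ne
  rw [h θ h2 h3 fun e => h1 (e.trans (deg_dvd_card h2)), ← dot_Res_left (irr_on hβ),
    Res_triv inf_le_left] at h5
  exact (irr_eq_of_dot_ne (triv_irr _) hβ h5).symm

theorem not_dvd_of_fpf (P : Sylow p Γ) [N.Normal] (hC : N ⊓ 𝓒((P : Subgroup Γ)) = ⊥) :
    ¬ p ∣ ♯N := by
  rw [← PRes.inf_sylow_eq_bot_iff P N]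
  by_contra h
  exact (isPi_of_isPGroup hp.1 P.isPGroup').meet_cent
    (isPi_of_isPGroup hp.1 (P.isPGroup'.to_le inf_le_right))
    (norm_inf (le_top.trans (nrm_top N).le_normalizer) le_normalizer) h
    (CA.BG.eq_bot_mono (inf_le_inf_right _ inf_le_left) hC)

/-- The normal core of `N P'` lies in the kernel of every character of `p'`-degree. -/
theorem core_le (P : Sylow p Γ) [N.Normal] (hC : N ⊓ 𝓒((P : Subgroup Γ)) = ⊥)
    (h : χ ∈ irr (⊤ : Subgroup Γ)) (hd : ¬ p ∣ charDegree χ) :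
    (N ⊔ ⁅(P : Subgroup Γ), (P : Subgroup Γ)⁆).normalCore ≤ cfker χ := by
  have hN : (P : Subgroup Γ) ≤ 𝓝(N) := le_top.trans (nrm_top N).le_normalizer
  have hNH : Nrm N (P ⊔ N) := (nrm_top N).mono le_sup_right le_top
  obtain ⟨θ, h1, h2, h3⟩ := exists_under (le_top : (P : Subgroup Γ) ⊔ N ≤ ⊤) h hd
  have h4 := Res_irr_of_cop hNH h1 (cop_relIndex P.isPGroup' hN h3).symm
  have h5 := eq_triv_of_fpf P.isPGroup' hN (not_dvd_of_fpf P hC) hC h4
    (stab_res (le_sup_left.trans (le_stab (irr_CInv h1))) hN)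
  have h6 : N ≤ cfker θ := (le_cfker_Res_iff (irr_char h1) hNH.le le_rfl).1
    (by rw [h5, cfker_triv])
  have h7 := (irr_one_eq_one_iff h1).1 (by rw [← Res_one N θ, h5, triv_one])
  have h8 := normalCore_le (N ⊔ ⁅(P : Subgroup Γ), (P : Subgroup Γ)⁆)
  exact (sub_cfker_constt le_top (nrm_top _).le_normalizer (h8.trans (sup_le le_sup_right
    ((der_le _).trans le_sup_left))) h h1 h2).1 (h8.trans (sup_le h6 ((der_mono le_sup_left).trans h7)))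

theorem le_cfker_of_syl (P : Sylow p Γ) [K.Normal] (hPH : (P : Subgroup Γ) ≤ H) (hK : K ≤ H)
    (h : ∀ χ ∈ irr (⊤ : Subgroup Γ), ¬ p ∣ charDegree χ → K ≤ cfker χ) (hθ : θ ∈ irr H)
    (hd : ¬ p ∣ charDegree θ) : K ≤ cfker θ := by
  obtain ⟨χ, h1, h2, h3⟩ := exists_over hp.1 le_top
    (not_dvd_relIndex_of_le hp.1 (syl_top hp.1 P) hPH) hθ hd
  exact (sub_cfker_constt le_top (nrm_top _).le_normalizer hK h1 hθ h2).2 (h χ h1 h3)

/-- A normal subgroup in the kernel of all characters of `p'`-degree. -/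
theorem le_of_ker (P : Sylow p Γ) [K.Normal]
    (h : ∀ χ ∈ irr (⊤ : Subgroup Γ), ¬ p ∣ charDegree χ → K ≤ cfker χ) :
    ∃ L : Subgroup Γ, L.Normal ∧ L ⊓ 𝓒((P : Subgroup Γ)) = ⊥ ∧
      K ≤ L ⊔ ⁅(P : Subgroup Γ), (P : Subgroup Γ)⁆ := by
  set L := (pResidual p K).map K.subtype with hL
  have hLK : L ≤ K := map_subtype_le _
  have hLn : L.Normal := inferInstance
  have hN : (P : Subgroup Γ) ≤ 𝓝(L) := le_top.trans (nrm_top L).le_normalizer
  have hLH : Nrm L (P ⊔ L) := (nrm_top L).mono le_sup_right le_top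
  have hres : pResidual p L = ⊤ := PRes.pResidual_eq_top_of_surjective
    ((pResidual p K).equivMapOfInjective K.subtype K.subtype_injective).toMonoidHom
    (MulEquiv.surjective _) PRes.pResidual_pResidual
  have h1 := fpf_of_eq_triv P.isPGroup' hN fun θ h1 h2 h3 => by
    obtain ⟨η, h4, h5⟩ := ext_cop hLH h1 (sup_le h2 (le_stab (irr_CInv h1)))
      (cop_relIndex P.isPGroup' hN fun e => (hp.1.dvd_mul.1 e).elim
        (not_dvd_detOrder hp.1 hres _) h3)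
    have h6 := le_cfker_of_syl P le_sup_left hLH.le (fun χ h6 h7 => hLK.trans (h χ h6 h7)) h4
      (by rwa [← deg_congr (Res_one L η), h5])
    exact (le_cfker_iff_triv h1).1 (h5 ▸ le_cfker_Res le_rfl h6)
  refine ⟨L, hLn, h1.2, fun x hx => by_contra fun h2 => ?_⟩
  have hKH : K ≤ (P : Subgroup Γ) ⊔ L := fun y hy => by
    obtain ⟨n, h3, u, h4, rfl⟩ := PRes.exists_mul_eq_of_isSylowIn (SylIn.isSylowIn_inf_normal P K) hy
    exact mul_mem (mem_sup_right h3) (mem_sup_left h4.1)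
  have h3 : ⁅(P : Subgroup Γ) ⊔ L, (P : Subgroup Γ) ⊔ L⁆ ≤ L ⊔ ⁅(P : Subgroup Γ), (P : Subgroup Γ)⁆ :=
    (comm_sup_le hN hN).trans (sup_comm _ _).le
  have h4 : L ⊔ ⁅(P : Subgroup Γ), (P : Subgroup Γ)⁆ ≤ (P : Subgroup Γ) ⊔ L :=
    sup_le le_sup_right ((der_le _).trans le_sup_left)
  obtain ⟨θ, h5, h6, h7⟩ := exists_irr_not_mem_cfker
    (nrm_of_le_normalizer h4 (norm_of_der_le h3 h4)) (hKH hx) h2
  exact h7 (le_cfker_of_syl P le_sup_left hKH h h5 (by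
    rw [(deg_eq_one_iff h5).2 ((irr_one_eq_one_iff h5).2 (h3.trans h6))]
    exact hp.1.not_dvd_one) hx)

end CA.H10Ker
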