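import Cfsg.Agent.Lib.Char.H12Cd
import Cfsg.Agent.Lib.Char.H10Ker
import Cfsg.Agent.Lib.Char.H10Bli
import Cfsg.Agent.Lib.Char.CharMisc

/-!
# Sets of character degrees: Taketa steps, Berkovich's theorem, one nonlinear degree
-/

set_option autoImplicit false
set_option linter.unusedSectionVars false
set_option linter.unusedVariables false

namespace CA.H10Cd
open Cfsg CA.PF CA.OQuo CA.H12Gl CA.H12Gl2 CA.H12Gl4 CA.H12Mon CA.H12Tri CA.H12Deg CA.H12Cd
  CA.H10Ker CA.H10Bli Subgroup Function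
open CA.BG hiding cj cj_one cj_mul cj_inv_cj cj_cj_inv mem_cent1
open scoped ComplexConjugate commutatorElement

universe u
variable {Γ : Type*} [Group Γ] [Fintype Γ] {G H K L M N U A P Q D : Subgroup Γ}
  {χ β γ θ φ ψ η ξ : Γ → ℂ} {p d m n g : ℕ} {x y : Γ}

theorem dot_perm_triv (hU : U ≤ K) : dot K (Ind K U (triv U)) (triv K) = 1 := by
  rw [dot_Ind_left _ _ (triv_CF K).2, ← dot_Res_right (triv_CF U).1, Res_triv hU, dot_triv_triv]

theorem perm_deg_lt (hU : U ≤ K) (hψ : ψ ∈ irr K) (hd : dot K (Ind K U (triv U)) ψ ≠ 0)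
    (h1 : ψ ≠ triv K) : charDegree ψ < U.relIndex K := by
  have h2 := (triv_char U).Ind hU
  have h3 := h2.sub_irr (triv_irr K) (by rw [dot_perm_triv hU]; exact one_ne_zero)
  obtain ⟨c, hc⟩ := h3.one_nat
  have h4 := h3.one_le hψ (by
    rwa [dot_sub_left, dot_irr_ne (triv_irr K) hψ h1.symm, sub_zero]) hc (irr_deg hψ)
  rw [Pi.sub_apply, Ind_one hU, triv_one, triv_one, mul_one, sub_eq_iff_eq_add] at hc
  have : U.relIndex K = c + 1 := by exact_mod_cast hc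
  omega

theorem le_of_perm (hU : U ≤ K) (hN : Nrm N K)
    (h : ∀ ψ ∈ irr K, charDegree ψ < U.relIndex K → N ≤ cfker ψ) : N ≤ U :=
  ((sub_cfker_Ind_irr hU hN.le_normalizer (triv_irr U)).1 (le_cfker_of_constt
    ((triv_char U).Ind hU) fun ψ hψ hd => by
      by_cases e : ψ = triv K
      · rw [e, cfker_triv]; exact hN.le
      · exact h ψ hψ (perm_deg_lt hU hψ hd e))).trans (cfker_triv U).le

theorem eq_bot_of_cfker (hN : N ≤ K) (h : ∀ χ ∈ irr K, N ≤ cfker χ) : N = ⊥ :=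
  eq_bot_iff.2 fun x hx => not_not.1 fun h1 => by
    obtain ⟨χ, h2, -, h3⟩ := exists_irr_not_mem_cfker (nrm_bot K) (hN hx) h1
    exact h3 (h χ h2 hx)

theorem le_of_cfker (hA : Nrm A K) (hN : N ≤ K) (h : ∀ χ ∈ irr K, A ≤ cfker χ → N ≤ cfker χ) :
    N ≤ A := fun x hx => not_not.1 fun h1 => by
  obtain ⟨χ, h2, h4, h3⟩ := exists_irr_not_mem_cfker hA (hN hx) h1
  exact h3 (h χ h2 h4 hx)

/-- All irreducible characters of `K` are monomial. -/
def Mon (K : Subgroup Γ) : Prop := ∀ χ ∈ irr K, ∃ U ≤ K, ∃ i : Lin U, Ind K U (lin i) = χ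

theorem deg_Ind_lin (hU : U ≤ K) (i : Lin U) : charDegree (Ind K U (lin i)) = U.relIndex K := by
  rw [deg_Ind hU (irr_char (lin_irr i)), (deg_eq_one_iff (lin_irr i)).2 (lin_apply_one i), mul_one]

theorem Mon.step (hM : Mon K) (hN : Nrm N K) (hχ : χ ∈ irr K)
    (h : ∀ ψ ∈ irr K, charDegree ψ < charDegree χ → N ≤ cfker ψ) : ⁅N, N⁆ ≤ cfker χ := by
  obtain ⟨U, hU, i, rfl⟩ := hM χ hχ
  rw [deg_Ind_lin hU] at h
  have h1 := le_of_perm hU hN h
  exact le_cfker_Ind U (hN.commutator hN).le_normalizer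
    ((commutator_mono h1 h1).trans (der_le_cfker_lin i))

theorem mon_of_nilMod (hA : Nrm A K) (hc : IsMulCommutative A) (hn : NilMod K A) : Mon K := by
  intro χ hχ
  obtain ⟨U, -, h2, θ, h3, h4, h5⟩ := exists_prim bot_le hχ
  refine exists_lin_Ind h2 h3 (one_eq_of_comm_le h3 le_rfl (h5.central h3 (Nrm.refl U)
    fun Z B hc' _ hZ => ?_) (by rwa [Res_eq_self (irr_on h3)])) h4
  have hk := (cfker_nrm (irr_CF h3) (irr_ne_zero h3)).le_normalizer
  have hZU : Z ≤ U := hc'.1.le.trans hc'.2.1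
  have hUB : ⁅B, U⁆ ≤ B := comm_le_left hc'.2.2.1
  rcases hc'.2.2.2.2 (⁅B, U⁆ ⊔ Z) le_sup_right (sup_le hUB hc'.1.le)
    (norm_sup (norm_comm hc'.2.2.1 le_normalizer) hc'.2.2.2.1) with h6 | h6
  · have h6 : ⁅U, B⁆ ≤ Z := by rw [comm_symm]; exact le_sup_left.trans h6.le
    obtain ⟨x, hx, hx'⟩ := SetLike.exists_of_lt hc'.1
    have h7 : zpowers x ≤ U := zpowers_le.2 (hc'.2.1 hx)
    rcases hc'.2.2.2.2 (zpowers x ⊔ Z) le_sup_right (sup_le (zpowers_le.2 hx) hc'.1.le)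
      (norm_of_comm_le_right (((commutator_mono le_rfl (sup_le (zpowers_le.2 hx) hc'.1.le)).trans
        h6).trans le_sup_right)) with h8 | h8
    · exact (hx' (h8.le (mem_sup_left (mem_zpowers x)))).elim
    · rw [← h8]
      exact der_sup_le hk hZU h7 hZ
        ((comm_iff_der_eq_bot.1 (comm_of_cyclic (cyc_zpowers x))).le.trans bot_le)
  · have key : ∀ n, B ≤ (B ⊓ U.lowerCentralSeries n) ⊔ Z := fun n => by
      induction n with
      | zero => exact le_sup_of_le_left (le_inf le_rfl hc'.2.1)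
      | succ n ih =>
        refine h6.ge.trans (sup_le ?_ le_sup_right)
        refine (commutator_mono ih (le_sup_left (b := Z))).trans ((comm_sup_le
          ((inf_le_left.trans hc'.2.1).trans hc'.2.2.2.1) hc'.2.2.2.1).trans (sup_le_sup_right
            (le_inf ((commutator_mono inf_le_left le_rfl).trans hUB) ?_) Z))
        rw [lcs_succ]
        exact commutator_mono inf_le_right le_rfl
    obtain ⟨n, hn⟩ := hn
    have h7 : B ≤ (B ⊓ A) ⊔ Z :=
      (key n).trans (sup_le_sup_right (inf_le_inf_left B ((lcs_mono h2 n).trans hn)) Z)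
    exact (commutator_mono h7 h7).trans (der_sup_le hk hZU (inf_le_left.trans hc'.2.1) hZ
      ((comm_iff_der_eq_bot.1 (comm_of_le hc inf_le_right)).le.trans bot_le))

theorem mon_of_nil (h : Group.IsNilpotent K) : Mon K := fun _ hχ => nil_mon h hχ

/-- Taketa's bound: the derived length of an `M`-group is at most the number of degrees. -/
theorem taketa_cd (hM : Mon (⊤ : Subgroup Γ)) (k : ℕ) : ∀ χ ∈ irr (⊤ : Subgroup Γ),
    ((cd Γ).filter (· ≤ charDegree χ)).card ≤ k → derivedSeries Γ k ≤ cfker χ := by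
  induction k with
  | zero =>
    intro χ hχ h
    exact (Finset.card_ne_zero_of_mem ((Finset.mem_filter (p := (· ≤ charDegree χ))).2
      ⟨deg_mem hχ, le_rfl⟩) (Nat.le_zero.1 h)).elim
  | succ k ih =>
    intro χ hχ h
    refine hM.step (nrm_top _) hχ fun ψ hψ hlt => ih ψ hψ (Nat.lt_succ_iff.1 (lt_of_lt_of_le
      (Finset.card_lt_card ⟨fun a ha => ?_, fun e => ?_⟩) h))
    · exact Finset.mem_filter.2 ⟨(Finset.mem_filter.1 ha).1, (Finset.mem_filter.1 ha).2.trans hlt.le⟩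
    · exact hlt.not_ge (Finset.mem_filter.1 (e (Finset.mem_filter.2 ⟨deg_mem hχ, le_rfl⟩))).2

theorem taketa_bot (hM : Mon (⊤ : Subgroup Γ)) {k : ℕ} (h : (cd Γ).card ≤ k) :
    derivedSeries Γ k = ⊥ :=
  eq_bot_of_cfker le_top fun χ hχ => taketa_cd hM k χ hχ ((Finset.card_filter_le _ _).trans h)

/-- Berkovich's extension of Thompson's theorem. -/
theorem berk [hp : Fact p.Prime] [N.Normal]
    (h : ∀ χ ∈ irr (⊤ : Subgroup Γ), ¬ p ∣ charDegree χ → ⁅N, N⁆ ≤ cfker χ) : HasPC p N := by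
  classical
  obtain ⟨P⟩ : Nonempty (Sylow p Γ) := inferInstance
  set L := (pResidual p N).map N.subtype with hL
  have hLK : L ≤ N := map_subtype_le _
  have hLn : L.Normal := inferInstance
  have hN : (P : Subgroup Γ) ≤ 𝓝(L) := le_top.trans (nrm_top L).le_normalizer
  have hLH : Nrm L (P ⊔ L) := (nrm_top L).mono le_sup_right le_top
  have hres : pResidual p L = ⊤ := PRes.pResidual_eq_top_of_surjective
    ((pResidual p N).equivMapOfInjective N.subtype N.subtype_injective).toMonoidHom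
    (MulEquiv.surjective _) PRes.pResidual_pResidual
  have hD := (nrm_top L).commutator (nrm_top L)
  have h1 : ¬ p ∣ ♯L := fun h1 => by
    have h2 := card_eq_sum_fixed P.isPGroup' hN
    have h3 := sum_fixed (ZMod.natCast_self p) P.isPGroup' (X := irrK L ⁅L, L⁆)
      (fun u _ φ h => mem_irrK.2 ⟨(nrm_top L).irr_cj (mem_top u) (mem_irrK.1 h).1,
        (le_cfker_cj (hD.le_normalizer (mem_top u))).2 (mem_irrK.1 h).2⟩)
      (fun θ => (charDegree θ : ZMod p) ^ 2) fun u _ φ _ => by rw [deg_congr (cj_apply_one u φ)]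
    rw [show (irrK L ⁅L, L⁆).filter _ = _ from Finset.ext fun θ => ?_, ← h2,
      (ZMod.natCast_eq_zero_iff _ _).2 h1] at h3
    · have h4 : p ∣ Fintype.card (Lin L) := by
        rw [card_Lin, ← sum_degK_sq (hD.mono (der_le L) le_top), ← ZMod.natCast_eq_zero_iff]
        exact_mod_cast h3
      obtain ⟨i, hi⟩ := exists_prime_orderOf_dvd_card p h4
      exact not_dvd_orderOf hp.1 hres i.hom hi.symm.dvd
    simp only [Finset.mem_filter, mem_irrK, and_assoc]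
    refine and_congr_right fun h4 => ⟨fun ⟨h5, h6⟩ => ⟨h6, by
      rw [(deg_eq_one_iff h4).2 ((irr_one_eq_one_iff h4).2 h5)]; exact hp.1.not_dvd_one⟩,
      fun ⟨h5, h6⟩ => ⟨?_, h5⟩⟩
    obtain ⟨η, h7, h8⟩ := ext_cop hLH h4 (sup_le h5 (le_stab (irr_CInv h4)))
      (cop_relIndex P.isPGroup' hN fun e => (hp.1.dvd_mul.1 e).elim
        (not_dvd_detOrder hp.1 hres _) h6)
    have h9 := le_cfker_of_syl P (K := ⁅L, L⁆) le_sup_left ((der_le L).trans hLH.le)
      (fun χ h6 h7 => (commutator_mono hLK hLK).trans (h χ h6 h7)) h7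
      (by rwa [← deg_congr (Res_one L η), h8])
    exact h8 ▸ le_cfker_Res (der_le L) h9
  obtain ⟨k, hk⟩ := PRes.exists_index_eq_of_pResidual_le (le_refl (pResidual p N))
  refine hasPC_of_normal hLK (le_top.trans (nrm_top L).le_normalizer) ((isPi_compl_iff hp.1).2 h1) ?_
  rw [hL, relIndex, subgroupOf, comap_map_eq_self_of_injective N.subtype_injective, hk]
  exact piNat_pow hp.1 k

/-- If all characters not killing `N'` have the same degree `g`, then `N` is abelian-by-nilpotent. -/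
theorem onedeg [N.Normal]
    (h : ∀ χ ∈ irr (⊤ : Subgroup Γ), ¬ ⁅N, N⁆ ≤ cfker χ → charDegree χ = g) :
    Hall {r | r ∣ g}ᶜ 𝓞({r | r ∣ g}ᶜ, N) N ∧ IsMulCommutative 𝓞({r | r ∣ g}ᶜ, N) ∧
      NilMod N 𝓞({r | r ∣ g}ᶜ, N) := by
  have h1 : ∀ p, p.Prime → p ∣ g → HasPC p N := fun p hp hd => by
    have := Fact.mk hp
    exact berk fun χ h1 h2 => by_contra fun h3 => h2 (h χ h1 h3 ▸ hd)
  have h2 : Hall {r | r ∣ g}ᶜ 𝓞({r | r ∣ g}ᶜ, N) N :=
    hall_core_of_hasPC fun p hp _ h3 => h1 p hp (not_not.1 h3)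
  refine ⟨h2, comm_of_lin fun θ hθ => ?_, (nilMod_iff (le_norm_core _ N)).2 (nil_of_hasPC
    fun p hp hd => (h1 p hp ?_).mim _ (le_norm_core _ N))⟩
  · have hA : Nrm 𝓞({r | r ∣ g}ᶜ, N) ⊤ :=
      nrm_of_le_normalizer le_top (norm_core _ (nrm_top N).le_normalizer)
    obtain ⟨χ, h3, h4⟩ := exists_irr_over le_top hθ
    by_cases h5 : ⁅N, N⁆ ≤ cfker χ
    · exact (deg_lin_iff hθ).2 ((sub_cfker_constt le_top (hA.commutator hA).le_normalizer
        (der_le _) h3 hθ h4).2 ((der_mono (core_le _ N)).trans h5))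
    · refine Nat.eq_one_iff_not_exists_prime_dvd.2 fun r hr hd => ?_
      exact core_pi _ N r hr (hd.trans (deg_dvd_card hθ))
        (hd.trans (h χ h3 h5 ▸ deg_dvd hA h3 hθ h4))
  · rw [card_quo (le_norm_core _ N)] at hd
    exact not_not.1 (h2.idx p hp hd)

theorem onedeg_mon [N.Normal]
    (h : ∀ χ ∈ irr (⊤ : Subgroup Γ), ¬ ⁅N, N⁆ ≤ cfker χ → charDegree χ = g) : Mon N :=
  mon_of_nilMod (nrm_of_le_normalizer (core_le _ N) (le_norm_core _ N)) (onedeg h).2.1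
    (onedeg h).2.2

theorem two_of_cd (h : ∀ d ∈ cd Γ, d = 1 ∨ d = m) :
    ∀ χ ∈ irr (⊤ : Subgroup Γ), ¬ ⁅(⊤ : Subgroup Γ), ⊤⁆ ≤ cfker χ → charDegree χ = m :=
  fun χ h1 h2 => (h _ (deg_mem h1)).resolve_left fun e => h2 ((deg_lin_iff h1).1 e)

/-- Two degrees: the group is metabelian. -/
theorem der2 (h : ∀ d ∈ cd Γ, d = 1 ∨ d = m) : derivedSeries Γ 2 = ⊥ :=
  taketa_bot (onedeg_mon (two_of_cd h)) ((Finset.card_le_card (t := {1, m}) fun d hd => by
    simpa using h d hd).trans Finset.card_le_two)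

theorem der2_sub (h : ∀ θ ∈ irr K, charDegree θ = 1 ∨ charDegree θ = m) :
    ⁅⁅K, K⁆, ⁅K, K⁆⁆ = ⊥ := by
  have := Fintype.ofFinite K
  have h1 := der2 (Γ := K) (m := m) fun d hd => by
    obtain ⟨θ, h1, rfl⟩ := mem_cd_sub.1 hd
    exact h θ h1
  have h2 := congrArg (Subgroup.map K.subtype) h1
  simpa only [derivedSeries_succ, derivedSeries_zero, map_commutator, ← MonoidHom.range_eq_map,
    range_subtype, Subgroup.map_bot] using h2

theorem der2_quo [N.Normal] (h : ∀ χ ∈ irr (⊤ : Subgroup Γ), N ≤ cfker χ →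
    charDegree χ = 1 ∨ charDegree χ = m) : derivedSeries Γ 2 ≤ N := by
  have := Fintype.ofFinite (Γ ⧸ N)
  have h1 := der2 (Γ := Γ ⧸ N) (m := m) fun d hd => by
    obtain ⟨θ, h1, h2, rfl⟩ := exists_of_mem_quo hd
    exact h θ h1 h2
  rw [← map_derivedSeries_eq (QuotientGroup.mk'_surjective N), Subgroup.map_eq_bot_iff,
    QuotientGroup.ker_mk'] at h1
  exact h1

/-! ### The Broline-Garrison theorem -/

theorem Res_irr_of_sup (hχ : χ ∈ irr K) (hk : N ≤ cfker χ) (hn : K ≤ 𝓝(N)) (h : H ⊔ N = K) :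
    Res (H : Set Γ) χ ∈ irr H := by
  have := Fintype.ofFinite (QT N)
  have hH : H ≤ K := h ▸ le_sup_left
  obtain ⟨α, h1, rfl⟩ := exists_infl_irr (qh N) hn hχ (by rw [mker_qh]; exact inf_le_right.trans hk)
  rw [Res_infl _ hH]
  rw [← h, show mim (qh N) (H ⊔ N) = mim (qh N) H from quo_sup_self (hH.trans hn)] at h1
  exact infl_irr _ (hH.trans hn) h1

theorem bg_vanish (hχ : χ ∈ irr (⊤ : Subgroup Γ)) (hH : IsCoatom H) (hK : ¬ cfker χ ≤ H)
    (h : ∀ ψ ∈ irr (⊤ : Subgroup Γ), charDegree χ < charDegree ψ → ¬ cfker ψ < cfker χ)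
    (hx : x ∈ H) (h0 : χ x ≠ 0) : x ∈ H.normalCore := by
  have res : ∀ ψ ∈ irr (⊤ : Subgroup Γ), ¬ cfker ψ ≤ H → Res (H : Set Γ) ψ ∈ irr H :=
    fun ψ h1 h2 => Res_irr_of_sup h1 le_rfl (cfker_nrm (irr_CF h1) (irr_ne_zero h1)).le_normalizer
      (hH.2 _ (left_lt_sup.2 h2))
  have hθ := res χ hχ hK
  have h1 : ∀ ψ ∈ irr (⊤ : Subgroup Γ), dot ⊤ (Ind ⊤ H (Res (H : Set Γ) χ)) ψ ≠ 0 →
      Res (H : Set Γ) ψ = Res (H : Set Γ) χ := fun ψ hψ hd => by
    have hd' : dot H ψ (Res (H : Set Γ) χ) ≠ 0 := by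
      rwa [dot_Ind_left _ _ (irr_CInv hψ), Ne, dot_eq_zero_comm] at hd
    have hd'' : dot H (Res (H : Set Γ) ψ) (Res (H : Set Γ) χ) ≠ 0 := by
      rwa [dot_Res_left (Res_on _ _)]
    by_cases h2 : cfker ψ ≤ H
    · refine ((irr_char hψ).Res le_top).eq_of_one hθ hd'' ?_
      have h3 := deg_le le_top (irr_char hψ) hθ hd'
      rw [deg_congr (Res_one H χ)] at h3
      rw [Res_one, Res_one, irr_deg hψ, irr_deg hχ, eq_of_le_of_not_lt h3 fun h4 => h ψ hψ h4
        (lt_of_le_of_ne ((le_cfker_Res_iff (irr_char hχ) le_top h2).1 ((sub_cfker_constt le_top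
          (cfker_nrm (irr_CF hψ) (irr_ne_zero hψ)).le_normalizer h2 hψ hθ hd').2 le_rfl))
          fun e => hK (e ▸ h2))]
    · exact irr_eq_of_dot_ne (res ψ hψ h2) hθ hd''
  obtain ⟨c, h2, h3⟩ := ((irr_char hθ).Ind (le_top : H ≤ ⊤)).expand
  have h4 : ∀ y ∈ H, Ind ⊤ H (Res (H : Set Γ) χ) y = (∑ ψ ∈ irr (⊤ : Subgroup Γ), c ψ : ℕ) * χ y :=
    fun y hy => by
      rw [h3, Finset.sum_apply, Nat.cast_sum, Finset.sum_mul]
      refine Finset.sum_congr rfl fun ψ hψ => ?_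
      by_cases e : c ψ = 0
      · simp [e]
      · have := congrFun (h1 ψ hψ (by rw [h2 ψ hψ]; exact_mod_cast e)) y
        rw [Res_of_mem _ hy, Res_of_mem _ hy] at this
        rw [Pi.smul_apply, this, nsmul_eq_mul]
  have h5 := h4 x hx
  have h6 := h4 1 H.one_mem
  rw [Ind_Res _ (irr_CInv hχ), Pi.mul_apply] at h5 h6
  have h7 : x ∈ cfker (Ind ⊤ H (triv H)) := (((triv_char H).Ind le_top).mem_cfker trivial).2
    ((mul_right_cancel₀ h0 h5).trans (mul_right_cancel₀ (irr_one_ne hχ) h6).symm)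
  have hn := (cfker_nrm ((triv_char H).Ind (le_top : H ≤ ⊤)).CF (Ind_ne_zero le_top
    (by rw [triv_one]; exact one_ne_zero)))
  have := hn.normal_of_top
  exact normal_le_normalCore.2 (((sub_cfker_Ind_irr le_top hn.le_normalizer (triv_irr H)).1
    le_rfl).trans (cfker_triv H).le) h7

theorem frat_core (hp : p.Prime) (hP : Syl p P L) (hn : 𝓝(P) ≤ H) (hL : Nrm L ⊤)
    (h : P ≤ H.normalCore) : H = ⊤ := by
  have hM := hL.inf (nrm_top H.normalCore)
  have := (hP.of_le (le_inf hP.le h) inf_le_left).syl_frattini_sup hp le_top hM.le_normalizer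
  exact top_le_iff.1 (this.ge.trans (sup_le (inf_le_right.trans H.normalCore_le)
    (inf_le_right.trans hn)))

theorem exists_nonnormal_syl (h : ¬ Group.IsNilpotent L) :
    ∃ p P, p.Prime ∧ Syl p P L ∧ 𝓝(P) ≠ ⊤ := by
  by_contra! h1
  exact h (nil_of_syl_normal fun p hp _ => by
    obtain ⟨P, hP⟩ := syl_exists hp L
    exact ⟨P, hP, (h1 p P hp hP).ge.trans' le_top⟩)

theorem broline (hχ : χ ∈ irr (⊤ : Subgroup Γ)) (h : ¬ cfker χ ≤ 𝓕(⊤) ∨
    (cfker χ = 𝓕(⊤) ∧ Group.IsSolvable (⊤ : Subgroup Γ) ∧ cfker χ ≠ ⊤)) :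
    ∃ ψ ∈ irr (⊤ : Subgroup Γ), charDegree χ < charDegree ψ ∧ cfker ψ < cfker χ := by
  by_contra! h0
  have hK := cfker_nrm (irr_CF hχ) (irr_ne_zero hχ)
  have hk : ∀ x ∈ cfker χ, χ x ≠ 0 := fun x hx => cfker_apply hx ▸ irr_one_ne hχ
  rcases h with h | ⟨h1, h2, h3⟩
  · obtain ⟨p, P, hp, hP, hn⟩ := exists_nonnormal_syl fun e => h (le_fit e le_top hK.le_normalizer)
    obtain ⟨H, hH, hPH⟩ := exists_coatom_ge hn
    have h4 : ¬ cfker χ ≤ H := fun e => hH.1 (top_le_iff.1 ((hP.syl_frattini_sup hp le_top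
      hK.le_normalizer).ge.trans (sup_le e (inf_le_right.trans hPH))))
    exact hH.1 (frat_core hp hP hPH hK fun x hx =>
      bg_vanish hχ hH h4 h0 (hPH (le_normalizer hx)) (hk x (hP.le hx)))
  obtain ⟨L, -, hc⟩ := exists_chief_above (lt_top_iff_ne_top.2 h3) le_top hK.le_normalizer
    norm_top.ge
  have hL : Nrm L ⊤ := nrm_of_le_normalizer le_top hc.2.2.1
  obtain ⟨p, hp, -, -, h4⟩ := sol_chief_abelem hc (solv_of_le h2 le_top)
  obtain ⟨P, hP⟩ := syl_exists hp L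
  have h5 : P ⊔ cfker χ = L := hP.sup_of_idx hc.1.le h4
  have hn : 𝓝(P) ≠ ⊤ := fun e => hc.1.not_ge (h5.ge.trans (sup_le
    (h1 ▸ le_fit (hP.pi.isNilpotent hp) le_top e.ge) le_rfl))
  obtain ⟨H, hH, hPH⟩ := exists_coatom_ge hn
  have hPH' : P ≤ H := le_normalizer.trans hPH
  have h6 : ¬ cfker χ ≤ H := fun e => hH.1 (top_le_iff.1 ((hP.syl_frattini_sup hp le_top
    hL.le_normalizer).ge.trans (sup_le (h5.ge.trans (sup_le hPH' e)) (inf_le_right.trans hPH))))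
  have hv : ∀ x ∈ H, χ x ≠ 0 → x ∈ H.normalCore := fun x => bg_vanish hχ hH h6 h0
  have hM := hL.inf (nrm_top H.normalCore)
  rcases hc.2.2.2.2 (L ⊓ H.normalCore ⊔ cfker χ) le_sup_right (sup_le inf_le_left hc.1.le)
    (norm_sup hM.le_normalizer hK.le_normalizer) with h7 | h7
  · refine hc.1.not_ge (by_contra fun h8 => ?_)
    have h9 := sum_eq_zero_of_not_le_cfker hL hχ h8 1
    rw [sum_fs_subset hc.1.le fun x hx hx' => ?_, Finset.sum_congr rfl (g := fun _ => χ 1)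
      fun x hx => by rw [mul_one, cfker_apply (mem_fs.1 hx)], Finset.sum_const, card_fs,
      nsmul_eq_mul] at h9
    · exact mul_ne_zero (cardC_ne _) (irr_one_ne hχ) h9
    obtain ⟨u, hu, k, hk, rfl⟩ := (mem_sup_norm (le_top.trans hK.le_normalizer)).1 (h5.ge hx)
    rw [mul_one, cfker_mul_right (irr_CF hχ) hk]
    by_contra e
    exact hx' (mul_mem (h7.le (mem_sup_left ⟨hP.le hu, hv u (hPH' hu) e⟩)) hk)
  · refine hH.1 (frat_core hp hP hPH hL fun x hx => ?_)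
    obtain ⟨u, hu, k, hk', rfl⟩ := (mem_sup_norm (le_top.trans hK.le_normalizer)).1
      (h7.ge (hP.le hx))
    exact mul_mem hu.2 (hv k ((H.mul_mem_cancel_left (H.normalCore_le hu.2)).1 (hPH' hx)) (hk k hk'))

theorem card_cd_quo_lt (hs : Group.IsSolvable Γ) (h : fittingSubgroup Γ ≠ ⊤) :
    (cd (Γ ⧸ fittingSubgroup Γ)).card < (cd Γ).card := by
  refine Finset.card_lt_card ⟨cd_quo _, fun h1 => ?_⟩
  obtain ⟨χ, h2, h3, h4⟩ := exists_of_mem_quo (h1 ((cd Γ).max'_mem ⟨1, one_mem_cd⟩))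
  by_cases h5 : cfker χ = ⊤
  · have h6 : ∀ d ∈ cd Γ, d = 1 := fun d hd => le_antisymm (((cd Γ).le_max' d hd).trans
      (h4.ge.trans ((deg_lin_iff h2).2 (le_top.trans h5.ge)).le)) (cd_pos hd)
    have h7 : IsMulCommutative (⊤ : Subgroup Γ) := ⟨⟨fun a b => Subtype.ext (comm_of_cd h6 a b)⟩⟩
    exact h (fit_top.symm.trans (fit_eq_self (nil_of_comm h7)))
  obtain ⟨ψ, h6, h7, -⟩ := broline h2 (or_iff_not_imp_left.2 fun e =>
    ⟨le_antisymm (not_not.1 e) (fit_top.le.trans h3), inferInstance, h5⟩)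
  exact h7.not_ge (h4 ▸ (cd Γ).le_max' _ (deg_mem h6))

/-- Garrison's theorem. -/
theorem garrison (n : ℕ) : ∀ (X : Type u) [Group X] [Finite X], Group.IsSolvable X →
    (cd X).card ≤ n → ∃ N : ℕ → Subgroup X, N 0 = ⊥ ∧ N n = ⊤ ∧ Monotone N ∧ (∀ i, (N i).Normal) ∧
      ∀ i, NilMod (N (i + 1)) (N i) := by
  induction n with
  | zero =>
    intro X _ _ _ h
    have := Fintype.ofFinite X
    exact (Finset.card_ne_zero_of_mem one_mem_cd (Nat.le_zero.1 h)).elim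
  | succ n ih =>
    intro X _ _ hs h
    have := Fintype.ofFinite X
    have hF : NilMod (fittingSubgroup X) ⊥ := by
      obtain ⟨k, hk⟩ := nil_iff_lcs.1 (fit_top (G := X) ▸ fit_nil ⊤)
      exact ⟨k, hk.le⟩
    by_cases h1 : fittingSubgroup X = ⊤
    · refine ⟨fun i => Nat.casesOn i ⊥ fun _ => ⊤, rfl, rfl, monotone_nat_of_le_succ fun i => le_top,
        fun i => Nat.casesOn i normal_bot fun _ => normal_top, fun i => ?_⟩
      cases i
      · exact h1 ▸ hF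
      · exact ⟨0, le_top⟩
    obtain ⟨N, h2, h3, h4, h5, h6⟩ := ih (X ⧸ fittingSubgroup X) inferInstance
      (Nat.lt_succ_iff.1 ((card_cd_quo_lt hs h1).trans_le h))
    refine ⟨fun i => Nat.casesOn i ⊥ fun j => (N j).comap (QuotientGroup.mk' _), rfl,
      by simp [h3], monotone_nat_of_le_succ fun i => ?_,
      fun i => Nat.casesOn i normal_bot fun j => (h5 j).comap _,
      fun i => ?_⟩
    · cases i
      · exact bot_le
      · exact comap_mono (h4 (Nat.le_succ _))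
    cases i with
    | zero => simpa [h2] using hF
    | succ i =>
      obtain ⟨k, hk⟩ := h6 i
      refine ⟨k, map_le_iff_le_comap.1 (le_trans ?_ hk)⟩
      have key : ∀ (A : Subgroup X) k, (A.lowerCentralSeries k).map (QuotientGroup.mk'
          (fittingSubgroup X)) = (A.map (QuotientGroup.mk' _)).lowerCentralSeries k := fun A k => by
        induction k with
        | zero => rfl
        | succ k ih => rw [lcs_succ, lcs_succ, map_commutator, ih]
      rw [key]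
      exact lcs_mono (map_comap_le _ _) k

/-! ### Two degrees -/

theorem exists_not_stab (hc : IsMulCommutative N) (h : ¬ ⁅N, H⁆ ≤ A) (hA : A ≤ N) (hn : H ≤ 𝓝(N)) :
    ∃ i : Lin N, A ≤ cfker (lin i) ∧ ¬ H ≤ stab (lin i) := by
  by_contra! h1
  refine h (le_of_cfker (nrm_of_le_normalizer hA (norm_of_comm hc hA)) (comm_le_left hn)
    fun θ h2 h3 => ?_)
  obtain ⟨i, rfl⟩ := irr_exists_lin hc h2
  refine commutator_le.2 fun a ha b hb => (irr_mem_cfker h2).2 ?_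
  have h4 := congrFun (mem_stab.1 (h1 i h3 hb)) a⁻¹
  rw [commutatorElement_def, mul_assoc, mul_assoc, lin_apply_mul i ha, ← mul_assoc,
    ← cj_apply b (lin i), h4, ← lin_apply_mul i ha, mul_inv_cancel]

theorem comm_le_of_stab (i : Lin N) (h : H ≤ stab (lin i)) : ⁅N, H⁆ ≤ cfker (lin i) := by
  refine commutator_le.2 fun a ha b hb => (irr_mem_cfker (lin_irr i)).2 ?_
  have h4 := congrFun (mem_stab.1 (h hb)) a⁻¹
  rw [commutatorElement_def, mul_assoc, mul_assoc, lin_apply_mul i ha, ← mul_assoc,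
    ← cj_apply b (lin i), h4, ← lin_apply_mul i ha, mul_inv_cancel]

/-- Inertia group of a non-invariant linear character of a normal Hall subgroup. -/
theorem two_stab (h : ∀ d ∈ cd Γ, d = 1 ∨ d = m) [N.Normal] (hc : (♯N).Coprime N.index)
    (i : Lin N) (hi : stab (lin i) ≠ ⊤) :
    (stab (lin i)).index = m ∧ ⁅stab (lin i), stab (lin i)⁆ ≤ N := by
  set T := stab (lin i)
  have hNT : Nrm N T := (nrm_top N).mono (le_stab (irr_CInv (lin_irr i))) le_top
  obtain ⟨η, h1, h2⟩ := ext_cop hNT (lin_irr i) le_rfl (by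
    rw [(deg_eq_one_iff (lin_irr i)).2 (lin_apply_one i), mul_one]
    exact Nat.Coprime.of_dvd (relIndex_dvd_index_of_normal N T) (CA.Ext.detOrder_dvd_card _) hc.symm)
  have h3 : ∀ β ∈ irr T, N ≤ cfker β → T.index * charDegree β = m := fun β h3 h4 => by
    have h5 := gall_irr hNT (irr_char h1) (h2 ▸ lin_irr i) h3 h4
    have h6 := Ind_irr_of_inertia_le (nrm_top N) (lin_irr i) hNT.le inf_le_right le_top h5 (by
      rw [← h2, dot_gall h4 (h2 ▸ lin_irr i)]; exact irr_one_ne h3)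
    have h7 := h _ (deg_mem h6)
    rw [deg_Ind le_top (irr_char h5), deg_mul (irr_char h3) (irr_char h1), ← deg_congr (Res_one N η),
      h2, (deg_eq_one_iff (lin_irr i)).2 (lin_apply_one i), mul_one, relIndex_top_right] at h7
    exact h7.resolve_left fun e => hi (index_eq_one.1 (Nat.eq_one_of_mul_eq_one_right e))
  have h4 : T.index = m := by
    simpa [H12Deg.deg_eq (show triv T 1 = (1 : ℕ) by simp)] using h3 _ (triv_irr T)
      (by rw [cfker_triv]; exact hNT.le)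
  refine ⟨h4, le_of_cfker hNT (der_le T) fun β h5 h6 => (deg_lin_iff h5).1 ?_⟩
  exact Nat.eq_of_mul_eq_mul_left (Nat.pos_of_ne_zero index_ne_zero_of_finite)
    ((h3 β h5 h6).trans (by rw [mul_one, h4]))

theorem two_nil (h : ∀ d ∈ cd Γ, d = 1 ∨ d = m) (hm : m ∈ cd Γ) (hp : p.Prime) (hd : p ∣ m)
    (hn : Group.IsNilpotent (⊤ : Subgroup Γ)) :
    (∃ e, m = p ^ e) ∧ IsMulCommutative 𝓞({p}ᶜ, (⊤ : Subgroup Γ)) ∧
      DProd 𝓞({p}, ⊤) 𝓞({p}ᶜ, ⊤) (⊤ : Subgroup Γ) := by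
  have h1 : DProd 𝓞({p}, ⊤) 𝓞({p}ᶜ, ⊤) (⊤ : Subgroup Γ) := ⟨cent_symm (core_cent_core _ _),
    (core_pi _ _).inf_eq_bot (core_pi _ _), nil_core_sup _ hn⟩
  have h2 : IsMulCommutative 𝓞({p}ᶜ, (⊤ : Subgroup Γ)) := comm_of_lin fun θ hθ => by
    have h2 := h _ (deg_mem (conv_irr h1 (triv_irr _) hθ))
    rw [deg_congr (ψ := θ) (by
      rw [← mul_one (1 : Γ), conv_apply h1.disj (triv_CF _).1 (irr_on hθ) (one_mem _) (one_mem _),
        triv_one, one_mul, mul_one])] at h2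
    exact h2.resolve_right fun e => core_pi {p}ᶜ ⊤ p hp ((e ▸ hd).trans (deg_dvd_card hθ)) rfl
  obtain ⟨χ, h3, rfl⟩ := mem_cd.1 hm
  refine ⟨PiNat.exists_pow hp (PiNat.of_dvd ?_ (ito (nrm_of_le_normalizer le_top
    (le_norm_core _ _)) h2 h3)) (deg_pos h3).ne', h2, h1⟩
  simpa using (nil_hall_core {p}ᶜ hn).idx

theorem two_struct (h : ∀ d ∈ cd Γ, d = 1 ∨ d = m) :
    (∃ A : Subgroup Γ, A.Normal ∧ IsMulCommutative A ∧ A.index = m) ∨
      Group.IsNilpotent (⊤ : Subgroup Γ) := by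
  obtain ⟨h1, h2, h3⟩ := onedeg (N := ⊤) (two_of_cd h)
  set N := 𝓞({r | r ∣ m}ᶜ, (⊤ : Subgroup Γ))
  have hN : Nrm N ⊤ := nrm_of_le_normalizer le_top (le_norm_core _ _)
  have := hN.normal_of_top
  have hc : (♯N).Coprime N.index := by simpa using h1.coprime
  by_cases h4 : ⁅N, (⊤ : Subgroup Γ)⁆ ≤ ⊥
  · exact Or.inr (nil_of_quo_cent (cent_symm (comm_eq_bot_iff.1 (le_bot_iff.1 h4)))
      ((nilMod_iff hN.le_normalizer).1 h3))
  obtain ⟨i, -, hi⟩ := exists_not_stab h2 h4 bot_le hN.le_normalizer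
  obtain ⟨h5, h6⟩ := two_stab h hc i fun e => hi e.ge
  set T := stab (lin i)
  have hNT : Nrm N T := (nrm_top N).mono (le_stab (irr_CInv (lin_irr i))) le_top
  have h7 : ⁅(⊤ : Subgroup Γ), ⊤⁆ ≤ T := le_of_perm le_top (nrm_top _) fun ψ h7 h8 =>
    (deg_lin_iff h7).1 ((h _ (deg_mem h7)).resolve_right (by rw [← h5]; simpa using h8.ne))
  have hT : Nrm T ⊤ := nrm_of_le_normalizer le_top (norm_of_der_le h7 le_top)
  obtain ⟨R, hR⟩ := exists_sdprod hNT (hc.coprime_dvd_right (relIndex_dvd_index_of_normal N T))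
  have hcR : (♯N).Coprime ♯R := hR.relIndex ▸ hc.coprime_dvd_right (relIndex_dvd_index_of_normal N T)
  have h8 : N ≤ ⁅N, T⁆ ⊔ (N ⊓ 𝓒(T)) := (coprime_cent_prod hR.norm hcR (Or.inr (solv_of_comm h2))).ge.trans
    (sup_le_sup (commutator_mono le_rfl hR.le_right) (le_inf inf_le_left (hR.sup ▸ le_cent_sup
      (cent_of_comm h2 inf_le_left le_rfl) inf_le_right)))
  have hC : Nrm (N ⊓ 𝓒(T)) ⊤ := nrm_of_le_normalizer le_top
    (norm_inf hN.le_normalizer (norm_cent hT.le_normalizer))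
  have hD := hN.commutator hT
  have h9 : ⁅N, T⁆ ≤ N ⊓ 𝓒(T) := by
    by_contra h9
    obtain ⟨j, h10, h11⟩ := exists_not_stab h2 h9 inf_le_left hNT.le_normalizer
    have h12 : stab (lin (i * j)) ≤ T := fun g hg => mem_stab_of (lin_on i) (hN.le_normalizer trivial)
      fun y hy => by
        obtain ⟨a, ha, c, hc, rfl⟩ := (mem_sup_norm (le_top.trans hC.le_normalizer)).1 (h8 hy)
        have e1 := congrFun (mem_stab.1 hg) c
        have e2 := hC.conj (mem_top g) hc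
        rw [cj_apply, lin_mul, Pi.mul_apply, Pi.mul_apply, lin_eq_one_of_le h10 hc,
          lin_eq_one_of_le h10 e2, mul_one, mul_one] at e1
        rw [show g * (a * c) * g⁻¹ = g * a * g⁻¹ * (g * c * g⁻¹) by group,
          comm_le_of_stab i le_rfl ha, comm_le_of_stab i le_rfl (hD.conj (mem_top g) ha), e1]
    have h13 := (two_stab h hc (i * j) fun e => hi (e.ge.trans h12)).1
    have h14 : stab (lin (i * j)) = T := eq_of_le_of_card_eq h12 (Nat.eq_of_mul_eq_mul_right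
      (Nat.pos_of_ne_zero (index_ne_zero_of_finite (H := T)))
      (by rw [card_mul_index, h5, ← h13, card_mul_index]))
    refine h11 fun g hg => ?_
    have e : lin j = star (lin i) * lin (i * j) := by rw [← lin_inv, ← lin_mul, inv_mul_cancel_left]
    rw [mem_stab, e, PF.cj_mul, cj_star, mem_stab.1 hg, mem_stab.1 (h14.ge hg)]
  have h10 : N ≤ 𝓒(T) := h8.trans (sup_le (h9.trans inf_le_right) inf_le_right)
  refine Or.inl ⟨T, hT.normal_of_top, hR.sup ▸ comm_sup h2 (comm_iff_der_eq_bot.2 (eq_bot_iff.2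
    ((le_inf ((der_mono hR.le_right).trans h6) (der_le R)).trans hR.disj.le)))
    (h10.trans (cent_anti hR.le_right)), h5⟩

/-! ### Three degrees -/

theorem exists_constt_mul (hΦ : φ ∈ CF K) (h : dot K (χ * φ) ψ ≠ 0) :
    ∃ η ∈ irr K, dot K φ η ≠ 0 ∧ dot K (χ * η) ψ ≠ 0 := by
  rw [mul_comm, dot_mul_left, dot_expand hΦ] at h
  obtain ⟨η, h1, h2⟩ := Finset.exists_ne_zero_of_sum_ne_zero h
  exact ⟨η, h1, left_ne_zero_of_mul h2, by
    rw [mul_comm, dot_mul_left]; exact right_ne_zero_of_mul h2⟩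

theorem deg_star (h : χ ∈ irr K) : charDegree (star χ) = charDegree χ :=
  deg_congr (conj_irr_one h)

theorem deg_eq_of_lin (hχ : χ ∈ irr K) (hξ : ξ ∈ irr K) (hψ : ψ ∈ irr K) (h1 : charDegree ψ = 1)
    (h : dot K (χ * ξ) ψ ≠ 0) : charDegree χ = charDegree ξ := by
  obtain ⟨i, rfl⟩ := (irr_char hψ).exists_lin ((deg_eq_one_iff hψ).1 h1)
  rw [dot_mul_left] at h
  rw [irr_eq_of_dot_ne hχ (lin_mul_irr i (irr_star hξ)) h, deg_mul (irr_char hψ)
    (irr_char (irr_star hξ)), h1, one_mul, deg_star hξ]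

theorem cop_type (h : ∀ χ ∈ irr K, charDegree χ = 1 ∨ charDegree χ = m ∨ charDegree χ = n)
    (hc : m.Coprime n) (hmn : m ≠ n) (hχ : χ ∈ irr K) (h1 : charDegree χ = m) (hξ : ξ ∈ irr K)
    (h2 : charDegree ξ = n) (hψ : ψ ∈ irr K) (h3 : charDegree ψ = n) (hd : dot K (χ * ξ) ψ ≠ 0)
    (hφ : φ ∈ irr K) (hd' : dot K (χ * ξ) φ ≠ 0) : charDegree φ = n := by
  classical
  by_contra h4
  obtain ⟨c, h5, h6⟩ := ((irr_char hχ).mul (irr_char hξ)).expand
  have h7 : ∑ η ∈ irr K, c η * charDegree η = m * n := by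
    have := congrFun h6 1
    rw [Pi.mul_apply, irr_deg hχ, irr_deg hξ, h1, h2, Finset.sum_apply, Finset.sum_congr rfl
      (g := fun η => ((c η * charDegree η : ℕ) : ℂ)) fun η hη => by
        rw [Pi.smul_apply, irr_deg hη, nsmul_eq_mul, Nat.cast_mul]] at this
    exact_mod_cast this.symm
  rw [← Finset.sum_filter_add_sum_filter_not (irr K) (charDegree · = n)] at h7
  have h8 : n ∣ ∑ η ∈ irr K with charDegree η = n, c η * charDegree η :=
    Finset.dvd_sum fun η hη => (Finset.mem_filter.1 hη).2 ▸ dvd_mul_left _ _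
  have h9 : m ∣ ∑ η ∈ irr K with ¬ charDegree η = n, c η * charDegree η :=
    Finset.dvd_sum fun η hη => by
      obtain ⟨h8, h9⟩ := Finset.mem_filter.1 hη
      by_cases e : c η = 0
      · simp [e]
      · rcases h η h8 with e' | e' | e'
        · exact (hmn (h1 ▸ h2 ▸ deg_eq_of_lin hχ hξ h8 e' (by rw [h5 η h8]; exact_mod_cast e))).elim
        · exact e' ▸ dvd_mul_left _ _
        · exact (h9 e').elim
  have pos : ∀ η ∈ irr K, dot K (χ * ξ) η ≠ 0 → 0 < c η * charDegree η := fun η h8 h9 =>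
    Nat.mul_pos (Nat.pos_of_ne_zero (by rw [h5 η h8] at h9; exact_mod_cast h9)) (deg_pos h8)
  have h10 := Nat.le_of_dvd (lt_of_lt_of_le (pos ψ hψ hd) (Finset.single_le_sum
    (f := fun η => c η * charDegree η) (fun _ _ => Nat.zero_le _) (Finset.mem_filter.2 ⟨hψ, h3⟩)))
    (hc.mul_dvd_of_dvd_of_dvd ((Nat.dvd_add_left h9).1 (h7 ▸ dvd_mul_right m n)) h8)
  have h11 := lt_of_lt_of_le (pos φ hφ hd') (Finset.single_le_sum
    (s := (irr K).filter (¬ charDegree · = n))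
    (f := fun η => c η * charDegree η) (fun _ _ => Nat.zero_le _) (Finset.mem_filter.2 ⟨hφ, h4⟩))
  omega

theorem type_contra (h : ∀ χ ∈ irr (⊤ : Subgroup Γ),
      charDegree χ = 1 ∨ charDegree χ = m ∨ charDegree χ = n)
    (hc : m.Coprime n) (hmn : m ≠ n) (hn : n ≠ 1) (hZ : center Γ = ⊥) (hχ : χ ∈ irr ⊤)
    (h1 : charDegree χ = m) (hf : cfker χ = ⊥) (hξ : ξ ∈ irr ⊤) (h2 : charDegree ξ = n)
    (hψ : ψ ∈ irr ⊤) (h3 : charDegree ψ = n) : dot ⊤ (χ * ξ) ψ = 0 := by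
  by_contra hd
  have step : ∀ χ ∈ irr (⊤ : Subgroup Γ), charDegree χ = m → ∀ ξ ∈ irr (⊤ : Subgroup Γ),
      (charDegree ξ = n ∧ ∃ ψ ∈ irr ⊤, charDegree ψ = n ∧ dot ⊤ (χ * ξ) ψ ≠ 0) →
      ∀ φ ∈ irr (⊤ : Subgroup Γ), dot ⊤ (χ * ξ) φ ≠ 0 →
      charDegree φ = n ∧ ∃ ψ ∈ irr ⊤, charDegree ψ = n ∧ dot ⊤ (star χ * φ) ψ ≠ 0 :=
    fun χ hχ h1 ξ hξ ⟨h2, ψ, hψ, h3, hd⟩ φ hφ hd' =>
      ⟨cop_type h hc hmn hχ h1 hξ h2 hψ h3 hd hφ hd', ξ, hξ, h2, by
        rwa [mul_comm, dot_mul_left, star_star, Ne, dot_eq_zero_comm, mul_comm]⟩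
  have hch : ∀ k : ℕ, IsChar ⊤ ((star χ * χ) ^ k * ξ) := fun k => by
    induction k with
    | zero => simpa using irr_char hξ
    | succ k ih =>
      rw [pow_succ', mul_assoc]
      exact ((irr_char hχ).star.mul (irr_char hχ)).mul ih
  have key : ∀ k : ℕ, ∀ φ ∈ irr (⊤ : Subgroup Γ), dot ⊤ ((star χ * χ) ^ k * ξ) φ ≠ 0 →
      charDegree φ = n ∧ ∃ ψ ∈ irr ⊤, charDegree ψ = n ∧ dot ⊤ (χ * φ) ψ ≠ 0 := fun k => by
    induction k with
    | zero =>
      intro φ hφ e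
      rw [pow_zero, one_mul] at e
      exact irr_eq_of_dot_ne hξ hφ e ▸ ⟨h2, ψ, hψ, h3, hd⟩
    | succ k ih =>
      intro φ hφ e
      rw [pow_succ', mul_assoc, mul_assoc] at e
      obtain ⟨η, h4, h5, h6⟩ := exists_constt_mul ((irr_char hχ).mul (hch k)).CF e
      obtain ⟨ζ, h7, h8, h9⟩ := exists_constt_mul (hch k).CF h5
      simpa only [star_star] using step _ (irr_star hχ) ((deg_star hχ).trans h1) η h4
        (step χ hχ h1 ζ h7 (ih ζ h7 h8) η h4 h9) φ hφ h6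
  have hi := mem_irr_top.1 hχ
  obtain ⟨k, -, hk⟩ := CChar.CharMisc.exists_inner_pow_ne_zero (χ := star χ * χ) (ψ := star ξ)
    (fun g hg => by
      have h4 : g ∈ CChar.CharKer.charCenter χ :=
        (CChar.CharKer.mem_charCenter (isChar_top.1 (irr_char hχ))).2 (by
          have := congrArg norm hg
          simp only [Pi.mul_apply, Pi.star_apply, norm_mul, norm_star] at this
          exact (mul_self_inj (norm_nonneg _) (norm_nonneg _)).1 this)
      have h5 : g ∈ center Γ := mem_center_iff.2 fun x => (commutatorElement_eq_one_iff_mul_comm.1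
        (mem_bot.1 (hf ▸ (irr_mem_cfker hχ).2 (CChar.CharKer.apply_of_mem_charKer
          ((CChar.CharKer.mem_charCenter_iff_commutator hi).1 h4 x))))).symm
      exact mem_bot.1 (hZ ▸ h5)) (irr_one_ne (irr_star hξ))
  refine hn ((key k _ (triv_irr ⊤) ?_).1.symm.trans (H12Deg.deg_eq (by simp)))
  rwa [dot_mul_left, triv_mul, Res_top, dot_top]

theorem hasPC_top (hp : p.Prime)
    (h : ∀ χ ∈ irr (⊤ : Subgroup Γ), charDegree χ ≠ 1 → p ∣ charDegree χ) :
    HasPC p (⊤ : Subgroup Γ) := by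
  have := Fact.mk hp
  exact berk fun χ h1 h2 => (deg_lin_iff h1).1 (by_contra fun e => h2 (h χ h1 e))

theorem compl_deg (hp : p.Prime) (h : HasPC p (⊤ : Subgroup Γ)) (hθ : θ ∈ irr 𝓞({p}ᶜ, (⊤ : Subgroup Γ))) :
    ∃ e ∈ cd Γ, charDegree θ = ordCompl[p] e := by
  have := Fact.mk hp
  have := (nrm_of_le_normalizer le_top (le_norm_core {p}ᶜ (⊤ : Subgroup Γ))).normal_of_top
  obtain ⟨k, hk⟩ := h.idx.exists_pow hp (relIndex_ne_zero' _ _)
  exact cd_compl ((isPi_compl_iff hp).1 (core_pi _ _)) (by simpa using hk) (mem_cd_sub.2 ⟨θ, hθ, rfl⟩)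

theorem solv_of_nilMod (hA : Nrm A K) (hc : IsMulCommutative A) (hn : NilMod K A) :
    Group.IsSolvable K :=
  isSolvable_of_quo hA.le_normalizer (solv_of_comm hc)
    (solv_of_nil ((nilMod_iff hA.le_normalizer).1 hn))

theorem three_solv (k : ℕ) : ∀ (X : Type u) [Group X] [Finite X] (m n : ℕ), Nat.card X ≤ k →
    (∀ d ∈ cd X, d = 1 ∨ d = m ∨ d = n) → Group.IsSolvable X := by
  induction k with
  | zero => exact fun X _ _ _ _ h _ => (Nat.card_pos.not_ge h).elim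
  | succ k ih =>
  intro X _ _ m n hk h
  have := Fintype.ofFinite X
  by_contra hs
  have two : ∀ a, ¬ ∀ d ∈ cd X, d = 1 ∨ d = a := fun a e => hs ⟨⟨2, der2 e⟩⟩
  have hm : m ≠ 1 := fun e => two n fun d hd => by simpa [e] using h d hd
  have hn : n ≠ 1 := fun e => two m fun d hd => by have := h d hd; omega
  have hmn : m ≠ n := fun e => two n fun d hd => by simpa [e] using h d hd
  have h' : ∀ χ ∈ irr (⊤ : Subgroup X), charDegree χ = 1 ∨ charDegree χ = m ∨ charDegree χ = n :=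
    fun χ e => h _ (deg_mem e)
  by_cases hc : m.Coprime n
  swap
  · obtain ⟨p, hp, h1, h2⟩ := Nat.Prime.not_coprime_iff_dvd.1 hc
    have h3 := hasPC_top hp fun χ e e' => by rcases h' χ e with e | e | e <;> simp_all
    have h4 : 𝓞({p}ᶜ, (⊤ : Subgroup X)) < ⊤ := lt_top_iff_ne_top.2 fun e => two m fun d hd => by
      have := (isPi_compl_iff hp).1 (e ▸ core_pi {p}ᶜ (⊤ : Subgroup X))
      exact (h d hd).imp_right fun e => e.resolve_right fun e => this (h2.trans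
        (by simpa [← e] using cd_dvd hd))
    have h5 := ih 𝓞({p}ᶜ, (⊤ : Subgroup X)) (ordCompl[p] m) (ordCompl[p] n)
      (Nat.lt_succ_iff.1 ((card_lt_of_lt h4).trans_le (by simpa using hk))) fun d hd => by
        obtain ⟨θ, h5, rfl⟩ := mem_cd_sub.1 hd
        obtain ⟨e, h6, h7⟩ := compl_deg hp h3 h5
        rcases h e h6 with rfl | rfl | rfl <;> simp [h7]
    have h6 := isSolvable_of_quo (le_norm_core _ _) h5 (IsPi.isSolvable hp
      ((isPi_quo_iff (le_norm_core _ _)).2 h3.idx))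
    exact hs (Group.isSolvable_of_surjective (f := (⊤ : Subgroup X).subtype) fun x => ⟨⟨x, trivial⟩, rfl⟩)
  obtain ⟨D, -, ⟨hD, hq⟩, hmin⟩ := exists_minimal_le
    (P := fun D : Subgroup X => ∃ _ : D.Normal, Group.IsSolvable (X ⧸ D)) (H := ⊤)
    ⟨inferInstance, haveI := QuotientGroup.subsingleton_quotient_top (G := X); inferInstance⟩
  have hle : ∀ L : Subgroup X, L.Normal → L ≠ ⊥ → D ≤ L := fun L hL e => by
    have h1 := ih (X ⧸ L) m n (Nat.lt_succ_iff.1 (lt_of_lt_of_le (by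
      rw [← index_eq_card, ← L.card_mul_index]
      exact lt_mul_of_one_lt_left (Nat.pos_of_ne_zero index_ne_zero_of_finite)
        (one_lt_card_iff_ne_bot L |>.2 e)) hk)) fun d hd => h d (cd_quo L hd)
    obtain ⟨a, ha⟩ := h1
    obtain ⟨b, hb⟩ := hq
    rw [← map_derivedSeries_eq (QuotientGroup.mk'_surjective _), Subgroup.map_eq_bot_iff,
      QuotientGroup.ker_mk'] at ha hb
    refine inf_eq_left.1 (hmin (D ⊓ L) ⟨inferInstance, ⟨max a b, ?_⟩⟩ inf_le_left)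
    rw [← map_derivedSeries_eq (QuotientGroup.mk'_surjective _), Subgroup.map_eq_bot_iff,
      QuotientGroup.ker_mk']
    exact le_inf ((derivedSeries_antitone X (le_max_right a b)).trans hb)
      ((derivedSeries_antitone X (le_max_left a b)).trans ha)
  have hDs : ¬ Group.IsSolvable D := fun e => hs (Group.isSolvable_of_ker_le_range D.subtype
    (QuotientGroup.mk' D) (by simp))
  have hZ : center X = ⊥ := by_contra fun e => hDs (solv_of_le (solv_of_comm inferInstance)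
    (hle _ inferInstance e))
  have hf : ∀ χ ∈ irr (⊤ : Subgroup X), ¬ ⁅D, D⁆ ≤ cfker χ → cfker χ = ⊥ ∧ charDegree χ ≠ 1 :=
    fun χ h1 h2 => ⟨by_contra fun e => h2 ((der_le D).trans (hle _ (cfker_nrm (irr_CF h1)
      (irr_ne_zero h1)).normal_of_top e)), fun e => h2 ((der_mono le_top).trans
        ((deg_lin_iff h1).1 e))⟩
  have fin : ∀ g, ¬ ∀ χ ∈ irr (⊤ : Subgroup X), ¬ ⁅D, D⁆ ≤ cfker χ → charDegree χ = g :=
    fun g e => hDs (solv_of_nilMod (nrm_of_le_normalizer (core_le _ D) (le_norm_core _ D))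
      (onedeg e).2.1 (onedeg e).2.2)
  have h1 := fin n
  have h2 := fin m
  push Not at h1 h2
  obtain ⟨χ, h3, h4, h5⟩ := h1
  obtain ⟨ξ, h6, h7, h8⟩ := h2
  have h9 : charDegree χ = m := by have := h' χ h3; have := (hf χ h3 h4).2; omega
  have h10 : charDegree ξ = n := by have := h' ξ h6; have := (hf ξ h6 h7).2; omega
  obtain ⟨ψ, h11, h12⟩ := ((irr_char h3).mul (irr_char h6)).exists_irr fun e =>
    mul_ne_zero (irr_one_ne h3) (irr_one_ne h6) (congrFun e 1)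
  rcases h' ψ h11 with e | e | e
  · exact hmn (h9 ▸ h10 ▸ deg_eq_of_lin h3 h6 h11 e h12)
  · exact h12 (mul_comm χ ξ ▸ type_contra (fun χ e => by have := h' χ e; omega) hc.symm hmn.symm hm
      hZ h6 h10 (hf ξ h6 h7).1 h3 h9 h11 e)
  · exact h12 (type_contra h' hc hmn hn hZ h3 h9 (hf χ h3 h4).1 h6 h10 h11 e)

theorem der3_of (h1 : derivedSeries Γ 1 ≤ N) (h2 : ⁅⁅N, N⁆, ⁅N, N⁆⁆ = ⊥) : derivedSeries Γ 3 = ⊥ :=
  eq_bot_iff.2 ((der_mono (der_mono h1)).trans h2.le)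

theorem three_p (hp : p.Prime) {a : ℕ} (h : ∀ d ∈ cd Γ, d = 1 ∨ d = p ^ a ∨ d = g)
    (hd : ∀ d ∈ cd Γ, d ≠ 1 → p ∣ d) : derivedSeries Γ 3 = ⊥ := by
  have h1 := hasPC_top hp fun χ e => hd _ (deg_mem e)
  have hN : Nrm 𝓞({p}ᶜ, (⊤ : Subgroup Γ)) ⊤ := nrm_of_le_normalizer le_top (le_norm_core _ _)
  have h2 : ∀ θ ∈ irr 𝓞({p}ᶜ, (⊤ : Subgroup Γ)), charDegree θ = 1 ∨ charDegree θ = ordCompl[p] g :=
    fun θ hθ => by
      obtain ⟨e, h2, h3⟩ := compl_deg hp h1 hθ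
      rcases h e h2 with rfl | rfl | rfl
      · simp [h3]
      · exact Or.inl (h3.trans (Nat.ordCompl_self_pow hp))
      · exact Or.inr h3
  by_cases h3 : ordCompl[p] g = 1
  · refine taketa_bot (mon_of_nilMod hN (comm_of_lin fun θ hθ => by simpa [h3] using h2 θ hθ)
      ((nilMod_iff hN.le_normalizer).2 (IsPi.isNilpotent hp ((isPi_quo_iff hN.le_normalizer).2
        h1.idx)))) ((Finset.card_le_card (t := {1, p ^ a, g}) fun d hd => by
          simpa using h d hd).trans Finset.card_le_three)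
  set N := 𝓞({p}ᶜ, (⊤ : Subgroup Γ))
  have := hN.normal_of_top
  have h4 : derivedSeries Γ 2 ≤ ⁅N, N⁆ := der2_quo (m := p ^ a) fun χ h4 h5 => by
    refine (h _ (deg_mem h4)).imp_right fun e => e.resolve_right fun e => h3 ?_
    obtain ⟨θ, h6, h7⟩ := exists_irr_under (le_top (a := N)) h4
    obtain ⟨b, h8, h9⟩ := exists_deg hN h4 h6 h7
    rw [(deg_lin_iff h6).2 ((sub_cfker_constt le_top (hN.commutator hN).le_normalizer (der_le N) h4
      h6 h7).2 h5), mul_one, e] at h9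
    obtain ⟨k, hk⟩ := (h1.idx.of_dvd h8).exists_pow hp (h9 ▸ e ▸ (deg_pos h4).ne')
    rw [h9, hk, Nat.ordCompl_self_pow hp]
  exact eq_bot_iff.2 ((der_mono h4).trans (der2_sub h2).le)

theorem relIndex_sup_nrm (h : U ≤ 𝓝(A)) : U.relIndex (U ⊔ A) = U.relIndex A := by
  have h1 := card_sup_mul_inf h
  rw [← card_mul_relIndex (le_sup_left : U ≤ U ⊔ A), ← card_inf_mul_relIndex U A, mul_assoc,
    mul_comm (U.relIndex _)] at h1
  exact Nat.eq_of_mul_eq_mul_left (card_pos' _) (Nat.eq_of_mul_eq_mul_left (card_pos' _) h1)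

theorem relIndex_dvd_of_nrm (h : U ≤ 𝓝(A)) (h1 : U ≤ N) (h2 : A ≤ N) :
    U.relIndex A ∣ U.relIndex N :=
  ⟨_, by rw [← relIndex_sup_nrm h, relIndex_mul' le_sup_left (sup_le h1 h2)]⟩

theorem three_frob (F : FS p K N) (h : ∀ d ∈ cd Γ, d = 1 ∨ d = N.index ∨ d = g) :
    derivedSeries Γ 3 = ⊥ := by
  have hp := F.prime
  have hN := F.nN
  have := hN.normal_of_top
  have hf := F.one_lt
  refine der3_of F.der ?_
  have h1 : ∀ ψ ∈ irr N, ∀ χ ∈ irr (⊤ : Subgroup Γ), dot N χ ψ ≠ 0 → p ∣ charDegree ψ →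
      charDegree χ = g := fun ψ h1 χ h2 h3 h4 => by
    have h5 := h4.trans (deg_dvd hN h2 h1 h3)
    rcases h _ (deg_mem h2) with e | e | e
    · exact (hp.not_dvd_one (e ▸ h5)).elim
    · exact (F.not_dvd (e ▸ h5)).elim
    · exact e
  have h2 : ∀ ψ ∈ irr N, charDegree ψ ≠ 1 → ¬ p ∣ charDegree ψ → N.index * charDegree ψ = g :=
    fun ψ h2 h3 h4 => by
      have := deg_pos h2
      rcases h _ ((F.dich h2).resolve_right h4) with e | e | e
      · exact (h3 (Nat.eq_one_of_mul_eq_one_left e)).elim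
      · exact (h3 (Nat.eq_of_mul_eq_mul_left (by omega) (e.trans (mul_one _).symm))).elim
      · exact e
  by_cases hg : p ∣ g
  swap
  · refine der2_sub (m := g / N.index) fun ψ hψ => or_iff_not_imp_left.2 fun e => ?_
    obtain ⟨χ, h3, h4⟩ := exists_irr_over le_top hψ
    rw [← h2 ψ hψ e fun e' => hg (h1 ψ hψ χ h3 h4 e' ▸ e'.trans (deg_dvd hN h3 hψ h4)),
      Nat.mul_div_cancel_left _ (by omega)]
  have h3 : ∀ ψ ∈ irr N, charDegree ψ ≠ 1 → p ∣ charDegree ψ := fun ψ h3 h4 => by_contra fun e =>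
    (hp.dvd_mul.1 (h2 ψ h3 h4 e ▸ hg)).elim F.not_dvd e
  have hD := hN.commutator hN
  have h4 : ∀ χ ∈ irr (⊤ : Subgroup Γ), ¬ ⁅N, N⁆ ≤ cfker χ → charDegree χ = g := fun χ h4 h5 => by
    obtain ⟨ψ, h6, h7⟩ := exists_irr_under (le_top (a := N)) h4
    exact h1 ψ h6 χ h4 h7 (h3 ψ h6 fun e => h5 ((sub_cfker_constt le_top hD.le_normalizer
      (der_le N) h4 h6 h7).1 ((deg_lin_iff h6).1 e)))
  have h5 : ∀ ψ ∈ irr N, charDegree ψ ≠ 1 → ∃ a, ¬ p ∣ a ∧ g = a * charDegree ψ :=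
    fun ψ h5 h6 => by
      obtain ⟨χ, h7, h8⟩ := exists_irr_over le_top h5
      obtain ⟨a, h9, h10⟩ := exists_deg hN h7 h5 h8
      exact ⟨a, fun e => F.not_dvd (by simpa using e.trans h9), h1 ψ h5 χ h7 h8 (h3 ψ h5 h6) ▸ h10⟩
  obtain ⟨h6, h7, h8⟩ := onedeg h4
  have := Fact.mk hp
  have h9 : HasPC p N := berk fun χ h9 h10 => by_contra fun e => h10 (h4 χ h9 e ▸ hg)
  set A := 𝓞({r | r ∣ g}ᶜ, N)
  have hA : N ≤ 𝓝(A) := le_norm_core _ N
  obtain ⟨Q, hQ⟩ := syl_exists hp N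
  have hM : Nrm (A ⊔ Q) N := nrm_of_le_normalizer (sup_le h6.le hQ.le)
    (hQ.norm_of_quo_nil hA ((nilMod_iff hA).1 h8) le_normalizer hA)
  have h10 : ⁅N, N⁆ ≤ A ⊔ Q := le_of_cfker hM (der_le N) fun ψ h10 h11 => (deg_lin_iff h10).1
    (by_contra fun e => not_dvd_relIndex_of_le hp hQ le_sup_right ((h3 ψ h10 e).trans
      (irr_one_dvd_index h10 hM.le ((comm_le_left hM.le_normalizer).trans h11) (irr_deg h10)).1))
  refine eq_bot_of_cfker ((der_le _).trans (der_le N)) fun ψ hψ => ?_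
  by_cases e : charDegree ψ = 1
  · exact (der_le _).trans ((deg_lin_iff hψ).1 e)
  obtain ⟨U, hU, i, rfl⟩ := onedeg_mon h4 ψ hψ
  obtain ⟨a, -, ha⟩ := h5 _ hψ e
  rw [deg_Ind_lin hU] at ha
  have hAU : A ≤ U := h6.pi.le_of_idx' fun r hr hd =>
    hd.trans ((relIndex_dvd_of_nrm (hU.trans hA) hU h6.le).trans (ha ▸ dvd_mul_left _ _))
  set V := 𝓞({p}ᶜ, N)
  have hV : N ≤ 𝓝(V) := le_norm_core _ N
  have hUV : U ⊔ V ≤ N := sup_le hU (core_le _ N)
  obtain ⟨s, hs⟩ := (h9.idx.of_dvd (relIndex_anti (le_sup_right : V ≤ U ⊔ V) N)).exists_pow hp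
    (relIndex_ne_zero' _ _)
  have h11 : ⁅N, N⁆ ≤ U ⊔ V := le_of_perm hUV (hD.mono (der_le N) le_top) fun φ h11 h12 =>
    (deg_lin_iff h11).1 (by_contra fun e' => by
      obtain ⟨b, h13, h14⟩ := h5 φ h11 e'
      refine h12.not_ge (Nat.le_of_dvd (deg_pos h11) (Nat.Coprime.dvd_of_dvd_mul_left
        (hs ▸ ((Nat.Prime.coprime_iff_not_dvd hp).2 h13).pow_left s) (h14 ▸ ha ▸
          (relIndex_anti le_sup_left N).trans (dvd_mul_left _ _)))))
  have h12 : ⁅N, N⁆ ≤ U := relIndex_eq_one.1 (PiNat.eq_one (π := {p})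
    ((hQ.pi.relIndex A).of_dvd ((relIndex_anti hAU _).trans ((relIndex_dvd_of_norm (hM.le.trans hA)
      h10).trans (by rw [sup_comm, relIndex_sup_norm (hQ.le.trans hA)]))))
    (((core_pi {p}ᶜ N).relIndex U).of_dvd ((relIndex_dvd_of_nrm (le_top.trans hD.le_normalizer)
      le_sup_left h11).trans (relIndex_sup_nrm (hU.trans hV)).dvd)))
  exact le_cfker_Ind U ((hD.commutator hD).le_normalizer.trans' le_top)
    ((der_mono h12).trans (der_le_cfker_lin i))

/-- Three degrees: derived length at most three. -/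
theorem der3 (h : ∀ d ∈ cd Γ, d = 1 ∨ d = m ∨ d = n) : derivedSeries Γ 3 = ⊥ := by
  have hs := three_solv _ Γ m n le_rfl h
  by_cases h0 : commutator Γ ≤ ⊥
  · exact eq_bot_iff.2 ((derivedSeries_antitone Γ (by norm_num : 1 ≤ 3)).trans h0)
  obtain ⟨K, -, hK⟩ := exists_maxNA ⊥ h0
  have := hK.nrm
  have other : ∀ f ∈ cd Γ, f ≠ 1 → ∃ g, ∀ d ∈ cd Γ, d = 1 ∨ d = f ∨ d = g := fun f h1 h2 => by
    rcases h f h1 with e | rfl | rfl
    · exact (h2 e).elim
    · exact ⟨n, h⟩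
    · exact ⟨m, fun d hd => by have := h d hd; omega⟩
  rcases hK.dich (hK.solv inferInstance) with ⟨-, p, hp, h1⟩ | ⟨p, N, F⟩
  · have := Fact.mk hp
    have := Fintype.ofFinite (Γ ⧸ K)
    obtain ⟨f, h2, h3⟩ : ∃ f ∈ cd (Γ ⧸ K), f ≠ 1 := by
      by_contra! e
      exact hK.quo.ne (commutator_le.2 fun a _ b _ => mem_bot.2
        (commutatorElement_eq_one_iff_mul_comm.2 (comm_of_cd e a b)))
    obtain ⟨a, rfl⟩ := cd_pow h1 h2
    obtain ⟨g, hg⟩ := other _ (cd_quo K h2) h3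
    obtain ⟨β, h4, h5, h6⟩ := exists_of_mem_quo h2
    have hpa : p ∣ p ^ a := dvd_pow_self p fun e => h3 (by simp [e])
    refine three_p hp hg fun d hd e => by_contra fun e' => ?_
    obtain ⟨χ, h7, rfl⟩ := mem_cd.1 hd
    obtain ⟨k, hk⟩ := IsPGroup.iff_card.1 h1
    have h8 := hg _ (deg_mem (gall_irr (nrm_top K) (irr_char h7) (Res_irr_of_cop (nrm_top K) h7 (by
      rw [relIndex_top_right, index_eq_card, hk]
      exact ((Nat.Prime.coprime_iff_not_dvd hp).2 e').symm.pow_right k)) h4 h5))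
    rw [deg_mul (irr_char h4) (irr_char h7), h6] at h8
    have h9 := deg_pos h7
    rcases h8 with h8 | h8 | h8
    · exact e (Nat.eq_one_of_mul_eq_one_left h8)
    · exact e (Nat.eq_of_mul_eq_mul_left (pow_pos hp.pos a) (h8.trans (mul_one _).symm))
    · rcases hg _ hd with h10 | h10 | h10
      · exact e h10
      · exact e' (h10 ▸ hpa)
      · exact e' (h10 ▸ h8 ▸ hpa.mul_right _)
  · obtain ⟨g, hg⟩ := other _ F.index_mem.1 F.one_lt.ne'
    exact three_frob F hg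

end CA.H10Cd
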