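import Cfsg.Agent.Lib.Char.H10Cd
import Cfsg.Agent.Lib.Char.CharBurn
import Cfsg.Agent.Lib.Char.CharProd
import Cfsg.Agent.Lib.Block.H28Prin
import Cfsg.Agent.S3968

/-!
# More on sets of character degrees
-/

set_option autoImplicit false
set_option linter.unusedSectionVars false
set_option linter.unusedVariables false

namespace CA.H10Cd2
open Cfsg CA.PF CA.OQuo CA.H12Gl CA.H12Gl2 CA.H12Gl4 CA.H12Mon CA.H12Tri CA.H12Deg CA.H12Cd
  CA.H10Cd Subgroup Function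
open CA.BG hiding cj cj_one cj_mul cj_inv_cj cj_cj_inv mem_cent1
open scoped ComplexConjugate commutatorElement

universe u
variable {Γ : Type*} [Group Γ] [Fintype Γ] {G H K L M N U A P Q D : Subgroup Γ}
  {χ β γ θ φ ψ η ξ : Γ → ℂ} {p d m n g : ℕ} {x y : Γ}

theorem dich2 (hs : Group.IsSolvable Γ) (h0 : ¬ commutator Γ ≤ ⊥) :
    (∃ p a : ℕ, p.Prime ∧ a ≠ 0 ∧ ∀ d ∈ cd Γ, ¬ p ∣ d → p ^ a * d ∈ cd Γ) ∨
      ∃ (p : ℕ) (K N : Subgroup Γ), FS p K N := by
  obtain ⟨K, -, hK⟩ := exists_maxNA ⊥ h0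
  have := hK.nrm
  rcases hK.dich (hK.solv inferInstance) with ⟨-, p, hp, h1⟩ | ⟨p, N, F⟩
  · have := Fact.mk hp
    have := Fintype.ofFinite (Γ ⧸ K)
    obtain ⟨f, h2, h3⟩ : ∃ f ∈ cd (Γ ⧸ K), f ≠ 1 := by
      by_contra! e
      exact hK.quo.ne (commutator_le.2 fun a _ b _ => mem_bot.2
        (commutatorElement_eq_one_iff_mul_comm.2 (comm_of_cd e a b)))
    obtain ⟨a, rfl⟩ := cd_pow h1 h2
    obtain ⟨β, h4, h5, h6⟩ := exists_of_mem_quo h2
    refine Or.inl ⟨p, a, hp, fun e => h3 (by simp [e]), fun d hd e => ?_⟩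
    obtain ⟨χ, h7, rfl⟩ := mem_cd.1 hd
    obtain ⟨k, hk⟩ := IsPGroup.iff_card.1 h1
    have h8 := deg_mem (gall_irr (nrm_top K) (irr_char h7) (Res_irr_of_cop (nrm_top K) h7 (by
      rw [relIndex_top_right, index_eq_card, hk]
      exact ((Nat.Prime.coprime_iff_not_dvd hp).2 e).symm.pow_right k)) h4 h5)
    rwa [deg_mul (irr_char h4) (irr_char h7), h6] at h8
  · exact Or.inr ⟨p, K, N, F⟩

theorem fs_split (F : FS p K N) (hd : d ∈ cd Γ) :
    ∃ a e, a ∣ N.index ∧ d = a * e ∧ (N.index * e ∈ cd Γ ∨ p ∣ e) := by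
  obtain ⟨χ, h, rfl⟩ := mem_cd.1 hd
  obtain ⟨ψ, h1, h2⟩ := exists_irr_under (le_top (a := N)) h
  obtain ⟨a, h3, h4⟩ := exists_deg F.nN h h1 h2
  exact ⟨a, _, by simpa using h3, h4, F.dich h1⟩

theorem cd_sub_dvd [N.Normal] (hd : d ∈ cd N) : ∃ e ∈ cd Γ, d ∣ e := by
  obtain ⟨θ, h, rfl⟩ := mem_cd_sub.1 hd
  obtain ⟨χ, h1, h2⟩ := exists_deg_dvd (nrm_top N) h
  exact ⟨_, deg_mem h1, h2⟩

open CChar.CharFun CChar.CharKer CChar.CharProd in
theorem two_notMem {X : Type*} [Group X] [Finite X] [IsSimpleGroup X] : 2 ∉ cd X := fun h => by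
  have := Fintype.ofFinite X
  obtain ⟨χ, h1⟩ := mem_cd'.1 h
  have h2 := CChar.CharInt.irr_apply_one_eq χ.2
  have h3 : commutator X ≠ ⊥ := fun e => by
    rw [(irr_apply_one_iff χ.2).2 (e.le.trans bot_le), h1] at h2
    norm_num at h2
  have h4 := (IsSimpleGroup.eq_bot_or_eq_top_of_normal _ inferInstance).resolve_left h3
  have h5 := (IsSimpleGroup.eq_bot_or_eq_top_of_normal (center X) inferInstance).resolve_right
    fun e => h3 ((commutator_eq_bot_iff_center_eq_top X).2 e)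
  obtain ⟨t, ht⟩ := exists_prime_orderOf_dvd_card' 2 (cd_dvd h)
  have h6 := char_alt (char_of_irr χ.2)
  have h7 : (χ.1 1 * χ.1 1 - χ.1 (1 * 1)) / 2 = 1 := by rw [mul_one, h2, h1]; norm_num
  have h8 := congrFun (irr_eq_one_of_perfect h4 (irr_of_char_of_apply_one h6 h7) h7) t
  rw [← sq t, ← ht, pow_orderOf_eq_one, h2, h1] at h8
  have h9 : χ.1 t ^ 2 = χ.1 1 ^ 2 := by rw [h2, h1]; linear_combination 2 * h8
  have := (mem_charCenter (char_of_irr χ.2) (g := t)).2 ((pow_left_inj₀ (norm_nonneg _) (norm_nonneg _)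
    two_ne_zero).1 (by rw [← norm_pow, h9, norm_pow]))
  rw [charCenter_eq_center χ.2 (charKer_eq_bot_of_simple χ.2 fun e => by
    rw [h1, e] at h2; norm_num at h2), h5, mem_bot] at this
  simp [this] at ht

open CChar.CharFun CChar.CharKer CA.H28Syl CA.H28Prin in
theorem prime_solv {X : Type u} [Group X] [Finite X] (h : ∀ d ∈ cd X, d = 1 ∨ d.Prime) :
    Group.IsSolvable X := by
  refine CChar.CharBurn.isSolvable_of_forall_simple
    (P := fun X _ => ∀ [Finite X], ∀ d ∈ cd X, d = 1 ∨ d.Prime) ?_ ?_ ?_ X h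
  · intro X _ _ N _ h _ d hd
    have := Fintype.ofFinite X
    obtain ⟨e, h1, h2⟩ := cd_sub_dvd hd
    rcases h e h1 with rfl | h3
    · exact Or.inl (Nat.dvd_one.1 h2)
    · exact ((Nat.dvd_prime h3).1 h2).imp_right fun i : d = e => i ▸ h3
  · intro X _ _ N _ h _ d hd
    have := Fintype.ofFinite X
    exact h d (cd_quo N hd)
  intro X _ _ _ h
  have := Fintype.ofFinite X
  obtain ⟨p, h1, h2⟩ := (cd X).exists_max_image id ⟨1, one_mem_cd⟩
  rcases h p h1 with rfl | hp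
  · exact Group.isSolvable_of_comm (comm_of_cd fun d hd => le_antisymm (h2 d hd) (cd_pos hd))
  have := Fact.mk hp
  by_contra hs
  have h3 : commutator X ≠ ⊥ := fun e => hs ⟨⟨1, e⟩⟩
  have h4 := (IsSimpleGroup.eq_bot_or_eq_top_of_normal _ inferInstance).resolve_left h3
  have h5 := (IsSimpleGroup.eq_bot_or_eq_top_of_normal (center X) inferInstance).resolve_right
    fun e => h3 ((commutator_eq_bot_iff_center_eq_top X).2 e)
  have one : ∀ χ : IrrCharacter X, charDegree χ.1 = 1 → χ = CChar.CharOrth.irrOne X := fun χ e =>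
    Subtype.ext (irr_eq_one_of_perfect h4 χ.2 (by simp [CChar.CharInt.irr_apply_one_eq χ.2, e]))
  obtain ⟨χ, h6⟩ := mem_cd'.1 h1
  have h7 := CChar.CharInt.irr_apply_one_eq χ.2
  obtain ⟨x, hx⟩ := exists_isSylGen (cd_dvd h1) fun e => Cfsg.Agent.S3968.result p hp χ (h6 ▸ h7)
    (fun g hg => mem_bot.1 (charKer_eq_bot_of_simple χ.2 (fun e => by
      rw [h6, e] at h7; exact hp.one_lt.ne' (by simpa using h7.symm)) ▸
        (mem_charKer (char_of_irr χ.2)).2 hg)) e h5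
  obtain ⟨d⟩ := exists_P1 hx
  by_cases h8 : ∃ ψ ∈ d.X, ψ ≠ CChar.CharOrth.irrOne X
  · obtain ⟨ψ, h8, h9⟩ := h8
    obtain ⟨s, hs⟩ := d.degX ψ h8
    have a : charDegree ψ.1 ∈ cd X := mem_cd'.2 ⟨ψ, rfl⟩
    have b := (h _ a).resolve_left (mt (one ψ) h9)
    have c : charDegree ψ.1 ≤ p := h2 _ a
    have e := b.two_le
    have f : charDegree ψ.1 + 1 = p := by
      rcases d.hε ψ h8 with i | i <;> rw [i] at hs <;> rcases s with _ | _ | s <;>
        push_cast at hs <;> nlinarith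
    rcases b.eq_two_or_odd' with i | i
    · exact two_notMem (i ▸ a)
    · exact absurd (hp.even_iff.1 (f ▸ i.add_one)) (by omega)
  · obtain ⟨ψ, h9⟩ := d.Y_nonempty
    have a := d.deg_rel h9
    rw [Finset.sum_eq_single_of_mem _ d.one_mem fun b hb e => (h8 ⟨b, hb, e⟩).elim, d.ε_one,
      CChar.CharInt.charDegree_eq (χ := (CChar.CharOrth.irrOne X).1) (n := 1) Nat.cast_one.symm] at a
    refine Finset.disjoint_left.1 d.disj d.one_mem (one ψ ?_ ▸ h9)
    rcases d.hδ with e | e <;> rw [e] at a <;> omega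

end CA.H10Cd2
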