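import Mathlib

/-! Antisymmetric polynomials, power sums and the Wick orthogonality relations. -/

set_option autoImplicit false
set_option linter.unusedSectionVars false

namespace CA.H10Fock1
open MvPolynomial Equiv

abbrev Poly (N : ℕ) := MvPolynomial (Fin N) ℂ

variable {N : ℕ}

/-- sign as a complex number -/
noncomputable def sg (π : Perm (Fin N)) : ℂ := ((Perm.sign π : ℤ) : ℂ)

lemma sg_mul (π σ : Perm (Fin N)) : sg (π * σ) = sg π * sg σ := by simp [sg]
lemma sg_inv (π : Perm (Fin N)) : sg π⁻¹ = sg π := by simp [sg]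
lemma sg_sq (π : Perm (Fin N)) : sg π * sg π = 1 := by
  rw [← sg_inv π, ← sg_inv π⁻¹, inv_inv, ← sg_mul]; simp [sg]
lemma sg_swap {i j : Fin N} (h : i ≠ j) : sg (swap i j) = -1 := by simp [sg, Perm.sign_swap h]
lemma sg_ne_zero (π : Perm (Fin N)) : sg π ≠ 0 := fun h => by simpa [h] using sg_sq π

noncomputable def ps (r : ℕ) : Poly N := psum (Fin N) ℂ r
noncomputable def pm (ρ : Multiset ℕ) : Poly N := (ρ.map ps).prod

lemma pm_zero : (pm 0 : Poly N) = 1 := by simp [pm]
lemma pm_cons (r : ℕ) (ρ : Multiset ℕ) : (pm (r ::ₘ ρ) : Poly N) = ps r * pm ρ := by simp [pm]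
lemma pm_add (ρ σ : Multiset ℕ) : (pm (ρ + σ) : Poly N) = pm ρ * pm σ := by simp [pm]

lemma ps_eq (r : ℕ) : (ps r : Poly N) = ∑ i, monomial (Finsupp.single i r) 1 := by
  simp [ps, psum, X_pow_eq_monomial]

lemma rename_ps (π : Perm (Fin N)) (r : ℕ) : rename π (ps r : Poly N) = ps r := rename_psum _ _ r π

def Antisym (G : Poly N) : Prop := ∀ π : Perm (Fin N), rename π G = sg π • G

lemma md_apply (π : Perm (Fin N)) (β : Fin N →₀ ℕ) (i : Fin N) :
    β.mapDomain π i = β (π⁻¹ i) := by
  have := Finsupp.mapDomain_apply π.injective β (π⁻¹ i)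
  simpa using this

lemma md_md (π : Perm (Fin N)) (β : Fin N →₀ ℕ) : (β.mapDomain ⇑(π⁻¹)).mapDomain π = β := by
  ext i; simp [md_apply]

lemma coeff_rename (π : Perm (Fin N)) (β : Fin N →₀ ℕ) (G : Poly N) :
    coeff β (rename π G) = coeff (β.mapDomain ⇑(π⁻¹)) G := by
  conv_lhs => rw [← md_md π β]
  exact coeff_rename_mapDomain _ π.injective _ _

lemma Antisym.coeff_md {G : Poly N} (h : Antisym G) (π : Perm (Fin N)) (β : Fin N →₀ ℕ) :
    coeff (β.mapDomain π) G = sg π * coeff β G := by
  have := coeff_rename π⁻¹ β G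
  rw [h, inv_inv, coeff_smul, sg_inv] at this
  rw [← this, smul_eq_mul]

lemma Antisym.coeff_eq_zero {G : Poly N} (h : Antisym G) {β : Fin N →₀ ℕ} {i j : Fin N}
    (hij : i ≠ j) (he : β i = β j) : coeff β G = 0 := by
  have h1 := h.coeff_md (swap i j) β
  have h2 : β.mapDomain (swap i j) = β := by
    ext k; rw [md_apply, swap_inv]
    by_cases hk : k = i
    · subst hk; simp [he]
    by_cases hk' : k = j
    · subst hk'; simp [he]
    rw [swap_apply_of_ne_of_ne hk hk']
  rw [h2, sg_swap hij] at h1
  linear_combination h1 / 2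

lemma Antisym.inj {G : Poly N} (h : Antisym G) {β : Fin N →₀ ℕ} (hβ : coeff β G ≠ 0) :
    Function.Injective β := fun i j he => by
  by_contra hij; exact hβ (h.coeff_eq_zero hij he)

lemma Antisym.eq_zero {G : Poly N} (h : Antisym G)
    (h0 : ∀ β : Fin N →₀ ℕ, Function.Injective β → coeff β G = 0) : G = 0 := by
  ext β; by_contra hb; exact hb (h0 β (h.inj hb))

lemma Antisym.ps_mul {G : Poly N} (h : Antisym G) (r : ℕ) : Antisym (ps r * G) := fun π => by
  rw [map_mul, rename_ps, h, mul_smul_comm]

lemma Antisym.pm_mul {G : Poly N} (h : Antisym G) (ρ : Multiset ℕ) : Antisym (pm ρ * G) := by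
  induction ρ using Multiset.induction_on with
  | empty => simpa [pm_zero] using h
  | cons r ρ ih => rw [pm_cons, mul_assoc]; exact ih.ps_mul r

lemma Antisym.add {G H : Poly N} (h : Antisym G) (h' : Antisym H) : Antisym (G + H) := fun π => by
  rw [map_add, h, h', smul_add]
lemma Antisym.smul {G : Poly N} (h : Antisym G) (c : ℂ) : Antisym (c • G) := fun π => by
  rw [map_smul, h, smul_comm]
lemma Antisym.sub {G H : Poly N} (h : Antisym G) (h' : Antisym H) : Antisym (G - H) := fun π => by
  rw [map_sub, h, h', smul_sub]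
lemma Antisym.zero : Antisym (0 : Poly N) := fun π => by simp
lemma Antisym.sum {ι : Type*} (s : Finset ι) (f : ι → Poly N) (h : ∀ i ∈ s, Antisym (f i)) :
    Antisym (∑ i ∈ s, f i) := fun π => by
  rw [map_sum, Finset.smul_sum]; exact Finset.sum_congr rfl fun i hi => h i hi π

noncomputable def Alt (F : Poly N) : Poly N := ∑ π : Perm (Fin N), sg π • rename π F

lemma antisym_Alt (F : Poly N) : Antisym (Alt F) := fun σ => by
  unfold Alt
  rw [map_sum, Finset.smul_sum, ← Equiv.sum_comp (Equiv.mulLeft σ)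
    (fun π : Perm (Fin N) => sg σ • sg π • rename π F)]
  refine Finset.sum_congr rfl fun π _ => ?_
  rw [map_smul, rename_rename, Equiv.coe_mulLeft, sg_mul, smul_smul, ← mul_assoc, sg_sq, one_mul]
  rfl

lemma coeff_ps_mul (r : ℕ) (G : Poly N) (β : Fin N →₀ ℕ) :
    coeff β (ps r * G) = ∑ i, if r ≤ β i then coeff (β - Finsupp.single i r) G else 0 := by
  rw [ps_eq, Finset.sum_mul, coeff_sum]
  refine Finset.sum_congr rfl fun i _ => ?_
  rw [coeff_monomial_mul']; simp [Finsupp.single_le_iff]

noncomputable def D (r : ℕ) : Poly N →ₗ[ℂ] Poly N where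
  toFun G := ∑ i, divMonomial G (Finsupp.single i r)
  map_add' G H := by simp [add_divMonomial, Finset.sum_add_distrib]
  map_smul' c G := by
    ext β; simp [coeff_sum, coeff_divMonomial, Finset.mul_sum]

lemma coeff_D (r : ℕ) (G : Poly N) (β : Fin N →₀ ℕ) :
    coeff β (D r G) = ∑ i, coeff (Finsupp.single i r + β) G := by
  simp [D, coeff_sum, coeff_divMonomial]

lemma rename_D (π : Perm (Fin N)) (r : ℕ) (G : Poly N) : rename π (D r G) = D r (rename π G) := by
  ext β
  rw [coeff_rename, coeff_D, coeff_D, ← Equiv.sum_comp π⁻¹]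
  refine Finset.sum_congr rfl fun i _ => ?_
  rw [coeff_rename, Finsupp.mapDomain_add, Finsupp.mapDomain_single]

lemma Antisym.D {G : Poly N} (h : Antisym G) (r : ℕ) : Antisym (D r G) := fun π => by
  rw [rename_D, h, map_smul]

noncomputable def pr : Poly N →ₗ[ℂ] Poly N →ₗ[ℂ] ℂ :=
  (basisMonomials (Fin N) ℂ).constr ℂ (fun β => lcoeff ℂ β)

lemma pr_monomial (β : Fin N →₀ ℕ) (a : ℂ) (G : Poly N) : pr (monomial β a) G = a * coeff β G := by
  have : monomial β a = a • (basisMonomials (Fin N) ℂ) β := by simp [smul_monomial]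
  rw [this, map_smul, pr, Module.Basis.constr_basis]; simp [lcoeff]

lemma pr_eq_sum (F G : Poly N) : pr F G = ∑ β ∈ F.support, coeff β F * coeff β G := by
  conv_lhs => rw [F.as_sum]
  rw [map_sum, LinearMap.sum_apply]; simp [pr_monomial]

lemma pr_comm (F G : Poly N) : pr F G = pr G F := by
  induction F using MvPolynomial.induction_on' with
  | add p q hp hq => simp [hp, hq]
  | monomial u a =>
    induction G using MvPolynomial.induction_on' with
    | add p q hp hq => simp [hp, hq]
    | monomial v b =>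
      rw [pr_monomial, pr_monomial, coeff_monomial, coeff_monomial]
      by_cases h : u = v
      · simp [h, mul_comm]
      · simp [h, Ne.symm h]

lemma pr_ps_mul (r : ℕ) (F G : Poly N) : pr (ps r * F) G = pr F (D r G) := by
  induction F using MvPolynomial.induction_on' with
  | add p q hp hq => simp [mul_add, hp, hq]
  | monomial u a =>
    rw [ps_eq, Finset.sum_mul, map_sum, LinearMap.sum_apply, pr_monomial, coeff_D, Finset.mul_sum]
    refine Finset.sum_congr rfl fun i _ => ?_
    rw [monomial_mul, pr_monomial, one_mul]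

lemma pr_rename (π : Perm (Fin N)) (F : Poly N) {G : Poly N} (h : Antisym G) :
    pr (rename π F) G = sg π * pr F G := by
  induction F using MvPolynomial.induction_on' with
  | add p q hp hq => simp [mul_add, hp, hq]
  | monomial u a => rw [rename_monomial, pr_monomial, pr_monomial, h.coeff_md]; ring

lemma pr_Alt (F : Poly N) {G : Poly N} (h : Antisym G) :
    pr (Alt F) G = (N.factorial : ℂ) * pr F G := by
  unfold Alt
  rw [map_sum, LinearMap.sum_apply]
  have : ∀ π : Perm (Fin N), pr (sg π • rename π F) G = pr F G := fun π => by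
    rw [map_smul, LinearMap.smul_apply, pr_rename π F h, smul_eq_mul, ← mul_assoc, sg_sq, one_mul]
  simp only [this]
  simp [Fintype.card_perm]

noncomputable def dl (N : ℕ) : Fin N →₀ ℕ := Finsupp.equivFunOnFinite.symm (fun i => (i : ℕ))
lemma dl_apply (i : Fin N) : dl N i = i := by simp [dl]

noncomputable def vd (N : ℕ) : Poly N := Alt (monomial (dl N) 1)
lemma antisym_vd : Antisym (vd N) := antisym_Alt _

lemma Alt_monomial (β : Fin N →₀ ℕ) :
    Alt (monomial β 1) = ∑ π : Perm (Fin N), sg π • monomial (β.mapDomain π) (1 : ℂ) := by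
  simp [Alt, rename_monomial]

lemma coeff_Alt_ne {β γ : Fin N →₀ ℕ} (h : coeff γ (Alt (monomial β 1)) ≠ 0) :
    ∃ π : Perm (Fin N), γ = β.mapDomain π := by
  rw [Alt_monomial, coeff_sum] at h
  obtain ⟨π, -, hπ⟩ := Finset.exists_ne_zero_of_sum_ne_zero h
  refine ⟨π, ?_⟩
  by_contra hne
  rw [coeff_smul, coeff_monomial, if_neg (Ne.symm hne), smul_zero] at hπ
  exact hπ rfl

lemma md_inj {β : Fin N →₀ ℕ} (hβ : Function.Injective β) {π σ : Perm (Fin N)}
    (h : β.mapDomain π = β.mapDomain σ) : π = σ := by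
  rw [← inv_inj]; ext i
  have := congrArg (fun γ : Fin N →₀ ℕ => γ i) h
  simp only [md_apply] at this
  rw [hβ this]

lemma coeff_Alt_self {β : Fin N →₀ ℕ} (hβ : Function.Injective β) :
    coeff β (Alt (monomial β 1)) = 1 := by
  rw [Alt_monomial, coeff_sum, Finset.sum_eq_single 1]
  · simp [sg]
  · intro π _ hπ
    rw [coeff_smul, coeff_monomial, if_neg, smul_zero]
    intro h
    exact hπ (md_inj hβ (by simpa using h))
  · simp

lemma dl_inj : Function.Injective (dl N) := fun i j h => by
  rw [dl_apply, dl_apply] at h; exact Fin.ext h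

def Full (m : ℕ) (G : Poly N) : Prop := ∀ β, coeff β G ≠ 0 → ∀ v < m, ∃ i, β i = v

lemma Full.mono {m m' : ℕ} {G : Poly N} (h : Full m G) (hm : m' ≤ m) : Full m' G :=
  fun β hβ v hv => h β hβ v (lt_of_lt_of_le hv hm)

lemma full_vd : Full N (vd N) := fun β hβ v hv => by
  obtain ⟨π, rfl⟩ := coeff_Alt_ne hβ
  exact ⟨π ⟨v, hv⟩, by simp [md_apply, dl_apply]⟩

lemma Full.ps_mul {m r : ℕ} {G : Poly N} (ha : Antisym G) (h : Full (m + r) G) :
    Full m (ps r * G) := fun β hβ v hv => by
  have hinj := (ha.ps_mul r).inj hβ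
  rw [coeff_ps_mul] at hβ
  obtain ⟨i, -, hi⟩ := Finset.exists_ne_zero_of_sum_ne_zero hβ
  have hr : r ≤ β i := by by_contra hc; simp [hc] at hi
  rw [if_pos hr] at hi
  obtain ⟨j, hj⟩ := h _ hi v (by omega)
  by_cases hji : j = i
  · subst hji
    obtain ⟨k, hk⟩ := h _ hi (v + r) (by omega)
    simp only [Finsupp.coe_tsub, Pi.sub_apply, Finsupp.single_eq_same] at hj
    by_cases hkj : k = j
    · subst hkj
      simp only [Finsupp.coe_tsub, Pi.sub_apply, Finsupp.single_eq_same] at hk
      exact ⟨k, by omega⟩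
    · simp only [Finsupp.coe_tsub, Pi.sub_apply, Finsupp.single_eq_of_ne hkj] at hk
      exact absurd (hinj (show β k = β j by omega)) hkj
  · simp only [Finsupp.coe_tsub, Pi.sub_apply, Finsupp.single_eq_of_ne hji] at hj
    exact ⟨j, by omega⟩

lemma full_pm (ρ : Multiset ℕ) (m : ℕ) (h : m + ρ.sum ≤ N) : Full m (pm ρ * vd N) := by
  induction ρ using Multiset.induction_on generalizing m with
  | empty => rw [pm_zero, one_mul]; exact full_vd.mono (by simpa using h)
  | cons r ρ ih =>
    rw [pm_cons, mul_assoc]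
    exact Full.ps_mul (antisym_vd.pm_mul ρ) (ih _ (by simp at h; omega))

lemma D_vd {r : ℕ} (hr : 0 < r) : D r (vd N) = 0 := by
  refine (antisym_vd.D r).eq_zero fun β hβ => ?_
  rw [coeff_D]
  refine Finset.sum_eq_zero fun i _ => ?_
  by_contra hne
  obtain ⟨π, hπ⟩ := coeff_Alt_ne hne
  have h1 : r + β i < N := by
    have := congrArg (fun γ : Fin N →₀ ℕ => γ i) hπ
    simp only [md_apply, dl_apply, Finsupp.add_apply, Finsupp.single_eq_same] at this
    rw [this]; exact Fin.is_lt _
  obtain ⟨j, hj⟩ := full_vd _ hne (β i) (by omega)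
  by_cases hji : j = i
  · subst hji; simp at hj; omega
  · rw [Finsupp.add_apply, Finsupp.single_eq_of_ne hji, zero_add] at hj
    exact hji (hβ hj)

lemma card_lt_of_full {β : Fin N →₀ ℕ} (hβ : Function.Injective β) {r : ℕ}
    (h : ∀ v < r, ∃ i, β i = v) : (Finset.univ.filter fun i => β i < r).card = r := by
  conv_rhs => rw [← Finset.card_range r]
  refine Finset.card_bij (fun i _ => β i) ?_ ?_ ?_
  · intro i hi; simpa using hi
  · intro i _ j _ hij; exact hβ hij
  · intro v hv
    obtain ⟨i, hi⟩ := h v (by simpa using hv)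
    exact ⟨i, by simpa [hi] using hv, hi⟩

lemma D_ps_mul {r s : ℕ} {G : Poly N} (ha : Antisym G) (hf : Full s G) :
    D r (ps s * G) = ps s * D r G + if r = s then (r : ℂ) • G else 0 := by
  rw [← sub_eq_zero]
  have hA : Antisym (if r = s then (r : ℂ) • G else 0) := by
    split_ifs
    · exact ha.smul _
    · exact Antisym.zero
  refine (((ha.ps_mul s).D r).sub (((ha.D r).ps_mul s).add hA)).eq_zero fun β hβ => ?_
  rw [coeff_sub, coeff_add, coeff_D, coeff_ps_mul]
  simp only [coeff_ps_mul, coeff_D]
  have key : ∀ i j : Fin N,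
      (if s ≤ (Finsupp.single i r + β : Fin N →₀ ℕ) j then
        coeff (Finsupp.single i r + β - Finsupp.single j s) G else 0) =
      (if s ≤ β j then coeff (Finsupp.single i r + (β - Finsupp.single j s)) G else 0) +
        if j = i then (if r = s ∧ β i < r then coeff β G else 0) else 0 := by
    intro i j
    by_cases hs : s ≤ β j
    · have e : Finsupp.single i r + β - Finsupp.single j s =
          Finsupp.single i r + (β - Finsupp.single j s) := by
        rw [add_tsub_assoc_of_le]; simpa [Finsupp.single_le_iff] using hs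
      rw [if_pos (by simp; omega), if_pos hs, e]
      by_cases hji : j = i
      · subst hji; rw [if_pos rfl, if_neg (by omega), add_zero]
      · rw [if_neg hji, add_zero]
    · rw [if_neg hs, zero_add]
      by_cases hji : j = i
      · subst hji
        rw [if_pos rfl]
        by_cases hrs : r = s
        · subst hrs
          rw [if_pos (by simp), if_pos ⟨rfl, by omega⟩, add_tsub_cancel_left]
        · rw [if_neg (fun h : r = s ∧ β j < r => hrs h.1)]
          split_ifs with h1
          · by_contra hne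
            obtain ⟨k, hk⟩ := hf _ hne (β j) (by omega)
            simp only [Finsupp.add_apply, Finsupp.single_eq_same] at h1
            by_cases hkj : k = j
            · subst hkj
              simp only [Finsupp.coe_tsub, Pi.sub_apply, Finsupp.add_apply,
                Finsupp.single_eq_same] at hk
              omega
            · simp only [Finsupp.coe_tsub, Pi.sub_apply, Finsupp.add_apply,
                Finsupp.single_eq_of_ne hkj] at hk
              exact hkj (hβ (show β k = β j by omega))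
          · rfl
      · rw [if_neg hji, if_neg]
        rw [Finsupp.add_apply, Finsupp.single_eq_of_ne hji, zero_add]; exact hs
  simp only [key, Finset.sum_add_distrib, Finset.sum_ite_eq', Finset.mem_univ, if_true]
  rw [Finset.sum_comm]
  have e2 : ∀ j : Fin N, (∑ i : Fin N, if s ≤ β j then
      coeff (Finsupp.single i r + (β - Finsupp.single j s)) G else 0) =
      if s ≤ β j then ∑ i : Fin N, coeff (Finsupp.single i r + (β - Finsupp.single j s)) G
        else 0 := by
    intro j; split_ifs <;> simp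
  simp only [e2]
  rw [add_sub_add_left_eq_sub, sub_eq_zero]
  by_cases hrs : r = s
  · subst hrs
    simp only [true_and, if_true, coeff_smul, smul_eq_mul]
    by_cases h0 : coeff β G = 0
    · simp [h0]
    rw [← Finset.sum_filter, Finset.sum_const, card_lt_of_full hβ (hf β h0), nsmul_eq_mul]
  · simp [hrs]

lemma wick {r : ℕ} (hr : 0 < r) (ρ : Multiset ℕ) (h : ρ.sum ≤ N) :
    D r (pm ρ * vd N) = ((r * ρ.count r : ℕ) : ℂ) • (pm (ρ.erase r) * vd N) := by
  induction ρ using Multiset.induction_on with
  | empty => simp [pm_zero, D_vd hr]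
  | cons s ρ ih =>
    rw [Multiset.sum_cons] at h
    rw [pm_cons, mul_assoc, D_ps_mul (antisym_vd.pm_mul ρ) (full_pm ρ s h), ih (by omega)]
    by_cases hrs : r = s
    · subst hrs
      rw [if_pos rfl, Multiset.erase_cons_head, Multiset.count_cons_self, mul_smul_comm]
      by_cases hm : r ∈ ρ
      · rw [← mul_assoc, ← pm_cons, Multiset.cons_erase hm, ← add_smul]; push_cast; ring_nf
      · simp [Multiset.count_eq_zero_of_notMem hm]
    · rw [if_neg hrs, add_zero, Multiset.count_cons_of_ne hrs,
        Multiset.erase_cons_tail _ (Ne.symm hrs), pm_cons, mul_smul_comm, mul_assoc]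

def zz (ρ : Multiset ℕ) : ℕ := ρ.prod * ∏ k ∈ ρ.toFinset, (ρ.count k).factorial

lemma zz_cons (r : ℕ) (ρ : Multiset ℕ) : zz (r ::ₘ ρ) = r * (ρ.count r + 1) * zz ρ := by
  unfold zz
  have e1 : ∏ k ∈ ρ.toFinset, (ρ.count k).factorial =
      ∏ k ∈ insert r ρ.toFinset, (ρ.count k).factorial := by
    by_cases hm : r ∈ ρ.toFinset
    · rw [Finset.insert_eq_of_mem hm]
    · rw [Finset.prod_insert hm, Multiset.count_eq_zero_of_notMem (by simpa using hm)]; simp
  rw [e1, Multiset.prod_cons, Multiset.toFinset_cons,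
    ← Finset.mul_prod_erase _ _ (Finset.mem_insert_self r _),
    ← Finset.mul_prod_erase _ _ (Finset.mem_insert_self r ρ.toFinset), Multiset.count_cons_self,
    Nat.factorial_succ]
  have : ∏ k ∈ (insert r ρ.toFinset).erase r, ((r ::ₘ ρ).count k).factorial =
      ∏ k ∈ (insert r ρ.toFinset).erase r, (ρ.count k).factorial :=
    Finset.prod_congr rfl fun k hk => by
      rw [Multiset.count_cons_of_ne (Finset.ne_of_mem_erase hk)]
  rw [this]; ring

lemma pr_vd_vd : pr (vd N) (vd N) = N.factorial := by
  conv_lhs => rw [vd]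
  rw [pr_Alt _ (antisym_Alt _), pr_monomial, coeff_Alt_self dl_inj]; simp

lemma sum_erase_le (σ : Multiset ℕ) (r : ℕ) : (σ.erase r).sum ≤ σ.sum := by
  by_cases hm : r ∈ σ
  · conv_rhs => rw [← Multiset.cons_erase hm, Multiset.sum_cons]
    omega
  · rw [Multiset.erase_of_notMem hm]

lemma orth (ρ σ : Multiset ℕ) (hρ : ∀ r ∈ ρ, 0 < r) (hσ : ∀ r ∈ σ, 0 < r) (h : σ.sum ≤ N) :
    pr (pm ρ * vd N) (pm σ * vd N) = if ρ = σ then (N.factorial : ℂ) * zz ρ else 0 := by
  induction ρ using Multiset.induction_on generalizing σ with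
  | empty =>
    rw [pm_zero, one_mul]
    induction σ using Multiset.induction_on with
    | empty => simp [pm_zero, pr_vd_vd, zz]
    | cons s σ _ =>
      rw [pr_comm, pm_cons, mul_assoc, pr_ps_mul, D_vd (hσ s (by simp)), map_zero,
        if_neg (Multiset.zero_ne_cons)]
  | cons r ρ ih =>
    rw [pm_cons, mul_assoc, pr_ps_mul, wick (hρ r (by simp)) σ h, map_smul,
      ih (σ.erase r) (fun a ha => hρ a (by simp [ha]))
        (fun a ha => hσ a (Multiset.mem_of_mem_erase ha))
        (le_trans (sum_erase_le _ _) h)]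
    by_cases hm : r ∈ σ
    · by_cases he : ρ = σ.erase r
      · have : r ::ₘ ρ = σ := by rw [he, Multiset.cons_erase hm]
        rw [if_pos he, if_pos this, zz_cons, ← this, Multiset.count_cons_self]
        push_cast; simp only [smul_eq_mul]; ring
      · rw [if_neg he, if_neg, smul_zero]
        rintro rfl; exact he (by simp)
    · rw [Multiset.count_eq_zero_of_notMem hm, if_neg (show ¬ r ::ₘ ρ = σ by
        rintro rfl; exact hm (by simp))]
      simp

end CA.H10Fock1
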