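import Cfsg.Agent.Lib.Char.H10Fock1
import Cfsg.Agent.Lib.Char.CharGen

/-! The Frobenius formula: irreducible characters of symmetric groups as coefficients. -/

set_option autoImplicit false
set_option linter.unusedSectionVars false

namespace CA.H10Fock2
open MvPolynomial Equiv CA.H10Fock1 Cfsg CChar.CharFun CChar.CharOrth CChar.CharGen

variable {N n : ℕ}

noncomputable def pp (N : ℕ) (g : Perm (Fin n)) : Poly N := pm g.partition.parts

lemma fiber_sum {α Ω : Type*} [Fintype α] [Fintype Ω] [DecidableEq Ω] (φ : α → Ω) :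
    ∑ f : Ω → Fin N, ∏ a, (X (f (φ a)) : Poly N) =
      ∏ o, ps (Finset.univ.filter fun a => φ a = o).card := by
  simp only [ps, psum]
  rw [Finset.prod_univ_sum, Fintype.piFinset_univ]
  refine Finset.sum_congr rfl fun f _ => ?_
  rw [← Finset.prod_fiberwise Finset.univ φ]
  refine Finset.prod_congr rfl fun o _ => ?_
  rw [← Finset.prod_const]
  refine Finset.prod_congr rfl fun a ha => ?_
  rw [(Finset.mem_filter.1 ha).2]

noncomputable def orb (g : Perm (Fin n)) (a : Fin n) : g.cycleFactorsFinset ⊕ {a // g a = a} :=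
  if h : g a = a then Sum.inr ⟨a, h⟩ else
    Sum.inl ⟨g.cycleOf a, Perm.cycleOf_mem_cycleFactorsFinset_iff.2 (Perm.mem_support.2 h)⟩

lemma orb_eq_inl (g : Perm (Fin n)) (a : Fin n) (c : g.cycleFactorsFinset) :
    orb g a = Sum.inl c ↔ a ∈ (c : Perm (Fin n)).support := by
  unfold orb
  constructor
  · intro h
    split_ifs at h with h1
    · have := Sum.inl.inj h
      rw [← this, Perm.mem_support_cycleOf_iff]
      exact ⟨Perm.SameCycle.refl _ _, Perm.mem_support.2 h1⟩
  · intro h
    have h1 : ¬ g a = a := Perm.mem_support.1 (Perm.mem_cycleFactorsFinset_support_le c.2 h)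
    rw [dif_neg h1]
    congr 1
    exact Subtype.ext (Perm.cycle_is_cycleOf h c.2).symm

lemma orb_eq_inr (g : Perm (Fin n)) (a : Fin n) (b : {a // g a = a}) :
    orb g a = Sum.inr b ↔ a = b := by
  unfold orb
  constructor
  · intro h
    split_ifs at h with h1
    · exact congrArg Subtype.val (Sum.inr.inj h)
  · rintro rfl; rw [dif_pos b.2]

lemma orb_surj (g : Perm (Fin n)) : Function.Surjective (orb g) := by
  rintro (c | b)
  · obtain ⟨a, ha⟩ := (Perm.mem_cycleFactorsFinset_iff.1 c.2).1.nonempty_support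
    exact ⟨a, (orb_eq_inl g a c).2 ha⟩
  · exact ⟨b, (orb_eq_inr g b b).2 rfl⟩

lemma orb_apply (g : Perm (Fin n)) (a : Fin n) : orb g (g a) = orb g a := by
  rcases h : orb g a with c | b
  · rw [orb_eq_inl] at h ⊢
    rw [← (Perm.mem_cycleFactorsFinset_iff.1 c.2).2 a h]
    exact Perm.apply_mem_support.2 h
  · rw [orb_eq_inr] at h ⊢
    rw [h, b.2]

lemma orb_factor (g : Perm (Fin n)) {β : Type*} (h : Fin n → β) (hh : ∀ a, h (g a) = h a)
    {a b : Fin n} (hab : orb g a = orb g b) : h a = h b := by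
  rcases hc : orb g a with c | d
  · rw [hc] at hab
    have h1 := (orb_eq_inl g a c).1 hc
    have h2 := (orb_eq_inl g b c).1 hab.symm
    rw [Perm.cycle_is_cycleOf h1 c.2, Perm.mem_support_cycleOf_iff] at h2
    obtain ⟨k, -, hk⟩ := h2.1.exists_pow_eq'
    rw [← hk]
    clear hk
    induction k with
    | zero => simp
    | succ k ih => rw [pow_succ', Perm.mul_apply, hh, ih]
  · rw [hc] at hab
    rw [(orb_eq_inr g a d).1 hc, (orb_eq_inr g b d).1 hab.symm]

lemma pp_eq_sum (g : Perm (Fin n)) :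
    pp N g = ∑ f ∈ Finset.univ.filter (fun f : Fin n → Fin N => ∀ a, f (g a) = f a),
      ∏ a, X (f a) := by
  classical
  have h1 := fiber_sum (N := N) (orb g)
  rw [Fintype.prod_sum_type] at h1
  have e1 : ∀ c : g.cycleFactorsFinset, (Finset.univ.filter fun a => orb g a = Sum.inl c) =
      (c : Perm (Fin n)).support := fun c => by ext a; simp only [Finset.mem_filter,
        Finset.mem_univ, true_and, orb_eq_inl]
  have e2 : ∀ b : {a // g a = a}, (Finset.univ.filter fun a => orb g a = Sum.inr b) =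
      {(b : Fin n)} := fun c => by ext a; simp only [Finset.mem_filter,
        Finset.mem_univ, true_and, orb_eq_inr, Finset.mem_singleton]
  simp only [e1, e2, Finset.card_singleton, Finset.prod_const, Finset.card_univ] at h1
  have e3 : Fintype.card {a // g a = a} = Fintype.card (Fin n) - g.support.card := by
    rw [← Finset.card_compl, Fintype.card_subtype]
    congr 1; ext a; simp
  have e4 : pp N g = (∏ c : g.cycleFactorsFinset, ps (c : Perm (Fin n)).support.card) *
      ps 1 ^ Fintype.card {a // g a = a} := by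
    rw [pp, Perm.parts_partition, pm_add, e3, Perm.cycleType_def,
      Finset.prod_coe_sort g.cycleFactorsFinset (fun c => (ps c.support.card : Poly N))]
    congr 1
    · rw [pm, Multiset.map_map]; rfl
    · rw [pm, Multiset.map_replicate, Multiset.prod_replicate]
  rw [e4, ← h1]
  refine Finset.sum_bij (fun f _ => f ∘ orb g) ?_ ?_ ?_ ?_
  · intro f _; simp [orb_apply]
  · intro f _ f' _ h; exact (orb_surj g).injective_comp_right h
  · intro h hh
    refine ⟨fun o => h (orb_surj g o).choose, Finset.mem_univ _, ?_⟩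
    ext1 a
    exact orb_factor g h (by simpa using hh) (orb_surj g (orb g a)).choose_spec
  · intro f _; rfl

noncomputable def cont (f : Fin n → Fin N) : Fin N →₀ ℕ := ∑ a, Finsupp.single (f a) 1

instance act (γ : Fin N →₀ ℕ) : MulAction (Perm (Fin n)) {f : Fin n → Fin N // cont f = γ} where
  smul g f := ⟨fun a => f.1 (g⁻¹ a), 
    (Equiv.sum_comp g⁻¹ (fun a => Finsupp.single (f.1 a) 1)).trans f.2⟩
  one_smul f := rfl
  mul_smul g h f := rfl

lemma gen_coeff_pp (γ : Fin N →₀ ℕ) :
    IsGeneralizedCharacter (Perm (Fin n)) (fun g => coeff γ (pp N g)) := by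
  classical
  have := gen_of_char (char_perm (G := Perm (Fin n)) {f : Fin n → Fin N // cont f = γ})
  convert this using 2 with g
  rw [pp_eq_sum, coeff_sum]
  have e : ∀ f : Fin n → Fin N, (∏ a, X (f a) : Poly N) = monomial (cont f) 1 := fun f => by
    rw [cont, monomial_sum_one]; rfl
  simp only [e, coeff_monomial]
  rw [← Finset.sum_filter, Finset.sum_const, nsmul_eq_mul, mul_one, Nat.cast_inj,
    ← Nat.card_eq_finsetCard]
  refine Nat.card_congr ⟨fun f => ⟨⟨f.1, (Finset.mem_filter.1 f.2).2⟩, ?_⟩,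
    fun f => ⟨f.1.1, ?_⟩, fun f => rfl, fun f => rfl⟩
  · have h := (Finset.mem_filter.1 (Finset.mem_filter.1 f.2).1).2
    refine Subtype.ext (funext fun a => ?_)
    change f.1 (g⁻¹ a) = f.1 a
    rw [← h]; simp
  · refine Finset.mem_filter.2 ⟨Finset.mem_filter.2 ⟨Finset.mem_univ _, fun a => ?_⟩, f.1.2⟩
    have h := congrFun (congrArg Subtype.val f.2) (g a)
    change f.1.1 (g⁻¹ (g a)) = f.1.1 (g a) at h
    rw [← h]; simp

noncomputable def chi (β : Fin N →₀ ℕ) (g : Perm (Fin n)) : ℂ := coeff β (pp N g * vd N)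

lemma gen_chi (β : Fin N →₀ ℕ) : IsGeneralizedCharacter (Perm (Fin n)) (chi β) := by
  have e : (chi β : Perm (Fin n) → ℂ) = ∑ π : Perm (Fin N), ((Perm.sign π : ℤ) : ℂ) •
      (fun g => if (dl N).mapDomain π ≤ β then coeff (β - (dl N).mapDomain π) (pp N g) else 0) := by
    ext g
    rw [chi, vd, Alt_monomial, Finset.mul_sum, coeff_sum, Finset.sum_apply]
    refine Finset.sum_congr rfl fun π _ => ?_
    rw [mul_smul_comm, coeff_smul, coeff_mul_monomial']
    simp [sg]
  rw [e]
  refine gen_sum _ fun π _ => gen_intCast_smul _ ?_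
  split_ifs
  · exact gen_coeff_pp _
  · exact gen_zero

lemma antisym_pp (g : Perm (Fin n)) : Antisym (pp N g * vd N) := antisym_vd.pm_mul _

lemma pp_conj {g h : Perm (Fin n)} (hc : IsConj g h) : pp N g = pp N h := by
  rw [pp, pp, Perm.partition_eq_of_isConj.1 hc]

lemma zz_parts (g : Perm (Fin n)) :
    Nat.card {h : Perm (Fin n) | IsConj g h} * zz g.partition.parts = n.factorial := by
  have h := Perm.card_isConj_mul_eq g
  rw [Fintype.card_fin] at h
  rw [← h]
  congr 1
  rw [Perm.parts_partition, Perm.sum_cycleType, Fintype.card_fin]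
  have h1 : 1 ∉ g.cycleType := fun h => by simpa using Perm.one_lt_of_mem_cycleType h
  generalize n - g.support.card = k
  induction k with
  | zero => simp [zz]
  | succ k ih =>
    rw [Multiset.replicate_succ, Multiset.add_cons, zz_cons, ih, Multiset.count_add,
      Multiset.count_eq_zero_of_notMem h1, Multiset.count_replicate_self, Nat.factorial_succ]
    ring

lemma parts_pos (g : Perm (Fin n)) : ∀ r ∈ g.partition.parts, 0 < r :=
  fun _ hr => g.partition.parts_pos hr
lemma parts_sum (g : Perm (Fin n)) : g.partition.parts.sum = n := by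
  rw [g.partition.parts_sum, Fintype.card_fin]

open Classical in
lemma pr_pp (hN : n ≤ N) (g h : Perm (Fin n)) : pr (pp N g * vd N) (pp N h * vd N) =
    if IsConj g h then (N.factorial : ℂ) * zz g.partition.parts else 0 := by
  rw [pp, pp, orth _ _ (parts_pos g) (parts_pos h) (by rw [parts_sum]; exact hN)]
  congr 1
  rw [Perm.partition_eq_of_isConj, Nat.Partition.ext_iff]

/-- the characteristic map -/
noncomputable def T (N : ℕ) (f : Perm (Fin n) → ℂ) : Poly N :=
  (n.factorial : ℂ)⁻¹ • ∑ g, f g • (pp N g * vd N)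

lemma antisym_T (f : Perm (Fin n) → ℂ) : Antisym (T N f) :=
  (Antisym.sum _ _ fun g _ => (antisym_pp g).smul _).smul _

lemma pr_T_left (f : Perm (Fin n) → ℂ) (H : Poly N) :
    pr (T N f) H = (n.factorial : ℂ)⁻¹ * ∑ g, f g * pr (pp N g * vd N) H := by
  simp [T, LinearMap.sum_apply]

lemma pr_T_pp (hN : n ≤ N) {f : Perm (Fin n) → ℂ} (hf : IsClassFunction _ f) (h : Perm (Fin n)) :
    pr (T N f) (pp N h * vd N) = N.factorial * f h := by
  classical
  rw [pr_T_left]
  have e : ∀ g, f g * pr (pp N g * vd N) (pp N h * vd N) =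
      if IsConj h g then f h * (N.factorial * zz h.partition.parts) else 0 := fun g => by
    rw [pr_comm, pr_pp hN]
    split_ifs with hc
    · rw [classFun_of_isConj hf hc]
    · simp
  simp only [e]
  rw [← Finset.sum_filter, Finset.sum_const, nsmul_eq_mul]
  have h2 := zz_parts h
  rw [Nat.card_eq_card_toFinset, Set.toFinset_setOf] at h2
  have h3 : (n.factorial : ℂ) ≠ 0 := Nat.cast_ne_zero.2 (Nat.factorial_ne_zero _)
  have h4 := congrArg (Nat.cast : ℕ → ℂ) h2
  push_cast at h4
  field_simp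
  rw [← h4]; ring

lemma pr_T_T (hN : n ≤ N) (f : Perm (Fin n) → ℂ) {f' : Perm (Fin n) → ℂ}
    (hf : IsClassFunction _ f') :
    pr (T N f) (T N f') = N.factorial * ((n.factorial : ℂ)⁻¹ * ∑ g, f g * f' g) := by
  rw [pr_T_left]
  simp only [pr_comm (pp N _ * vd N), pr_T_pp hN hf, Finset.mul_sum]
  exact Finset.sum_congr rfl fun g _ => by ring

lemma conj_gen {θ : Perm (Fin n) → ℂ} (h : IsGeneralizedCharacter _ θ) (g : Perm (Fin n)) :
    (starRingEnd ℂ) (θ g) = θ g := by
  rw [← gen_apply_inv h]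
  exact classFun_of_isConj (gen_classFun h) (Perm.isConj_iff_cycleType_eq.2 (Perm.cycleType_inv g))

lemma inner_eq (f : Perm (Fin n) → ℂ) {θ : Perm (Fin n) → ℂ} (h : IsGeneralizedCharacter _ θ) :
    classInner f θ = (n.factorial : ℂ)⁻¹ * ∑ g, f g * θ g := by
  simp [classInner, conj_gen h, Fintype.card_perm]

lemma coeff_T (f : Perm (Fin n) → ℂ) (β : Fin N →₀ ℕ) :
    coeff β (T N f) = classInner f (chi β) := by
  rw [inner_eq f (gen_chi β)]
  simp [T, coeff_sum, chi]

lemma exists_beta (hN : n ≤ N) {ψ : Perm (Fin n) → ℂ} (hψ : IsIrrCharacter _ ψ) :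
    ∃ (β : Fin N →₀ ℕ) (a : ℂ), Function.Injective β ∧ (a = 1 ∨ a = -1) ∧
      T N ψ = a • Alt (monomial β 1) ∧ ∀ g, ψ g = a * chi β g := by
  classical
  have hg := gen_of_irr hψ
  have h1 : pr (T N ψ) (T N ψ) = N.factorial := by
    rw [pr_T_T hN _ (irr_classFun hψ), ← inner_eq _ hg, inner_irr_self hψ, mul_one]
  have hint : ∀ β : Fin N →₀ ℕ, ∃ m : ℤ, coeff β (T N ψ) = m := fun β => by
    rw [coeff_T]; exact inner_gen_gen hg (gen_chi β)
  choose m hm using hint
  have hN0 : (N.factorial : ℂ) ≠ 0 := Nat.cast_ne_zero.2 (Nat.factorial_ne_zero _)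
  have hne : T N ψ ≠ 0 := fun h => hN0 (by rw [← h1, h, map_zero])
  obtain ⟨β, hβ⟩ := ne_zero_iff.1 hne
  have hA := antisym_T (N := N) ψ
  have hinj := hA.inj hβ
  set F := T N ψ with hF
  -- remainder
  set R := F - coeff β F • Alt (monomial β 1) with hR
  have hAl := antisym_Alt (monomial β (1 : ℂ))
  have hRA : Antisym R := hA.sub (hAl.smul _)
  have hRβ : coeff β R = 0 := by
    rw [hR, coeff_sub, coeff_smul, coeff_Alt_self hinj, smul_eq_mul, mul_one, sub_self]
  have hRR : pr R R = N.factorial * (1 - coeff β F ^ 2) := by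
    have e1 : pr (Alt (monomial β 1)) R = 0 := by rw [pr_Alt _ hRA, pr_monomial, hRβ]; simp
    have e2 : pr (Alt (monomial β 1)) F = N.factorial * coeff β F := by
      rw [pr_Alt _ hA, pr_monomial, one_mul]
    have e3 : pr R R = pr F R := by
      have e4 : pr R = pr F - coeff β F • pr (Alt (monomial β 1)) := by
        rw [hR, map_sub, map_smul]
      rw [e4, LinearMap.sub_apply, LinearMap.smul_apply, e1, smul_zero, sub_zero]
    rw [e3, hR, map_sub, map_smul, h1, pr_comm F, e2, smul_eq_mul]; ring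
  have hRint : ∀ γ, ∃ k : ℤ, coeff γ R = k := fun γ => by
    by_cases h0 : coeff γ (Alt (monomial β 1)) = 0
    · exact ⟨m γ, by rw [hR, coeff_sub, coeff_smul, h0, smul_zero, sub_zero, hm]⟩
    · obtain ⟨π, rfl⟩ := coeff_Alt_ne h0
      exact ⟨0, by rw [hRA.coeff_md, hRβ]; simp⟩
  choose k hk using hRint
  have hsum : ∑ γ ∈ R.support, k γ * k γ = N.factorial * (1 - m β ^ 2) := by
    have := hRR
    rw [pr_eq_sum, hm] at this
    simp only [hk] at this
    exact_mod_cast this
  have hm0 : m β ≠ 0 := fun h => hβ (by rw [hm, h, Int.cast_zero])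
  have hnn : 0 ≤ ∑ γ ∈ R.support, k γ * k γ := Finset.sum_nonneg fun γ _ => mul_self_nonneg _
  have hfp : (0 : ℤ) < N.factorial := by exact_mod_cast Nat.factorial_pos N
  have hm1 : m β ^ 2 = 1 := by
    have : 0 < m β ^ 2 := by positivity
    nlinarith
  have hR0 : R = 0 := by
    rw [hm1, sub_self, mul_zero, Finset.sum_eq_zero_iff_of_nonneg
      (fun γ _ => mul_self_nonneg _)] at hsum
    ext γ
    by_contra h
    have := hsum γ (mem_support_iff.2 h)
    rw [mul_self_eq_zero] at this
    exact h (by rw [hk, this]; simp)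
  have hFe : F = coeff β F • Alt (monomial β 1) := sub_eq_zero.1 hR0
  refine ⟨β, coeff β F, hinj, ?_, hFe, fun g => ?_⟩
  · rw [hm]
    rcases sq_eq_one_iff.1 hm1 with h | h <;> simp [h]
  · have := pr_T_pp hN (irr_classFun hψ) g
    rw [← hF, hFe, map_smul, LinearMap.smul_apply, pr_Alt _ (antisym_pp g), pr_monomial, one_mul,
      smul_eq_mul] at this
    apply mul_left_cancel₀ hN0
    rw [← this, chi]; ring

end CA.H10Fock2
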