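import Cfsg.Agent.Lib.Char.H10Fock2

/-! Abacus combinatorics for exponent vectors: ground states, weights, positivity. -/

set_option autoImplicit false
set_option linter.unusedSectionVars false

namespace CA.H10Fock3
open MvPolynomial Equiv CA.H10Fock1 CA.H10Fock2

variable {N n p : ℕ}

def dg (γ : Fin N →₀ ℕ) : ℕ := ∑ i, γ i

lemma dg_add (γ β : Fin N →₀ ℕ) : dg (γ + β) = dg γ + dg β := by simp [dg, Finset.sum_add_distrib]
lemma dg_single (i : Fin N) (r : ℕ) : dg (Finsupp.single i r) = r := by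
  simp [dg, Finsupp.single_apply]
lemma dg_md (π : Perm (Fin N)) (γ : Fin N →₀ ℕ) : dg (γ.mapDomain π) = dg γ := by
  simp only [dg, md_apply]; exact Equiv.sum_comp π⁻¹ γ
lemma dg_sub {γ : Fin N →₀ ℕ} {i : Fin N} {r : ℕ} (h : r ≤ γ i) :
    dg γ = dg (γ - Finsupp.single i r) + r := by
  conv_lhs => rw [← tsub_add_cancel_of_le (Finsupp.single_le_iff.2 h)]
  rw [dg_add, dg_single]

lemma dg_of_coeff (ρ : Multiset ℕ) {β : Fin N →₀ ℕ} (h : coeff β (pm ρ * vd N) ≠ 0) :
    dg β = dg (dl N) + ρ.sum := by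
  induction ρ using Multiset.induction_on generalizing β with
  | empty =>
    rw [pm_zero, one_mul] at h
    obtain ⟨π, rfl⟩ := coeff_Alt_ne h
    simp [dg_md]
  | cons r ρ ih =>
    rw [pm_cons, mul_assoc, coeff_ps_mul] at h
    obtain ⟨i, -, hi⟩ := Finset.exists_ne_zero_of_sum_ne_zero h
    have hr : r ≤ β i := by by_contra hc; simp [hc] at hi
    rw [if_pos hr] at hi
    rw [dg_sub hr, ih hi, Multiset.sum_cons]; ring

lemma dg_of_chi {β : Fin N →₀ ℕ} {g : Perm (Fin n)} (h : chi β g ≠ 0) : dg β = dg (dl N) + n := by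
  rw [dg_of_coeff _ h, parts_sum]

def Gr (p : ℕ) (γ : Fin N →₀ ℕ) : Prop := ∀ i, p ≤ γ i → ∃ j, γ j + p = γ i

def Cmp (p : ℕ) (γ κ : Fin N →₀ ℕ) : Prop :=
  (∀ i, γ i % p = κ i % p) ∧ ∀ i j, γ i % p = γ j % p → (γ i < γ j ↔ κ i < κ j)

lemma Cmp.refl (γ : Fin N →₀ ℕ) : Cmp p γ γ := ⟨fun _ => rfl, fun _ _ _ => Iff.rfl⟩
lemma Cmp.symm {γ κ : Fin N →₀ ℕ} (h : Cmp p γ κ) : Cmp p κ γ :=
  ⟨fun i => (h.1 i).symm, fun i j e => (h.2 i j (by rw [h.1, h.1, e])).symm⟩
lemma Cmp.trans {γ κ μ : Fin N →₀ ℕ} (h : Cmp p γ κ) (h' : Cmp p κ μ) : Cmp p γ μ :=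
  ⟨fun i => (h.1 i).trans (h'.1 i),
    fun i j e => (h.2 i j e).trans (h'.2 i j (by rw [← h.1, ← h.1, e]))⟩

lemma add_le_of_mod {a b : ℕ} (h : a % p = b % p) (hl : a < b) : a + p ≤ b := by
  have := Nat.le_of_dvd (by omega) ((Nat.modEq_iff_dvd' hl.le).1 h)
  omega

lemma gr_desc {γ : Fin N →₀ ℕ} (h : Gr p γ) (k : ℕ) :
    ∀ (i : Fin N) (x : ℕ), γ i = x + p * k → ∃ j, γ j = x := by
  induction k with
  | zero => intro i x hx; exact ⟨i, by simpa using hx⟩
  | succ k ih =>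
    intro i x hx
    obtain ⟨j, hj⟩ := h i (by rw [hx]; nlinarith)
    exact ih j x (by rw [Nat.mul_succ] at hx; omega)

lemma gr_desc' {γ : Fin N →₀ ℕ} (h : Gr p γ) {i : Fin N} {y : ℕ} (hy : y ≤ γ i)
    (hm : y % p = γ i % p) : ∃ j, γ j = y := by
  obtain ⟨k, hk⟩ := (Nat.modEq_iff_dvd' hy).1 hm
  exact gr_desc h k i y (by omega)

lemma gr_range {γ κ : Fin N →₀ ℕ} (hγ : Gr p γ) (hκ : Gr p κ) (hκi : Function.Injective κ)
    (hr : ∀ i, γ i % p = κ i % p) (i : Fin N) : ∃ j, κ j = γ i := by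
  by_contra hne
  push Not at hne
  have h1 : ∀ j, ∃ j', (κ j % p = γ i % p → γ j' = κ j) ∧ (κ j % p ≠ γ i % p → j' = j) := by
    intro j
    by_cases hj : κ j % p = γ i % p
    · have : κ j < γ i := by
        by_contra hc
        obtain ⟨l, hl⟩ := gr_desc' hκ (not_lt.1 hc) hj.symm
        exact hne l hl
      obtain ⟨l, hl⟩ := gr_desc' hγ this.le hj
      exact ⟨l, fun _ => hl, fun h => absurd hj h⟩
    · exact ⟨j, fun h => absurd h hj, fun _ => rfl⟩
  choose f hf1 hf2 using h1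
  have hinj : Function.Injective f := by
    intro a b hab
    by_cases ha : κ a % p = γ i % p <;> by_cases hb : κ b % p = γ i % p
    · exact hκi (by rw [← hf1 a ha, ← hf1 b hb, hab])
    · exfalso; apply hb
      rw [← hr b, ← hf2 b hb, ← hab, hf1 a ha, ha]
    · exfalso; apply ha
      rw [← hr a, ← hf2 a ha, hab, hf1 b hb, hb]
    · rw [← hf2 a ha, ← hf2 b hb, hab]
  obtain ⟨j, hj⟩ := Finite.injective_iff_surjective.1 hinj i
  by_cases h : κ j % p = γ i % p
  · exact hne j (by rw [← hf1 j h, hj])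
  · apply h; rw [← hr j, ← hf2 j h, hj]

lemma gr_perm {γ κ : Fin N →₀ ℕ} (hγ : Gr p γ) (hκ : Gr p κ) (hγi : Function.Injective γ)
    (hκi : Function.Injective κ) (hr : ∀ i, γ i % p = κ i % p) :
    ∃ π : Perm (Fin N), (∀ i, κ (π i) % p = κ i % p) ∧ γ = κ.mapDomain π := by
  choose f hf using gr_range hγ hκ hκi hr
  have hinj : Function.Injective f := fun a b hab => hγi (by rw [← hf, ← hf, hab])
  let e := Equiv.ofBijective f (Finite.injective_iff_bijective.1 hinj)
  refine ⟨e⁻¹, fun i => ?_, ?_⟩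
  · rw [← hr, ← hf]
    congr 2
    exact e.apply_symm_apply i
  · ext i; rw [md_apply, inv_inv, ← hf]; rfl

lemma le_of_gr (hp : 0 < p) {γ κ : Fin N →₀ ℕ} (hκ : Gr p κ) (h : Cmp p γ κ) (i : Fin N) :
    κ i ≤ γ i := by
  induction hx : κ i using Nat.strong_induction_on generalizing i with
  | _ x ih =>
    by_cases hl : p ≤ κ i
    · obtain ⟨j, hj⟩ := hκ i hl
      have h1 := ih (κ j) (by omega) j rfl
      have h2 : γ j % p = γ i % p := by rw [h.1, h.1, ← hj, Nat.add_mod_right]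
      have h3 := add_le_of_mod h2 ((h.2 j i h2).2 (by omega))
      omega
    · have := h.1 i
      rw [Nat.mod_eq_of_lt (not_le.1 hl)] at this
      rw [← hx, ← this]; exact Nat.mod_le _ _

lemma sub_self_apply (γ : Fin N →₀ ℕ) (i : Fin N) (r : ℕ) :
    (γ - Finsupp.single i r : Fin N →₀ ℕ) i = γ i - r := by simp
lemma sub_ne_apply (γ : Fin N →₀ ℕ) {i j : Fin N} (h : j ≠ i) (r : ℕ) :
    (γ - Finsupp.single i r : Fin N →₀ ℕ) j = γ j := by simp [Finsupp.single_eq_of_ne h]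

lemma cmp_step {γ : Fin N →₀ ℕ} (hγ : Function.Injective γ) {i : Fin N} (hi : p ≤ γ i)
    (h' : Function.Injective (γ - Finsupp.single i p : Fin N →₀ ℕ)) :
    Cmp p γ (γ - Finsupp.single i p) := by
  constructor
  · intro j
    by_cases hj : j = i
    · subst hj; rw [sub_self_apply]; exact Nat.mod_eq_sub_mod hi
    · rw [sub_ne_apply _ hj]
  · intro a b hab
    by_cases ha : a = i <;> by_cases hb : b = i
    · subst ha; subst hb; simp
    · subst ha
      rw [sub_self_apply, sub_ne_apply _ hb]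
      refine ⟨fun h => by omega, fun h => ?_⟩
      have h1 := add_le_of_mod ((Nat.mod_eq_sub_mod hi).symm.trans hab) h
      have h2 : γ a ≠ γ b := fun e => hb (hγ e).symm
      omega
    · subst hb
      rw [sub_self_apply, sub_ne_apply _ ha]
      refine ⟨fun h => ?_, fun h => by omega⟩
      have h1 := add_le_of_mod hab h
      have h2 : γ a ≠ γ b - p := fun e => ha (h' (by rw [sub_self_apply, sub_ne_apply _ ha, e]))
      omega
    · rw [sub_ne_apply _ ha, sub_ne_apply _ hb]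

lemma exists_step {γ : Fin N →₀ ℕ} (hγ : Function.Injective γ) (h : ¬ Gr p γ) :
    ∃ i, p ≤ γ i ∧ Function.Injective (γ - Finsupp.single i p : Fin N →₀ ℕ) := by
  unfold Gr at h
  push Not at h
  obtain ⟨i, hi, hj⟩ := h
  refine ⟨i, hi, fun a b hab => ?_⟩
  by_cases ha : a = i <;> by_cases hb : b = i
  · rw [ha, hb]
  · subst ha; rw [sub_self_apply, sub_ne_apply _ hb] at hab
    exact absurd (by omega) (hj b)
  · subst hb; rw [sub_self_apply, sub_ne_apply _ ha] at hab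
    exact absurd (by omega) (hj a)
  · rw [sub_ne_apply _ ha, sub_ne_apply _ hb] at hab; exact hγ hab

lemma exists_gr (hp : 0 < p) {γ : Fin N →₀ ℕ} (hγ : Function.Injective γ) :
    ∃ (κ : Fin N →₀ ℕ) (w : ℕ), Function.Injective κ ∧ Gr p κ ∧ Cmp p γ κ ∧
      dg γ = dg κ + p * w := by
  induction hx : dg γ using Nat.strong_induction_on generalizing γ with
  | _ x ih =>
    by_cases h : Gr p γ
    · exact ⟨γ, 0, hγ, h, Cmp.refl _, by simp [hx]⟩
    · obtain ⟨i, hi, h'⟩ := exists_step hγ h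
      have h1 := dg_sub hi
      obtain ⟨κ, w, a, b, c, d⟩ := ih _ (by omega) h' rfl
      exact ⟨κ, w + 1, a, b, (cmp_step hγ hi h').trans c, by rw [Nat.mul_succ]; omega⟩

lemma exists_wt (hp : 0 < p) {γ κ : Fin N →₀ ℕ} (hγ : Function.Injective γ)
    (hκi : Function.Injective κ) (hκ : Gr p κ) (hr : ∀ i, γ i % p = κ i % p) :
    ∃ w, dg γ = dg κ + p * w := by
  obtain ⟨κ', w, a, b, c, d⟩ := exists_gr hp hγ
  obtain ⟨π, -, hπ⟩ := gr_perm b hκ a hκi (fun i => by rw [← c.1, hr])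
  exact ⟨w, by rw [d, hπ, dg_md]⟩

lemma eq_of_le_of_dg {γ κ : Fin N →₀ ℕ} (h : ∀ i, κ i ≤ γ i) (hd : dg γ = dg κ) : γ = κ := by
  ext i
  exact ((Finset.sum_eq_sum_iff_of_le (fun i _ => h i)).1 hd.symm i (Finset.mem_univ _)).symm

lemma pos (hp : 0 < p) {κ : Fin N →₀ ℕ} (hκ : Gr p κ) (w : ℕ) :
    ∀ γ : Fin N →₀ ℕ, Function.Injective γ → Cmp p γ κ → dg γ = dg κ + p * w →
      ∃ c : ℕ, 0 < c ∧ ∀ G : Poly N, Antisym G → coeff γ (ps p ^ w * G) = c * coeff κ G := by
  induction w with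
  | zero =>
    intro γ _ hc hd
    rw [eq_of_le_of_dg (le_of_gr hp hκ hc) (by simpa using hd)]
    exact ⟨1, one_pos, fun G _ => by simp⟩
  | succ w ih =>
    intro γ hγ hc hd
    have hA : ∀ G : Poly N, Antisym G → Antisym (ps p ^ w * G) := fun G hG => by
      have := hG.pm_mul (Multiset.replicate w p)
      rwa [pm, Multiset.map_replicate, Multiset.prod_replicate] at this
    have h1 : ∀ i, ∃ c : ℕ,
        (p ≤ γ i ∧ Function.Injective (γ - Finsupp.single i p : Fin N →₀ ℕ) → 0 < c) ∧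
        ∀ G : Poly N, Antisym G →
          (if p ≤ γ i then coeff (γ - Finsupp.single i p) (ps p ^ w * G) else 0) =
            c * coeff κ G := by
      intro i
      by_cases hi : p ≤ γ i
      · by_cases h' : Function.Injective (γ - Finsupp.single i p : Fin N →₀ ℕ)
        · obtain ⟨c, c0, hc'⟩ := ih _ h' ((cmp_step hγ hi h').symm.trans hc)
            (by have := dg_sub hi; rw [Nat.mul_succ] at hd; omega)
          exact ⟨c, fun _ => c0, fun G hG => by rw [if_pos hi, hc' G hG]⟩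
        · refine ⟨0, fun h => absurd h.2 h', fun G hG => ?_⟩
          rw [if_pos hi, Nat.cast_zero, zero_mul]
          by_contra hne
          exact h' ((hA G hG).inj hne)
      · exact ⟨0, fun h => absurd h.1 hi, fun G _ => by simp [hi]⟩
    choose c hc0 hc1 using h1
    refine ⟨∑ i, c i, ?_, fun G hG => ?_⟩
    · have hng : ¬ Gr p γ := fun hg => by
        have : dg γ ≤ dg κ := Finset.sum_le_sum fun i _ => le_of_gr hp hg hc.symm i
        rw [Nat.mul_succ] at hd; omega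
      obtain ⟨i, hi⟩ := exists_step hγ hng
      exact lt_of_lt_of_le (hc0 i hi)
        (Finset.single_le_sum (f := c) (fun _ _ => Nat.zero_le _) (Finset.mem_univ i))
    · rw [pow_succ', mul_assoc, coeff_ps_mul, Nat.cast_sum, Finset.sum_mul]
      exact Finset.sum_congr rfl fun i _ => hc1 i G hG

lemma gr_dl : Gr 1 (dl N) := fun i hi => by
  rw [dl_apply] at hi
  exact ⟨⟨i - 1, by omega⟩, by simp only [dl_apply]; omega⟩

/-- Nonvanishing at cycle type `p^w 1^m`. -/
lemma coeff_ne_zero (hp : 0 < p) {β κ : Fin N →₀ ℕ} (hβ : Function.Injective β)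
    (hκi : Function.Injective κ) (hκ : Gr p κ) (hc : Cmp p β κ) {w : ℕ}
    (hw : dg β = dg κ + p * w) (hd : dg β = dg (dl N) + n) :
    p * w ≤ n ∧ coeff β (pm (Multiset.replicate w p + Multiset.replicate (n - p * w) 1) * vd N)
      ≠ 0 := by
  obtain ⟨κ', m, a, b, c, d⟩ := exists_gr one_pos hκi
  obtain ⟨π, -, hπ⟩ := gr_perm b gr_dl a dl_inj (fun i => by simp [Nat.mod_one])
  have e1 : dg κ' = dg (dl N) := by rw [hπ, dg_md]
  have e2 : n - p * w = m := by omega
  refine ⟨by omega, ?_⟩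
  obtain ⟨c1, c10, h1⟩ := pos hp hκ w β hβ hc hw
  obtain ⟨c2, c20, h2⟩ := pos one_pos b m κ hκi c d
  have hA := antisym_vd.pm_mul (N := N) (Multiset.replicate m 1)
  rw [e2, pm_add, mul_assoc]
  conv_lhs => rw [pm, Multiset.map_replicate, Multiset.prod_replicate]
  rw [h1 _ hA, pm, Multiset.map_replicate, Multiset.prod_replicate, h2 _ antisym_vd, hπ,
    antisym_vd.coeff_md, vd, coeff_Alt_self dl_inj, mul_one]
  exact mul_ne_zero (by exact_mod_cast c10.ne') (mul_ne_zero (by exact_mod_cast c20.ne')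
    (sg_ne_zero π))

/-- Vanishing for ground states. -/
lemma coeff_gr_eq_zero {β : Fin N →₀ ℕ} (hβ : Gr p β) {r : ℕ} (hr : 0 < r) (hpr : p ∣ r)
    {G : Poly N} (hG : Antisym G) : coeff β (ps r * G) = 0 := by
  rw [coeff_ps_mul]
  refine Finset.sum_eq_zero fun i _ => ?_
  split_ifs with hi
  · obtain ⟨k, rfl⟩ := hpr
    obtain ⟨j, hj⟩ := gr_desc hβ k i (β i - p * k) (by omega)
    have hji : j ≠ i := by rintro rfl; omega
    exact hG.coeff_eq_zero hji (by rw [sub_self_apply, sub_ne_apply _ hji, hj])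
  · rfl

end CA.H10Fock3
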