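import Cfsg.Agent.Lib.Char.H10Fock3

/-! Spanning sets modulo the ideal of power sums of degree divisible by `p`. -/

set_option autoImplicit false
set_option linter.unusedSectionVars false

namespace CA.H10Fock4
open MvPolynomial Equiv CA.H10Fock1 CA.H10Fock2 CA.H10Fock3

variable {N n p : ℕ}

/-- runner power sums -/
noncomputable def P (p : ℕ) (κ : Fin N →₀ ℕ) (t j : ℕ) : Poly N :=
  ∑ i, if κ i % p = t then monomial (Finsupp.single i (p * j)) 1 else 0

noncomputable def K (p : ℕ) (κ : Fin N →₀ ℕ) : Submodule ℂ (Poly N) :=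
  Submodule.span ℂ ({F | ∃ (π : Perm (Fin N)) (G : Poly N), (∀ i, κ (π i) % p = κ i % p) ∧
    F = rename π G - sg π • G} ∪ {F | ∃ (j : ℕ) (H : Poly N), 0 < j ∧ F = ps (p * j) * H})

lemma rename_P (κ : Fin N →₀ ℕ) (t j : ℕ) {π : Perm (Fin N)} (h : ∀ i, κ (π i) % p = κ i % p) :
    rename π (P p κ t j) = P p κ t j := by
  unfold P
  rw [map_sum, ← Equiv.sum_comp π (fun i => if κ i % p = t then
    monomial (Finsupp.single i (p * j)) (1 : ℂ) else 0)]
  refine Finset.sum_congr rfl fun i _ => ?_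
  rw [h]
  split_ifs
  · rw [rename_monomial, Finsupp.mapDomain_single]
  · simp

lemma P_mul_K (κ : Fin N →₀ ℕ) (t j : ℕ) {F : Poly N} (hF : F ∈ K p κ) : P p κ t j * F ∈ K p κ := by
  induction hF using Submodule.span_induction with
  | mem F h =>
    refine Submodule.subset_span ?_
    rcases h with ⟨π, G, hπ, rfl⟩ | ⟨j', H, hj, rfl⟩
    · exact Or.inl ⟨π, P p κ t j * G, hπ, by rw [map_mul, rename_P κ t j hπ, mul_sub, mul_smul_comm]⟩
    · exact Or.inr ⟨j', P p κ t j * H, hj, by ring⟩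
  | zero => simp
  | add x y _ _ hx hy => rw [mul_add]; exact add_mem hx hy
  | smul c x _ hx => rw [mul_smul_comm]; exact Submodule.smul_mem _ _ hx

lemma sum_P (hp : 0 < p) (κ : Fin N →₀ ℕ) (j : ℕ) :
    ∑ t ∈ Finset.range p, P p κ t j = ps (p * j) := by
  unfold P
  rw [Finset.sum_comm, ps_eq]
  refine Finset.sum_congr rfl fun i _ => ?_
  rw [Finset.sum_ite_eq, if_pos (Finset.mem_range.2 (Nat.mod_lt _ hp))]

def Mul (C : Finset ℕ) (w : ℕ) : Set (Multiset (ℕ × ℕ)) :=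
  {m | (∀ a ∈ m, 0 < a.1 ∧ a.2 ∈ C) ∧ (m.map Prod.fst).sum = w}

noncomputable def W (p : ℕ) (κ : Fin N →₀ ℕ) (m : Multiset (ℕ × ℕ)) : Poly N :=
  (m.map fun a => P p κ a.2 a.1).prod

lemma W_cons (κ : Fin N →₀ ℕ) (a : ℕ × ℕ) (m : Multiset (ℕ × ℕ)) :
    W p κ (a ::ₘ m) = P p κ a.2 a.1 * W p κ m := by simp [W]

noncomputable def Tw (p : ℕ) (κ : Fin N →₀ ℕ) (t0 w : ℕ) : Submodule ℂ (Poly N) :=
  K p κ ⊔ Submodule.span ℂ ((fun m => W p κ m * monomial κ 1) '' Mul ((Finset.range p).erase t0) w)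

lemma P_mul_Tw' (κ : Fin N →₀ ℕ) {t0 w t j : ℕ} (hj : 0 < j) (ht : t ∈ (Finset.range p).erase t0)
    {F : Poly N} (hF : F ∈ Tw p κ t0 w) : P p κ t j * F ∈ Tw p κ t0 (w + j) := by
  obtain ⟨a, ha, b, hb, rfl⟩ := Submodule.mem_sup.1 hF
  rw [mul_add]
  refine add_mem (Submodule.mem_sup_left (P_mul_K κ t j ha)) (Submodule.mem_sup_right ?_)
  clear hF
  induction hb using Submodule.span_induction with
  | mem F h =>
    obtain ⟨m, hm, rfl⟩ := h
    refine Submodule.subset_span ⟨(j, t) ::ₘ m, ⟨fun a ha => ?_, ?_⟩, ?_⟩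
    · rcases Multiset.mem_cons.1 ha with rfl | ha
      · exact ⟨hj, ht⟩
      · exact hm.1 a ha
    · rw [Multiset.map_cons, Multiset.sum_cons, hm.2, add_comm]
    · simp only [W_cons, mul_assoc]
  | zero => simp
  | add x y _ _ hx hy => rw [mul_add]; exact add_mem hx hy
  | smul c x _ hx => rw [mul_smul_comm]; exact Submodule.smul_mem _ _ hx

lemma P_mul_Tw (hp : 0 < p) (κ : Fin N →₀ ℕ) {t0 w t j : ℕ} (hj : 0 < j) (ht : t < p)
    {F : Poly N} (hF : F ∈ Tw p κ t0 w) : P p κ t j * F ∈ Tw p κ t0 (w + j) := by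
  by_cases h : t = t0
  · subst h
    have e := sum_P hp κ j
    rw [← Finset.add_sum_erase _ _ (Finset.mem_range.2 ht)] at e
    rw [eq_sub_of_add_eq e, sub_mul, Finset.sum_mul]
    refine sub_mem (Submodule.mem_sup_left (Submodule.subset_span (Or.inr ⟨j, F, hj, rfl⟩)))
      (Submodule.sum_mem _ fun s hs => P_mul_Tw' κ hj hs hF)
  · exact P_mul_Tw' κ hj (Finset.mem_erase.2 ⟨h, Finset.mem_range.2 ht⟩) hF

noncomputable def fv (p : ℕ) (κ : Fin N →₀ ℕ) (t : ℕ) (i : Fin N) : Poly N :=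
  if κ i % p = t then monomial (Finsupp.single i p) 1 else 0

noncomputable def E (p : ℕ) (κ : Fin N →₀ ℕ) (t k : ℕ) : Poly N :=
  aeval (fv p κ t) (esymm (Fin N) ℂ k)

lemma aeval_psum (κ : Fin N →₀ ℕ) (t : ℕ) {j : ℕ} (hj : 0 < j) :
    aeval (fv p κ t) (psum (Fin N) ℂ j) = P p κ t j := by
  simp only [psum, map_sum, map_pow, aeval_X, P, fv]
  refine Finset.sum_congr rfl fun i _ => ?_
  split_ifs
  · rw [monomial_pow, one_pow, Finsupp.smul_single, smul_eq_mul, mul_comm]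
  · exact zero_pow hj.ne'

lemma E_mul_Tw (hp : 0 < p) (κ : Fin N →₀ ℕ) {t0 t : ℕ} (ht : t < p) (k : ℕ) :
    ∀ w, ∀ F ∈ Tw p κ t0 w, E p κ t k * F ∈ Tw p κ t0 (w + k) := by
  induction k using Nat.strong_induction_on with
  | _ k ih =>
    intro w F hF
    rcases Nat.eq_zero_or_pos k with rfl | hk
    · simpa [E] using hF
    have h := congrArg (aeval (fv p κ t)) (mul_esymm_eq_sum (Fin N) ℂ k)
    rw [map_mul, map_natCast, map_mul, map_sum] at h
    have e : E p κ t k * F = (k : ℂ)⁻¹ • ((k : Poly N) * E p κ t k * F) := by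
      rw [mul_assoc, ← nsmul_eq_mul, ← Nat.cast_smul_eq_nsmul ℂ, smul_smul,
        inv_mul_cancel₀ (Nat.cast_ne_zero.2 hk.ne'), one_smul]
    rw [e, E, h]
    refine Submodule.smul_mem _ _ ?_
    have e1 : ∀ (l : ℕ) (G : Poly N), aeval (fv p κ t) ((-1 : Poly N) ^ l) * G =
        ((-1 : ℂ) ^ l) • G := fun l G => by
      rw [map_pow, map_neg, map_one, smul_eq_C_mul]; simp
    rw [mul_assoc, e1, Finset.sum_mul]
    refine Submodule.smul_mem _ _ (Submodule.sum_mem _ fun a ha => ?_)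
    obtain ⟨h1, h2⟩ := Finset.mem_filter.1 ha
    rw [Finset.HasAntidiagonal.mem_antidiagonal] at h1
    rw [map_mul, map_mul, mul_assoc, mul_assoc, e1, aeval_psum κ t (by omega), mul_left_comm]
    refine Submodule.smul_mem _ _ ?_
    have := P_mul_Tw hp κ (j := a.2) (by omega) ht (ih a.1 h2 w F hF)
    rwa [add_assoc, h1] at this

noncomputable def sv (p : ℕ) (S : Finset (Fin N)) : Fin N →₀ ℕ := ∑ i ∈ S, Finsupp.single i p

lemma sv_apply (S : Finset (Fin N)) (i : Fin N) : sv p S i = if i ∈ S then p else 0 := by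
  simp [sv, Finsupp.finset_sum_apply, Finsupp.single_apply]

lemma dg_sv (S : Finset (Fin N)) : dg (sv p S) = p * S.card := by
  simp [dg, sv_apply, mul_comm]

lemma E_eq (κ : Fin N →₀ ℕ) (t k : ℕ) : E p κ t k = ∑ S ∈ Finset.powersetCard k Finset.univ,
    if ∀ i ∈ S, κ i % p = t then monomial (sv p S) 1 else 0 := by
  simp only [E, esymm, map_sum, map_prod, aeval_X]
  refine Finset.sum_congr rfl fun S _ => ?_
  split_ifs with h
  · rw [sv, monomial_sum_one]
    exact Finset.prod_congr rfl fun i hi => if_pos (h i hi)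
  · push Not at h
    obtain ⟨i, hi, h⟩ := h
    exact Finset.prod_eq_zero hi (if_neg h)

def Q (γ : Fin N →₀ ℕ) : ℕ := ∑ i, γ i ^ 2

lemma Q_add (S : Finset (Fin N)) (γ : Fin N →₀ ℕ) :
    Q (sv p S + γ) = Q γ + (2 * p * ∑ i ∈ S, γ i + p ^ 2 * S.card) := by
  have : ∀ i, (sv p S + γ : Fin N →₀ ℕ) i ^ 2 =
      γ i ^ 2 + if i ∈ S then 2 * p * γ i + p ^ 2 else 0 := fun i => by
    rw [Finsupp.add_apply, sv_apply]; split_ifs <;> ring
  simp only [Q, this, Finset.sum_add_distrib, Finset.sum_ite_mem, Finset.univ_inter,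
    Finset.mul_sum, Finset.sum_const, smul_eq_mul]
  ring

lemma sum_lt_of {S S0 : Finset (Fin N)} (hc : S.card = S0.card) (hne : S ≠ S0) (f : Fin N → ℕ)
    (g : ℕ) (h1 : ∀ i ∈ S, i ∉ S0 → f i < g) (h2 : ∀ i ∈ S0, g ≤ f i) :
    ∑ i ∈ S, f i < ∑ i ∈ S0, f i := by
  rw [← Finset.sum_inter_add_sum_sdiff S S0, ← Finset.sum_inter_add_sum_sdiff S0 S,
    Finset.inter_comm]
  refine Nat.add_lt_add_left ?_ _
  have hc' : (S \ S0).card = (S0 \ S).card := Finset.card_sdiff_comm hc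
  have hn : (S \ S0).Nonempty := by
    rw [Finset.sdiff_nonempty]
    exact fun h => hne (Finset.eq_of_subset_of_card_le h hc.ge)
  calc ∑ i ∈ S \ S0, f i < ∑ i ∈ S \ S0, g :=
        Finset.sum_lt_sum_of_nonempty hn fun i hi =>
          h1 i (Finset.mem_sdiff.1 hi).1 (Finset.mem_sdiff.1 hi).2
    _ = ∑ i ∈ S0 \ S, g := by simp [hc']
    _ ≤ _ := Finset.sum_le_sum fun i hi => h2 i (Finset.mem_sdiff.1 hi).1

lemma mon_mem_K {κ γ : Fin N →₀ ℕ} (hr : ∀ i, γ i % p = κ i % p) (h : ¬ Function.Injective γ) :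
    monomial γ (1 : ℂ) ∈ K p κ := by
  unfold Function.Injective at h
  push Not at h
  obtain ⟨i, j, he, hij⟩ := h
  have h2 : γ.mapDomain (swap i j) = γ := by
    ext k; rw [md_apply, swap_inv]
    by_cases hk : k = i
    · subst hk; simp [he]
    by_cases hk' : k = j
    · subst hk'; simp [he]
    rw [swap_apply_of_ne_of_ne hk hk']
  have h3 : rename (swap i j) (monomial γ (1 : ℂ)) - sg (swap i j) • monomial γ (1 : ℂ) ∈ K p κ := by
    refine Submodule.subset_span (Or.inl ⟨swap i j, _, fun k => ?_, rfl⟩)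
    rw [← hr, ← hr]
    conv_rhs => rw [← h2, md_apply, swap_inv]
  rw [rename_monomial, h2, sg_swap hij] at h3
  have := Submodule.smul_mem _ (2⁻¹ : ℂ) h3
  convert this using 1
  module

theorem mon_mem_Tw (hp : 0 < p) {κ : Fin N →₀ ℕ} (hκi : Function.Injective κ) (hκ : Gr p κ)
    (t0 w : ℕ) : ∀ γ : Fin N →₀ ℕ, (∀ i, γ i % p = κ i % p) → dg γ = dg κ + p * w →
      monomial γ (1 : ℂ) ∈ Tw p κ t0 w := by
  induction w using Nat.strong_induction_on with
  | _ w ihw =>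
  intro γ
  induction hq : Q γ using Nat.strong_induction_on generalizing γ with
  | _ q ihq =>
  intro hr hd
  by_cases hγ : Function.Injective γ
  swap
  · exact Submodule.mem_sup_left (mon_mem_K hr hγ)
  by_cases hg : Gr p γ
  · obtain ⟨π, hπ, e⟩ := gr_perm hg hκ hγ hκi hr
    have hw : w = 0 := by
      rw [e, dg_md] at hd
      have : p * w = 0 := by omega
      rcases Nat.mul_eq_zero.1 this with h | h <;> omega
    have e1 : monomial γ (1 : ℂ) = (rename π (monomial κ 1) - sg π • monomial κ 1) +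
        sg π • (W p κ 0 * monomial κ 1) := by
      rw [rename_monomial, ← e]; simp [W]
    rw [e1]
    refine add_mem (Submodule.mem_sup_left (Submodule.subset_span (Or.inl ⟨π, _, hπ, rfl⟩)))
      (Submodule.mem_sup_right (Submodule.smul_mem _ _ (Submodule.subset_span ⟨0, ?_, rfl⟩)))
    exact ⟨by simp, by simp [hw]⟩
  unfold Gr at hg
  push Not at hg
  obtain ⟨i0, hi0, hgap⟩ := hg
  set t := κ i0 % p with ht
  set S0 := Finset.univ.filter (fun i => κ i % p = t ∧ γ i0 ≤ γ i) with hS0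
  have mS0 : ∀ i, i ∈ S0 ↔ κ i % p = t ∧ γ i0 ≤ γ i := fun i => by simp [hS0]
  have hle : sv p S0 ≤ γ := fun i => by
    rw [sv_apply]; split_ifs with h
    · exact hi0.trans ((mS0 i).1 h).2
    · exact Nat.zero_le _
  obtain ⟨γ', hγ'⟩ := exists_add_of_le hle
  have a1 : ∀ i ∈ S0, γ i = p + γ' i := fun i hi => by
    rw [hγ', Finsupp.add_apply, sv_apply, if_pos hi]
  have a2 : ∀ i, i ∉ S0 → γ i = γ' i := fun i hi => by
    rw [hγ', Finsupp.add_apply, sv_apply, if_neg hi, zero_add]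
  have hr' : ∀ i, γ' i % p = κ i % p := fun i => by
    rw [← hr]
    by_cases hi : i ∈ S0
    · rw [a1 i hi, Nat.add_mod_left]
    · rw [a2 i hi]
  have b1 : ∀ i, κ i % p = t → i ∉ S0 → γ' i < γ i0 - p := fun i h1 h2 => by
    have h3 : γ i < γ i0 := by
      by_contra hc; exact h2 ((mS0 i).2 ⟨h1, not_lt.1 hc⟩)
    have h4 := add_le_of_mod (p := p) (by rw [hr, hr, h1]) h3
    have h5 := hgap i
    rw [← a2 i h2]; omega
  have b2 : ∀ i ∈ S0, γ i0 - p ≤ γ' i := fun i hi => by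
    have := a1 i hi; have := ((mS0 i).1 hi).2; omega
  have hinj' : Function.Injective γ' := fun a b hab => by
    by_cases ha : a ∈ S0 <;> by_cases hb : b ∈ S0
    · exact hγ (by rw [a1 a ha, a1 b hb, hab])
    · have := b1 b (by rw [← hr', ← hab, hr', ((mS0 a).1 ha).1]) hb
      have := b2 a ha; omega
    · have := b1 a (by rw [← hr', hab, hr', ((mS0 b).1 hb).1]) ha
      have := b2 b hb; omega
    · exact hγ (by rw [a2 a ha, a2 b hb, hab])
  obtain ⟨w', hw'⟩ := exists_wt hp hinj' hκi hκ hr'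
  have hk : 0 < S0.card := Finset.card_pos.2 ⟨i0, (mS0 i0).2 ⟨rfl, le_rfl⟩⟩
  have hww : w = w' + S0.card := by
    have := dg_add (sv p S0) γ'
    rw [← hγ', dg_sv, hd, hw'] at this
    apply Nat.eq_of_mul_eq_mul_left hp
    rw [mul_add]; omega
  have h1 := E_mul_Tw hp κ (t0 := t0) (t := t) (Nat.mod_lt _ hp) S0.card w' _
    (ihw w' (by omega) γ' hr' hw')
  have hm : S0 ∈ Finset.powersetCard S0.card (Finset.univ : Finset (Fin N)) := by simp
  rw [← hww, E_eq, Finset.sum_mul, ← Finset.add_sum_erase _ _ hm,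
    if_pos (fun i hi => ((mS0 i).1 hi).1), monomial_mul, ← hγ', mul_one] at h1
  refine (Submodule.add_mem_iff_left _ (Submodule.sum_mem _ fun S hS => ?_)).1 h1
  obtain ⟨hne, hS⟩ := Finset.mem_erase.1 hS
  have hc : S.card = S0.card := (Finset.mem_powersetCard.1 hS).2
  split_ifs with hSt
  · rw [monomial_mul, mul_one]
    refine ihq _ ?_ _ rfl (fun i => ?_) ?_
    · rw [← hq, hγ', Q_add, Q_add, hc]
      have := sum_lt_of hc hne γ' (γ i0 - p) (fun i hi h => b1 i (hSt i hi) h) b2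
      have := Nat.mul_lt_mul_of_pos_left this (show 0 < 2 * p by omega)
      omega
    · rw [Finsupp.add_apply, sv_apply, ← hr']
      split_ifs <;> simp
    · rw [dg_add, dg_sv, hw', hww, hc]; ring
  · simp

/-! counting words -/

def nx (w : ℕ) (x : Multiset (ℕ × ℕ) × ℕ) : Multiset (ℕ × ℕ) :=
  (w + 1 - (x.1.map Prod.fst).sum, x.2) ::ₘ x.1

def U (C : Finset ℕ) : ℕ → Finset (Multiset (ℕ × ℕ))
  | 0 => {0}
  | w + 1 => U C w ∪ (U C w ×ˢ C).image (nx w)

lemma card_U (C : Finset ℕ) (w : ℕ) : (U C w).card ≤ (C.card + 1) ^ w := by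
  induction w with
  | zero => simp [U]
  | succ w ih =>
    refine (Finset.card_union_le _ _).trans ?_
    have := Finset.card_image_le (s := U C w ×ˢ C) (f := nx w)
    rw [Finset.card_product] at this
    rw [pow_succ]
    nlinarith

lemma mem_image_nx (C : Finset ℕ) (w : ℕ)
    (ih : ∀ v ≤ w, ∀ m ∈ Mul C v, m ∈ U C w) {H : Finset ℕ} {m : Multiset (ℕ × ℕ)}
    (hm : m ∈ Mul C (w + 1)) {a : ℕ × ℕ} (ha : a ∈ m) (hH : a.2 ∈ H) :
    m ∈ (U C w ×ˢ H).image (nx w) := by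
  obtain ⟨m', rfl⟩ := Multiset.exists_cons_of_mem ha
  have h1 := hm.2
  rw [Multiset.map_cons, Multiset.sum_cons] at h1
  have h2 := (hm.1 a ha).1
  refine Finset.mem_image.2 ⟨(m', a.2), Finset.mem_product.2 ⟨ih (m'.map Prod.fst).sum (by omega) m'
    ⟨fun b hb => hm.1 b (Multiset.mem_cons_of_mem hb), rfl⟩, hH⟩, ?_⟩
  unfold nx
  congr 1
  ext
  · simp only; omega
  · rfl

lemma mem_U (C : Finset ℕ) (w : ℕ) : ∀ v ≤ w, ∀ m ∈ Mul C v, m ∈ U C w := by
  induction w with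
  | zero =>
    intro v hv m hm
    have : m = 0 := by
      by_contra hne
      obtain ⟨a, ha⟩ := Multiset.exists_mem_of_ne_zero hne
      have h1 := (hm.1 a ha).1
      have h2 := Multiset.single_le_sum (s := m.map Prod.fst) (fun _ _ => Nat.zero_le _) a.1
        (Multiset.mem_map_of_mem _ ha)
      have := hm.2
      omega
    simp [U, this]
  | succ w ih =>
    intro v hv m hm
    rcases Nat.lt_or_ge v (w + 1) with h | h
    · exact Finset.mem_union_left _ (ih v (by omega) m hm)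
    · have : v = w + 1 := by omega
      subst this
      have hne : m ≠ 0 := by rintro rfl; simpa using hm.2
      obtain ⟨a, ha⟩ := Multiset.exists_mem_of_ne_zero hne
      exact Finset.mem_union_right _ (mem_image_nx C w ih hm ha (hm.1 a ha).2)

lemma exists_cover (C H : Finset ℕ) (w : ℕ) : ∃ s : Finset (Multiset (ℕ × ℕ)),
    s.card ≤ H.card * (C.card + 1) ^ w ∧ ∀ m ∈ Mul C (w + 1), (∃ a ∈ m, a.2 ∈ H) → m ∈ s := by
  refine ⟨(U C w ×ˢ H).image (nx w), Finset.card_image_le.trans ?_, fun m hm ⟨a, ha, hH⟩ =>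
    mem_image_nx C w (mem_U C w) hm ha hH⟩
  rw [Finset.card_product, mul_comm]
  exact Nat.mul_le_mul_left _ (card_U C w)

end CA.H10Fock4
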