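import Cfsg.Agent.Lib.Char.H10Fock4
import Cfsg.Agent.Lib.Block.H11Sec
import Cfsg.Agent.S4426
import Cfsg.Agent.S0926

/-! Blocks of symmetric groups: common residues, rank of defect groups, spanning sets. -/

set_option autoImplicit false
set_option linter.unusedSectionVars false

namespace CA.H10Fock5
open MvPolynomial Equiv CA.H10Fock1 CA.H10Fock2 CA.H10Fock3 CA.H10Fock4 Cfsg CChar.CharFun
  CChar.CharGen CA.BlkCore CA.BlkDefect CA.BlkInd CA.BlkHeight CA.H13Span

variable {N n p : ℕ}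

section general
variable {G : Type*} [Group G] [Fintype G] [Fact p.Prime] {M : Ideal AlgInt}

lemma card_le_of_sec {D A : Subgroup G} {s : ℕ} (hs : SectionalPRankLE p s D) (hA : A ≤ D)
    (hc : ∀ a ∈ A, ∀ b ∈ A, a * b = b * a) (hp : ∀ a ∈ A, a ^ p = 1) : Nat.card A ≤ p ^ s := by
  have h := hs (A.subgroupOf D) ⊥ ⊤ ⟨⟨fun a b => ?_⟩⟩ ?_
  · rwa [Subgroup.card_top, Nat.card_congr QuotientGroup.quotientBot.toEquiv,
      Nat.card_congr (Subgroup.subgroupOfEquivOfLe hA).toEquiv] at h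
  · obtain ⟨a, ha⟩ := a
    obtain ⟨b, hb⟩ := b
    induction a using QuotientGroup.induction_on with | _ a => ?_
    induction b using QuotientGroup.induction_on with | _ b => ?_
    refine Subtype.ext ?_
    change ((a * b : A.subgroupOf D) : _ ⧸ (⊥ : Subgroup (A.subgroupOf D))) = ((b * a : A.subgroupOf D) : _)
    congr 1
    exact Subtype.ext (Subtype.ext (hc _ a.2 _ b.2))
  · intro a _
    induction a using QuotientGroup.induction_on with | _ a => ?_
    rw [← QuotientGroup.mk_pow, show a ^ p = 1 from Subtype.ext (Subtype.ext (hp _ a.2))]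
    rfl

lemma rank_le (hM : IsPModular p M) {B : Set (IrrCharacter G)} (hB : IsPBlock M B)
    {D : Subgroup G} (hD : IsDefectGroup p M B D) {s : ℕ} (hs : SectionalPRankLE p s D)
    {χ : IrrCharacter G} (hχ : χ ∈ B) {u : G} (hu : ∃ k, orderOf u = p ^ k) (h0 : χ.1 u ≠ 0)
    {A : Subgroup G} (hA : A ≤ Subgroup.centralizer {u})
    (hn : ∀ c ∈ Subgroup.centralizer {u}, ∀ a ∈ A, c * a * c⁻¹ ∈ A)
    (hc : ∀ a ∈ A, ∀ b ∈ A, a * b = b * a) (hp : ∀ a ∈ A, a ^ p = 1) : Nat.card A ≤ p ^ s := by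
  classical
  set H := Subgroup.centralizer ({u} : Set G) with hH
  have h1 := CA.H11Sec.sum_sp (p := p) (H := H) (u := u) hM le_rfl (irr_classFun χ.2)
  have h2 : ∑ b ∈ blocks M H, CA.H11Sec.sp p b u χ.1 ≠ 0 := by
    rw [h1]
    intro h
    have := congrFun h 1
    rw [pRegularPart, if_pos (by simp [IsPRegular, (Fact.out : p.Prime).ne_one])] at this
    exact h0 (by simpa using this)
  obtain ⟨b, hb, hne⟩ := Finset.exists_ne_zero_of_sum_ne_zero h2
  rw [mem_blocks] at hb
  have hind : IsInducedBlock M H b B := by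
    by_contra hnot
    exact hne (CA.H11Sec.sp_eq_zero_of_not_ind hM hu rfl hB hb hnot (inSpan_irr hχ))
  have hAp : IsPGroup p A := fun a => ⟨1, Subtype.ext (by simpa using hp a a.2)⟩
  haveI : (A.subgroupOf H).Normal := ⟨fun a ha c => hn c c.2 a ha⟩
  have hQ : IsPGroup p (A.subgroupOf H) :=
    hAp.of_equiv (Subgroup.subgroupOfEquivOfLe hA).symm
  have h3 := br_ne_zero_of_induced hM hind hQ (br_eB_ne_zero_of_normal hM hb hQ)
  rw [Subgroup.map_subgroupOf_eq_of_le hA] at h3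
  obtain ⟨x, hx⟩ := (br_eB_ne_zero_iff hM hB hD hAp).1 h3
  have h4 := card_le_of_sec hs hx ?_ ?_
  · rwa [Subgroup.card_map_of_injective (MulAut.conj x).injective] at h4
  · rintro _ ⟨a, ha, rfl⟩ _ ⟨b, hb, rfl⟩
    rw [← map_mul, ← map_mul, hc a ha b hb]
  · rintro _ ⟨a, ha, rfl⟩
    rw [← map_pow, hp a ha, map_one]

lemma exists_singular (hM : IsPModular p M) {B : Set (IrrCharacter G)} (hB : IsPBlock M B)
    {D : Subgroup G} (hD : IsDefectGroup p M B D) (hD1 : D ≠ ⊥) :
    ∃ χ ∈ B, ∃ g, p ∣ orderOf g ∧ χ.1 g ≠ 0 := by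
  obtain ⟨χ, hχ, h0⟩ := exists_height_zero (p := p) (block_nonempty hM hB)
  obtain ⟨⟨x, hx⟩, hx1⟩ := Subgroup.ne_bot_iff_exists_ne_one.1 hD1
  obtain ⟨k, hk⟩ := IsPGroup.iff_orderOf.1 (isPGroup_of_isDefectGroup hD) ⟨x, hx⟩
  rw [Subgroup.orderOf_mk] at hk
  obtain ⟨u, ⟨z, ⟨y, hy, hc, -, hy'⟩, hz⟩, hu⟩ :=
    (Cfsg.Agent.S0926.result p M hM B hB D hD χ hχ h0 x ⟨k, hk⟩).1 ⟨1, by simpa using hx⟩
  refine ⟨χ, hχ, u, ?_, hu⟩
  have hk0 : k ≠ 0 := by
    rintro rfl
    exact hx1 (Subtype.ext (by simpa using hk))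
  have hz' : orderOf z = p ^ k := by
    obtain ⟨c, rfl⟩ := isConj_iff.1 hz
    rw [← hk]; exact (MulAut.conj c).orderOf_eq x
  have hcop : (orderOf z).Coprime (orderOf y) := by
    rw [hz']; exact Nat.Coprime.pow_left _ ((Nat.Prime.coprime_iff_not_dvd Fact.out).2 hy')
  rw [← hy, hc.orderOf_mul_eq_mul_orderOf_of_coprime hcop, hz']
  exact Dvd.dvd.mul_right (dvd_pow_self p hk0) _

lemma exists_link (hM : IsPModular p M) {B : Set (IrrCharacter G)} (hB : IsPBlock M B) :
    ∃ χ ∈ B, ∀ ψ ∈ B, classInner (pRegularPart p χ.1) ψ.1 ≠ 0 := by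
  obtain ⟨χ, hχ, h0⟩ := exists_height_zero (p := p) (block_nonempty hM hB)
  refine ⟨χ, hχ, fun ψ hψ h => ?_⟩
  obtain ⟨m, hm, hm0, -⟩ := (Cfsg.Agent.S4426.result p M hM B hB χ hχ).2.1 h0 ψ hψ
  have e : (fun x : G => if p ∣ orderOf x then (0 : ℂ) else
      ((p ^ (Nat.card G).factorization p : ℕ) : ℂ) * χ.1 x) =
      ((p ^ (Nat.card G).factorization p : ℕ) : ℂ) • pRegularPart p χ.1 := by
    ext x; by_cases hx : p ∣ orderOf x <;> simp [pRegularPart, IsPRegular, hx]
  rw [e, CChar.CharFun.inner_smul_left, h, mul_zero] at hm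
  exact hm0 (by exact_mod_cast hm.symm)

end general

lemma exists_E {u : Perm (Fin n)} {w : ℕ} (hu : u.cycleType = Multiset.replicate w p) :
    ∃ E : Subgroup (Perm (Fin n)), E ≤ Subgroup.centralizer {u} ∧
      (∀ c ∈ Subgroup.centralizer {u}, ∀ a ∈ E, c * a * c⁻¹ ∈ E) ∧
      (∀ a ∈ E, ∀ b ∈ E, a * b = b * a) ∧ (∀ a ∈ E, a ^ p = 1) ∧ p ^ w ≤ Nat.card E := by
  have hord : ∀ c ∈ u.cycleFactorsFinset, orderOf c = p := fun c hc => by
    rw [(Perm.mem_cycleFactorsFinset_iff.1 hc).1.orderOf]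
    refine Multiset.eq_of_mem_replicate (n := w) ?_
    rw [← hu, Perm.cycleType_def]
    exact Multiset.mem_map_of_mem _ hc
  have hcard : u.cycleFactorsFinset.card = w := by
    have := congrArg Multiset.card hu
    rwa [Perm.cycleType_def, Multiset.card_map, Multiset.card_replicate] at this
  have hc : ∀ a ∈ Subgroup.closure (u.cycleFactorsFinset : Set (Perm (Fin n))),
      ∀ b ∈ Subgroup.closure (u.cycleFactorsFinset : Set (Perm (Fin n))), Commute a b := by
    intro a ha b hb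
    induction ha, hb using Subgroup.closure_induction₂ with
    | mem x y hx hy => exact Perm.cycleFactorsFinset_mem_commute' u hx hy
    | one_left => exact Commute.one_left _
    | one_right => exact Commute.one_right _
    | mul_left x y z _ _ _ h1 h2 => exact h1.mul_left h2
    | mul_right x y z _ _ _ h1 h2 => exact h1.mul_right h2
    | inv_left x y _ _ h => exact h.inv_left
    | inv_right x y _ _ h => exact h.inv_right
  refine ⟨Subgroup.closure (u.cycleFactorsFinset : Set (Perm (Fin n))), ?_, ?_, hc, ?_, ?_⟩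
  · rw [Subgroup.closure_le]
    intro c hc
    exact Subgroup.mem_centralizer_singleton_iff.2 (Perm.self_mem_cycle_factors_commute hc)
  · intro c hc a ha
    induction ha using Subgroup.closure_induction with
    | mem x hx =>
      refine Subgroup.subset_closure ?_
      have := (Perm.mem_cycleFactorsFinset_conj u c x).2 hx
      rwa [Subgroup.mem_centralizer_singleton_iff.1 hc, mul_inv_cancel_right] at this
    | one => simp
    | mul x y _ _ hx hy => rw [← conj_mul]; exact mul_mem hx hy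
    | inv x _ hx => rw [← conj_inv]; exact inv_mem hx
  · intro a ha
    induction ha using Subgroup.closure_induction with
    | mem x hx => rw [← hord x hx, pow_orderOf_eq_one]
    | one => simp
    | mul x y hx hy h1 h2 => rw [(hc x hx y hy).mul_pow, h1, h2, mul_one]
    | inv x _ hx => rw [inv_pow, hx, inv_one]
  · have hmem : ∀ v : (c : u.cycleFactorsFinset) → Subgroup.zpowers c.val,
        Perm.OnCycleFactors.kerParam u (1, v) ∈
          Subgroup.closure (u.cycleFactorsFinset : Set (Perm (Fin n))) := fun v => by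
      rw [Perm.OnCycleFactors.kerParam, MonoidHom.noncommCoprod_apply, map_one, one_mul]
      have : Subgroup.noncommPiCoprod u.pairwise_commute_of_mem_zpowers v ∈
          (Subgroup.noncommPiCoprod u.pairwise_commute_of_mem_zpowers).range := ⟨v, rfl⟩
      rw [Subgroup.noncommPiCoprod_range] at this
      have hle : (⨆ c : u.cycleFactorsFinset, Subgroup.zpowers c.val) ≤
          Subgroup.closure (u.cycleFactorsFinset : Set (Perm (Fin n))) :=
        iSup_le fun c => (Subgroup.zpowers_le).2 (Subgroup.subset_closure c.2)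
      exact hle this
    have hle := Nat.card_le_card_of_injective
      (fun v : (c : u.cycleFactorsFinset) → Subgroup.zpowers c.val =>
        (⟨_, hmem v⟩ : Subgroup.closure (u.cycleFactorsFinset : Set (Perm (Fin n)))))
      (fun v v' h => by
        have := Perm.OnCycleFactors.kerParam_injective u (congrArg Subtype.val h)
        exact (Prod.ext_iff.1 this).2)
    rw [Nat.card_pi] at hle
    simp only [Nat.card_zpowers] at hle
    rwa [Finset.prod_congr rfl (fun c _ => hord c.1 c.2), Finset.prod_const, Finset.card_univ,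
      Fintype.card_coe, hcard] at hle

lemma exists_part (hp : p.Prime) {g : Perm (Fin n)} (hg : p ∣ orderOf g) :
    ∃ r ∈ g.partition.parts, p ∣ r := by
  rw [← Perm.lcm_cycleType] at hg
  have h1 : g.cycleType.lcm ∣ g.cycleType.prod := Multiset.lcm_dvd.2 fun b hb => Multiset.dvd_prod hb
  obtain ⟨r, hr, h⟩ := Prime.exists_mem_multiset_dvd hp.prime (hg.trans h1)
  exact ⟨r, by rw [Perm.parts_partition]; exact Multiset.mem_add.2 (Or.inl hr), h⟩

lemma not_part (hp : p.Prime) {g : Perm (Fin n)} (hg : ¬ p ∣ orderOf g) {r : ℕ} (hr : p ∣ r) :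
    r ∉ g.partition.parts := fun h => by
  rw [Perm.parts_partition, Multiset.mem_add] at h
  rcases h with h | h
  · exact hg (hr.trans (Perm.dvd_of_mem_cycleType h))
  · rw [Multiset.eq_of_mem_replicate h] at hr
    exact hp.ne_one (Nat.dvd_one.1 hr)

lemma pp_sing (hp : p.Prime) {g : Perm (Fin n)} (hg : p ∣ orderOf g) :
    ∃ (j : ℕ) (ρ : Multiset ℕ), 0 < j ∧ pp N g * vd N = ps (p * j) * (pm ρ * vd N) := by
  obtain ⟨r, hr, j, rfl⟩ := exists_part hp hg
  obtain ⟨ρ, hρ⟩ := Multiset.exists_cons_of_mem hr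
  exact ⟨j, ρ, Nat.pos_of_mul_pos_left (parts_pos g _ hr), by rw [pp, hρ, pm_cons, mul_assoc]⟩

lemma pr_ps_reg (hN : n ≤ N) (hp : p.Prime) {g : Perm (Fin n)} (hg : ¬ p ∣ orderOf g) {j : ℕ}
    (hj : 0 < j) (H : Poly N) : pr (ps (p * j) * H) (pp N g * vd N) = 0 := by
  rw [pr_ps_mul, pp, wick (Nat.mul_pos hp.pos hj) _ (by rw [parts_sum]; exact hN),
    Multiset.count_eq_zero_of_notMem (not_part hp hg (Dvd.intro _ rfl))]
  simp

noncomputable def II (N p : ℕ) : Submodule ℂ (Poly N) :=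
  Submodule.span ℂ {F | ∃ (j : ℕ) (H : Poly N), 0 < j ∧ F = ps (p * j) * H}

lemma T_sub_mem (hp : p.Prime) (f : Perm (Fin n) → ℂ) :
    T N f - T N (pRegularPart p f) ∈ II N p := by
  unfold T
  rw [← smul_sub, ← Finset.sum_sub_distrib]
  refine Submodule.smul_mem _ _ (Submodule.sum_mem _ fun g _ => ?_)
  by_cases hg : p ∣ orderOf g
  · obtain ⟨j, ρ, hj, e⟩ := pp_sing (N := N) hp hg
    rw [← sub_smul]
    exact Submodule.smul_mem _ _ (Submodule.subset_span ⟨j, _, hj, e⟩)
  · simp [pRegularPart, IsPRegular, hg]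

lemma pr_T_reg (hN : n ≤ N) (hp : p.Prime) (f : Perm (Fin n) → ℂ) {F : Poly N} (hF : F ∈ II N p) :
    pr (T N (pRegularPart p f)) F = 0 := by
  induction hF using Submodule.span_induction with
  | mem F h =>
    obtain ⟨j, H, hj, rfl⟩ := h
    rw [pr_T_left, Finset.sum_eq_zero, mul_zero]
    intro g _
    by_cases hg : p ∣ orderOf g
    · simp [pRegularPart, IsPRegular, hg]
    · rw [pr_comm, pr_ps_reg hN hp hg hj, mul_zero]
  | zero => simp
  | add x y _ _ hx hy => rw [map_add, hx, hy, add_zero]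
  | smul c x _ hx => rw [map_smul, hx, smul_zero]

def SameCt (p : ℕ) (β γ : Fin N →₀ ℕ) : Prop := ∃ π : Perm (Fin N), ∀ i, γ (π i) % p = β i % p

lemma SameCt.symm {β γ : Fin N →₀ ℕ} (h : SameCt p β γ) : SameCt p γ β := by
  obtain ⟨π, h⟩ := h
  exact ⟨π⁻¹, fun i => by rw [← h]; simp⟩
lemma SameCt.trans {β γ δ : Fin N →₀ ℕ} (h : SameCt p β γ) (h' : SameCt p γ δ) : SameCt p β δ := by
  obtain ⟨π, h⟩ := h
  obtain ⟨σ, h'⟩ := h'
  exact ⟨σ * π, fun i => by rw [Perm.mul_apply, h', h]⟩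
lemma sameCt_md (β : Fin N →₀ ℕ) (π : Perm (Fin N)) : SameCt p β (β.mapDomain π) :=
  ⟨π, fun i => by simp [md_apply]⟩
lemma sameCt_of_res {β γ : Fin N →₀ ℕ} (h : ∀ i, γ i % p = β i % p) : SameCt p β γ := ⟨1, h⟩

open Classical in
noncomputable def proj (p : ℕ) (β : Fin N →₀ ℕ) : Poly N →ₗ[ℂ] Poly N :=
  (basisMonomials (Fin N) ℂ).constr ℂ (fun γ => if SameCt p β γ then monomial γ 1 else 0)

open Classical in
lemma proj_monomial (β γ : Fin N →₀ ℕ) (a : ℂ) :
    proj p β (monomial γ a) = if SameCt p β γ then monomial γ a else 0 := by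
  have : monomial γ a = a • (basisMonomials (Fin N) ℂ) γ := by simp [smul_monomial]
  conv_lhs => rw [this, map_smul, proj, Module.Basis.constr_basis]
  split_ifs <;> simp [smul_monomial]

lemma pr_proj (β : Fin N →₀ ℕ) (F G : Poly N) : pr (proj p β F) G = pr F (proj p β G) := by
  induction F using MvPolynomial.induction_on' with
  | add a b ha hb => simp [ha, hb]
  | monomial u a =>
    induction G using MvPolynomial.induction_on' with
    | add a b ha hb => simp [ha, hb]
    | monomial v b =>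
      rw [proj_monomial, proj_monomial]
      by_cases h : u = v
      · subst h; split_ifs <;> simp
      · split_ifs <;> simp [pr_monomial, coeff_monomial, Ne.symm h]

lemma proj_ps (β : Fin N →₀ ℕ) (j : ℕ) (H : Poly N) :
    proj p β (ps (p * j) * H) = ps (p * j) * proj p β H := by
  induction H using MvPolynomial.induction_on' with
  | add a b ha hb => simp [mul_add, ha, hb]
  | monomial u a =>
    have e : ∀ i, SameCt p β (Finsupp.single i (p * j) + u) ↔ SameCt p β u := fun i => by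
      have : ∀ k, (Finsupp.single i (p * j) + u : Fin N →₀ ℕ) k % p = u k % p := fun k => by
        rw [Finsupp.add_apply, Finsupp.single_apply]; split_ifs <;> simp
      exact ⟨fun h => h.trans (sameCt_of_res fun k => (this k).symm),
        fun h => h.trans (sameCt_of_res this)⟩
    rw [proj_monomial, ps_eq, Finset.sum_mul, map_sum]
    simp only [monomial_mul, proj_monomial]
    split_ifs with h
    · rw [Finset.sum_mul]
      exact Finset.sum_congr rfl fun i _ => by rw [if_pos ((e i).2 h), monomial_mul]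
    · rw [mul_zero]
      exact Finset.sum_eq_zero fun i _ => if_neg (fun h' => h ((e i).1 h'))

lemma proj_II (β : Fin N →₀ ℕ) {F : Poly N} (hF : F ∈ II N p) : proj p β F ∈ II N p := by
  induction hF using Submodule.span_induction with
  | mem F h =>
    obtain ⟨j, H, hj, rfl⟩ := h
    exact Submodule.subset_span ⟨j, _, hj, proj_ps β j H⟩
  | zero => simp
  | add x y _ _ hx hy => rw [map_add]; exact add_mem hx hy
  | smul c x _ hx => rw [map_smul]; exact Submodule.smul_mem _ _ hx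

open Classical in
lemma proj_Alt (β γ : Fin N →₀ ℕ) : proj p β (Alt (monomial γ 1)) =
    if SameCt p β γ then Alt (monomial γ 1) else 0 := by
  have e : ∀ π : Perm (Fin N), SameCt p β (γ.mapDomain π) ↔ SameCt p β γ := fun π =>
    ⟨fun h => h.trans (sameCt_md γ π).symm, fun h => h.trans (sameCt_md γ π)⟩
  rw [Alt_monomial, map_sum]
  simp only [map_smul, proj_monomial, e]
  split_ifs <;> simp

lemma sameCt_of_inner (hN : n ≤ N) (hp : p.Prime) {ψ ψ' : Perm (Fin n) → ℂ}
    (hψ' : IsGeneralizedCharacter _ ψ') {β β' : Fin N →₀ ℕ} {a a' : ℂ}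
    (h : T N ψ = a • Alt (monomial β 1)) (h' : T N ψ' = a' • Alt (monomial β' 1))
    (hi : classInner (pRegularPart p ψ) ψ' ≠ 0) : SameCt p β' β := by
  by_contra hne
  apply hi
  have e1 : proj p β' (T N ψ) = 0 := by rw [h, map_smul, proj_Alt, if_neg hne, smul_zero]
  have e2 : proj p β' (T N ψ') = T N ψ' := by
    rw [h', map_smul, proj_Alt, if_pos (sameCt_of_res fun _ => rfl)]
  have e3 : proj p β' (T N (pRegularPart p ψ)) ∈ II N p := by
    have := proj_II β' (T_sub_mem (N := N) hp ψ)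
    rwa [map_sub, e1, zero_sub, neg_mem_iff] at this
  have e4 : pr (T N (pRegularPart p ψ)) (T N ψ') = 0 := by
    rw [← e2, ← sub_add_cancel (T N ψ') (T N (pRegularPart p ψ')), map_add, map_add,
      pr_T_reg hN hp _ (proj_II _ (T_sub_mem hp ψ')), ← pr_proj, pr_comm, pr_T_reg hN hp _ e3,
      add_zero]
  rw [pr_T_T hN _ (gen_classFun hψ'), ← inner_eq _ hψ'] at e4
  exact (mul_eq_zero.1 e4).resolve_left (Nat.cast_ne_zero.2 (Nat.factorial_ne_zero _))

lemma chi_md (β : Fin N →₀ ℕ) (π : Perm (Fin N)) (g : Perm (Fin n)) :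
    chi (β.mapDomain π) g = sg π * chi β g := (antisym_pp g).coeff_md π β

lemma sg_cases (π : Perm (Fin N)) : sg π = 1 ∨ sg π = -1 := by
  unfold sg
  rcases Int.units_eq_one_or (Perm.sign π) with h | h <;> simp [h]

/-- `ψ = ± χ^γ` with `γ` on the abacus of `κ`. -/
def Lab (p : ℕ) (κ : Fin N →₀ ℕ) (ψ : Perm (Fin n) → ℂ) : Prop :=
  ∃ (γ : Fin N →₀ ℕ) (a : ℂ), Function.Injective γ ∧ (∀ i, γ i % p = κ i % p) ∧
    (a = 1 ∨ a = -1) ∧ ∀ g, ψ g = a * chi γ g

lemma lab_of_sameCt {κ β : Fin N →₀ ℕ} {ψ : Perm (Fin n) → ℂ} {a : ℂ} (hβ : Function.Injective β)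
    (ha : a = 1 ∨ a = -1) (h : ∀ g, ψ g = a * chi β g) (hs : SameCt p κ β) : Lab p κ ψ := by
  obtain ⟨π, hπ⟩ := hs
  refine ⟨β.mapDomain ⇑(π⁻¹), a * sg π, fun i j hij => ?_, fun i => by rw [md_apply, inv_inv, hπ],
    ?_, fun g => ?_⟩
  · rw [md_apply, md_apply] at hij
    exact (π⁻¹)⁻¹.injective (hβ hij)
  · rcases ha with h | h <;> rcases sg_cases π with h' | h' <;> simp [h, h']
  · rw [chi_md, sg_inv, h, mul_assoc, ← mul_assoc (sg π), sg_sq, one_mul]

theorem block_data [Fact p.Prime] (hN : n ≤ N) {M : Ideal AlgInt} (hM : IsPModular p M)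
    {B : Set (IrrCharacter (Perm (Fin n)))} (hB : IsPBlock M B) :
    ∃ (κ : Fin N →₀ ℕ) (w : ℕ), Function.Injective κ ∧ Gr p κ ∧
      dg (dl N) + n = dg κ + p * w ∧ ∀ ψ ∈ B, Lab p κ ψ.1 := by
  have hp : p.Prime := Fact.out
  obtain ⟨χ, hχ, hl⟩ := exists_link hM hB
  obtain ⟨β, a, hβ, ha, hT, hc⟩ := exists_beta hN χ.2
  obtain ⟨κ, w, k1, k2, k3, k4⟩ := exists_gr hp.pos hβ
  refine ⟨κ, w, k1, k2, ?_, fun ψ hψ => ?_⟩
  · rw [← k4, dg_of_chi (n := n) (β := β) (g := 1)]
    intro h0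
    exact irr_apply_one_ne_zero χ.2 (by rw [hc, h0, mul_zero])
  · obtain ⟨β', a', hβ', ha', hT', hc'⟩ := exists_beta hN ψ.2
    exact lab_of_sameCt hβ' ha' hc' ((sameCt_of_res k3.1).trans
      (sameCt_of_inner hN hp (gen_of_irr ψ.2) hT hT' (hl ψ hψ)).symm)

lemma chi_sing (hp : p.Prime) {κ γ : Fin N →₀ ℕ} (hκi : Function.Injective κ) (hκ : Gr p κ)
    (hγ : Function.Injective γ) (hr : ∀ i, γ i % p = κ i % p) (hd : dg γ = dg κ)
    {g : Perm (Fin n)} (hg : p ∣ orderOf g) : chi γ g = 0 := by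
  obtain ⟨κ', w, a, b, c, d⟩ := exists_gr hp.pos hγ
  obtain ⟨π, -, hπ⟩ := gr_perm b hκ a hκi (fun i => by rw [← c.1, hr])
  have e : γ = κ' := eq_of_le_of_dg (le_of_gr hp.pos b c) (by rw [hd, hπ, dg_md])
  obtain ⟨j, ρ, hj, h⟩ := pp_sing (N := N) hp hg
  rw [chi, h, e]
  exact coeff_gr_eq_zero b (Nat.mul_pos hp.pos hj) (Dvd.intro _ rfl) (antisym_vd.pm_mul ρ)

lemma chi_ne_zero (hp : p.Prime) {κ γ : Fin N →₀ ℕ} (hκi : Function.Injective κ) (hκ : Gr p κ)
    (hγ : Function.Injective γ) (hr : ∀ i, γ i % p = κ i % p) {w : ℕ}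
    (hd : dg (dl N) + n = dg κ + p * w) (hd' : dg γ = dg (dl N) + n) :
    p * w ≤ n ∧ ∀ u : Perm (Fin n), u.cycleType = Multiset.replicate w p → chi γ u ≠ 0 := by
  obtain ⟨κ', w', a, b, c, d⟩ := exists_gr hp.pos hγ
  obtain ⟨π, -, hπ⟩ := gr_perm b hκ a hκi (fun i => by rw [← c.1, hr])
  have e : dg γ = dg κ' + p * w := by rw [hd', hd, hπ, dg_md]
  obtain ⟨h1, h2⟩ := coeff_ne_zero hp.pos hγ a b c e hd'
  refine ⟨h1, fun u hu => ?_⟩
  rwa [chi, pp, Perm.parts_partition, ← Perm.sum_cycleType, hu, Fintype.card_fin,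
    Multiset.sum_replicate, smul_eq_mul, mul_comm w p]

open Classical in
noncomputable def Phi (N n p : ℕ) : Poly N →ₗ[ℂ] (Perm (Fin n) → ℂ) where
  toFun F g := if p ∣ orderOf g then 0 else pr F (pp N g * vd N)
  map_add' F G := by ext g; by_cases h : p ∣ orderOf g <;> simp [h]
  map_smul' c F := by ext g; by_cases h : p ∣ orderOf g <;> simp [h]

lemma Phi_monomial (γ : Fin N →₀ ℕ) : Phi N n p (monomial γ 1) = pRegularPart p (chi γ) := by
  ext g; by_cases h : p ∣ orderOf g <;> simp [Phi, h, pRegularPart, IsPRegular, pr_monomial, chi]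

lemma Phi_K (hN : n ≤ N) (hp : p.Prime) {κ : Fin N →₀ ℕ} {F : Poly N} (hF : F ∈ K p κ) :
    Phi N n p F = 0 := by
  induction hF using Submodule.span_induction with
  | mem F h =>
    ext g
    by_cases hg : p ∣ orderOf g
    · simp [Phi, hg]
    rcases h with ⟨π, G, hπ, rfl⟩ | ⟨j, H, hj, rfl⟩
    · simp [Phi, hg, pr_rename π G (antisym_pp g)]
    · simp [Phi, hg, pr_ps_reg hN hp hg hj]
  | zero => simp
  | add x y _ _ hx hy => rw [map_add, hx, hy, add_zero]
  | smul c x _ hx => rw [map_smul, hx, smul_zero]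

theorem pReg_mem (hN : n ≤ N) (hp : p.Prime) {κ : Fin N →₀ ℕ} (hκi : Function.Injective κ)
    (hκ : Gr p κ) {w : ℕ} (hd : dg (dl N) + n = dg κ + p * w) (t0 : ℕ) {ψ : Perm (Fin n) → ℂ}
    (h1 : ψ 1 ≠ 0) (h : Lab p κ ψ) : pRegularPart p ψ ∈ Submodule.span ℂ
      ((fun m => Phi N n p (W p κ m * monomial κ 1)) '' Mul ((Finset.range p).erase t0) w) := by
  obtain ⟨γ, a, hγ, hr, ha, hc⟩ := h
  have e : pRegularPart p ψ = a • Phi N n p (monomial γ 1) := by
    rw [Phi_monomial]; ext g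
    by_cases h : p ∣ orderOf g <;> simp [h, pRegularPart, IsPRegular, hc]
  have hd' : dg γ = dg κ + p * w := by
    rw [← hd, dg_of_chi (n := n) (β := γ) (g := 1)]
    intro h0; exact h1 (by rw [hc, h0, mul_zero])
  obtain ⟨x, hx, y, hy, hxy⟩ := Submodule.mem_sup.1 (mon_mem_Tw hp.pos hκi hκ t0 w γ hr hd')
  rw [e, ← hxy, map_add, Phi_K hN hp hx, zero_add]
  refine Submodule.smul_mem _ _ ?_
  have := Submodule.mem_map_of_mem (f := Phi N n p) hy
  rwa [Submodule.map_span, Set.image_image] at this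

lemma finrank_span_le {V ι : Type*} [AddCommGroup V] [Module ℂ V] (f : ι → V) (S : Finset ι)
    {T : Set V} (h : ∀ x ∈ T, x ∈ Submodule.span ℂ (f '' S)) :
    Module.finrank ℂ (Submodule.span ℂ T) ≤ S.card := by
  classical
  haveI : FiniteDimensional ℂ (Submodule.span ℂ ((S.image f : Finset V) : Set V)) :=
    FiniteDimensional.span_finset _ _
  refine le_trans (Submodule.finrank_mono (t := Submodule.span ℂ ((S.image f : Finset V) : Set V))
    ?_) ((finrank_span_finset_le_card _).trans Finset.card_image_le)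
  rw [Submodule.span_le, Finset.coe_image]
  exact h

lemma exists_u (hp : p.Prime) {w : ℕ} (h : p * (w + 1) ≤ n) :
    ∃ u : Perm (Fin n), u.cycleType = Multiset.replicate (w + 1) p ∧ orderOf u = p := by
  obtain ⟨u, hu⟩ := (Perm.exists_with_cycleType_iff (Fin n)
    (m := Multiset.replicate (w + 1) p)).2 ⟨by
      rw [Multiset.sum_replicate, Fintype.card_fin, smul_eq_mul, mul_comm]; exact h,
      fun a ha => by rw [Multiset.eq_of_mem_replicate ha]; exact hp.two_le⟩
  refine ⟨u, hu, ?_⟩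
  rw [← Perm.lcm_cycleType, hu]
  exact Nat.dvd_antisymm (Multiset.lcm_dvd.2 fun b hb => by rw [Multiset.eq_of_mem_replicate hb])
    (Multiset.dvd_lcm (by simp))

end CA.H10Fock5
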