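import Cfsg.Agent.Lib.Char.H10Fock5

/-! Particle-hole duality: multiplication by the sign character. -/

set_option autoImplicit false
set_option linter.unusedSectionVars false

namespace CA.H10Fock6
open MvPolynomial Equiv CA.H10Fock1 CA.H10Fock2 CA.H10Fock3 CA.H10Fock4 CA.H10Fock5 Cfsg
  CChar.CharFun CChar.CharGen

variable {N n p M : ℕ}

noncomputable def sn (a b : ℕ) : ℂ := if a < b then 1 else if b < a then -1 else 0

lemma sn_anti (a b : ℕ) : sn a b = - sn b a := by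
  unfold sn; split_ifs <;> first | omega | simp
lemma sn_sq {a b : ℕ} (h : a ≠ b) : sn a b * sn a b = 1 := by
  unfold sn; split_ifs <;> first | omega | simp

noncomputable def sv' (γ : Fin N →₀ ℕ) : ℂ := ∏ i, ∏ j ∈ Finset.Ioi i, sn (γ i) (γ j)

lemma sv_md (γ : Fin N →₀ ℕ) (π : Perm (Fin N)) : sv' (γ.mapDomain π) = sg π * sv' γ := by
  unfold sv'
  simp only [md_apply]
  rw [Perm.prod_Ioi_comp_eq_sign_mul_prod π⁻¹ (f := fun i j => sn (γ i) (γ j))
    (fun i j => sn_anti _ _), ← sg_inv]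
  rfl

lemma sv_sq {γ : Fin N →₀ ℕ} (h : Function.Injective γ) : sv' γ * sv' γ = 1 := by
  unfold sv'
  rw [← Finset.prod_mul_distrib]
  refine Finset.prod_eq_one fun i _ => ?_
  rw [← Finset.prod_mul_distrib]
  exact Finset.prod_eq_one fun j hj => sn_sq fun e => (Finset.mem_Ioi.1 hj).ne (h e)

lemma sv_cases {γ : Fin N →₀ ℕ} (h : Function.Injective γ) : sv' γ = 1 ∨ sv' γ = -1 :=
  mul_self_eq_one_iff.1 (sv_sq h)

/-- sign of passing over `z` when moving from `x` to `x + r` -/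
noncomputable def bt (x r z : ℕ) : ℂ := if x < z ∧ z < x + r then -1 else 1

lemma sv_move {γ : Fin N →₀ ℕ} (h : Function.Injective γ) (i : Fin N) (r : ℕ)
    (h' : Function.Injective (Finsupp.single i r + γ : Fin N →₀ ℕ)) :
    sv' γ * sv' (Finsupp.single i r + γ) = ∏ j, bt (γ i) r (γ j) := by
  set γ' : Fin N →₀ ℕ := Finsupp.single i r + γ with hγ'
  have e1 : γ' i = r + γ i := by simp [hγ']
  have e2 : ∀ j, j ≠ i → γ' j = γ j := fun j hj => by simp [hγ', Finsupp.single_eq_of_ne hj]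
  have e3 : ∀ j, j ≠ i → sn (γ i) (γ j) * sn (γ' i) (γ' j) = bt (γ i) r (γ j) := fun j hj => by
    have a1 : γ j ≠ γ i := fun e => hj (h e)
    have a2 : γ' j ≠ γ' i := fun e => hj (h' e)
    rw [e1, e2 j hj] at *
    unfold sn bt
    split_ifs <;> first | omega | simp
  have e4 : ∀ a b, a < b → sn (γ a) (γ b) * sn (γ' a) (γ' b) =
      (if a = i then bt (γ i) r (γ b) else 1) * (if b = i then bt (γ i) r (γ a) else 1) := by
    intro a b hab
    by_cases ha : a = i
    · subst ha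
      rw [if_pos rfl, if_neg hab.ne', mul_one, e3 b hab.ne']
    · by_cases hb : b = i
      · subst hb
        rw [if_neg ha, if_pos rfl, one_mul, sn_anti (γ a), sn_anti (γ' a), neg_mul_neg, e3 a ha]
      · rw [if_neg ha, if_neg hb, e2 a ha, e2 b hb, sn_sq (fun e => hab.ne (h e)), mul_one]
  unfold sv'
  rw [← Finset.prod_mul_distrib]
  have e5 : ∀ a, (∏ j ∈ Finset.Ioi a, sn (γ a) (γ j)) * ∏ j ∈ Finset.Ioi a, sn (γ' a) (γ' j) =
      (if a = i then ∏ b, (if i < b then bt (γ i) r (γ b) else 1) else 1) *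
        (if a < i then bt (γ i) r (γ a) else 1) := fun a => by
    rw [← Finset.prod_mul_distrib, Finset.prod_congr rfl
      (fun b hb => e4 a b (Finset.mem_Ioi.1 hb)), Finset.prod_mul_distrib, Finset.prod_ite_eq']
    simp only [Finset.mem_Ioi]
    congr 1
    split_ifs with ha
    · subst ha
      rw [← Finset.prod_filter]
      exact Finset.prod_congr (by ext; simp) fun _ _ => rfl
    · simp
  simp only [e5]
  rw [Finset.prod_mul_distrib, Finset.prod_ite_eq', if_pos (Finset.mem_univ _),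
    ← Finset.prod_mul_distrib]
  refine Finset.prod_congr rfl fun j _ => ?_
  rcases lt_trichotomy i j with hj | hj | hj
  · rw [if_pos hj, if_neg hj.not_gt, mul_one]
  · subst hj; simp [bt]
  · rw [if_neg hj.not_gt, if_pos hj, one_mul]

structure Dual (M : ℕ) (γ μ : Fin N →₀ ℕ) : Prop where
  i1 : Function.Injective γ
  i2 : Function.Injective μ
  b1 : ∀ i, γ i < M
  b2 : ∀ i, μ i < M
  d : ∀ x y, x + y + 1 = M → ((∃ i, γ i = x) ↔ ¬ ∃ j, μ j = y)

lemma Dual.symm {γ μ : Fin N →₀ ℕ} (h : Dual M γ μ) : Dual M μ γ :=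
  ⟨h.i2, h.i1, h.b2, h.b1, fun x y e => by rw [h.d y x (by omega), not_not]⟩

lemma ex_md (γ : Fin N →₀ ℕ) (π : Perm (Fin N)) (x : ℕ) :
    (∃ i, γ.mapDomain π i = x) ↔ ∃ i, γ i = x :=
  ⟨fun ⟨i, hi⟩ => ⟨π⁻¹ i, by rwa [md_apply] at hi⟩, fun ⟨i, hi⟩ => ⟨π i, by simpa [md_apply] using hi⟩⟩

lemma inj_md {γ : Fin N →₀ ℕ} (π : Perm (Fin N)) :
    Function.Injective (γ.mapDomain π) ↔ Function.Injective γ := by
  have : (γ.mapDomain π : Fin N → ℕ) = γ ∘ ⇑(π⁻¹) := funext fun i => md_apply π γ i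
  rw [this]; exact EquivLike.injective_comp π⁻¹ γ

lemma dual_md {γ μ : Fin N →₀ ℕ} (π σ : Perm (Fin N)) :
    Dual M (γ.mapDomain π) (μ.mapDomain σ) ↔ Dual M γ μ := by
  constructor
  · intro h
    refine ⟨(inj_md π).1 h.i1, (inj_md σ).1 h.i2, fun i => ?_, fun i => ?_, fun x y e => ?_⟩
    · simpa [md_apply] using h.b1 (π i)
    · simpa [md_apply] using h.b2 (σ i)
    · rw [← ex_md γ π, ← ex_md μ σ]; exact h.d x y e
  · intro h
    refine ⟨(inj_md π).2 h.i1, (inj_md σ).2 h.i2, fun i => ?_, fun i => ?_, fun x y e => ?_⟩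
    · rw [md_apply]; exact h.b1 _
    · rw [md_apply]; exact h.b2 _
    · rw [ex_md γ π, ex_md μ σ]; exact h.d x y e

lemma md_one (γ : Fin N →₀ ℕ) : γ.mapDomain (1 : Perm (Fin N)) = γ := by ext i; simp [md_apply]

lemma exists_md_of_range {γ μ : Fin N →₀ ℕ} (hμ : Function.Injective μ)
    (h : ∀ j, ∃ i, γ i = μ j) : ∃ π : Perm (Fin N), μ = γ.mapDomain π := by
  choose f hf using h
  have hinj : Function.Injective f := fun a b hab => hμ (by rw [← hf, ← hf, hab])
  let e := Equiv.ofBijective f (Finite.injective_iff_bijective.1 hinj)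
  exact ⟨e⁻¹, by ext i; rw [md_apply, inv_inv, ← hf]; rfl⟩

lemma Dual.uniq {γ μ μ' : Fin N →₀ ℕ} (h : Dual M γ μ) (h' : Dual M γ μ') :
    ∃ π : Perm (Fin N), μ' = μ.mapDomain π := by
  refine exists_md_of_range h'.i2 fun j => ?_
  have := h'.b2 j
  by_contra hc
  exact (h'.d (M - 1 - μ' j) (μ' j) (by omega)).1 ((h.d _ (μ' j) (by omega)).2 hc) ⟨j, rfl⟩

lemma inj_move {γ γ' : Fin N →₀ ℕ} (h : Function.Injective γ) {i : Fin N}
    (e : ∀ k, k ≠ i → γ' k = γ k) (hn : ¬ ∃ k, γ k = γ' i) : Function.Injective γ' := by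
  intro a b hab
  by_cases ha : a = i <;> by_cases hb : b = i
  · rw [ha, hb]
  · subst ha; exact absurd ⟨b, by rw [← e b hb, hab]⟩ hn
  · subst hb; exact absurd ⟨a, by rw [← e a ha, hab]⟩ hn
  · rw [e a ha, e b hb] at hab; exact h hab

lemma ex_move {γ γ' : Fin N →₀ ℕ} (h : Function.Injective γ) {i : Fin N}
    (e : ∀ k, k ≠ i → γ' k = γ k) (x : ℕ) :
    (∃ k, γ' k = x) ↔ x = γ' i ∨ (x ≠ γ i ∧ ∃ k, γ k = x) := by
  constructor
  · rintro ⟨k, rfl⟩
    by_cases hk : k = i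
    · exact Or.inl (by rw [hk])
    · exact Or.inr ⟨by rw [e k hk]; exact fun a => hk (h a), k, (e k hk).symm⟩
  · rintro (rfl | ⟨h1, k, rfl⟩)
    · exact ⟨i, rfl⟩
    · exact ⟨k, e k fun a => h1 (by rw [a])⟩

lemma Dual.move {γ μ γ' μ' : Fin N →₀ ℕ} (h : Dual M γ μ) {i j : Fin N}
    (e1 : ∀ k, k ≠ i → γ' k = γ k) (e2 : ∀ k, k ≠ j → μ' k = μ k)
    (h1 : γ' i + μ j + 1 = M) (h2 : γ i + μ' j + 1 = M) : Dual M γ' μ' := by
  have n1 : ¬ ∃ k, γ k = γ' i := fun a => (h.d _ _ h1).1 a ⟨j, rfl⟩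
  have n2 : ¬ ∃ k, μ k = μ' j := (h.d _ _ h2).1 ⟨i, rfl⟩
  refine ⟨inj_move h.i1 e1 n1, inj_move h.i2 e2 n2, fun k => ?_, fun k => ?_, fun x y e => ?_⟩
  · by_cases hk : k = i
    · rw [hk]; omega
    · rw [e1 k hk]; exact h.b1 k
  · by_cases hk : k = j
    · rw [hk]; omega
    · rw [e2 k hk]; exact h.b2 k
  · rw [ex_move h.i1 e1, ex_move h.i2 e2, h.d x y e]
    have a1 : x = γ' i ↔ y = μ j := by omega
    have a2 : x = γ i ↔ y = μ' j := by omega
    have a3 : μ' j ≠ μ j := fun a => n2 ⟨j, a.symm⟩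
    rw [a1, Ne, a2]
    by_cases b1 : y = μ j
    · simp [b1, a3.symm]
    · simp [b1]

lemma prod_bt {γ : Fin N →₀ ℕ} (h : Function.Injective γ) (x r : ℕ) :
    ∏ j, bt x r (γ j) = ∏ z ∈ Finset.Ioo x (x + r), if ∃ k, γ k = z then (-1 : ℂ) else 1 := by
  rw [← Finset.prod_filter]
  unfold bt
  rw [← Finset.prod_filter, Finset.prod_const, Finset.prod_const]
  congr 1
  refine Finset.card_bij (fun i _ => γ i) ?_ ?_ ?_
  · intro i hi; simpa using hi
  · intro i _ j _ hij; exact h hij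
  · intro v hv
    simp only [Finset.mem_filter, Finset.mem_Ioo] at hv
    obtain ⟨h1, k, rfl⟩ := hv
    exact ⟨k, by simpa using h1, rfl⟩

lemma add_self_apply (γ : Fin N →₀ ℕ) (i : Fin N) (r : ℕ) :
    (Finsupp.single i r + γ : Fin N →₀ ℕ) i = r + γ i := by simp
lemma add_ne_apply (γ : Fin N →₀ ℕ) {i j : Fin N} (h : j ≠ i) (r : ℕ) :
    (Finsupp.single i r + γ : Fin N →₀ ℕ) j = γ j := by simp [Finsupp.single_eq_of_ne h]

lemma Dual.up {γ μ : Fin N →₀ ℕ} (h : Dual M γ μ) {i j : Fin N} {r : ℕ}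
    (e : γ i + μ j + r + 1 = M) : Dual M (Finsupp.single i r + γ) (Finsupp.single j r + μ) :=
  h.move (fun _ hk => add_ne_apply γ hk r) (fun _ hk => add_ne_apply μ hk r)
    (by rw [add_self_apply]; omega) (by rw [add_self_apply]; omega)

lemma Dual.up_sign {γ μ : Fin N →₀ ℕ} (h : Dual M γ μ) {i j : Fin N} {r : ℕ} (hr : 0 < r)
    (e : γ i + μ j + r + 1 = M) : sv' γ * sv' (Finsupp.single i r + γ) *
      (sv' μ * sv' (Finsupp.single j r + μ)) = -(-1) ^ r := by
  rw [sv_move h.i1 i r (h.up e).i1, sv_move h.i2 j r (h.up e).i2, prod_bt h.i1, prod_bt h.i2]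
  have : ∏ z ∈ Finset.Ioo (μ j) (μ j + r), (if ∃ k, μ k = z then (-1 : ℂ) else 1) =
      ∏ z ∈ Finset.Ioo (γ i) (γ i + r), (if ∃ k, γ k = z then (1 : ℂ) else -1) := by
    refine Finset.prod_bij' (fun z _ => M - 1 - z) (fun z _ => M - 1 - z) ?_ ?_ ?_ ?_ ?_
    · intro z hz; rw [Finset.mem_Ioo] at *; omega
    · intro z hz; rw [Finset.mem_Ioo] at *; omega
    · intro z hz; rw [Finset.mem_Ioo] at *; omega
    · intro z hz; rw [Finset.mem_Ioo] at *; omega
    · intro z hz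
      rw [Finset.mem_Ioo] at hz
      have := h.d (M - 1 - z) z (by omega)
      by_cases a : ∃ k, μ k = z
      · rw [if_pos a, if_neg (fun b => this.1 b a)]
      · rw [if_neg a, if_pos (this.2 a)]
  rw [this, ← Finset.prod_mul_distrib, Finset.prod_congr rfl (g := fun _ => (-1 : ℂ))
    (fun z _ => by split_ifs <;> simp), Finset.prod_const, Nat.card_Ioo]
  obtain ⟨r, rfl⟩ : ∃ r', r = r' + 1 := ⟨r - 1, by omega⟩
  rw [show γ i + (r + 1) - γ i - 1 = r by omega, pow_succ]; ring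

lemma sum_pair {γ μ : Fin N →₀ ℕ} (h : Dual M γ μ) {r : ℕ} (hr : 0 < r) (f : Fin N → ℂ)
    (h0 : ∀ i, f i ≠ 0 → Function.Injective (Finsupp.single i r + γ : Fin N →₀ ℕ) ∧ r + γ i < M) :
    ∑ i, f i = ∑ i, ∑ j, if γ i + μ j + r + 1 = M then f i else 0 := by
  refine Finset.sum_congr rfl fun i _ => ?_
  by_cases hf : f i = 0
  · simp [hf]
  obtain ⟨h1, h2⟩ := h0 i hf
  have : ∃ j, μ j = M - 1 - (r + γ i) := by
    by_contra hc
    obtain ⟨k, hk⟩ := (h.d (r + γ i) _ (by omega)).2 hc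
    have hki : k ≠ i := by rintro rfl; omega
    exact hki (h1 (by rw [add_ne_apply _ hki, add_self_apply, hk]))
  obtain ⟨j, hj⟩ := this
  rw [Finset.sum_eq_single j, if_pos (by omega)]
  · intro k _ hk
    exact if_neg fun a => hk (h.i2 (by omega))
  · simp

lemma up_step {γ μ : Fin N →₀ ℕ} (h : Dual M γ μ) {r : ℕ} (hr : 0 < r) (f g : Fin N → ℂ) (ε : ℂ)
    (hf : ∀ i, f i ≠ 0 → Function.Injective (Finsupp.single i r + γ : Fin N →₀ ℕ) ∧ r + γ i < M)
    (hg : ∀ j, g j ≠ 0 → Function.Injective (Finsupp.single j r + μ : Fin N →₀ ℕ) ∧ r + μ j < M)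
    (hd : ∀ i j, γ i + μ j + r + 1 = M →
      sv' (Finsupp.single j r + μ) * g j = ε * (sv' (Finsupp.single i r + γ) * f i)) :
    sv' μ * ∑ j, g j = ε * -(-1) ^ r * (sv' γ * ∑ i, f i) := by
  rw [sum_pair h hr f hf, sum_pair h.symm hr g hg, Finset.sum_comm]
  simp only [Finset.mul_sum]
  refine Finset.sum_congr rfl fun i _ => Finset.sum_congr rfl fun j _ => ?_
  by_cases e : γ i + μ j + r + 1 = M
  · rw [if_pos e, if_pos (by omega), ← h.up_sign hr e]
    have a1 := sv_sq h.i1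
    have a2 := sv_sq (h.up e).i2
    have a3 := hd i j e
    linear_combination (sv' μ * sv' (Finsupp.single j r + μ)) * a3 - (sv' μ * g j) * a2 -
      (ε * sv' μ * sv' (Finsupp.single j r + μ) * sv' (Finsupp.single i r + γ) * f i) * a1
  · rw [if_neg e, if_neg (by omega)]; simp

lemma P_mul_mon (κ γ : Fin N →₀ ℕ) (t j : ℕ) : P p κ t j * monomial γ (1 : ℂ) =
    ∑ i, if κ i % p = t then monomial (Finsupp.single i (p * j) + γ) 1 else 0 := by
  unfold P
  rw [Finset.sum_mul]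
  refine Finset.sum_congr rfl fun i _ => ?_
  split_ifs
  · rw [monomial_mul, one_mul]
  · simp

lemma rename_W (κ : Fin N →₀ ℕ) (m : Multiset (ℕ × ℕ)) {π : Perm (Fin N)}
    (h : ∀ i, κ (π i) % p = κ i % p) : rename π (W p κ m) = W p κ m := by
  induction m using Multiset.induction_on with
  | empty => simp [W]
  | cons a m ih => rw [W_cons, map_mul, rename_P κ _ _ h, ih]

lemma pr_W_inj {κ γ : Fin N →₀ ℕ} (m : Multiset (ℕ × ℕ)) {G : Poly N} (hG : Antisym G)
    (hr : ∀ i, γ i % p = κ i % p) (h : pr (W p κ m * monomial γ 1) G ≠ 0) :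
    Function.Injective γ := by
  intro i j he
  by_contra hij
  have h2 : γ.mapDomain (swap i j) = γ := by
    ext k; rw [md_apply, swap_inv]
    by_cases hk : k = i
    · subst hk; simp [he]
    by_cases hk' : k = j
    · subst hk'; simp [he]
    rw [swap_apply_of_ne_of_ne hk hk']
  have h3 := pr_rename (swap i j) (W p κ m * monomial γ 1) hG
  rw [map_mul, rename_W κ m (fun k => by
    rw [← hr, ← hr]
    conv_rhs => rw [← h2, md_apply, swap_inv]), rename_monomial, h2, sg_swap hij] at h3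
  exact h (by linear_combination h3 / 2)

lemma pr_bd {G : Poly N} (hG : ∀ β, coeff β G ≠ 0 → ∀ i, β i < M) (F : Poly N) {γ : Fin N →₀ ℕ}
    (h : pr (F * monomial γ 1) G ≠ 0) (i : Fin N) : γ i < M := by
  by_contra hc
  apply h
  clear h
  induction F using MvPolynomial.induction_on' with
  | add a b ha hb => rw [add_mul, map_add, LinearMap.add_apply, ha, hb, add_zero]
  | monomial u a =>
    rw [monomial_mul, pr_monomial]
    by_contra hne
    have := hG _ (right_ne_zero_of_mul hne) i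
    rw [Finsupp.add_apply] at this
    omega

noncomputable def eta (p : ℕ) (m : Multiset (ℕ × ℕ)) : ℂ := (m.map fun a => -(-1 : ℂ) ^ (p * a.1)).prod

theorem word_dual (hp : 0 < p) {κ : Fin N →₀ ℕ} {G G' : Poly N} (hG : Antisym G) (hG' : Antisym G')
    (bG : ∀ β, coeff β G ≠ 0 → ∀ i, β i < M) (bG' : ∀ β, coeff β G' ≠ 0 → ∀ i, β i < M) {ε : ℂ}
    (hd : ∀ β β', Dual M β β' → sv' β' * coeff β' G' = ε * (sv' β * coeff β G)) (σ : ℕ → ℕ)
    (m : Multiset (ℕ × ℕ))
    (hm : ∀ a ∈ m, 0 < a.1 ∧ ∀ x y, x + y + p * a.1 + 1 = M → (x % p = a.2 ↔ y % p = σ a.2)) :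
    ∀ γ μ : Fin N →₀ ℕ, Dual M γ μ → (∀ i, γ i % p = κ i % p) → (∀ i, μ i % p = κ i % p) →
      sv' μ * pr (W p κ (m.map fun a => (a.1, σ a.2)) * monomial μ 1) G' =
        ε * eta p m * (sv' γ * pr (W p κ m * monomial γ 1) G) := by
  induction m using Multiset.induction_on with
  | empty =>
    intro γ μ h _ _
    simp only [W, eta, Multiset.map_zero, Multiset.prod_zero, one_mul, mul_one, pr_monomial]
    exact hd γ μ h
  | cons a m ih =>
    intro γ μ h r1 r2
    obtain ⟨h1, h2⟩ := hm a (Multiset.mem_cons_self a m)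
    have ih' := ih (fun b hb => hm b (Multiset.mem_cons_of_mem hb))
    have rs : ∀ (β : Fin N →₀ ℕ) (i : Fin N), (∀ i, β i % p = κ i % p) → ∀ k,
        (Finsupp.single i (p * a.1) + β : Fin N →₀ ℕ) k % p = κ k % p := fun β i hβ k => by
      rw [Finsupp.add_apply, Finsupp.single_apply, ← hβ]; split_ifs <;> simp
    rw [Multiset.map_cons, W_cons, W_cons, mul_comm (P _ _ _ _), mul_comm (P _ _ _ _), mul_assoc,
      mul_assoc (W p κ m), P_mul_mon, P_mul_mon, Finset.mul_sum, Finset.mul_sum, map_sum, map_sum,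
      LinearMap.sum_apply, LinearMap.sum_apply, eta, Multiset.map_cons, Multiset.prod_cons,
      mul_comm (-(-1 : ℂ) ^ (p * a.1)), ← mul_assoc ε]
    refine up_step h (Nat.mul_pos hp h1) _ _ _ (fun i hi => ?_) (fun j hj => ?_) (fun i j e => ?_)
    · split_ifs at hi
      · exact ⟨pr_W_inj m hG (rs γ i r1) hi, by simpa using pr_bd bG _ hi i⟩
      · simp at hi
    · split_ifs at hj
      · exact ⟨pr_W_inj _ hG' (rs μ j r2) hj, by simpa using pr_bd bG' _ hj j⟩
      · simp at hj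
    · have := h2 _ _ e
      rw [r1, r2] at this
      by_cases a1 : κ i % p = a.2
      · rw [if_pos a1, if_pos (this.1 a1)]
        exact ih' _ _ (h.up e) (rs γ i r1) (rs μ j r2)
      · rw [if_neg a1, if_neg (fun b => a1 (this.2 b))]; simp

lemma dual_dl : Dual (2 * N) (dl N) (dl N) := by
  refine ⟨dl_inj, dl_inj, fun i => ?_, fun i => ?_, fun x y e => ?_⟩
  · rw [dl_apply]; omega
  · rw [dl_apply]; omega
  · simp only [dl_apply]
    constructor
    · rintro ⟨i, rfl⟩ ⟨j, rfl⟩; omega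
    · intro h
      by_contra hc
      have h1 : ¬ y < N := fun a => h ⟨⟨y, a⟩, rfl⟩
      exact hc ⟨⟨x, by omega⟩, rfl⟩

lemma sv_coeff_Alt {γ : Fin N →₀ ℕ} (hγ : Function.Injective γ) (π : Perm (Fin N)) :
    sv' (γ.mapDomain π) * coeff (γ.mapDomain π) (Alt (monomial γ 1)) = sv' γ := by
  rw [sv_md, (antisym_Alt _).coeff_md, coeff_Alt_self hγ]
  linear_combination (sv' γ) * sg_sq π

lemma chi_eq_pr (γ : Fin N →₀ ℕ) (g : Perm (Fin n)) : chi γ g =
    pr (W 1 (dl N) (g.partition.parts.map fun r => (r, 0)) * monomial (dl N) 1)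
      (Alt (monomial γ 1)) := by
  have e : W 1 (dl N) (g.partition.parts.map fun r => (r, 0)) = pp N g := by
    rw [W, pp, pm, Multiset.map_map]
    congr 2
    ext1 r
    simp [P, ps_eq, Nat.mod_one]
  have hN0 : (N.factorial : ℂ) ≠ 0 := Nat.cast_ne_zero.2 (Nat.factorial_ne_zero _)
  apply mul_left_cancel₀ hN0
  rw [e, ← pr_Alt _ (antisym_Alt _), pr_comm, pr_Alt]
  · congr 1
    rw [pr_monomial, one_mul, chi]
    congr 1
    simp only [vd, Alt, map_mul, Finset.mul_sum, mul_smul_comm]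
    refine Finset.sum_congr rfl fun π _ => ?_
    congr 2
    have : ∀ ρ : Multiset ℕ, rename π (pm ρ : Poly N) = pm ρ := fun ρ => by
      induction ρ using Multiset.induction_on with
      | empty => simp [pm_zero]
      | cons r ρ ih => rw [pm_cons, map_mul, rename_ps, ih]
    exact (this _).symm
  · exact antisym_Alt _

lemma eta_parts (g : Perm (Fin n)) :
    eta 1 (g.partition.parts.map fun r => (r, 0)) = ((Perm.sign g : ℤ) : ℂ) := by
  rw [eta, Multiset.map_map, Perm.parts_partition, Multiset.map_add, Multiset.prod_add,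
    Multiset.map_replicate, Multiset.prod_replicate, Perm.sign_of_cycleType']
  induction g.cycleType using Multiset.induction_on with
  | empty => simp
  | cons a s ih => simp only [Multiset.map_cons, Multiset.prod_cons, mul_assoc, ih]; simp

theorem chi_dual {γ μ : Fin N →₀ ℕ} (h : Dual (2 * N) γ μ) (g : Perm (Fin n)) :
    sv' μ * chi μ g = ((Perm.sign g : ℤ) : ℂ) * (sv' γ * chi γ g) := by
  have bd : ∀ {γ : Fin N →₀ ℕ}, (∀ i, γ i < 2 * N) → ∀ β, coeff β (Alt (monomial γ (1 : ℂ))) ≠ 0 →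
      ∀ i, β i < 2 * N := fun hγ β hβ i => by
    obtain ⟨π, rfl⟩ := coeff_Alt_ne hβ
    rw [md_apply]; exact hγ _
  have key := word_dual (p := 1) (M := 2 * N) one_pos (κ := dl N) (antisym_Alt (monomial γ 1))
    (antisym_Alt (monomial μ 1)) (bd h.b1) (bd h.b2) (ε := sv' μ * sv' γ) ?_ id
    (g.partition.parts.map fun r => (r, 0)) ?_ (dl N) (dl N) dual_dl (fun _ => rfl) (fun _ => rfl)
  · rw [eta_parts, Multiset.map_map] at key
    have e := chi_eq_pr μ g
    simp only [Function.comp_def, id] at key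
    rw [← e, ← chi_eq_pr] at key
    have a1 := sv_sq (dl_inj (N := N))
    have a2 := sv_sq h.i2
    linear_combination (sv' μ * sv' (dl N)) * key - (sv' μ * chi μ g) * a1 +
      (((Perm.sign g : ℤ) : ℂ) * sv' γ * chi γ g) * (a1 + (sv' (dl N) * sv' (dl N)) * a2)
  · intro β β' hb
    by_cases h1 : coeff β (Alt (monomial γ (1 : ℂ))) = 0
    · by_cases h2 : coeff β' (Alt (monomial μ (1 : ℂ))) = 0
      · simp [h1, h2]
      · obtain ⟨π, rfl⟩ := coeff_Alt_ne h2
        have h3 : Dual (2 * N) β μ := (dual_md 1 π).1 (by rwa [md_one])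
        obtain ⟨σ, rfl⟩ := h.symm.uniq h3.symm
        have := sv_coeff_Alt h.i1 σ
        rw [h1, mul_zero] at this
        have a := sv_sq h.i1
        rw [← this] at a; simp at a
    · obtain ⟨π, rfl⟩ := coeff_Alt_ne h1
      have h3 : Dual (2 * N) γ β' := (dual_md π 1).1 (by rwa [md_one])
      obtain ⟨σ, rfl⟩ := h.uniq h3
      rw [sv_coeff_Alt h.i1, sv_coeff_Alt h.i2, mul_assoc, sv_sq h.i1, mul_one]
  · intro a ha
    obtain ⟨r, hr, rfl⟩ := Multiset.mem_map.1 ha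
    exact ⟨parts_pos g r hr, fun x y _ => by simp [Nat.mod_one]⟩

lemma chi_bd (hN : n ≤ N) {β : Fin N →₀ ℕ} {g : Perm (Fin n)} (h : chi β g ≠ 0) (i : Fin N) :
    β i < 2 * N := by
  have hβ := (antisym_pp g).inj h
  obtain ⟨κ, m, a, b, c, d⟩ := exists_gr one_pos hβ
  obtain ⟨π, -, hπ⟩ := gr_perm b gr_dl a dl_inj (fun i => by simp [Nat.mod_one])
  have e1 : dg κ = dg (dl N) := by rw [hπ, dg_md]
  have e2 := dg_of_chi h
  have e3 : κ i < N := by rw [hπ, md_apply, dl_apply]; exact Fin.is_lt _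
  have hle := le_of_gr one_pos b c
  obtain ⟨ν, hν⟩ := exists_add_of_le (show κ ≤ β from hle)
  have e4 : ν i ≤ dg ν := Finset.single_le_sum (f := ν) (fun _ _ => Nat.zero_le _) (Finset.mem_univ i)
  have e5 := dg_add κ ν
  rw [← hν] at e5
  rw [hν, Finsupp.add_apply]; omega

lemma exists_dual {γ : Fin N →₀ ℕ} (hγ : Function.Injective γ) (hb : ∀ i, γ i < 2 * N) :
    ∃ μ, Dual (2 * N) γ μ := by
  set S := Finset.range (2 * N) \ Finset.univ.image (fun i => 2 * N - 1 - γ i) with hS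
  have hc : S.card = N := by
    rw [hS, Finset.card_sdiff_of_subset, Finset.card_image_of_injective, Finset.card_range,
      Finset.card_univ, Fintype.card_fin]
    · omega
    · intro a b hab
      have := hb a; have := hb b
      exact hγ (by simp only at hab; omega)
    · intro x hx
      obtain ⟨i, -, rfl⟩ := Finset.mem_image.1 hx
      have := hb i
      rw [Finset.mem_range]; omega
  have hm : ∀ y, (∃ j, S.orderEmbOfFin hc j = y) ↔ y ∈ S := fun y => by
    rw [← Finset.mem_coe, ← Finset.range_orderEmbOfFin S hc]; rfl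
  refine ⟨Finsupp.equivFunOnFinite.symm (S.orderEmbOfFin hc), hγ, ?_, hb, fun i => ?_,
    fun x y e => ?_⟩
  · simpa using (S.orderEmbOfFin hc).injective
  · have := (hm _).1 ⟨i, rfl⟩
    simpa using Finset.mem_range.1 (Finset.mem_sdiff.1 this).1
  · simp only [Finsupp.coe_equivFunOnFinite_symm, hm]
    rw [hS, Finset.mem_sdiff, Finset.mem_range, not_and, not_not]
    constructor
    · rintro ⟨i, rfl⟩ _
      exact Finset.mem_image.2 ⟨i, Finset.mem_univ _, by omega⟩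
    · intro h
      obtain ⟨i, -, hi⟩ := Finset.mem_image.1 (h (by omega))
      have := hb i
      exact ⟨i, by omega⟩

lemma dual_gr {κ μ : Fin N →₀ ℕ} (h : Dual M κ μ) (hκ : Gr p κ) : Gr p μ := fun j hj => by
  by_contra hc
  have hb := h.b2 j
  obtain ⟨i, hi⟩ := (h.d (M - 1 - μ j + p) (μ j - p) (by omega)).2
    (fun ⟨k, hk⟩ => hc ⟨k, by omega⟩)
  obtain ⟨k, hk⟩ := hκ i (by omega)
  exact (h.d (κ k) (μ j) (by omega)).1 ⟨k, rfl⟩ ⟨j, rfl⟩

lemma exists_dual_gr (hp : 0 < p) {γ μ : Fin N →₀ ℕ} (h : Dual M γ μ) :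
    ∃ κ ν : Fin N →₀ ℕ, Dual M κ ν ∧ Gr p κ ∧ (∀ i, κ i % p = γ i % p) ∧
      (∀ i, ν i % p = μ i % p) := by
  induction hx : dg γ using Nat.strong_induction_on generalizing γ μ with
  | _ x ih =>
    by_cases hg : Gr p γ
    · exact ⟨γ, μ, h, hg, fun _ => rfl, fun _ => rfl⟩
    unfold Gr at hg
    push Not at hg
    obtain ⟨i, hi, hj⟩ := hg
    have hb := h.b1 i
    obtain ⟨j, e⟩ : ∃ j, μ j = M - 1 - (γ i - p) := by
      by_contra hc
      obtain ⟨k, hk⟩ := (h.d (γ i - p) _ (by omega)).2 hc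
      exact hj k (by omega)
    have h' : Dual M (γ - Finsupp.single i p) (μ - Finsupp.single j p) :=
      h.move (fun _ hk => sub_ne_apply γ hk p) (fun _ hk => sub_ne_apply μ hk p)
        (by rw [sub_self_apply]; omega) (by rw [sub_self_apply]; omega)
    have h1 := dg_sub hi
    obtain ⟨κ, ν, a, b, c, d⟩ := ih _ (by omega) h' rfl
    exact ⟨κ, ν, a, b, fun k => (c k).trans ((cmp_step h.i1 hi h'.i1).1 k).symm,
      fun k => (d k).trans ((cmp_step h.i2 (i := j) (by omega) h'.i2).1 k).symm⟩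

lemma dual_self_gr (hp : 0 < p) {γ κ : Fin N →₀ ℕ} (h : Dual M γ γ) (hκi : Function.Injective κ)
    (hκ : Gr p κ) (hr : ∀ i, γ i % p = κ i % p) : Dual M κ κ := by
  obtain ⟨κ', ν, a, b, c, d⟩ := exists_dual_gr hp h
  obtain ⟨π, -, e1⟩ := gr_perm b hκ a.i1 hκi (fun i => (c i).trans (hr i))
  obtain ⟨σ, -, e2⟩ := gr_perm (dual_gr a b) hκ a.i2 hκi (fun i => (d i).trans (hr i))
  rw [e1, e2] at a
  exact (dual_md π σ).1 a

lemma exists_md_of_chi (hN : n ≤ N) {ψ : Perm (Fin n) → ℂ} (hψ : IsIrrCharacter _ ψ)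
    {γ μ : Fin N →₀ ℕ} {a b : ℂ} (h1 : ∀ g, ψ g = a * chi γ g) (h2 : ∀ g, ψ g = b * chi μ g) :
    ∃ π : Perm (Fin N), μ = γ.mapDomain π := by
  obtain ⟨β, c, hβ, -, hT, -⟩ := exists_beta hN hψ
  have key : ∀ (ν : Fin N →₀ ℕ) (a : ℂ), (∀ g, ψ g = a * chi ν g) →
      ∃ π : Perm (Fin N), ν = β.mapDomain π := fun ν a h => by
    refine coeff_Alt_ne fun h0 => ?_
    have e := coeff_T (N := N) ψ ν
    rw [hT, coeff_smul, h0, smul_zero] at e
    have e2 := inner_irr_self hψ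
    have e3 : ψ = a • chi ν := funext h
    nth_rewrite 2 [e3] at e2
    rw [CChar.CharFun.inner_smul_right, ← e, mul_zero] at e2
    exact zero_ne_one e2
  obtain ⟨π, rfl⟩ := key γ a h1
  obtain ⟨σ, rfl⟩ := key μ b h2
  exact ⟨σ * π⁻¹, by ext i; rw [md_apply, md_apply, md_apply]; simp⟩

/-- characters vanishing on odd permutations have self-dual labels -/
theorem dual_self (hN : n ≤ N) {ψ : Perm (Fin n) → ℂ} (hψ : IsIrrCharacter _ ψ)
    {γ : Fin N →₀ ℕ} (hγ : Function.Injective γ) {a : ℂ} (h1 : ∀ g, ψ g = a * chi γ g)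
    (h0 : ∀ g, Perm.sign g ≠ 1 → ψ g = 0) : Dual (2 * N) γ γ := by
  have hne : chi γ (1 : Perm (Fin n)) ≠ 0 := fun h =>
    irr_apply_one_ne_zero hψ (by rw [h1, h, mul_zero])
  obtain ⟨μ, hμ⟩ := exists_dual hγ (chi_bd hN hne)
  obtain ⟨π, rfl⟩ := exists_md_of_chi hN hψ h1 (μ := μ) (b := a * sv' γ * sv' μ) (fun g => by
    have e := chi_dual hμ g
    have a1 := sv_sq hγ
    by_cases hg : Perm.sign g = 1
    · rw [hg] at e
      simp only [Units.val_one, Int.cast_one, one_mul] at e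
      rw [h1]
      linear_combination (-a * sv' γ) * e - (a * chi γ g) * a1
    · have e2 := h1 g
      rw [h0 g hg] at e2 ⊢
      linear_combination (-a * sv' γ) * e + (((Perm.sign g : ℤ) : ℂ) * sv' γ * sv' γ) * e2)
  exact (dual_md 1 π).1 (by rwa [md_one])

/-- the word relation for a self-dual core -/
theorem Phi_dual (hN : n ≤ N) (hp : 0 < p) {κ : Fin N →₀ ℕ} (h : Dual (2 * N) κ κ) (σ : ℕ → ℕ)
    (m : Multiset (ℕ × ℕ))
    (hm : ∀ a ∈ m, 0 < a.1 ∧ ∀ x y, x + y + p * a.1 + 1 = 2 * N → (x % p = a.2 ↔ y % p = σ a.2))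
    (g : Perm (Fin n)) (hg : Perm.sign g = 1) :
    Phi N n p (W p κ (m.map fun a => (a.1, σ a.2)) * monomial κ 1) g =
      eta p m * Phi N n p (W p κ m * monomial κ 1) g := by
  by_cases hd : p ∣ orderOf g
  · simp [Phi, hd]
  have key := word_dual (M := 2 * N) hp (κ := κ) (antisym_pp g) (antisym_pp g)
    (fun β hβ => chi_bd hN hβ) (fun β hβ => chi_bd hN hβ) (ε := 1)
    (fun β β' hb => by simpa [hg, chi] using chi_dual hb g) σ m hm κ κ h (fun _ => rfl) (fun _ => rfl)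
  simp only [Phi, LinearMap.coe_mk, AddHom.coe_mk, if_neg hd]
  have a1 := sv_sq h.i1
  linear_combination (sv' κ) * key - (pr (W p κ (m.map fun a => (a.1, σ a.2)) * monomial κ 1)
    (pp N g * vd N) - eta p m * pr (W p κ m * monomial κ 1) (pp N g * vd N)) * a1

end CA.H10Fock6
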