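import Cfsg.Agent.Lib.Char.H10Fock6
import Cfsg.Agent.Lib.Block.H12Cover
import Cfsg.Agent.Lib.Block.BlkIBr
import Cfsg.Agent.S4438

/-! Blocks of normal subgroups of index at most two; counting lemmas. -/

set_option autoImplicit false
set_option linter.unusedSectionVars false

namespace CA.H10Fock7
open MvPolynomial Equiv CA.H10Fock1 CA.H10Fock2 CA.H10Fock3 CA.H10Fock4 CA.H10Fock5 CA.H10Fock6
  Cfsg CChar.CharFun CChar.CharGen CA.Clif CA.BlkCore CA.BlkDefect CA.BlkInd CA.BlkIBr CA.H13Span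
  CA.BlkReg

section general
variable {p : ℕ} {G : Type*} [Group G] [Fintype G] [Fact p.Prime] {M : Ideal AlgInt}
  {A : Subgroup G} [hA : A.Normal] [Fintype A] {τ : G}

lemma cj_cases (hτ : ∀ g, g ∈ A ∨ g * τ⁻¹ ∈ A) {θ : A → ℂ} (hθ : IsClassFunction A θ) (g : G) :
    cj g θ = θ ∨ cj g θ = cj τ θ := by
  rcases hτ g with h | h
  · exact Or.inl (cj_of_mem hθ h)
  · exact Or.inr ((cj_eq_cj_iff (θ := θ)).2 (le_inertia hθ h))

lemma cj_cj_self (hτ : ∀ g, g ∈ A ∨ g * τ⁻¹ ∈ A) {θ : A → ℂ} (hθ : IsClassFunction A θ) :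
    cj τ (cj τ θ) = θ := by
  rw [cj_cj]
  refine cj_of_mem hθ ?_
  rcases hτ (τ * τ) with h | h
  · exact h
  · rw [mul_inv_cancel_right] at h; exact mul_mem h h

lemma res_eq (hτ : ∀ g, g ∈ A ∨ g * τ⁻¹ ∈ A) {χ : G → ℂ} (hχ : IsIrrCharacter G χ) {θ : A → ℂ}
    (hθ : IsIrrCharacter A θ) (h : classInner (fun n : A => χ n) θ ≠ 0) :
    ∃ e : ℂ, e ≠ 0 ∧ (fun n : A => χ n) = e • (θ + cj τ θ) := by
  classical
  have h1 := clifford hχ hθ h
  have h2 : conjs θ = {θ, cj τ θ} := by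
    ext ψ
    rw [mem_conjs, Finset.mem_insert, Finset.mem_singleton]
    constructor
    · rintro ⟨g, rfl⟩; exact cj_cases hτ (irr_classFun hθ) g
    · rintro (rfl | rfl)
      · exact ⟨1, (cj_one _).symm⟩
      · exact ⟨τ, rfl⟩
  rw [h2] at h1
  by_cases he : θ = cj τ θ
  · refine ⟨classInner (fun n : A => χ n) θ / 2, div_ne_zero h two_ne_zero, ?_⟩
    rw [← he, Finset.pair_eq_singleton, Finset.sum_singleton] at h1
    rw [← he]
    conv_lhs => rw [h1]
    module
  · rw [Finset.sum_pair he] at h1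
    exact ⟨_, h, h1⟩

lemma vanish (hτ : ∀ g, g ∈ A ∨ g * τ⁻¹ ∈ A) {χ : G → ℂ} (hχ : IsIrrCharacter G χ) {θ : A → ℂ}
    (hθ : IsIrrCharacter A θ) (h : classInner (fun n : A => χ n) θ ≠ 0) (hne : cj τ θ ≠ θ)
    {g : G} (hg : g ∉ A) : χ g = 0 := by
  have h1 : IsIrrCharacter G (indFun A θ) := by
    refine (irr_indFun_iff hθ).2 fun x hx => ?_
    rcases hτ x with h | h
    · exact h
    · exfalso
      apply hne
      have := (cj_eq_cj_iff (θ := θ)).2 (le_inertia (irr_classFun hθ) h)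
      rw [← this]; exact hx
  rw [← CA.Ind.inner_ind_right A θ (irr_classFun hχ)] at h
  rw [irr_eq_of_inner_ne_zero hχ h1 h]
  exact CA.Ind.indFun_normal_of_not_mem A θ hg

lemma pReg_cj (g : G) (θ : A → ℂ) : pRegularPart p (cj g θ) = cj g (pRegularPart p θ) := by
  ext n
  have : orderOf (MulAut.conjNormal g n) = orderOf n := MulEquiv.orderOf_eq _ _
  by_cases h : p ∣ orderOf n <;> simp [cj_eq_comp, pRegularPart, IsPRegular, this, h]

lemma pReg_add {H : Type*} [Group H] (a b : H → ℂ) :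
    pRegularPart p (a + b) = pRegularPart p a + pRegularPart p b := by
  ext n; by_cases h : p ∣ orderOf n <;> simp [pRegularPart, IsPRegular, h]
lemma pReg_smul {H : Type*} [Group H] (c : ℂ) (a : H → ℂ) :
    pRegularPart p (c • a) = c • pRegularPart p a := by
  ext n; by_cases h : p ∣ orderOf n <;> simp [pRegularPart, IsPRegular, h]
lemma pReg_res (χ : G → ℂ) :
    pRegularPart p (fun n : A => χ n) = fun n : A => pRegularPart p χ n := by
  ext n; by_cases h : p ∣ orderOf n <;> simp [pRegularPart, IsPRegular, h]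

lemma rank_le_two (hM : IsPModular p M) (hτ : ∀ g, g ∈ A ∨ g * τ⁻¹ ∈ A)
    {b : Set (IrrCharacter A)} (hb : IsPBlock M b) (V : Submodule ℂ (A → ℂ))
    (h : ∀ θ ∈ b, pRegularPart p (θ.1 + cj τ θ.1) ∈ V) :
    blockRank p b ≤ 2 * Module.finrank ℂ V := by
  classical
  have hs := isSat_of_isPBlock hM hb
  set σ := ibrEquiv hM (MulAut.conjNormal τ : A ≃* A) with hσ
  have e1 : ∀ i, phi p (σ i) = cj τ (phi p i) := fun i => funext fun x => phi_ibrEquiv hM _ i x
  have e2 : ∀ i, σ (σ i) = i := fun i =>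
    phi_injective hM (by rw [e1, e1, cj_cj_self hτ (phi_classFun i)])
  have e3 : ∀ i, blk i ⊆ b → phi p i + phi p (σ i) ∈ V := fun i hi => by
    have := (ibr hM hs).bas ⟨i, hi⟩
    rw [ibr_φ] at this
    rw [e1, this, cj_sum, ← Finset.sum_add_distrib]
    refine Submodule.sum_mem _ fun χ _ => ?_
    by_cases hχ : χ ∈ b
    · rw [cj_smul, ← smul_add, ← pReg_cj, ← pReg_add]
      exact Submodule.smul_mem _ _ (h χ hχ)
    · rw [(ibr hM hs).a_zero _ χ hχ]; simp only [Int.cast_zero, zero_smul, zero_add]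
      exact zero_mem _
  set I := Finset.univ.filter (fun i : IBr M A => blk i ⊆ b) with hI
  set J := I.filter (fun i => ¬ (σ i ∈ I ∧ σ i < i)) with hJ
  have c1 : blockRank p b = I.card := by
    rw [← card_IBrIn hM hs, hI, ← Fintype.card_subtype]
  have c2 : I.card ≤ 2 * J.card := by
    have : I ⊆ J ∪ J.image σ := fun i hi => by
      by_cases hj : σ i ∈ I ∧ σ i < i
      · refine Finset.mem_union_right _ (Finset.mem_image.2 ⟨σ i, Finset.mem_filter.2 ⟨hj.1, ?_⟩, e2 i⟩)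
        rw [e2]; exact fun a => lt_asymm a.2 hj.2
      · exact Finset.mem_union_left _ (Finset.mem_filter.2 ⟨hi, hj⟩)
    have h1 := (Finset.card_le_card this).trans (Finset.card_union_le _ _)
    have h2 := Finset.card_image_le (s := J) (f := σ)
    omega
  have c3 : LinearIndependent ℂ (fun j : J => (⟨phi p j.1 + phi p (σ j.1),
      e3 _ (Finset.mem_filter.1 (Finset.mem_filter.1 j.2).1).2⟩ : V)) := by
    refine LinearIndependent.of_comp V.subtype ?_
    rw [Fintype.linearIndependent_iff]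
    intro c hc j
    set c' : IBr M A → ℂ := fun i => if hi : i ∈ J then c ⟨i, hi⟩ else 0 with hc'
    have k1 : ∑ i, c' i • (phi p i + phi p (σ i)) = 0 := by
      rw [← hc, ← Finset.sum_subset (Finset.subset_univ J) (fun i _ hi => by simp [hc', hi]),
        ← Finset.sum_coe_sort]
      exact Finset.sum_congr rfl fun i _ => by simp [hc', i.2]
    have k2 : ∑ i, (c' i + c' (σ i)) • phi p i = 0 := by
      simp only [smul_add, add_smul, Finset.sum_add_distrib] at k1 ⊢
      rw [← k1, ← Equiv.sum_comp σ (fun i => c' (σ i) • phi p i)]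
      simp only [e2]
    have k3 := Fintype.linearIndependent_iff.1 (li_phi hM) _ k2 j.1
    have k4 : c' j.1 = c j := by simp [hc', j.2]
    by_cases hj : σ j.1 ∈ J
    · have : σ j.1 = j.1 := by
        have a1 := Finset.mem_filter.1 j.2
        have a2 := Finset.mem_filter.1 hj
        rw [e2] at a2
        exact le_antisymm (not_lt.1 fun a => a2.2 ⟨a1.1, a⟩) (not_lt.1 fun a => a1.2 ⟨a2.1, a⟩)
      rw [this, k4] at k3
      linear_combination k3 / 2
    · rw [k4, show c' (σ j.1) = 0 by simp [hc', hj], add_zero] at k3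
      exact k3
  have c4 := c3.fintype_card_le_finrank
  rw [Fintype.card_coe] at c4
  omega

lemma rank_le_add (hτ : ∀ g, g ∈ A ∨ g * τ⁻¹ ∈ A) {b : Set (IrrCharacter A)}
    (V : Submodule ℂ (A → ℂ)) (h : ∀ θ ∈ b, pRegularPart p (θ.1 + cj τ θ.1) ∈ V)
    (S : Finset (IrrCharacter G))
    (hS : ∀ θ ∈ b, cj τ θ.1 ≠ θ.1 → ∃ χ ∈ S, classInner (fun n : A => χ.1 n) θ.1 ≠ 0) :
    blockRank p b ≤ Module.finrank ℂ V + S.card := by
  choose u hu using fun χ : IrrCharacter G => CA.H12Cover.exists_under A χ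
  set f : IrrCharacter G → A → ℂ := fun χ => pRegularPart p ((u χ).1 + (-1 : ℂ) • cj τ (u χ).1)
  have h1 := finrank_span_le f S (T := f '' S) (fun x hx => Submodule.subset_span hx)
  refine le_trans (Submodule.finrank_mono (t := V ⊔ Submodule.span ℂ (f '' S)) ?_)
    ((Submodule.finrank_add_le_finrank_add_finrank _ _).trans (by omega))
  rw [Submodule.span_le]
  rintro _ ⟨θ, hθ, rfl⟩
  have e : pRegularPart p θ.1 = (2⁻¹ : ℂ) • pRegularPart p (θ.1 + cj τ θ.1) +
      (2⁻¹ : ℂ) • pRegularPart p (θ.1 + (-1 : ℂ) • cj τ θ.1) := by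
    rw [pReg_add, pReg_add, pReg_smul]; module
  change pRegularPart p θ.1 ∈ _
  rw [e]
  refine add_mem (Submodule.mem_sup_left (Submodule.smul_mem _ _ (h θ hθ)))
    (Submodule.mem_sup_right (Submodule.smul_mem _ _ ?_))
  by_cases hf : cj τ θ.1 = θ.1
  · rw [hf, pReg_add, pReg_smul]; simp
  obtain ⟨χ, hχ, hi⟩ := hS θ hθ hf
  obtain ⟨g, hg⟩ := mem_conjs.1 (mem_conjs_of_common χ.2 (u χ).2 θ.2
    (CA.H12Cover.over_iff.1 (hu χ)) hi)
  have hm : f χ ∈ Submodule.span ℂ (f '' S) := Submodule.subset_span ⟨χ, hχ, rfl⟩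
  rcases cj_cases hτ (irr_classFun (u χ).2) g with a | a
  · rw [hg, a]; exact hm
  · rw [hg, a, cj_cj_self hτ (irr_classFun (u χ).2)]
    convert neg_mem hm using 1
    simp only [f, pReg_add, pReg_smul]; module

lemma exists_conj_le (hM : IsPModular p M) {B : Set (IrrCharacter G)} (hB : IsPBlock M B)
    {D : Subgroup G} (hD : IsDefectGroup p M B D)
    {χ : IrrCharacter G} (hχ : χ ∈ B) {u : G} (hu : ∃ k, orderOf u = p ^ k) (h0 : χ.1 u ≠ 0)
    {E : Subgroup G} (hE : E ≤ Subgroup.centralizer {u})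
    (hn : ∀ c ∈ Subgroup.centralizer {u}, ∀ a ∈ E, c * a * c⁻¹ ∈ E) (hAp : IsPGroup p E) :
    ∃ x : G, ∀ a ∈ E, x * a * x⁻¹ ∈ D := by
  classical
  set H := Subgroup.centralizer ({u} : Set G) with hH
  have h1 := CA.H11Sec.sum_sp (p := p) (H := H) (u := u) hM le_rfl (irr_classFun χ.2)
  have h2 : ∑ b ∈ blocks M H, CA.H11Sec.sp p b u χ.1 ≠ 0 := by
    rw [h1]
    intro h
    have := congrFun h 1
    rw [pRegularPart, if_pos (by simp [IsPRegular, (Fact.out : p.Prime).ne_one])] at this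
    exact h0 (by simpa using this)
  obtain ⟨b, hb, hne⟩ := Finset.exists_ne_zero_of_sum_ne_zero h2
  rw [mem_blocks] at hb
  have hind : IsInducedBlock M H b B := by
    by_contra hnot
    exact hne (CA.H11Sec.sp_eq_zero_of_not_ind hM hu rfl hB hb hnot (inSpan_irr hχ))
  haveI : (E.subgroupOf H).Normal := ⟨fun a ha c => hn c c.2 a ha⟩
  have hQ : IsPGroup p (E.subgroupOf H) :=
    hAp.of_equiv (Subgroup.subgroupOfEquivOfLe hE).symm
  have h3 := br_ne_zero_of_induced hM hind hQ (br_eB_ne_zero_of_normal hM hb hQ)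
  rw [Subgroup.map_subgroupOf_eq_of_le hE] at h3
  obtain ⟨x, hx⟩ := (br_eB_ne_zero_iff hM hB hD hAp).1 h3
  exact ⟨x, fun a ha => hx ⟨a, ha, rfl⟩⟩

lemma exists_P (hM : IsPModular p M) {B : Set (IrrCharacter G)} (hB : IsPBlock M B)
    {b : Set (IrrCharacter A)} (hb : IsPBlock M b) (hc : CA.H12Cover.Cov A B b)
    {D : Subgroup A} (hD : IsDefectGroup p M b D) :
    ∃ P, IsDefectGroup p M B P ∧ ∀ a : A, a ∈ D ↔ (a : G) ∈ P := by
  have e : (D.map A.subtype).subgroupOf A = D :=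
    Subgroup.comap_map_eq_self_of_injective A.subtype_injective D
  obtain ⟨P, hP, h⟩ := Cfsg.Agent.S4438.result p M hM A b hb (D.map A.subtype)
    (Subgroup.map_subtype_le D) (by rwa [e]) B hB (CA.H12Cover.cov_iff.1 hc)
  refine ⟨P, hP, fun a => ?_⟩
  rw [← e, Subgroup.mem_subgroupOf, ← h, Subgroup.mem_inf]
  simp

lemma card_inf_le {D : Subgroup A} {s : ℕ} (hs : SectionalPRankLE p s D) {P E : Subgroup G}
    (hP : ∀ a : A, a ∈ D ↔ (a : G) ∈ P) {x : G} (hx : ∀ a ∈ E, x * a * x⁻¹ ∈ P)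
    (hc : ∀ a ∈ E, ∀ b ∈ E, a * b = b * a) (hp : ∀ a ∈ E, a ^ p = 1) :
    Nat.card (E.subgroupOf A) ≤ p ^ s := by
  have h := card_le_of_sec hs (A := (E.subgroupOf A).map (MulAut.conjNormal x : A ≃* A).toMonoidHom)
    ?_ ?_ ?_
  · rwa [Subgroup.card_map_of_injective
      (f := (MulAut.conjNormal x : A ≃* A).toMonoidHom) (MulEquiv.injective _)] at h
  · rintro _ ⟨a, ha, rfl⟩
    exact (hP _).2 (hx a ha)
  · rintro _ ⟨a, ha, rfl⟩ _ ⟨b, hb, rfl⟩
    rw [← map_mul, ← map_mul, show a * b = b * a from Subtype.ext (hc _ ha _ hb)]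
  · rintro _ ⟨a, ha, rfl⟩
    rw [← map_pow, show a ^ p = 1 from Subtype.ext (hp _ ha), map_one]

lemma card_le_index_mul (E : Subgroup G) :
    Nat.card E ≤ A.index * Nat.card (E.subgroupOf A) := by
  have h1 := (A.subgroupOf E).card_mul_index
  have h2 : (A.subgroupOf E).index ≤ A.index :=
    Nat.le_of_dvd (Nat.pos_of_ne_zero Subgroup.index_ne_zero_of_finite)
      (Subgroup.relIndex_dvd_index_of_normal A E)
  have h3 : Nat.card (A.subgroupOf E) = Nat.card (E.subgroupOf A) := by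
    rw [← Subgroup.inf_subgroupOf_right, ← Subgroup.inf_subgroupOf_left E A,
      Nat.card_congr (Subgroup.subgroupOfEquivOfLe inf_le_right).toEquiv,
      Nat.card_congr (Subgroup.subgroupOfEquivOfLe inf_le_left).toEquiv]
  rw [← h1, h3, mul_comm]
  exact Nat.mul_le_mul_right _ h2

lemma le_pow_of_ne_bot {D : Subgroup G} (hD : IsPGroup p D) (h1 : D ≠ ⊥) {s : ℕ}
    (hs : SectionalPRankLE p s D) : p ≤ p ^ s := by
  have hp : p.Prime := Fact.out
  haveI : Nontrivial D := (Subgroup.nontrivial_iff_ne_bot D).2 h1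
  obtain ⟨k, hk0, hk⟩ := hD.nontrivial_iff_card.1 this
  obtain ⟨x, hx⟩ := exists_prime_orderOf_dvd_card' (G := D) p (hk ▸ dvd_pow_self p hk0.ne')
  have := card_le_of_sec hs (A := Subgroup.zpowers (x : G)) (Subgroup.zpowers_le.2 x.2) ?_ ?_
  · rwa [Nat.card_zpowers, Subgroup.orderOf_coe, hx] at this
  · rintro _ ⟨a, rfl⟩ _ ⟨b, rfl⟩; exact zpow_mul_comm _ _ _
  · rintro _ ⟨a, rfl⟩
    rw [← zpow_natCast, ← zpow_mul, mul_comm, zpow_mul, zpow_natCast, ← hx,
      ← Subgroup.orderOf_coe, pow_orderOf_eq_one, one_zpow]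

end general

/-! Partitions are bounded by Fibonacci numbers. -/

def rc (t : ℕ) (m : Multiset (ℕ × ℕ)) : Multiset (ℕ × ℕ) :=
  (m.count (1, t) + 2, t) ::ₘ m.filter (· ≠ (1, t))

def FF (t : ℕ) : ℕ → Finset (Multiset (ℕ × ℕ))
  | 0 => {0}
  | 1 => {{(1, t)}}
  | w + 2 => (FF t (w + 1)).image (Multiset.cons (1, t)) ∪ (FF t w).image (rc t)

lemma card_FF (t : ℕ) : ∀ w, (FF t w).card ≤ Nat.fib (w + 1)
  | 0 => by simp [FF]
  | 1 => by simp [FF]
  | w + 2 => by
    have h1 := card_FF t w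
    have h2 := card_FF t (w + 1)
    have h3 := Finset.card_image_le (s := FF t (w + 1)) (f := Multiset.cons (1, t))
    have h4 := Finset.card_image_le (s := FF t w) (f := rc t)
    have h5 := Finset.card_union_le ((FF t (w + 1)).image (Multiset.cons (1, t)))
      ((FF t w).image (rc t))
    rw [FF, Nat.fib_add_two]
    omega

lemma mul_cons {C : Finset ℕ} {w : ℕ} {a : ℕ × ℕ} {m : Multiset (ℕ × ℕ)}
    (h : a ::ₘ m ∈ Mul C w) : ∃ v, w = a.1 + v ∧ m ∈ Mul C v :=
  ⟨_, by rw [← h.2, Multiset.map_cons, Multiset.sum_cons],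
    fun b hb => h.1 b (Multiset.mem_cons_of_mem hb), rfl⟩

lemma mul_zero' {C : Finset ℕ} {m : Multiset (ℕ × ℕ)} (h : m ∈ Mul C 0) : m = 0 := by
  simpa [U] using mem_U C 0 0 le_rfl m h

lemma mem_FF (t : ℕ) : ∀ w, ∀ m ∈ Mul {t} w, m ∈ FF t w
  | 0 => fun m hm => by simp [FF, mul_zero' hm]
  | 1 => fun m hm => by
    have hne : m ≠ 0 := by rintro rfl; simpa using hm.2
    obtain ⟨a, ha⟩ := Multiset.exists_mem_of_ne_zero hne
    obtain ⟨m', rfl⟩ := Multiset.exists_cons_of_mem ha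
    obtain ⟨v, h1, h2⟩ := mul_cons hm
    obtain ⟨h3, h4⟩ := hm.1 a ha
    obtain rfl : v = 0 := by omega
    have : a = (1, t) := Prod.ext (by simp only; omega) (by simpa using h4)
    simp [FF, mul_zero' h2, this]
  | w + 2 => fun m hm => by
    by_cases h1 : (1, t) ∈ m
    · obtain ⟨m', rfl⟩ := Multiset.exists_cons_of_mem h1
      obtain ⟨v, h1, h2⟩ := mul_cons hm
      obtain rfl : v = w + 1 := by simp only at h1; omega
      exact Finset.mem_union_left _ (Finset.mem_image_of_mem _ (mem_FF t _ _ h2))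
    · have hne : m ≠ 0 := by rintro rfl; simpa using hm.2
      obtain ⟨a, ha⟩ := Multiset.exists_mem_of_ne_zero hne
      obtain ⟨m', rfl⟩ := Multiset.exists_cons_of_mem ha
      obtain ⟨v, h2, h3⟩ := mul_cons hm
      obtain ⟨h4, h5⟩ := hm.1 a ha
      rw [Finset.mem_singleton] at h5
      have h6 : a.1 ≠ 1 := fun e => h1 (by rw [← e, ← h5]; exact ha)
      have h7 : (1, t) ∉ m' := fun e => h1 (Multiset.mem_cons_of_mem e)
      refine Finset.mem_union_right _ (Finset.mem_image.2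
        ⟨m' + Multiset.replicate (a.1 - 2) (1, t), mem_FF t _ _ ⟨fun b hb => ?_, ?_⟩, ?_⟩)
      · rcases Multiset.mem_add.1 hb with h | h
        · exact h3.1 b h
        · rw [Multiset.eq_of_mem_replicate h]; simp
      · rw [Multiset.map_add, Multiset.sum_add, h3.2]; simp; omega
      · rw [rc, Multiset.count_add, Multiset.count_eq_zero_of_notMem h7,
          Multiset.count_replicate_self, Multiset.filter_add,
          Multiset.filter_eq_self.2 (show ∀ b ∈ m', b ≠ (1, t) from fun b hb e => h7 (e ▸ hb)),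
          Multiset.filter_eq_nil.2 (fun b hb => by simp [Multiset.eq_of_mem_replicate hb]), add_zero]
        congr 1
        exact Prod.ext (by simp only; omega) h5.symm

lemma small_wt (T : Finset ℕ) : ∃ v, ∑ x ∈ T, x = ∑ x ∈ Finset.range T.card, x + v ∧
    (v = 0 → T = Finset.range T.card) ∧
    (v = 1 → T = insert T.card (Finset.range (T.card - 1))) ∧
    (v = 2 → T = insert (T.card + 1) (Finset.range (T.card - 1)) ∨
      T = insert T.card (insert (T.card - 1) (Finset.range (T.card - 2)))) := by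
  induction T using Finset.induction_on_max with
  | empty => exact ⟨0, by simp, by simp, by simp, by simp⟩
  | insert x T hx ih =>
    obtain ⟨v, h0, h1, h2, h3⟩ := ih
    have hn : x ∉ T := fun h => lt_irrefl _ (hx x h)
    have hsub : T ⊆ Finset.range x := fun y hy => Finset.mem_range.2 (hx y hy)
    have hc : T.card ≤ x := by simpa using Finset.card_le_card hsub
    have hv : x = T.card → v = 0 := fun e => by
      have : T = Finset.range T.card := Finset.eq_of_subset_of_card_le (e ▸ hsub) (by simp)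
      rw [← this] at h0; omega
    rw [Finset.card_insert_of_notMem hn, Finset.sum_insert hn, Finset.sum_range_succ]
    refine ⟨v + (x - T.card), by omega, fun e => ?_, fun e => ?_, fun e => ?_⟩
    · rw [Finset.range_add_one, ← h1 (by omega), show x = T.card by omega]
    · rw [Nat.add_sub_cancel, ← h1 (by omega), show x = T.card + 1 by omega]
    · by_cases h : v = 0
      · left; rw [Nat.add_sub_cancel, ← h1 h, show x = T.card + 1 + 1 by omega]
      · right
        rw [Nat.add_sub_cancel, show T.card + 1 - 2 = T.card - 1 by omega, ← h2 (by omega),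
          show x = T.card + 1 by omega]

variable {N n : ℕ}

open Classical in
noncomputable def TT (γ : Fin N →₀ ℕ) : Finset ℕ := (Finset.range N).filter fun y => ∃ i, γ i = 2 * y

lemma mem_TT {γ : Fin N →₀ ℕ} (h : Dual (2 * N) γ γ) {y : ℕ} : y ∈ TT γ ↔ ∃ i, γ i = 2 * y := by
  rw [TT, Finset.mem_filter, Finset.mem_range]
  exact ⟨fun a => a.2, fun ⟨i, hi⟩ => ⟨by have := h.b1 i; omega, i, hi⟩⟩

lemma card_TT {γ : Fin N →₀ ℕ} (h : Dual (2 * N) γ γ) :
    (TT γ).card = (Finset.univ.filter fun i => γ i % 2 = 0).card := by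
  symm
  refine Finset.card_bij (fun i _ => γ i / 2) ?_ ?_ ?_
  · intro i hi
    rw [Finset.mem_filter] at hi
    exact (mem_TT h).2 ⟨i, by omega⟩
  · intro i hi j hj hij
    rw [Finset.mem_filter] at hi hj
    exact h.i1 (by omega)
  · intro y hy
    obtain ⟨i, hi⟩ := (mem_TT h).1 hy
    exact ⟨i, by simp [hi], by omega⟩

lemma dg_TT {γ : Fin N →₀ ℕ} (h : Dual (2 * N) γ γ) : dg γ + (2 * N - 1) * (TT γ).card =
    4 * ∑ y ∈ TT γ, y + ∑ y ∈ Finset.range N, (2 * N - 1 - 2 * y) := by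
  classical
  have e1 : dg γ = ∑ y ∈ Finset.range N, if y ∈ TT γ then 2 * y else 2 * N - 1 - 2 * y := by
    refine Finset.sum_bij (fun i _ => if γ i % 2 = 0 then γ i / 2 else (2 * N - 1 - γ i) / 2)
      ?_ ?_ ?_ ?_
    · intro i _
      have := h.b1 i
      rw [Finset.mem_range]; split_ifs <;> omega
    · intro i _ j _ hij
      have a1 := h.b1 i
      have a2 := h.b1 j
      have a3 : γ i + γ j + 1 ≠ 2 * N := fun e => (h.d _ _ e).1 ⟨i, rfl⟩ ⟨j, rfl⟩
      refine h.i1 ?_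
      split_ifs at hij <;> omega
    · intro y hy
      rw [Finset.mem_range] at hy
      by_cases a : ∃ i, γ i = 2 * y
      · obtain ⟨i, hi⟩ := a
        exact ⟨i, Finset.mem_univ _, by rw [if_pos (by omega)]; omega⟩
      · obtain ⟨i, hi⟩ := (h.d (2 * N - 1 - 2 * y) (2 * y) (by omega)).2 a
        exact ⟨i, Finset.mem_univ _, by rw [if_neg (by omega)]; omega⟩
    · intro i _
      have a1 := h.b1 i
      by_cases a : γ i % 2 = 0
      · rw [if_pos a, if_pos ((mem_TT h).2 ⟨i, by omega⟩)]; omega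
      · rw [if_neg a, if_neg]
        · omega
        · rw [mem_TT h]
          exact (h.d (γ i) _ (by omega)).1 ⟨i, rfl⟩
  have hs : TT γ ⊆ Finset.range N := Finset.filter_subset _ _
  have e2 : ∀ f : ℕ → ℕ, ∑ y ∈ TT γ, f y = ∑ y ∈ Finset.range N, if y ∈ TT γ then f y else 0 :=
    fun f => by rw [Finset.sum_ite_mem, Finset.inter_eq_right.2 hs]
  rw [e1, Finset.mul_sum, Finset.card_eq_sum_ones, Finset.mul_sum, e2, e2,
    ← Finset.sum_add_distrib, ← Finset.sum_add_distrib]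
  refine Finset.sum_congr rfl fun y hy => ?_
  rw [Finset.mem_range] at hy
  split_ifs <;> omega

lemma TT_gr {κ : Fin N →₀ ℕ} (h : Dual (2 * N) κ κ) (hκ : Gr 2 κ) :
    TT κ = Finset.range (TT κ).card := by
  refine Finset.eq_of_subset_of_card_le (fun y hy => ?_) (by simp)
  obtain ⟨i, hi⟩ := (mem_TT h).1 hy
  have : Finset.range (y + 1) ⊆ TT κ := fun z hz =>
    (mem_TT h).2 (gr_desc' hκ (i := i) (by rw [Finset.mem_range] at hz; omega) (by omega))
  simpa using Finset.card_le_card this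

lemma md_of_TT {γ μ : Fin N →₀ ℕ} (h : Dual (2 * N) γ γ) (h' : Dual (2 * N) μ μ)
    (e : TT γ = TT μ) : ∃ π : Perm (Fin N), μ = γ.mapDomain π := by
  refine exists_md_of_range h'.i1 fun j => ?_
  have a1 := h'.b1 j
  by_cases a : μ j % 2 = 0
  · have := (mem_TT h').2 ⟨j, show μ j = 2 * (μ j / 2) by omega⟩
    rw [← e, mem_TT h] at this
    rwa [show 2 * (μ j / 2) = μ j by omega] at this
  · refine (h.d (μ j) (2 * ((2 * N - 1 - μ j) / 2)) (by omega)).2 ?_
    rw [← mem_TT h, e, mem_TT h']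
    exact (h'.d (μ j) _ (by omega)).1 ⟨j, rfl⟩

/-- counting sign-invariant characters for `p = 2` -/
theorem sd_count (hN : n ≤ N) {κ : Fin N →₀ ℕ} (hκi : Function.Injective κ) (hκ : Gr 2 κ) {w : ℕ}
    (hd : dg (dl N) + n = dg κ + 2 * w) (S : Finset (IrrCharacter (Perm (Fin n))))
    (hS : ∀ χ ∈ S, Lab 2 κ χ.1 ∧ ∀ g, Perm.sign g ≠ 1 → χ.1 g = 0) :
    (w % 2 = 1 → S.card = 0) ∧ (w = 2 → S.card ≤ 1) ∧ (w = 4 → S.card ≤ 2) := by
  classical
  set m := (Finset.univ.filter fun i => κ i % 2 = 0).card with hm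
  have key : ∀ χ : IrrCharacter (Perm (Fin n)), ∃ γ : Fin N →₀ ℕ, χ ∈ S →
      (∃ a, ∀ g, χ.1 g = a * chi γ g) ∧ Dual (2 * N) γ γ ∧ (TT γ).card = m ∧
        2 * ∑ y ∈ TT γ, y = 2 * ∑ y ∈ Finset.range m, y + w := by
    intro χ
    by_cases hχ : χ ∈ S
    swap
    · exact ⟨0, fun h => absurd h hχ⟩
    obtain ⟨⟨γ, a, hγ, hr, ha, hc⟩, h0⟩ := hS χ hχ
    have h1 := dual_self hN χ.2 hγ hc h0
    have h2 := dual_self_gr two_pos h1 hκi hκ hr
    have c1 : (TT γ).card = m := by rw [card_TT h1]; simp only [hr, hm]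
    have c2 : (TT κ).card = m := card_TT h2
    have d1 := dg_TT h1
    have d2 := dg_TT h2
    have d3 : dg γ = dg (dl N) + n := dg_of_chi (g := 1) fun h =>
      irr_apply_one_ne_zero χ.2 (by rw [hc, h, mul_zero])
    rw [TT_gr h2 hκ, Finset.card_range, c2] at d2
    rw [c1] at d1
    exact ⟨γ, fun _ => ⟨⟨a, hc⟩, h1, c1, by omega⟩⟩
  choose γ hγ using key
  have hinj : Set.InjOn (fun χ => TT (γ χ)) S := fun χ hχ ψ hψ e => by
    obtain ⟨⟨a, ha⟩, h1, -⟩ := hγ χ hχ
    obtain ⟨⟨b, hb⟩, h2, -⟩ := hγ ψ hψ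
    obtain ⟨π, hπ⟩ := md_of_TT h1 h2 e
    have a0 : a ≠ 0 := fun h => irr_apply_one_ne_zero χ.2 (by rw [ha, h, zero_mul])
    have b0 : b ≠ 0 := fun h => irr_apply_one_ne_zero ψ.2 (by rw [hb, h, zero_mul])
    have : ψ.1 = (b * sg π / a) • χ.1 := funext fun g => by
      rw [Pi.smul_apply, ha, hb, hπ, chi_md, smul_eq_mul]; field_simp
    refine Subtype.ext (irr_eq_of_inner_ne_zero ψ.2 χ.2 ?_).symm
    rw [this, CChar.CharFun.inner_smul_left, inner_irr_self χ.2, mul_one]
    exact div_ne_zero (mul_ne_zero b0 (sg_ne_zero π)) a0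
  refine ⟨fun hw => ?_, fun hw => ?_, fun hw => ?_⟩
  · rw [Finset.card_eq_zero, Finset.eq_empty_iff_forall_notMem]
    intro χ hχ
    have := (hγ χ hχ).2.2.2; omega
  · refine (Finset.card_le_card_of_injOn (t := {insert m (Finset.range (m - 1))}) _
      (fun χ hχ => ?_) hinj).trans (by simp)
    obtain ⟨-, -, c, d⟩ := hγ χ hχ
    obtain ⟨v, h0, -, h2, -⟩ := small_wt (TT (γ χ))
    rw [c] at h0 h2
    simpa using h2 (by omega)
  · refine (Finset.card_le_card_of_injOn (t := {insert (m + 1) (Finset.range (m - 1)),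
      insert m (insert (m - 1) (Finset.range (m - 2)))}) _ (fun χ hχ => ?_) hinj).trans
      Finset.card_le_two
    obtain ⟨-, -, c, d⟩ := hγ χ hχ
    obtain ⟨v, h0, -, -, h2⟩ := small_wt (TT (γ χ))
    rw [c] at h0 h2
    simpa using h2 (by omega)

lemma exists_V4 (hn : 4 ≤ n) : ∃ (u : Perm (Fin n)) (E : Subgroup (Perm (Fin n))),
    u.cycleType = Multiset.replicate 2 2 ∧ orderOf u = 2 ∧ E ≤ Subgroup.centralizer {u} ∧
      (∀ c ∈ Subgroup.centralizer {u}, ∀ a ∈ E, c * a * c⁻¹ ∈ E) ∧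
      (∀ a ∈ E, ∀ b ∈ E, a * b = b * a) ∧ (∀ a ∈ E, a ^ 2 = 1) ∧ E ≤ alternatingGroup (Fin n) ∧
      4 ≤ Nat.card E := by
  obtain ⟨a, b, c, d, hab, hac, had, hbc, hbd, hcd⟩ : ∃ a b c d : Fin n,
      a ≠ b ∧ a ≠ c ∧ a ≠ d ∧ b ≠ c ∧ b ≠ d ∧ c ≠ d :=
    ⟨⟨0, by omega⟩, ⟨1, by omega⟩, ⟨2, by omega⟩, ⟨3, by omega⟩, by simp, by simp, by simp,
      by simp, by simp, by simp⟩
  have hba := hab.symm
  have hca := hac.symm
  have hda := had.symm
  have hcb := hbc.symm
  have hdb := hbd.symm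
  have hdc := hcd.symm
  have hext : ∀ f g : Perm (Fin n), f a = g a → f b = g b → f c = g c → f d = g d →
      (∀ z, z ≠ a → z ≠ b → z ≠ c → z ≠ d → f z = g z) → f = g := fun f g h1 h2 h3 h4 h5 => by
    ext1 z
    by_cases z1 : z = a
    · rwa [z1]
    by_cases z2 : z = b
    · rwa [z2]
    by_cases z3 : z = c
    · rwa [z3]
    by_cases z4 : z = d
    · rwa [z4]
    exact h5 z z1 z2 z3 z4
  obtain ⟨u, hu⟩ : ∃ u, u = swap a b * swap c d := ⟨_, rfl⟩
  obtain ⟨v, hv⟩ : ∃ v, v = swap a c * swap b d := ⟨_, rfl⟩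
  obtain ⟨w, hw⟩ : ∃ w, w = swap a d * swap b c := ⟨_, rfl⟩
  have tb : u * u = 1 ∧ v * v = 1 ∧ w * w = 1 ∧ u * v = w ∧ v * u = w := by
    subst hu hv hw
    refine ⟨?_, ?_, ?_, ?_, ?_⟩ <;> refine hext _ _ ?_ ?_ ?_ ?_ (fun z _ _ _ _ => ?_) <;>
      simp [swap_apply_def, *]
  obtain ⟨uu, vv, ww, uv, vu⟩ := tb
  have uw : u * w = v := by rw [← uv, ← mul_assoc, uu, one_mul]
  have wu : w * u = v := by rw [← vu, mul_assoc, uu, mul_one]
  have vw : v * w = u := by rw [← vu, ← mul_assoc, vv, one_mul]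
  have wv : w * v = u := by rw [← uv, mul_assoc, vv, mul_one]
  have tv : u a = b ∧ u c = d ∧ v a = c ∧ w a = d := by
    subst hu hv hw
    simp [swap_apply_def, *]
  obtain ⟨ua, uc, va, wa⟩ := tv
  have ct : u.cycleType = {2, 2} := hu ▸ Perm.cycleType_swap_mul_swap_of_nodup (by simp [*])
  let E : Subgroup (Perm (Fin n)) :=
    { carrier := {1, u, v, w}
      one_mem' := by simp
      mul_mem' := by
        rintro x y (h | h | h | h) (h' | h' | h' | h') <;> rw [h, h'] <;>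
          simp [uu, vv, ww, uv, vu, uw, wu, vw, wv]
      inv_mem' := by
        rintro x (h | h | h | h) <;> rw [h] <;>
          simp [inv_eq_of_mul_eq_one_right uu, inv_eq_of_mul_eq_one_right vv,
            inv_eq_of_mul_eq_one_right ww] }
  have mE : ∀ x, x ∈ E ↔ x = 1 ∨ x = u ∨ x = v ∨ x = w := fun x => Iff.rfl
  refine ⟨u, E, ct, ?_, ?_, ?_, ?_, ?_, ?_, ?_⟩
  · rw [← Perm.lcm_cycleType, ct]; rfl
  · rintro x (h | h | h | h) <;> rw [Subgroup.mem_centralizer_singleton_iff, h] <;>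
      simp [uu, vv, ww, uv, vu, uw, wu, vw, wv]
  · intro f hf
    rw [Subgroup.mem_centralizer_singleton_iff] at hf
    have h1 : f * u * f⁻¹ = u := by rw [hf, mul_inv_cancel_right]
    have h2 : f * v * f⁻¹ ∈ E := by
      have e : f * v * f⁻¹ = swap (f a) (f c) * swap (f b) (f d) := by
        rw [hv, swap_apply_apply, swap_apply_apply]; group
      have e1 : f b = u (f a) := by rw [← ua, ← Perm.mul_apply, hf, Perm.mul_apply]
      have e2 : f d = u (f c) := by rw [← uc, ← Perm.mul_apply, hf, Perm.mul_apply]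
      have n1 : f a ≠ f b := f.injective.ne hab
      have n2 : f a ≠ f c := f.injective.ne hac
      have n3 : f a ≠ f d := f.injective.ne had
      have n4 : f c ≠ f d := f.injective.ne hcd
      rw [e, mE]
      generalize f a = x at *
      generalize f b = x' at *
      generalize f c = y at *
      generalize f d = y' at *
      have k : ∀ z z', z' = u z → z ≠ z' → (z = a ∧ z' = b) ∨ (z = b ∧ z' = a) ∨
          (z = c ∧ z' = d) ∨ (z = d ∧ z' = c) := fun z z' h1 h2 => by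
        rw [hu] at h1
        by_cases z1 : z = a
        · left; exact ⟨z1, by rw [h1, z1]; simp [swap_apply_def, hab, hac, had]⟩
        by_cases z2 : z = b
        · right; left; exact ⟨z2, by rw [h1, z2]; simp [swap_apply_def, hba, hbc, hbd]⟩
        by_cases z3 : z = c
        · right; right; left; exact ⟨z3, by rw [h1, z3]; simp [swap_apply_def, hda, hdb]⟩
        by_cases z4 : z = d
        · right; right; right; exact ⟨z4, by rw [h1, z4]; simp [swap_apply_def, hca, hcb, hdc]⟩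
        exact absurd (by rw [h1]; simp [swap_apply_def, z1, z2, z3, z4]) h2
      have k1 := k x x' e1 n1
      have k2 := k y y' e2 n4
      clear e e1 e2 k
      rw [hv, hw]
      rcases k1 with ⟨h, h'⟩ | ⟨h, h'⟩ | ⟨h, h'⟩ | ⟨h, h'⟩ <;>
        rcases k2 with ⟨g, g'⟩ | ⟨g, g'⟩ | ⟨g, g'⟩ | ⟨g, g'⟩ <;>
        rw [h, g] at n2 <;> rw [h, g'] at n3 <;> rw [h, h', g, g'] <;>
        first
        | exact absurd rfl n2
        | exact absurd rfl n3
        | (right; right; left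
           refine hext _ _ ?_ ?_ ?_ ?_ (fun z _ _ _ _ => ?_) <;>
             simp [swap_apply_def, hab, hac, had, hbc, hbd, hcd, hba, hca, hda, hcb, hdb, hdc, *]
           done)
        | (right; right; right
           refine hext _ _ ?_ ?_ ?_ ?_ (fun z _ _ _ _ => ?_) <;>
             simp [swap_apply_def, hab, hac, had, hbc, hbd, hcd, hba, hca, hda, hcb, hdb, hdc, *])
    rintro x (h | h | h | h) <;> rw [h]
    · simp
    · rw [h1]; simp [mE]
    · exact h2
    · rw [← uv, ← conj_mul, h1]; exact mul_mem (by simp [mE]) h2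
  · rintro x (h | h | h | h) y (h' | h' | h' | h') <;> rw [h, h'] <;>
      simp [uu, vv, ww, uv, vu, uw, wu, vw, wv]
  · rintro x (h | h | h | h) <;> rw [h] <;> simp [pow_two, uu, vv, ww]
  · rintro x (h | h | h | h) <;> rw [h] <;> simp [hu, hv, hw, hab, hcd, hac, hbd, had, hbc]
  · have : Nat.card E = ({1, u, v, w} : Finset (Perm (Fin n))).card := by
      rw [← Nat.card_eq_finsetCard]
      exact Nat.card_congr (Equiv.subtypeEquivRight fun x => by simp [mE])
    have a1 : ∀ x y : Perm (Fin n), x a ≠ y a → x ≠ y := fun x y h e => h (by rw [e])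
    rw [this, Finset.card_insert_of_notMem, Finset.card_insert_of_notMem, Finset.card_pair]
    · exact a1 _ _ (by rw [va, wa]; exact hcd)
    · simp only [Finset.mem_insert, Finset.mem_singleton, not_or]
      exact ⟨a1 _ _ (by rw [ua, va]; exact hbc), a1 _ _ (by rw [ua, wa]; exact hbd)⟩
    · simp only [Finset.mem_insert, Finset.mem_singleton, not_or]
      exact ⟨a1 _ _ (by rw [ua]; exact hab), a1 _ _ (by rw [va]; exact hac),
        a1 _ _ (by rw [wa]; exact had)⟩

end CA.H10Fock7
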