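import Cfsg.Agent.Lib.Char.H10TI

/-!
# Counting characters over an invariant character: Gallagher's formula
-/

set_option autoImplicit false
set_option linter.unusedSectionVars false

namespace CA.H10Gal
open Cfsg CA.PF CA.H12Gl CA.H12Gl2 CA.H12Gl3 CA.H12Mon CA.H12Tri CA.H12Deg CA.H10TI
  Subgroup Function
open CA.BG hiding cj cj_one cj_mul cj_inv_cj cj_cj_inv mem_cent1
open scoped ComplexConjugate commutatorElement

universe u
variable {Γ : Type*} [Group Γ] [Fintype Γ] {G H K L M N U A T Z : Subgroup Γ}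
  {χ β θ φ ψ η ξ : Γ → ℂ} {P : ℕ → Prop}

open Classical in
/-- The irreducible characters of `K` over `θ` whose degree satisfies `P`. -/
noncomputable def ov (P : ℕ → Prop) (K N : Subgroup Γ) (θ : Γ → ℂ) : Finset (Γ → ℂ) :=
  (irr K).filter fun χ => dot N χ θ ≠ 0 ∧ P (charDegree χ)

theorem mem_ov : χ ∈ ov P K N θ ↔ χ ∈ irr K ∧ dot N χ θ ≠ 0 ∧ P (charDegree χ) := by
  classical exact Finset.mem_filter

/-- The number of all irreducible characters over `θ`. -/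
noncomputable abbrev kk (K N : Subgroup Γ) (θ : Γ → ℂ) : ℕ := (ov (fun _ => True) K N θ).card

/-- `θ` extends to `K`. -/
def Ext (K N : Subgroup Γ) (θ : Γ → ℂ) : Prop := (ov (· = charDegree θ) K N θ).card ≠ 0

theorem ext_iff (h : N ≤ K) (hθ : θ ∈ irr N) :
    Ext K N θ ↔ ∃ χ ∈ irr K, Res (N : Set Γ) χ = θ := by
  rw [Ext, Finset.card_ne_zero]
  refine ⟨fun ⟨χ, hχ⟩ => ?_, fun ⟨χ, h1, h2⟩ => ⟨χ, mem_ov.2 ⟨h1, ?_, ?_⟩⟩⟩
  · obtain ⟨h1, h2, h3⟩ := mem_ov.1 hχ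
    exact ⟨χ, h1, ((irr_char h1).Res h).eq_of_one hθ (by rwa [dot_Res_left (irr_on hθ)])
      (by rw [Res_one, irr_deg h1, h3, irr_deg hθ])⟩
  · rw [← dot_Res_left (irr_on hθ), h2, dot_irr_self hθ]; exact one_ne_zero
  · rw [← h2, deg_Res]

theorem card_ov_congr {P' : ℕ → Prop} (h : ∀ χ ∈ irr K, dot N χ θ ≠ 0 →
    (P (charDegree χ) ↔ P' (charDegree χ))) : (ov P K N θ).card = (ov P' K N θ).card :=
  congrArg _ (Finset.ext fun χ => by
    rw [mem_ov, mem_ov]; exact and_congr_right fun h1 => and_congr_right (h χ h1))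

/-! ### transport to a subgroup, a character triple, an inertia group -/

section sub
variable [Fintype G]

theorem sub_irr_iff (hK : K ≤ G) (h : φ ∈ cfOn (K : Set Γ)) :
    φ ∘ G.subtype ∈ irr (K.subgroupOf G) ↔ φ ∈ irr K := by
  rw [mem_irr, mem_irr]
  exact and_congr (iff_of_true (fun x hx => h _ hx) h)
    (CA.Clif.so_irr_iff (θ := fun k : K => φ k) hK)

theorem dot_sub (hK : K ≤ G) (φ : Γ → ℂ) (h : ψ ∈ cfOn (G : Set Γ)) :
    dot (K.subgroupOf G) (φ ∘ G.subtype) (ψ ∘ G.subtype) = dot K φ ψ := by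
  rw [dot_eq_sum_right K φ h, ← sum_subgroup_fs, dot_def, CA.Coprime.card_subgroupOf hK]; rfl

theorem card_ov_sub (hK : K ≤ G) (hN : N ≤ G) (hθ : θ ∈ cfOn (N : Set Γ)) :
    (ov P (K.subgroupOf G) (N.subgroupOf G) (θ ∘ G.subtype)).card = (ov P K N θ).card := by
  have h0 : ∀ χ : Γ → ℂ, charDegree (χ ∘ G.subtype) = charDegree χ := fun χ => deg_congr rfl
  refine (Finset.card_bij (fun χ _ => χ ∘ G.subtype) (fun χ hχ => ?_) (fun χ h χ' h' e => ?_)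
    fun ξ hξ => ?_).symm
  · obtain ⟨h1, h2, h3⟩ := mem_ov.1 hχ
    exact mem_ov.2 ⟨(sub_irr_iff hK (irr_on h1)).2 h1, by rwa [dot_sub hN _ (cfOn_mono hN hθ)],
      by rwa [h0]⟩
  · exact CF_ext (irr_on (mem_ov.1 h).1) (irr_on (mem_ov.1 h').1) fun x hx =>
      congrFun e ⟨x, hK hx⟩
  · obtain ⟨h1, h2, h3⟩ := mem_ov.1 hξ
    obtain ⟨χ, h4, rfl⟩ : ∃ χ ∈ cfOn (K : Set Γ), ξ = χ ∘ G.subtype :=
      ⟨extendByZero G ξ, fun x hx => by
        by_cases h : x ∈ G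
        · rw [CA.Ind.ext_of_mem _ _ h]; exact irr_on h1 _ hx
        · exact ext_on G ξ x h, (res_ext G ξ).symm⟩
    exact ⟨χ, mem_ov.2 ⟨(sub_irr_iff hK h4).1 h1, by rwa [dot_sub hN _ (cfOn_mono hN hθ)] at h2,
      by rwa [h0] at h3⟩, rfl⟩

theorem ext_sub (hK : K ≤ G) (hN : N ≤ G) (hθ : θ ∈ cfOn (N : Set Γ)) :
    Ext (K.subgroupOf G) (N.subgroupOf G) (θ ∘ G.subtype) ↔ Ext K N θ := by
  rw [Ext, card_ov_sub hK hN hθ, deg_congr (χ := θ ∘ G.subtype) (ψ := θ) rfl, Ext]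

theorem nrm_sub (h : Nrm N K) : Nrm (N.subgroupOf G) (K.subgroupOf G) :=
  ⟨comap_mono h.le, fun _ hx _ hk => h.conj hx hk⟩

theorem stab_sub (h : K ≤ stab θ) : K.subgroupOf G ≤ stab (θ ∘ G.subtype) :=
  fun _ hx => funext fun y => congrFun (h hx) y

end sub

section tri
variable {E Q : Type*} [Group E] [Fintype E] [Group Q] [Fintype Q] {π : E →* Γ} {ρ : E →* Q}
  {ζ : E → ℂ} {lam : Q → ℂ}

theorem card_ov_tri (T : Tri π ρ N θ ζ lam) (h : N ≤ K) : (ov P K N θ).card =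
    (ov (fun n => P (n * charDegree θ)) (st π ρ K) (st π ρ N) lam).card := by
  have h0 : ∀ {χ} {β : Q → ℂ}, β ∈ irr (st π ρ K) → χ ∘ π = β ∘ ρ * ζ →
      charDegree χ = charDegree β * charDegree θ := fun h1 e =>
    deg_eq (by rw [T.apply_one e, irr_deg h1, irr_deg T.irrθ, Nat.cast_mul])
  have h1 := fun (χ) (hχ : χ ∈ ov P K N θ) => T.down h (mem_ov.1 hχ).1 (mem_ov.1 hχ).2.1
  choose f h1 h2 h3 using h1
  refine Finset.card_bij f (fun χ hχ => mem_ov.2 ⟨h1 χ hχ, h3 χ hχ, ?_⟩) (fun χ h χ' h' e => ?_)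
    fun β hβ => ?_
  · rw [← h0 (h1 χ hχ) (h2 χ hχ)]; exact (mem_ov.1 hχ).2.2
  · exact T.sπ.injective_comp_right (by simp only; rw [h2 χ h, e, h2 χ' h'])
  · obtain ⟨h4, h5, h6⟩ := mem_ov.1 hβ
    obtain ⟨χ, h7, h8, h9⟩ := T.up h h4 h5
    have h10 : χ ∈ ov P K N θ := mem_ov.2 ⟨h7, h9, by rwa [h0 h4 h8]⟩
    exact ⟨χ, h10, T.inj ((h2 χ h10).symm.trans h8)⟩

theorem ext_tri (T : Tri π ρ N θ ζ lam) (h : N ≤ K) :
    Ext K N θ ↔ Ext (st π ρ K) (st π ρ N) lam := by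
  rw [Ext, card_ov_tri T h, Ext, deg_eq (χ := lam) (n := 1) (by rw [T.lam_one, Nat.cast_one]),
    card_ov_congr (P' := (· = 1)) fun _ _ _ => mul_eq_right₀ (deg_pos T.irrθ).ne']

end tri

theorem card_ov_stab (hN : Nrm N K) (hθ : θ ∈ irr N) : (ov P K N θ).card =
    (ov (fun n => P ((stab θ).relIndex K * n)) (K ⊓ stab θ) N θ).card := by
  obtain ⟨h1, h2, h3⟩ := cfInd_sum_Inertia hN hθ
  have h0 : ∀ ψ ∈ irr (K ⊓ stab θ), charDegree (Ind K (K ⊓ stab θ) ψ) =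
      (stab θ).relIndex K * charDegree ψ := fun ψ h => by
    rw [deg_Ind inf_le_left (irr_char h), inf_relIndex_left]
  refine (Finset.card_bij (fun ψ _ => Ind K (K ⊓ stab θ) ψ) (fun ψ hψ => ?_) (fun χ h χ' h' e => ?_)
    fun χ hχ => ?_).symm
  · obtain ⟨h4, h5, h6⟩ := mem_ov.1 hψ
    exact mem_ov.2 ⟨(h1 ψ h4 h5).1, by rwa [(h1 ψ h4 h5).2], by rwa [h0 ψ h4]⟩
  · exact h2 _ (mem_ov.1 h).1 _ (mem_ov.1 h').1 (mem_ov.1 h).2.1 (mem_ov.1 h').2.1 e
  · obtain ⟨h4, h5, h6⟩ := mem_ov.1 hχ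
    obtain ⟨ψ, h7, h8, rfl⟩ := h3 χ h4 h5
    exact ⟨ψ, mem_ov.2 ⟨h7, h8, by rwa [← h0 ψ h7]⟩, rfl⟩

/-- Over an abelian section the degrees are determined by the number of characters. -/
theorem exists_ab (hN : Nrm N K) (hθ : θ ∈ irr N) (hs : K ≤ stab θ) (hab : ⁅K, K⁆ ≤ N) :
    ∃ e : ℕ, e ^ 2 * kk K N θ = N.relIndex K ∧ kk K N θ ≠ 0 ∧
      ∀ χ ∈ irr K, dot N χ θ ≠ 0 → χ 1 = e * θ 1 := by
  have h0 : constt K (Ind K N θ) = ov (fun _ => True) K N θ := Finset.ext fun χ => by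
    rw [mem_constt, mem_ov]
    exact and_congr_right fun h => by
      rw [dot_Ind_left _ _ (irr_CInv h), Ne, dot_eq_zero_comm, and_true]
  obtain ⟨e, -, -, h1, h2⟩ := cfInd_central_Inertia hN hθ (by rwa [inf_eq_left.2 hs])
  rw [inf_eq_left.2 hs, h0] at h1
  refine ⟨e, h1, fun h => relIndex_ne_zero' N K (by rw [← h1]; exact mul_eq_zero_of_right _ h), fun χ h3 h4 => ?_⟩
  rw [h2 χ (h0 ▸ mem_ov.2 ⟨h3, h4, trivial⟩), relIndex_eq_one.2 hs, Nat.cast_one, one_mul]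

/-! ### Gallagher's formula -/

section gal
variable {R : Type*} [Group R] [Fintype R] {f : Γ →* R}

theorem sum_comm_eq (hN : Nrm N ⊤) (hθ : θ ∈ irr N) (hs : ⊤ ≤ stab θ) :
    θ 1 * ∑ g, ∑ c, θ (c⁻¹ * g * c * g⁻¹) = Nat.card Γ * ♯N * kk ⊤ N θ := by
  classical
  have h1 := (Ind_of_stab le_top hs).symm.trans (CF_expand (Ind_CF le_top (irr_on hθ)))
  have h2 : ∀ χ ∈ irr (⊤ : Subgroup Γ), θ 1 * ∑ g, ∑ c, dot ⊤ (Ind ⊤ N θ) χ *
      χ (c⁻¹ * g * c * g⁻¹) = if dot N χ θ ≠ 0 ∧ True then (Nat.card Γ : ℂ) ^ 2 else 0 :=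
    fun χ hχ => by
      obtain ⟨m, hm⟩ := dot_char_over_nat le_top (irr_char hχ) (irr_char hθ)
      rw [dot_Ind_left _ _ (irr_CInv hχ), dot_comm_nat hm]
      split_ifs with h
      · have h3 := clifford_one hN hχ hθ h.1
        have h4 := card_mul_dot ⊤ χ χ
        rw [relIndex_eq_one.2 hs, hm, Nat.cast_one, mul_one] at h3
        rw [dot_irr_self hχ, mul_one, card_top] at h4
        simp only [← Finset.mul_sum, CA.H12Orth.sum_irr_conj_mul (mem_irr_top.1 hχ),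
          (irr_char hχ).apply_inv]
        simp only [mul_assoc, ← Finset.mul_sum, ← Finset.sum_div]
        rw [← h4, ← mul_assoc, mul_comm (θ 1), ← h3, mul_div_cancel₀ _ (irr_one_ne hχ), sq]
      · simp [← hm, not_not.1 fun h' => h ⟨h', trivial⟩]
  have h3 := Finset.sum_congr rfl h2
  rw [← Finset.sum_filter, Finset.sum_const, nsmul_eq_mul, ← Finset.mul_sum, Finset.sum_comm,
    Finset.sum_congr rfl fun _ _ => Finset.sum_comm] at h3
  have h4 : ∀ x, ∑ χ ∈ irr ⊤, dot ⊤ (Ind ⊤ N θ) χ * χ x = N.relIndex ⊤ * θ x := fun x => by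
    simpa using (congrFun h1 x).symm
  simp only [h4, ← Finset.mul_sum] at h3
  refine mul_left_cancel₀ (relIndexC_ne N ⊤) ?_
  have h5 : (Nat.card Γ : ℂ) = ♯N * N.relIndex ⊤ := by
    rw [← Nat.cast_mul, card_mul_relIndex le_top, card_top]
  rw [mul_left_comm, h3, sq]
  nth_rw 2 [h5]
  unfold kk ov
  ring

theorem comm_zpowers_le {g c : Γ} (hg : g ∈ 𝓝(N)) (hc : c ∈ 𝓝(N)) (h : ⁅g, c⁆ ∈ N) :
    ⁅zpowers g, zpowers c⁆ ≤ N := by
  rw [commutator_le]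
  rintro _ ⟨m, rfl⟩ _ ⟨n, rfl⟩
  let q := QuotientGroup.mk' (N.subgroupOf 𝓝(N))
  have h1 : Commute (q ⟨g, hg⟩) (q ⟨c, hc⟩) := commutatorElement_eq_one_iff_commute.1 (by
    rw [← map_commutatorElement]; exact (QuotientGroup.eq_one_iff _).2 h)
  have h2 := (h1.zpow_zpow m n).commutator_eq
  rw [← map_zpow, ← map_zpow, ← map_commutatorElement] at h2
  exact (QuotientGroup.eq_one_iff (N := N.subgroupOf 𝓝(N)) _).1 h2

/-- The image `a` of a `θ`-good element. -/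
def Gd (f : Γ →* R) (θ : Γ → ℂ) (a : R) : Prop :=
  ∀ c, Commute a c → Ext ((closure {a, c}).comap f) f.ker θ

theorem ext_cen (hZ : ⊤ ≤ 𝓒(f.ker)) (hθ : θ ∈ irr f.ker) {g c : Γ} (h : Commute (f g) (f c)) :
    Ext ((closure {f g, f c}).comap f) f.ker θ ↔ θ ⁅g, c⁆ = 1 := by
  have h0 : ⁅g, c⁆ ∈ f.ker := by rw [MonoidHom.mem_ker, map_commutatorElement, h.commutator_eq]
  have h1 : θ 1 = 1 := (irr_one_eq_one_iff hθ).2 ((comm_eq_bot_iff.2 (le_top.trans hZ)).le.trans bot_le)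
  have h2 : (closure {f g, f c}).comap f = closure {g, c} ⊔ f.ker := by
    rw [← comap_map_eq, MonoidHom.map_closure, Set.image_pair]
  have hg : g ∈ closure {g, c} ⊔ f.ker := mem_sup_left (subset_closure (by simp))
  have hc : c ∈ closure {g, c} ⊔ f.ker := mem_sup_left (subset_closure (by simp))
  rw [h2, ext_iff le_sup_right hθ]
  refine ⟨fun ⟨χ, h3, h4⟩ => ?_, fun h3 => ?_⟩
  · have h5 : χ 1 = 1 := by rw [← Res_one f.ker χ, h4, h1]
    rw [← h4, Res_of_mem _ h0, cfker_apply ((irr_one_eq_one_iff h3).1 h5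
      (commutator_mem_commutator hg hc)), h5]
  · obtain ⟨χ, h4, h5⟩ := exists_irr_over (le_sup_right : f.ker ≤ closure {g, c} ⊔ f.ker) hθ
    have h6 := clifford_stab ((nrm_top _).mono le_sup_right le_top) h4 hθ h5
      fun x _ => cent_le_stab (irr_on hθ) (hZ trivial)
    have h7 : ⁅g, c⁆ ∈ cfker χ := (irr_mem_cfker h4).2 (by
      rw [← Res_of_mem χ h0, ← Res_one f.ker χ, h6, Pi.smul_apply, Pi.smul_apply, h3, h1])
    have h8 := (cfker_nrm (irr_CF h4) (irr_ne_zero h4)).le_normalizer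
    have h9 : ∀ x, ⁅zpowers x, zpowers x⁆ ≤ cfker χ := fun x =>
      (comm_eq_bot_iff.2 (comm_iff_le_cent.1 inferInstance)).le.trans bot_le
    refine ⟨χ, h4, ((irr_char h4).Res le_sup_right).eq_of_one hθ
      (by rwa [dot_Res_left (irr_on hθ)]) ?_⟩
    rw [Res_one, h1, irr_one_eq_one_iff h4]
    refine der_sup_le h8 le_sup_right le_sup_left
      ((comm_eq_bot_iff.2 (le_top.trans hZ)).le.trans bot_le) ?_
    rw [Set.insert_eq, Subgroup.closure_union, ← zpowers_eq_closure, ← zpowers_eq_closure]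
    exact der_sup_le_of_norm (zpowers_le.2 (h8 hg)) (zpowers_le.2 (h8 hc)) (h9 g) (h9 c)
      (comm_zpowers_le (h8 hg) (h8 hc) h7)

open Classical in
theorem gal_cen (hf : Surjective f) (hZ : ⊤ ≤ 𝓒(f.ker)) (hθ : θ ∈ irr f.ker) :
    (kk ⊤ f.ker θ * Nat.card R : ℂ) = ∑ a, if Gd f θ a then (♯𝓒₁(a) : ℂ) else 0 := by
  obtain ⟨l, rfl⟩ := irr_exists_lin (comm_iff_le_cent.2 (le_top.trans hZ)) hθ
  have h1 := sum_comm_eq (nrm_top _) hθ fun x _ => cent_le_stab (irr_on hθ) (hZ trivial)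
  have h2 : ∀ g, ∑ c, lin l (c⁻¹ * g * c * g⁻¹) =
      ♯f.ker * if Gd f (lin l) (f g) then (♯𝓒₁(f g) : ℂ) else 0 := fun g => by
    set C := 𝓒₁(f g).comap f with hC
    have h3 : ∀ c, c ∈ C ↔ ⁅c, g⁆ ∈ f.ker := fun c => by
      rw [MonoidHom.mem_ker, map_commutatorElement, commutatorElement_eq_one_iff_mul_comm, hC,
        mem_comap, mem_cent1]
    have := Fintype.ofFinite C
    let w : C →* ℂ := ⟨⟨fun c => lin l ⁅c.1, g⁆, by simp⟩, fun c d => by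
      have h4 := mem_cent.1 (hZ (mem_top c.1)) _ ((h3 _).1 d.2)
      change lin l ⁅c.1 * d.1, g⁆ = lin l ⁅c.1, g⁆ * lin l ⁅d.1, g⁆
      rw [mul_comm, ← lin_apply_mul l ((h3 _).1 d.2)]
      congr 1
      simp only [commutatorElement_def] at h4 ⊢
      rw [← mul_assoc, ← mul_assoc, ← mul_assoc, h4]; group⟩
    have h4 : ∑ c, lin l (c⁻¹ * g * c * g⁻¹) = ∑ c : C, w c := by
      rw [← Equiv.sum_comp (Equiv.inv Γ), sum_eq_sum_fs (A := C) fun c hc => lin_on l _ fun h =>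
        hc ((h3 c).2 (by simpa [commutatorElement_def] using h)), ← sum_subgroup_fs]
      simp [w, commutatorElement_def]
    have h5 : Gd f (lin l) (f g) ↔ w = 1 := by
      refine ⟨fun h => MonoidHom.ext fun c => ?_, fun h c hc => ?_⟩
      · have h6 : Commute (f c) (f g) := mem_cent1.1 c.2
        exact (ext_cen hZ hθ h6).1 (by rw [Set.pair_comm]; exact h _ h6.symm)
      · obtain ⟨c, rfl⟩ := hf c
        rw [Set.pair_comm, ext_cen hZ hθ hc.symm]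
        exact DFunLike.congr_fun h ⟨c, mem_cent1.2 hc.symm⟩
    rw [h4]
    split_ifs with h
    · rw [h5.1 h, mul_comm, ← Nat.cast_mul, ← card_comap hf]; simp [hC]
    · rw [sum_hom_units_eq_zero w (mt h5.2 h), mul_zero]
  simp only [h2, ← Finset.mul_sum, lin_apply_one, one_mul] at h1
  rw [sum_pb hf fun a => if Gd f (lin l) a then (♯𝓒₁(a) : ℂ) else 0] at h1
  have h3 := card_comap hf ⊤
  rw [comap_top, card_top, card_top] at h3
  refine mul_left_cancel₀ (cardC_ne f.ker) (mul_left_cancel₀ (cardC_ne f.ker) ?_)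
  rw [h1, h3]; push_cast; ring

end gal

open Classical in
theorem gal {Γ : Type u} [Group Γ] [Fintype Γ] {R : Type*} [Group R] [Fintype R] {f : Γ →* R}
    {θ : Γ → ℂ} (hf : Surjective f) (hθ : θ ∈ irr f.ker) (hs : ⊤ ≤ stab θ) :
    (kk ⊤ f.ker θ * Nat.card R : ℂ) = ∑ a, if Gd f θ a then (♯𝓒₁(a) : ℂ) else 0 := by
  obtain ⟨E, _, _, Q, _, _, π, ρ, ζ, lam, T⟩ := exists_tri (nrm_top _) hθ hs
  obtain ⟨f', h1⟩ : ∃ f' : Q →* R, ∀ x, f' (ρ x) = f (π x) :=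
    ⟨ρ.liftOfSurjective T.sρ ⟨f.comp π, T.ker_le⟩, fun x => by simp⟩
  have h2 : ∀ A : Subgroup R, st π ρ (A.comap f) = A.comap f' := fun A => Subgroup.ext fun q => by
    obtain ⟨x, rfl⟩ := T.sρ q
    rw [T.mem_st (ker_le_comap f A), mem_comap, mem_comap, h1]
  have h3 : st π ρ f.ker = f'.ker := h2 ⊥
  have h4 := gal_cen (f := f') (θ := lam) (fun a => by
    obtain ⟨g, rfl⟩ := hf a
    obtain ⟨x, rfl⟩ := T.sπ g
    exact ⟨_, h1 x⟩) (h3 ▸ T.central) (h3 ▸ T.irrl)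
  rw [kk, card_ov_tri T le_top, T.st_top, h3, h4]
  refine Finset.sum_congr rfl fun a _ => if_congr (forall₂_congr fun c _ => ?_) rfl rfl
  rw [ext_tri T (ker_le_comap f _), h2, h3]

theorem ext_pair [Fintype T] {R : Type*} [Group R] {f : T →* R} (hK : K ≤ T)
    (hf : f.ker = K.subgroupOf T) (hθ : θ ∈ irr K) (a c : T) :
    Ext ((closure {f a, f c}).comap f) f.ker (θ ∘ T.subtype) ↔
      Ext (K ⊔ closure {a.1, c.1}) K θ := by
  have h3 : closure {a.1, c.1} ≤ T := by simp [Set.insert_subset_iff]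
  have h4 : closure {a, c} = (closure {a.1, c.1}).subgroupOf T := by
    rw [← comap_map_eq_self_of_injective T.subtype_injective (closure {a, c}),
      MonoidHom.map_closure, Set.image_pair]; rfl
  rw [← Set.image_pair, ← MonoidHom.map_closure, comap_map_eq, hf, h4, ← subgroupOf_sup h3 hK,
    ext_sub (sup_le h3 hK) hK (irr_on hθ), sup_comm]

/-- Comparison of two invariant characters with the same extension behaviour. -/
theorem galA {Γ : Type u} [Group Γ] [Fintype Γ] {K T T' : Subgroup Γ} {θ β : Γ → ℂ}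
    (hK : Nrm K T) (hT : K ⊔ T' = T) (hθ : θ ∈ irr K) (hβ : β ∈ irr (K ⊓ T'))
    (hs : T ≤ stab θ) (hs' : T' ≤ stab β) (h : ∀ H ≤ T', ⁅H, H⁆ ≤ K →
      (Ext (K ⊔ H) K θ ↔ Ext ((K ⊓ T') ⊔ H) (K ⊓ T') β)) : kk T K θ = kk T' (K ⊓ T') β := by
  have hT' : T' ≤ T := hT ▸ le_sup_right
  have := Fintype.ofFinite T
  have := Fintype.ofFinite T'
  obtain ⟨R, _, _, f, hf0, hf⟩ : ∃ (R : Type u) (_ : Group R) (_ : Fintype R) (f : T →* R),
      Surjective f ∧ f.ker = K.subgroupOf T :=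
    have := hK.normal
    ⟨_, _, Fintype.ofFinite _, _, QuotientGroup.mk'_surjective _, QuotientGroup.ker_mk' _⟩
  let f' := f.comp (inclusion hT')
  have hf' : f'.ker = (K ⊓ T').subgroupOf T' := by
    rw [← MonoidHom.comap_ker, hf, inf_subgroupOf_right]; rfl
  have h0 : Surjective f' := fun a => by
    obtain ⟨⟨x, hx⟩, rfl⟩ := hf0 a
    obtain ⟨k, hk, t, ht, rfl⟩ := (mem_sup_norm' (hT'.trans hK.le_normalizer)).1 (hT ▸ hx)
    have h1 : (⟨k, hK.le hk⟩ : T) ∈ f.ker := hf ▸ hk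
    exact ⟨⟨t, ht⟩, by rw [← one_mul (f' _), ← MonoidHom.mem_ker.1 h1]; exact (map_mul f _ _).symm⟩
  have h1 := gal (θ := θ ∘ T.subtype) hf0
    (hf ▸ (sub_irr_iff hK.le (irr_on hθ)).2 hθ) (subgroupOf_self T ▸ stab_sub hs)
  have h2 := gal (θ := β ∘ T'.subtype) h0
    (hf' ▸ (sub_irr_iff inf_le_right (irr_on hβ)).2 hβ) (subgroupOf_self T' ▸ stab_sub hs')
  rw [hf', ← subgroupOf_self T', kk, card_ov_sub le_rfl inf_le_right (irr_on hβ)] at h2
  rw [hf, ← subgroupOf_self T, kk, card_ov_sub le_rfl hK.le (irr_on hθ)] at h1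
  refine Nat.cast_injective (R := ℂ) (mul_right_cancel₀ (Nat.cast_ne_zero.2 Nat.card_pos.ne')
    (h1.trans ((Finset.sum_congr rfl fun a _ => ?_).trans h2.symm)))
  rw [show Gd f (θ ∘ T.subtype) a = Gd f' (β ∘ T'.subtype) a from
    propext (forall₂_congr fun c hc => ?_)]
  obtain ⟨a, rfl⟩ := h0 a
  obtain ⟨c, rfl⟩ := h0 c
  rw [ext_pair inf_le_right hf' hβ]
  refine (ext_pair hK.le hf hθ (inclusion hT' a) (inclusion hT' c)).trans
    (h _ (by simp [Set.insert_subset_iff]) ?_)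
  have h3 : ∀ x : T', zpowers x.1 ≤ 𝓝(K) := fun x => zpowers_le.2 (hK.le_normalizer (hT' x.2))
  have h9 : ∀ x, ⁅zpowers x, zpowers x⁆ ≤ K := fun x =>
    (comm_eq_bot_iff.2 (comm_iff_le_cent.1 inferInstance)).le.trans bot_le
  have h4 : ⁅a, c⁆ ∈ f'.ker := by
    rw [MonoidHom.mem_ker, map_commutatorElement, hc.commutator_eq]
  rw [Set.insert_eq, Subgroup.closure_union, ← zpowers_eq_closure, ← zpowers_eq_closure]
  exact der_sup_le_of_norm (h3 a) (h3 c) (h9 _) (h9 _) (comm_zpowers_le (zpowers_le.1 (h3 a))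
    (zpowers_le.1 (h3 c)) (hf' ▸ h4 : ⁅a, c⁆ ∈ (K ⊓ T').subgroupOf T').1)

end CA.H10Gal
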