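import Cfsg.Agent.Lib.Char.CharRep
import Mathlib.Analysis.CStarAlgebra.Spectrum
import Mathlib.Analysis.CStarAlgebra.ContinuousLinearMap
import Mathlib.Analysis.InnerProductSpace.PiL2

/-! Frobenius' theorem on commuting elements of finite linear groups (Jordan's theorem). -/

set_option autoImplicit false
set_option linter.unusedSectionVars false

namespace CA.H10Jor
open Module CChar.CharRep
open scoped InnerProductSpace ComplexConjugate

section weights
variable {H V : Type*} [Group H] [Finite H] [AddCommGroup V] [Module ℂ V] [FiniteDimensional ℂ V]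

/-- The weights of a representation. -/
def Wt (ρ : Representation ℂ H V) : Set (H →* ℂ) := {l | ∃ w ≠ 0, ∀ h, ρ h w = l h • w}

theorem wt_card (ρ : Representation ℂ H V) : Finite (Wt ρ) ∧ Nat.card (Wt ρ) ≤ finrank ℂ V := by
  classical
  choose w hw0 hw using fun l : Wt ρ => l.2
  have hli : LinearIndependent ℂ w := by
    rw [linearIndependent_iff']
    intro s c hc i hi
    obtain ⟨φ, hφ⟩ := Module.Projective.exists_dual_ne_zero ℂ (hw0 i)
    have h1 := (linearIndependent_monoidHom H ℂ).comp (fun l : Wt ρ => l.1) Subtype.val_injective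
    rw [linearIndependent_iff'] at h1
    refine (mul_eq_zero.1 (h1 s (fun l => c l * φ (w l)) (funext fun h => ?_) i hi)).resolve_right hφ
    have := congrArg (fun v => φ (ρ h v)) hc
    simp only [map_sum, map_smul, hw, map_zero, smul_eq_mul] at this
    simp only [Finset.sum_apply, Pi.smul_apply, Function.comp_apply, smul_eq_mul, Pi.zero_apply]
    rw [← this]
    exact Finset.sum_congr rfl fun l _ => by ring
  have := hli.finite
  have := Fintype.ofFinite (Wt ρ)
  exact ⟨inferInstance, Nat.card_eq_fintype_card.trans_le hli.fintype_card_le_finrank⟩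

theorem exists_wt (hH : ∀ x y : H, x * y = y * x) (ρ : Representation ℂ H V) {x : H} {α : ℂ} {v : V}
    (hv : v ≠ 0) (h : ρ x v = α • v) : ∃ l ∈ Wt ρ, l x = α := by
  let U : Subrepresentation ρ := ⟨Module.End.eigenspace (ρ x) α, fun g u hu => by
    rw [Module.End.mem_eigenspace_iff] at hu ⊢
    rw [← Module.End.mul_apply, ← map_mul, hH, map_mul, Module.End.mul_apply, hu, map_smul]⟩
  have : Nontrivial U.toSubmodule := ⟨⟨⟨v, Module.End.mem_eigenspace_iff.2 h⟩, 0,
    fun e => hv (congrArg Subtype.val e)⟩⟩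
  obtain ⟨U', hU', hirr⟩ := exists_irreducible_subrep U.toRepresentation
  obtain ⟨w, hw, hw0⟩ := (Submodule.ne_bot_iff _).1 hU'
  choose c hc using fun g => exists_eq_smul_of_commute U'.toRepresentation (U'.toRepresentation g)
    fun g' => by rw [← map_mul, hH, map_mul]
  have h0 : (w : V) ≠ 0 := fun e => hw0 (Subtype.ext e)
  have h1 : ∀ g, ρ g w = c g • (w : V) := fun g =>
    congrArg (fun u : U'.toSubmodule => ((u : U.toSubmodule) : V))
      (LinearMap.congr_fun (hc g) ⟨w, hw⟩)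
  let l : H →* ℂ := ⟨⟨c, smul_left_injective ℂ h0 (by simp [← h1])⟩, fun a b =>
    smul_left_injective ℂ h0 (by
      show c (a * b) • (w : V) = (c a * c b) • (w : V)
      rw [← h1, map_mul, Module.End.mul_apply, h1, map_smul, h1, smul_smul, mul_comm])⟩
  exact ⟨l, ⟨w, h0, h1⟩, smul_left_injective ℂ h0
    ((h1 x).symm.trans (Module.End.mem_eigenspace_iff.1 w.2))⟩

end weights

/-- The twelve sectors of the circle. -/
theorem exists_sector : ∃ f : ℂ → Fin 12, ∀ z w : ℂ, ‖z‖ = 1 → ‖w‖ = 1 → f z = f w →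
    ‖z⁻¹ * w - (√3 / 2 : ℝ)‖ < 1 / 2 := by
  have hpi := Real.pi_pos
  have h1 : ∀ z : ℂ, 0 < (z.arg + Real.pi) / (Real.pi / 6) := fun z =>
    div_pos (by linarith [Complex.neg_pi_lt_arg z]) (by linarith)
  refine ⟨fun z => ⟨⌈(z.arg + Real.pi) / (Real.pi / 6)⌉₊ - 1, ?_⟩, fun z w hz hw h => ?_⟩
  · have : ⌈(z.arg + Real.pi) / (Real.pi / 6)⌉₊ ≤ 12 := Nat.ceil_le.2 (by
      rw [div_le_iff₀ (by linarith)]
      push_cast
      linarith [Complex.arg_le_pi z])
    omega
  have h2 := congrArg Fin.val h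
  have h3 := Nat.ceil_pos.2 (h1 z)
  have h4 := Nat.ceil_pos.2 (h1 w)
  have h5 : ⌈(z.arg + Real.pi) / (Real.pi / 6)⌉₊ = ⌈(w.arg + Real.pi) / (Real.pi / 6)⌉₊ := by
    simp only at h2; omega
  have h6 := Nat.le_ceil ((z.arg + Real.pi) / (Real.pi / 6))
  have h7 := Nat.le_ceil ((w.arg + Real.pi) / (Real.pi / 6))
  have h8 := Nat.ceil_lt_add_one (h1 z).le
  have h9 := Nat.ceil_lt_add_one (h1 w).le
  rw [h5] at h6 h8
  have h10 : |w.arg - z.arg| < Real.pi / 6 := by
    have : |(w.arg + Real.pi) / (Real.pi / 6) - (z.arg + Real.pi) / (Real.pi / 6)| < 1 :=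
      abs_lt.2 ⟨by linarith, by linarith⟩
    rw [← sub_div, abs_div, abs_of_pos (show 0 < Real.pi / 6 by linarith),
      div_lt_one (by linarith)] at this
    simpa using this
  have h11 : z⁻¹ * w = Complex.exp ((w.arg - z.arg : ℝ) * Complex.I) := by
    have e1 := Complex.norm_mul_exp_arg_mul_I z
    have e2 := Complex.norm_mul_exp_arg_mul_I w
    rw [hz] at e1
    rw [hw] at e2
    push_cast at *
    rw [sub_mul, Complex.exp_sub, one_mul] at *
    rw [e1, e2]
    ring
  have h12 : √3 / 2 < Real.cos (w.arg - z.arg) := by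
    rw [← Real.cos_pi_div_six, ← Real.cos_abs (w.arg - z.arg)]
    exact Real.cos_lt_cos_of_nonneg_of_le_pi (abs_nonneg _) (by linarith) h10
  rw [h11]
  generalize w.arg - z.arg = t at *
  refine lt_of_pow_lt_pow_left₀ 2 (by norm_num) ?_
  rw [Complex.sq_norm, Complex.normSq_apply]
  simp only [Complex.sub_re, Complex.exp_ofReal_mul_I_re, Complex.ofReal_re, Complex.sub_im,
    Complex.exp_ofReal_mul_I_im, Complex.ofReal_im, sub_zero]
  have h13 := Real.sin_sq_add_cos_sq t
  have h14 : √3 * √3 = 3 := Real.mul_self_sqrt (by norm_num)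
  have h15 : 0 < √3 := by positivity
  nlinarith

section unit
variable {G W : Type*} [Group G] [Finite G] [NormedAddCommGroup W] [InnerProductSpace ℂ W]
  [FiniteDimensional ℂ W]

/-- An element whose eigenvalues lie in a small disc. -/
def Small (σ : G →* (W →L[ℂ] W)) (g : G) : Prop := ∃ c : ℂ, ‖σ g - algebraMap ℂ _ c‖ < 1 / 2

variable {σ : G →* (W →L[ℂ] W)} (hσ : ∀ g v w, ⟪σ g v, σ g w⟫_ℂ = ⟪v, w⟫_ℂ)
include hσ

theorem norm_apply (g : G) (v : W) : ‖σ g v‖ = ‖v‖ := by
  rw [@norm_eq_sqrt_re_inner ℂ, hσ, ← norm_eq_sqrt_re_inner]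

theorem norm_le (g : G) : ‖σ g‖ ≤ 1 :=
  ContinuousLinearMap.opNorm_le_bound _ zero_le_one fun v => by rw [norm_apply hσ, one_mul]

theorem norm_mul_right (T : W →L[ℂ] W) (g : G) : ‖T * σ g‖ ≤ ‖T‖ :=
  (norm_mul_le _ _).trans (mul_le_of_le_one_right (norm_nonneg _) (norm_le hσ g))

theorem norm_mul_left (T : W →L[ℂ] W) (g : G) : ‖σ g * T‖ ≤ ‖T‖ :=
  (norm_mul_le _ _).trans (mul_le_of_le_one_left (norm_nonneg _) (norm_le hσ g))

theorem small_conj {a : G} (ha : Small σ a) (g : G) : Small σ (g * a * g⁻¹) := by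
  obtain ⟨c, hc⟩ := ha
  refine ⟨c, lt_of_le_of_lt ?_ hc⟩
  have : σ (g * a * g⁻¹) - algebraMap ℂ _ c = σ g * (σ a - algebraMap ℂ _ c) * σ g⁻¹ := by
    rw [mul_sub, sub_mul, ← Algebra.commutes, mul_assoc (algebraMap ℂ _ c), ← map_mul σ g g⁻¹,
      mul_inv_cancel, map_one, mul_one, map_mul, map_mul]
  rw [this]
  exact (norm_mul_right hσ _ _).trans (norm_mul_left hσ _ _)

theorem norm_comm (a b : G) (c d : ℂ) : ‖σ (a * b * a⁻¹ * b⁻¹) - 1‖ ≤
    2 * ‖σ a - algebraMap ℂ _ c‖ * ‖σ b - algebraMap ℂ _ d‖ := by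
  have : σ (a * b * a⁻¹ * b⁻¹) - 1 = ((σ a - algebraMap ℂ _ c) * (σ b - algebraMap ℂ _ d) -
      (σ b - algebraMap ℂ _ d) * (σ a - algebraMap ℂ _ c)) * σ (a⁻¹ * b⁻¹) := by
    have h1 : (σ a - algebraMap ℂ _ c) * (σ b - algebraMap ℂ _ d) -
      (σ b - algebraMap ℂ _ d) * (σ a - algebraMap ℂ _ c) = σ a * σ b - σ b * σ a := by
      simp only [Algebra.algebraMap_eq_smul_one, sub_mul, mul_sub, smul_mul_assoc, mul_smul_comm,
        one_mul, mul_one, smul_sub, smul_smul, mul_comm c d]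
      abel
    rw [h1, sub_mul, ← map_mul, ← map_mul, ← map_mul, ← map_mul, ← map_one σ]
    congr 2 <;> group
  rw [this]
  refine (norm_mul_right hσ _ _).trans ((norm_sub_le _ _).trans ?_)
  have h1 := norm_mul_le (σ a - algebraMap ℂ _ c) (σ b - algebraMap ℂ _ d)
  have h2 := norm_mul_le (σ b - algebraMap ℂ _ d) (σ a - algebraMap ℂ _ c)
  linarith

theorem eq_zero_of_inner {b : G} (hb : Small σ b) {u : W} (h : ⟪σ b u, u⟫_ℂ = 0) : u = 0 := by
  obtain ⟨c, hc⟩ := hb
  by_contra hu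
  have hu' : 0 < ‖u‖ := norm_pos_iff.2 hu
  have h1 := (σ b - algebraMap ℂ _ c).le_opNorm u
  have h2 : (σ b - algebraMap ℂ (W →L[ℂ] W) c) u = σ b u - c • u := by
    simp [Algebra.algebraMap_eq_smul_one]
  rw [h2] at h1
  have h3 : ‖σ b u - c • u‖ ^ 2 = ‖u‖ ^ 2 + ‖c • u‖ ^ 2 := by
    rw [@norm_sub_sq ℂ, inner_smul_right, h, norm_apply hσ]
    simp
  have h4 : ‖σ b u - c • u‖ ≤ ‖u‖ / 2 := by nlinarith
  have h5 := pow_le_pow_left₀ (norm_nonneg _) h4 2
  nlinarith [sq_nonneg ‖c • u‖]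

theorem commute_of_conj {a b : G} (hb : Small σ b) (h : Commute a (b * a * b⁻¹)) :
    σ a * σ b = σ b * σ a := by
  obtain ⟨e, ω, he, hω⟩ := exists_eigenbasis_of_pow_eq_one (k := ℂ) (σ a : W →ₗ[ℂ] W)
    (n := orderOf a) (Nat.cast_ne_zero.2 (orderOf_pos a).ne') (by
      rw [← ContinuousLinearMap.toLinearMap_pow, ← map_pow, pow_orderOf_eq_one, map_one]; rfl)
  have hm : ∀ x y v, σ x (σ y v) = σ (x * y) v := fun x y v => by rw [map_mul]; rfl
  refine ContinuousLinearMap.coe_injective (e.ext fun i => ?_)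
  have he' : σ a (e i) = ω i • e i := he i
  show σ a (σ b (e i)) = σ b (σ a (e i))
  set u := σ b⁻¹ (σ a (σ b (e i)) - ω i • σ b (e i)) with hu
  have h1 : σ b u = σ a (σ b (e i)) - ω i • σ b (e i) := by
    rw [hu, hm, mul_inv_cancel, map_one]; rfl
  have h2 : σ a u = ω i • u := by
    have h3 : σ (b * a * b⁻¹) (σ b (e i)) = ω i • σ b (e i) := by
      rw [hm, inv_mul_cancel_right, ← hm, he', map_smul]
    rw [hu, hm, show a * b⁻¹ = b⁻¹ * (b * a * b⁻¹) by group, ← hm, ← map_smul (σ b⁻¹)]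
    congr 1
    rw [map_sub, map_smul (σ (b * a * b⁻¹)), h3, hm, ← h.eq, ← hm, h3, map_smul, smul_sub]
  have h4 : ⟪σ b u, u⟫_ℂ = 0 := by
    have h5 : ‖ω i‖ = 1 := norm_eq_one_of_pow_eq_one (orderOf_pos a) (hω i)
    have h6 : ω i * conj (ω i) = 1 := by rw [Complex.mul_conj, Complex.normSq_eq_norm_sq, h5]; simp
    have h7 := hσ a (σ b (e i)) u
    rw [h2, inner_smul_right] at h7
    rw [h1, inner_sub_left, inner_smul_left, ← h7]
    linear_combination -(⟪σ a (σ b (e i)), u⟫_ℂ) * h6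
  rw [eq_zero_of_inner hσ hb h4, map_zero, eq_comm, sub_eq_zero] at h1
  rw [h1, he', map_smul]

theorem small_commute (hi : Function.Injective σ) {a b : G} (ha : Small σ a) (hb : Small σ b) :
    a * b = b * a := by
  by_contra hab
  obtain ⟨b, ⟨hb, hab⟩, hmin⟩ := Set.exists_min_image {b | Small σ b ∧ a * b ≠ b * a}
    (fun b => ‖σ b - 1‖) (Set.toFinite _) ⟨b, hb, hab⟩
  obtain ⟨c, hc⟩ := ha
  refine hab (hi (by
    rw [map_mul, map_mul]
    refine commute_of_conj hσ hb ?_
    by_contra h1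
    obtain ⟨d, hd⟩ := hb
    have h2 := norm_comm hσ a b c d
    have h3 := norm_comm hσ a b c 1
    rw [map_one] at h3
    have h4 := hmin (a * b * a⁻¹ * b⁻¹) ⟨⟨1, by
      rw [map_one]
      nlinarith [norm_nonneg (σ a - algebraMap ℂ _ c), norm_nonneg (σ b - algebraMap ℂ _ d)]⟩,
      fun e => h1 (by
        have : a * (b * a⁻¹ * b⁻¹) = (b * a⁻¹ * b⁻¹) * a := mul_left_cancel (a := a) (by
          simpa only [mul_assoc] using e)
        simpa [mul_assoc] using (Commute.inv_right this))⟩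
    have h5 : 0 < ‖σ b - 1‖ := norm_pos_iff.2 fun e => hab (by
      rw [hi ((sub_eq_zero.1 e).trans (map_one σ).symm)]; simp)
    nlinarith))

theorem small_of_eigen {a : G} {c : ℂ}
    (h : ∀ (α : ℂ) (v : W), v ≠ 0 → σ a v = α • v → ‖α - c‖ < 1 / 2) : Small σ a := by
  refine ⟨c, ?_⟩
  have := FiniteDimensional.complete ℂ W
  rcases subsingleton_or_nontrivial (W →L[ℂ] W) with h0 | h0
  · rw [Subsingleton.elim (σ a - algebraMap ℂ _ c) 0]; simp
  have h1 : star (σ a) = σ a⁻¹ := by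
    rw [ContinuousLinearMap.star_eq_adjoint, eq_comm, ContinuousLinearMap.eq_adjoint_iff]
    intro x y
    rw [← hσ a]
    congr 1
    show (σ a * σ a⁻¹) x = x
    rw [← map_mul, mul_inv_cancel, map_one]; rfl
  have : IsStarNormal (σ a - algebraMap ℂ _ c) := ⟨by
    rw [star_sub, h1, ← algebraMap_star_comm]
    exact (((Commute.refl a).inv_left.map σ).sub_right (Algebra.commutes _ _).symm).sub_left
      (Algebra.commutes _ _)⟩
  obtain ⟨z, hz, e⟩ := spectrum.exists_nnnorm_eq_spectralRadius (σ a - algebraMap ℂ _ c)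
  rw [IsStarNormal.spectralRadius_eq_nnnorm, ENNReal.coe_inj] at e
  rw [ContinuousLinearMap.spectrum_eq, ← Module.End.hasEigenvalue_iff_mem_spectrum] at hz
  obtain ⟨v, hv⟩ := hz.exists_hasEigenvector
  have h2 := h (z + c) v hv.2 (by
    have : σ a v - c • v = z • v := by
      simpa [Algebra.algebraMap_eq_smul_one] using hv.apply_eq_smul
    rw [add_smul, ← this, sub_add_cancel])
  rw [add_sub_cancel_right] at h2
  exact (congrArg NNReal.toReal e).ge.trans_lt h2

theorem exists_abelian' (hi : Function.Injective σ) :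
    ∃ A : Subgroup G, A.Normal ∧ (∀ x ∈ A, ∀ y ∈ A, x * y = y * x) ∧ ∀ H : Subgroup G,
      (∀ x ∈ H, ∀ y ∈ H, x * y = y * x) → (A.subgroupOf H).index ≤ 12 ^ finrank ℂ W := by
  classical
  refine ⟨Subgroup.closure {g | Small σ g}, ⟨fun x hx g => ?_⟩, fun x hx y hy => ?_, fun H hH => ?_⟩
  · induction hx using Subgroup.closure_induction with
    | mem x hx => exact Subgroup.subset_closure (small_conj hσ hx g)
    | one => simp
    | mul x y _ _ h1 h2 => simpa [mul_assoc] using mul_mem h1 h2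
    | inv x _ h1 => simpa [mul_assoc] using inv_mem h1
  · have := Subgroup.isMulCommutative_closure (G := G) (k := {g | Small σ g})
      fun a ha b hb => small_commute hσ hi ha hb
    exact congrArg Subtype.val (mul_comm' (⟨x, hx⟩ : Subgroup.closure {g | Small σ g}) ⟨y, hy⟩)
  · obtain ⟨f, hf⟩ := exists_sector
    let τ : Representation ℂ H W :=
      (ContinuousLinearMap.toLinearMapRingHom.toMonoidHom.comp σ).comp H.subtype
    obtain ⟨hfin, hc⟩ := wt_card τ
    have h1 : ∀ (l : H →* ℂ) x, ‖l x‖ = 1 := fun l x =>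
      norm_eq_one_of_pow_eq_one (orderOf_pos x) (by rw [← map_pow, pow_orderOf_eq_one, map_one])
    have h2 := Nat.card_le_card_of_injective
      (fun (q : H ⧸ (Subgroup.closure {g | Small σ g}).subgroupOf H) (l : Wt τ) => f (l.1 q.out))
      fun q q' h => by
        rw [← q.out_eq, ← q'.out_eq]
        refine QuotientGroup.eq.2 (Subgroup.subset_closure
          (small_of_eigen hσ (c := (√3 / 2 : ℝ)) fun α v hv hα => ?_))
        obtain ⟨l, hl, rfl⟩ := exists_wt (fun x y => Subtype.ext (hH _ x.2 _ y.2)) τ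
          (x := q.out⁻¹ * q'.out) (α := α) hv hα
        rw [map_mul, map_inv]
        exact hf _ _ (h1 _ _) (h1 _ _) (congrFun h ⟨l, hl⟩)
    rw [Nat.card_fun, Nat.card_fin] at h2
    exact h2.trans (Nat.pow_le_pow_right (by norm_num) hc)

end unit

variable {G : Type*} [Group G] [Finite G]

/-- Every representation is equivalent to a unitary one. -/
theorem exists_unitary {n : ℕ} (ρ : Representation ℂ G (Fin n → ℂ)) :
    letI := Fintype.ofFinite G
    ∃ (W : Submodule ℂ (EuclideanSpace ℂ (G × Fin n))) (e : (Fin n → ℂ) ≃ₗ[ℂ] W),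
      ∀ g v w, ⟪e (ρ g v), e (ρ g w)⟫_ℂ = ⟪e v, e w⟫_ℂ := by
  letI := Fintype.ofFinite G
  let ι : (Fin n → ℂ) →ₗ[ℂ] EuclideanSpace ℂ (G × Fin n) :=
    { toFun := fun v => WithLp.toLp 2 fun x => ρ x.1 v x.2
      map_add' := fun v w => by ext; simp
      map_smul' := fun c v => by ext; simp }
  have hι : Function.Injective ι := fun v w h => funext fun i => by
    simpa [ι] using congrArg (fun u : EuclideanSpace ℂ (G × Fin n) => u (1, i)) h
  refine ⟨_, LinearEquiv.ofInjective ι hι, fun g v w => ?_⟩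
  simp only [Submodule.coe_inner, LinearEquiv.ofInjective_apply, PiLp.inner_apply, ι,
    LinearMap.coe_mk, AddHom.coe_mk]
  refine Fintype.sum_equiv ((Equiv.mulRight g).prodCongr (Equiv.refl _)) _ _ fun x => ?_
  simp

/-- Frobenius. -/
theorem exists_abelian {n : ℕ} (ρ : Representation ℂ G (Fin n → ℂ)) (hρ : Function.Injective ρ) :
    ∃ A : Subgroup G, A.Normal ∧ (∀ x ∈ A, ∀ y ∈ A, x * y = y * x) ∧ ∀ H : Subgroup G,
      (∀ x ∈ H, ∀ y ∈ H, x * y = y * x) → (A.subgroupOf H).index ≤ 12 ^ n := by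
  letI := Fintype.ofFinite G
  obtain ⟨W, e, he⟩ := exists_unitary ρ
  let σ : G →* (W →L[ℂ] W) :=
    (Module.End.toContinuousLinearMap W).toAlgHom.toMonoidHom.comp (transport ρ e)
  have h0 : ∀ g w, σ g w = e (ρ g (e.symm w)) := fun g w => rfl
  have := exists_abelian' (W := W) (σ := σ) (fun g v w => by
    rw [h0, h0, he, e.apply_symm_apply, e.apply_symm_apply])
    fun a b h => hρ (LinearMap.ext fun v => e.injective (by
      simpa [h0] using congrArg (fun T : W →L[ℂ] W => T (e v)) h))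
  rwa [← e.finrank_eq, finrank_fin_fun] at this

end CA.H10Jor
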