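import Cfsg.Agent.Lib.Char.H10OW

/-!
# The McKay equality for `p`-solvable groups: counting lemmas
-/

set_option autoImplicit false
set_option linter.unusedSectionVars false

namespace CA.H10MK
open Cfsg CA.PF CA.H12Gl CA.H12Gl2 CA.H12Gl3 CA.H12Mon CA.H12Deg CA.H10TI CA.H10Gal CA.H10OW
  Subgroup Function
open CA.BG hiding cj cj_one cj_mul cj_inv_cj cj_cj_inv mem_cent1
open scoped ComplexConjugate commutatorElement

variable {Γ : Type*} [Group Γ] [Fintype Γ] {G H K L M N U A S Z : Subgroup Γ}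
  {χ β θ φ ψ η ξ ν : Γ → ℂ} {p : ℕ}

section RL
variable (hM : Nrm M U) (hU : M ⊔ A = U) (hη : η ∈ irr M) (hs : U ≤ stab η)
  (hθ : Res (M ⊓ A : Subgroup Γ) η ∈ irr (M ⊓ A))
include hM hU hη hs hθ

theorem dot_Ind_eq (hψ : ψ ∈ CF A) :
    dot M (Ind U A ψ) η = dot (M ⊓ A) ψ (Res (M ⊓ A : Subgroup Γ) η) := by
  have hA : A ≤ U := hU ▸ le_sup_right
  rw [← dot_Res_left (irr_on hη), Res_Ind_of_mul hA hM.le (fun g hg => by
      obtain ⟨a, ha, m, hm, rfl⟩ := (mem_sup_norm (hA.trans hM.le_normalizer)).1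
        (sup_comm M A ▸ hU ▸ hg)
      exact ⟨a, ha, m, hm, rfl⟩) hψ, dot_Ind_left _ _ (irr_CInv hη), inf_comm A,
    dot_Res_left (irr_on hη), dot_congr_right hψ.1 (ψ' := Res (M ⊓ A : Subgroup Γ) η) fun x hx => ?_]
  by_cases h : x ∈ M
  · rw [Res_of_mem _ (show x ∈ M ⊓ A from ⟨h, hx⟩)]
  · rw [Res_of_not_mem _ fun h' : x ∈ M ⊓ A => h h'.1, irr_on hη x h]

theorem res_eq (hχ : χ ∈ irr U) (hd : dot M χ η ≠ 0) (hψ : ψ ∈ irr A) (h : dot A χ ψ ≠ 0) :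
    Res (A : Set Γ) χ = ψ ∧ dot M (Ind U A ψ - χ) η = 0 ∧
      dot (M ⊓ A) ψ (Res (M ⊓ A : Subgroup Γ) η) ≠ 0 := by
  have hA : A ≤ U := hU ▸ le_sup_right
  have h1 := ((irr_char hψ).Ind hA).sub_irr hχ (by
    rwa [dot_Ind_left _ _ (irr_CInv hχ), Ne, dot_eq_zero_comm])
  have h2 := ((irr_char hχ).Res hA).sub_irr hψ (by rwa [dot_Res_left (irr_on hψ)])
  obtain ⟨n, hn⟩ := dot_char_over_nat hM.le h1 (irr_char hη)
  obtain ⟨m, hm⟩ := dot_char_over_nat inf_le_right h2 (irr_char hθ)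
  have h3 : dot (M ⊓ A) (Res (A : Set Γ) χ) (Res (M ⊓ A : Subgroup Γ) η) = dot M χ η := by
    rw [← dot_Res_left (irr_on hθ), Res_Res (inf_le_right : M ⊓ A ≤ A),
      ← Res_Res (inf_le_left : M ⊓ A ≤ M), clifford_stab hM hχ hη hd hs, map_smul, dot_smul_left,
      dot_irr_self hθ, mul_one]
  have h4 := hn
  rw [dot_sub_left, dot_Ind_eq hM hU hη hs hθ (irr_CF hψ)] at h4
  rw [dot_sub_left, h3] at hm
  have h5 : n + m = 0 := Nat.cast_injective (R := ℂ) (by push_cast; linear_combination -h4 - hm)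
  have h6 : dot (M ⊓ A) ψ (Res (M ⊓ A : Subgroup Γ) η) = dot M χ η := by
    rw [(Nat.add_eq_zero_iff.1 h5).1, Nat.cast_zero, sub_eq_zero] at h4; exact h4
  have h7 : A ≤ 𝓝(M ⊓ A) := norm_inf (hA.trans hM.le_normalizer) le_normalizer
  refine ⟨((irr_char hχ).Res hA).eq_of_one hψ (by rwa [dot_Res_left (irr_on hψ)]) ?_,
    by rw [hn, (Nat.add_eq_zero_iff.1 h5).1, Nat.cast_zero], h6 ▸ hd⟩
  rw [Res_one, clifford_one hM hχ hη hd, clifford_one (nrm_of_le_normalizer inf_le_right h7) hψ hθ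
    (h6 ▸ hd), relIndex_eq_one.2 hs, relIndex_eq_one.2 (stab_res (hA.trans hs) h7), h6, Res_one]

/-- Restriction to a supplement. -/
theorem kk_res : kk U M η = kk A (M ⊓ A) (Res (M ⊓ A : Subgroup Γ) η) := by
  have hA : A ≤ U := hU ▸ le_sup_right
  refine Finset.card_bij (fun χ _ => Res (A : Set Γ) χ) (fun χ hχ => ?_) (fun χ h χ' h' e => ?_)
    fun ψ hψ => ?_
  · obtain ⟨h1, h2, -⟩ := mem_ov.1 hχ
    obtain ⟨ψ, h3, h4⟩ := exists_irr_under hA h1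
    obtain ⟨h5, -, h6⟩ := res_eq hM hU hη hs hθ h1 h2 h3 h4
    exact mem_ov.2 ⟨h5 ▸ h3, h5 ▸ h6, trivial⟩
  · obtain ⟨h1, h2, -⟩ := mem_ov.1 h
    obtain ⟨h1', h2', -⟩ := mem_ov.1 h'
    obtain ⟨ψ, h3, h4⟩ := exists_irr_under hA h1
    obtain ⟨h5, h6, -⟩ := res_eq hM hU hη hs hθ h1 h2 h3 h4
    by_contra h7
    refine dot_ne_trans hM.le le_rfl (((irr_char h3).Ind hA).sub_irr h1 (by
      rwa [dot_Ind_left _ _ (irr_CInv h1), Ne, dot_eq_zero_comm])) h1' (irr_char hη) ?_ h2' h6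
    rw [dot_sub_left, dot_irr_ne h1 h1' h7, sub_zero, dot_Ind_left _ _ (irr_CInv h1'), Ne,
      dot_eq_zero_comm]
    exact dot_ne_of_res h3 (e.symm.trans h5)
  · obtain ⟨h1, h2, -⟩ := mem_ov.1 hψ
    rw [← dot_Ind_eq hM hU hη hs hθ (irr_CF h1), dot_expand_le hM.le le_rfl
      (Ind_CF hA (irr_on h1)) (irr_on hη)] at h2
    obtain ⟨χ, h3, h4⟩ := Finset.exists_ne_zero_of_sum_ne_zero h2
    rw [dot_Ind_left _ _ (irr_CInv h3), mul_ne_zero_iff, Ne, dot_eq_zero_comm] at h4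
    exact ⟨χ, mem_ov.2 ⟨h3, h4.2, trivial⟩, (res_eq hM hU hη hs hθ h3 h4.2 h1 h4.1).1⟩

end RL

open Classical in
/-- Counting along the `S`-invariant constituents on a normal subgroup. -/
theorem orbit_sum (hp : p.Prime) (hK : Nrm K U) (hL : Nrm L U) (hLK : L ≤ K) (hν : ν ∈ irr L)
    (hs : U ≤ stab ν) (hS : Syl p S U) : ((ov (¬ p ∣ ·) U L ν).card : ℚ) =
      ∑ θ ∈ (ov (¬ p ∣ ·) K L ν).filter (S ≤ stab ·),
        ((ov (¬ p ∣ ·) U K θ).card : ℚ) / (stab θ).relIndex (U ⊓ 𝓝(S)) := by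
  set X := (ov (¬ p ∣ ·) K L ν).filter (S ≤ stab ·) with hX
  have h1 : ∀ χ ∈ ov (¬ p ∣ ·) U L ν, ∀ θ, θ ∈ X.filter (dot K χ · ≠ 0) ↔
      θ ∈ irr K ∧ S ≤ stab θ ∧ dot K χ θ ≠ 0 := fun χ hχ θ => by
    obtain ⟨h1, h2, h3⟩ := mem_ov.1 hχ
    rw [Finset.mem_filter, Finset.mem_filter, mem_ov]
    refine ⟨fun h => ⟨h.1.1.1, h.1.2, h.2⟩, fun ⟨h4, h5, h6⟩ => ⟨⟨⟨h4, ?_, fun h =>
      h3 (h.trans (deg_dvd hK h1 h4 h6))⟩, h5⟩, h6⟩⟩
    obtain ⟨μ, h7, h8⟩ := exists_irr_under hLK h4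
    have h9 := mem_cfclass_of_common hL h1 hν h2 h7
      (dot_ne_trans hLK hK.le (irr_char h1) h4 (irr_char h7) h6 h8)
    rw [cfclass_of_stab hs, Finset.mem_singleton] at h9
    exact h9 ▸ h8
  have h2 : ∀ χ ∈ ov (¬ p ∣ ·) U L ν, ∑ θ ∈ X.filter (dot K χ · ≠ 0),
      (1 : ℚ) / (stab θ).relIndex (U ⊓ 𝓝(S)) = 1 := fun χ hχ => by
    obtain ⟨h2, -, h3⟩ := mem_ov.1 hχ
    have h4 : ∀ θ ∈ X.filter (dot K χ · ≠ 0),
        cfclass (U ⊓ 𝓝(S)) θ = X.filter (dot K χ · ≠ 0) := fun θ hθ => Finset.ext fun φ => by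
      obtain ⟨h4, h5, h6⟩ := (h1 χ hχ θ).1 hθ
      rw [h1 χ hχ, mem_cfclass]
      refine ⟨?_, fun ⟨h7, h8, h9⟩ => ?_⟩
      · rintro ⟨g, hg, rfl⟩
        exact ⟨hK.irr_cj hg.1 h4, fun x hx => mem_stab_cj.2 (h5 (conj_mem_of_mem_norm hg.2 hx)),
          by rwa [dot_cj_of_CInv (irr_CInv h2) hg.1]⟩
      · obtain ⟨g, hg, rfl⟩ := mem_cfclass.1 (mem_cfclass_of_common hK h2 h4 h6 h7 h9)
        obtain ⟨t, ht, h10⟩ := Hall.syl_conj ((hS.cj_mem hg).of_le (le_inf (hS.cj_mem hg).le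
          fun _ ⟨x, hx, e⟩ => e ▸ mem_stab_cj.1 (h8 hx)) inf_le_left) hp
          (hS.of_le (le_inf hS.le h5) inf_le_left)
        exact ⟨t * g, ⟨mul_mem ht.1 hg, mem_norm_iff_cj.2 (by rw [CA.BG.cj_mul, h10])⟩,
          by rw [← cj_cj, mem_stab.1 ht.2]⟩
    obtain ⟨θ, h5, h6⟩ := exists_irr_under hK.le h2
    obtain ⟨T, hT⟩ := syl_exists hp (U ⊓ stab θ)
    obtain ⟨g, hg, h7⟩ := hS.syl_conj hp (hT.of_idx inf_le_left ((piNat_compl_iff hp).2 fun h =>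
      h3 ((inf_relIndex_left U (stab θ) ▸ h).trans ((dvd_mul_right _ _).trans
        (relIndex_stab_dvd hK h2 h5 h6)))))
    have h8 := Finset.card_ne_zero.2 ⟨_, (h1 χ hχ (cj g θ)).2 ⟨hK.irr_cj hg h5, fun x hx =>
      mem_stab_cj.2 (hT.le (h7 ▸ conj_mem_cj.2 hx)).2, by rwa [dot_cj_of_CInv (irr_CInv h2) hg]⟩⟩
    rw [Finset.sum_congr rfl fun θ hθ => by rw [← card_cfclass, h4 θ hθ], Finset.sum_const,
      nsmul_eq_mul, mul_one_div_cancel (Nat.cast_ne_zero.2 h8)]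
  rw [Finset.card_eq_sum_ones, Nat.cast_sum, Nat.cast_one, ← Finset.sum_congr rfl h2,
    Finset.sum_comm' (t' := X) (s' := fun θ => ov (¬ p ∣ ·) U K θ) fun χ θ => ?_]
  · simp [div_eq_mul_inv]
  · rw [Finset.mem_filter, mem_ov, mem_ov]
    refine ⟨fun ⟨h3, h4, h5⟩ => ⟨⟨h3.1, h5, h3.2.2⟩, h4⟩, fun ⟨h3, h4⟩ => ⟨⟨h3.1, ?_, h3.2.2⟩,
      h4, h3.2.1⟩⟩
    obtain ⟨h5, h6, -⟩ := mem_ov.1 (Finset.mem_filter.1 h4).1
    exact dot_ne_trans hLK hK.le (irr_char h3.1) h5 (irr_char hν) h3.2.1 h6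

theorem can_ker (h : χ ∈ irr K) {z : Γ} (hz : z ∈ K) (hc : z ∈ 𝓒(K))
    (ho : (orderOf z).Coprime (detOrder (fun k : K => χ k) * charDegree χ)) : χ z = χ 1 := by
  obtain ⟨n, ρ, h1, h2⟩ := CA.Ext.exists_rep_det (irr_char h).2
  have h3 := le_charCenter (A := zpowers z) h ((comm_eq_bot_iff.2 (zpowers_le.2 hc)).le.trans bot_le)
    (show (⟨z, hz⟩ : K) ∈ _ from mem_zpowers z)
  rw [← h1, CChar.CharKer.mem_charCenter_character] at h3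
  obtain ⟨ω, h3⟩ := h3
  have h4 : χ 1 = n := by simpa using (congrFun h1 1).symm
  have h5 : χ z = ω * n := by
    simpa [Representation.character, h3] using (congrFun h1 ⟨z, hz⟩).symm
  have h6 : (ω ^ n) ^ detOrder (fun k : K => χ k) = 1 := by
    simpa [detOrder, h2, h3] using congrFun (pow_orderOf_eq_one (detChar fun k : K => χ k)) ⟨z, hz⟩
  have h7 : ω ^ orderOf z * n = n := by
    have h7 : ρ (⟨z, hz⟩ ^ orderOf z) = 1 := by
      rw [← map_one ρ]; exact congrArg _ (Subtype.ext (pow_orderOf_eq_one z))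
    rw [map_pow, h3, smul_pow, one_pow] at h7
    simpa using congrArg (LinearMap.trace ℂ _) h7
  rw [mul_eq_right₀ (h4 ▸ irr_one_ne h)] at h7
  rw [← pow_mul, mul_comm, ← deg_eq h4] at h6
  rw [h5, h4, (pow_eq_one_iff_of_coprime ho).1 ⟨h7, h6⟩, one_mul]

variable [hp : Fact p.Prime]

theorem cop_of (hS : IsPi {p} S) {n : ℕ} (h : ¬ p ∣ n) : n.Coprime ♯S :=
  ((piNat_compl_iff hp.out).2 h).coprime' hS

/-- The characters of `p'`-degree of `KS`. -/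
theorem exists_par (hS : IsPi {p} S) (hn : S ≤ 𝓝(K)) (hK : ¬ p ∣ ♯K) :
    ∃ F : (Γ → ℂ) → Lin S → Γ → ℂ, (∀ θ ∈ irr K, S ≤ stab θ → ∀ i, F θ i ∈ irr (K ⊔ S) ∧
      Res (K : Set Γ) (F θ i) = θ ∧ (∀ j, F θ i = F θ j → i = j) ∧
      (∀ g ∈ 𝓝(K), g ∈ 𝓝(S) → (g ∈ stab (F θ i) ↔ g ∈ stab θ ∧ g ∈ stab (lin i))) ∧
      ∀ z ∈ S, z ∈ 𝓒(K ⊔ S) → F θ i z = lin i z * F θ i 1) ∧
    ∀ η ∈ irr (K ⊔ S), ¬ p ∣ charDegree η → ∃ θ ∈ irr K, S ≤ stab θ ∧ ∃ i, η = F θ i := by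
  have hKM : Nrm K (K ⊔ S) := nrm_of_le_normalizer le_sup_left (sup_le le_normalizer hn)
  have h0 : K.relIndex (K ⊔ S) = ♯S := sup_comm S K ▸ CA.H12Gl4.relIndex_of_cop hn (cop_of hS hK)
  have h1 := fun θ (h : θ ∈ irr K ∧ S ≤ stab θ) => exists_canon hKM (h0 ▸ cop_of hS hK) h.1
    (sup_le (le_stab (irr_CInv h.1)) h.2)
  choose! e e1 e2 e3 _ e5 using h1
  choose l l1 l2 using exists_lin_sdprod (K := K) (R := S) ⟨hn, inf_eq_bot_of_cop (cop_of hS hK), rfl⟩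
  have h2 : ∀ i η, Res (K : Set Γ) (lin (l i) * η) = Res (K : Set Γ) η := fun i η =>
    Res_congr fun x hx => by rw [Pi.mul_apply, lin_eq_one_of_le (l1 i) hx, one_mul]
  have h3 : ∀ i j : Lin (K ⊔ S), K ≤ cfker (lin i) → K ≤ cfker (lin j) →
      (∀ x ∈ S, lin i x = lin j x) → lin i = lin j := fun i j hi hj h =>
    CF_ext (lin_on i) (lin_on j) fun x hx => by
      obtain ⟨k, hk, s, hs, rfl⟩ := (mem_sup_norm' hn).1 hx
      rw [hi hk, hj hk, h s hs]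
  refine ⟨fun θ i => lin (l i) * e θ, fun θ hθ hs i => ?_, fun η hη hd => ?_⟩
  · have h4 := e1 θ ⟨hθ, hs⟩
    have h5 := e2 θ ⟨hθ, hs⟩
    have h6 := fun (i j : Lin (K ⊔ S)) hi hj => gall_inj hKM (irr_char h4) (h5.symm ▸ hθ)
      (lin_irr i) hi (lin_irr j) hj
    refine ⟨lin_mul_irr _ h4, (h2 i _).trans h5, fun j h => lin_injective (CF_ext (lin_on i)
      (lin_on j) fun x hx => by rw [← l2 i x hx, ← l2 j x hx, h6 _ _ (l1 i) (l1 j) h]),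
      fun g hg hg' => ?_, fun z hz hz' => ?_⟩
    · have h7 := norm_sup (zpowers_le.2 hg) (zpowers_le.2 hg') (mem_zpowers g)
      obtain ⟨j, hj⟩ := (irr_char (irr_cj (conj_iff_of_norm h7) (lin_irr (l i)))).exists_lin
        (by rw [cj_apply_one, lin_apply_one])
      have h8 : K ≤ cfker (lin j) := hj ▸ (le_cfker_cj hg).2 (l1 i)
      have h9 : g ∈ stab θ → (g ∈ stab (lin (l i) * e θ) ↔ g ∈ stab (lin i)) := fun h => by
        rw [mem_stab, cj_mul, e5 θ ⟨hθ, hs⟩ g h7 hg h, hj]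
        refine ⟨fun h' => mem_stab_of (lin_on i) hg' fun y hy => ?_, fun h' => ?_⟩
        · rw [← l2 i y hy, ← l2 i _ (conj_mem_of_mem_norm hg' hy)]
          exact congrFun (hj.trans (h6 _ _ h8 (l1 i) h')) y
        · rw [h3 _ _ h8 (l1 i) fun x hx => by
            rw [← hj, cj_apply, l2 i x hx, l2 i _ (conj_mem_of_mem_norm hg' hx)]
            exact congrFun h' x]
      refine ⟨fun h => ?_, fun h => (h9 h.1).2 h.2⟩
      have h10 : g ∈ stab θ := by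
        rw [← h5, ← h2 i]
        exact stab_res (zpowers_le.2 h) (zpowers_le.2 hg) (mem_zpowers g)
      exact ⟨h10, (h9 h10).1 h⟩
    · simp only [Pi.mul_apply, lin_apply_one, one_mul, l2 i z hz]
      rw [can_ker h4 (mem_sup_right hz) hz' (Nat.Coprime.coprime_dvd_left
        (orderOf_dvd_card_of_mem hz) (Nat.Coprime.mul_right (h0 ▸ e3 θ ⟨hθ, hs⟩) ?_))]
      rw [← deg_Res K, h5]
      exact (cop_of hS fun h => hK (h.trans (deg_dvd_card hθ))).symm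
  · have h4 := Res_irr_of_cop hKM hη (h0 ▸ cop_of hS hd)
    have h5 := stab_res (le_sup_right.trans (le_stab (irr_CInv hη))) hn
    have h6 := e2 _ ⟨h4, h5⟩
    obtain ⟨β, h7, h8, h9⟩ := gall_surj hKM (irr_char (e1 _ ⟨h4, h5⟩)) (h6.symm ▸ h4) hη
      (by rw [h6]; exact dot_ne_of_res h4 rfl)
    obtain ⟨j, rfl⟩ := (irr_char h7).exists_lin (mul_right_cancel₀ (irr_one_ne hη) (by
      rw [one_mul, ← Res_one K η, ← h6, Res_one]
      exact (congrFun h9 1).symm.trans (by rw [← Res_one K η, ← h6, Res_one, h6])))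
    refine ⟨_, h4, h5, Lin.mk (j.hom.comp (inclusion le_sup_right)), h9.trans ?_⟩
    rw [h3 _ _ h8 (l1 (Lin.mk (j.hom.comp (inclusion le_sup_right)))) fun x hx => by
      rw [l2 _ x hx, lin_of_mem _ hx, lin_of_mem _ (mem_sup_right hx)]; rfl]

theorem card_ov_eq_kk (hM : Nrm M U) (hi : ¬ p ∣ M.relIndex U) (hη : η ∈ irr M)
    (hd : ¬ p ∣ charDegree η) : (ov (¬ p ∣ ·) U M η).card = kk (U ⊓ stab η) M η :=
  (card_ov_congr (P' := fun _ => True) fun χ h1 h2 => iff_of_true (by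
    obtain ⟨a, h3, h4⟩ := exists_deg hM h1 hη h2
    exact fun h => (hp.out.dvd_mul.1 (h4 ▸ h)).elim (fun h => hi (h.trans h3)) hd) trivial).trans
    (card_ov_stab hM hη)

theorem le_of_not_dvd (hS : IsPi {p} S) (hn : S ≤ 𝓝(K)) (hA : IsPi {p}ᶜ A) (h : A ≤ K ⊔ S) :
    A ≤ K := hA.le_of_relIndex h (sup_le le_normalizer hn) (by
  rw [compl_compl, sup_comm, relIndex_sup_norm hn]; exact hS.relIndex K)

theorem inf_norm_eq (hS : IsPi {p} S) (hn : S ≤ 𝓝(K)) (hK : ¬ p ∣ ♯K) :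
    (K ⊔ S) ⊓ 𝓝(S) = K ⊓ 𝓒(S) ⊔ S := by
  rw [sup_comm, sup_inf_of_le_left hn le_normalizer, coprime_norm_cent hn (cop_of hS hK), sup_comm]

theorem term {Γ : Type*} [Group Γ] [Fintype Γ] {G K S : Subgroup Γ} {η ξ : Γ → ℂ} (hK : Nrm K G)
    (hK' : ¬ p ∣ ♯K) (hS : Syl p S G) (hM : Nrm (K ⊔ S) G) (hη : η ∈ irr (K ⊔ S))
    (hξ : ξ ∈ irr (K ⊓ 𝓒(S) ⊔ S)) (hθ : Res (K : Set Γ) η ∈ irr K)
    (hβ : Res (K ⊓ 𝓒(S) : Subgroup Γ) ξ ∈ irr (K ⊓ 𝓒(S)))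
    (e : GR p (K ⊓ 𝓒(S)) (Res (K : Set Γ) η) (Res (K ⊓ 𝓒(S) : Subgroup Γ) ξ))
    (hs : G ⊓ 𝓝(S) ⊓ stab η = G ⊓ 𝓝(S) ⊓ stab ξ) : (ov (¬ p ∣ ·) G (K ⊔ S) η).card =
      (ov (¬ p ∣ ·) (G ⊓ 𝓝(S)) (K ⊓ 𝓒(S) ⊔ S) ξ).card := by
  have hn : S ≤ 𝓝(K) := hS.le.trans hK.le_normalizer
  have hC := inf_norm_eq hS.pi hn hK'
  have hK'' := (isPi_compl_iff hp.out).2 hK'
  have hM1 : Nrm (K ⊓ 𝓒(S) ⊔ S) (G ⊓ 𝓝(S)) := hC ▸ nrm_inf hM _
  have hS1 : Syl p S (G ⊓ 𝓝(S) ⊓ stab ξ) := hS.of_le (le_inf (le_inf hS.le le_normalizer)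
    (le_sup_right.trans (le_stab (irr_CInv hξ)))) (inf_le_left.trans inf_le_left)
  obtain ⟨H, h1, h2, h3⟩ := exists_sdprod (nrm_of_le_normalizer hS1.le
    (inf_le_left.trans inf_le_right)) hS1.coprime
  have hH := hS1.compl_of_sup h1 h2 h3
  have hHG : H ≤ G := hH.le.trans (inf_le_left.trans inf_le_left)
  have hHK : H ≤ 𝓝(K) := hHG.trans hK.le_normalizer
  have hHC : H ≤ 𝓝(K ⊓ 𝓒(S)) := norm_inf hHK (norm_cent h1)
  have hSC : S ≤ 𝓝(K ⊓ 𝓒(S)) := norm_of_cent (cent_symm inf_le_right)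
  have h4 : K ⊓ 𝓒(S) ≤ H := hH.le_of_norm' (hK''.inf_left _) (le_inf (le_sup_left.trans hM1.le)
    (le_sup_left.trans (le_stab (irr_CInv hξ)))) hHC
  have h5 : (K ⊔ S) ⊓ (K ⊔ H) = K := le_antisymm (le_of_not_dvd hS.pi hn
    ((hK''.sup' hH.pi hHK).inf_right _) inf_le_left) (le_inf le_sup_left le_sup_left)
  have h6 : (K ⊓ 𝓒(S) ⊔ S) ⊓ H = K ⊓ 𝓒(S) := le_antisymm (le_of_not_dvd hS.pi hSC
    (hH.pi.inf_right _) inf_le_left) (le_inf le_sup_left h4)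
  have h7 : K ⊓ H = K ⊓ 𝓒(S) := le_antisymm (coprime_norm_cent hn (cop_of hS.pi hK') ▸
    inf_le_inf_left K h1) (le_inf inf_le_left h4)
  have h8 : K ⊔ S ≤ G ⊓ stab η := le_inf hM.le (le_stab (irr_CInv hη))
  have h9 : K ⊔ S ⊔ (K ⊔ H) = G ⊓ stab η := by
    have h9 := sup_inf_of_le_right (C := stab η) (inf_le_left.trans hM.le_normalizer :
      G ⊓ 𝓝(S) ≤ _) (h8.trans inf_le_right)
    rw [sup_comm, (hS.of_le le_sup_right hM.le).syl_frattini_sup hp.out hM.le hM.le_normalizer,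
      hs, ← h3] at h9
    rw [h9]
    exact le_antisymm (sup_le le_sup_right (sup_le (le_sup_of_le_right le_sup_left)
      (le_sup_of_le_left le_sup_right))) (sup_le (sup_le (le_sup_of_le_left le_sup_right)
        (le_sup_of_le_right le_sup_right)) le_sup_left)
  have h10 : K ⊓ 𝓒(S) ⊔ S ⊔ H = G ⊓ 𝓝(S) ⊓ stab ξ := by
    rw [sup_assoc, ← h3, sup_eq_right.2 (h4.trans le_sup_right)]
  have h11 : H ≤ stab (Res (K : Set Γ) η) := stab_res ((hs ▸ hH.le).trans inf_le_right) hHK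
  have h12 : ∀ U, S ≤ U → U ≤ G → ∀ M, S ≤ M → ¬ p ∣ M.relIndex U := fun U hU hU' M hM =>
    (piNat_compl_iff hp.out).1 ((hS.of_le hU hU').le_of_idx hM)
  rw [card_ov_eq_kk hM (h12 _ hS.le le_rfl _ le_sup_right) hη fun h =>
      hK' ((deg_Res K η ▸ h).trans (deg_dvd_card hθ)),
    card_ov_eq_kk hM1 (h12 _ (le_inf hS.le le_normalizer) inf_le_left _ le_sup_right) hξ fun h => hK' (((deg_Res _ ξ ▸ h).trans
      (deg_dvd_card hβ)).trans (card_dvd inf_le_left)),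
    kk_res (hM.mono h8 inf_le_left) h9 hη inf_le_right (by rwa [h5]),
    kk_res (hM1.mono (h10 ▸ le_sup_left) inf_le_left) h10 hξ inf_le_right (by rwa [h6]), h5, h6,
    galA (β := Res (K ⊓ 𝓒(S) : Subgroup Γ) ξ) (hK.mono le_sup_left (sup_le hK.le hHG)) rfl hθ
      (by rwa [h7]) (sup_le (le_stab (irr_CInv hθ)) h11)
      (stab_res (hH.le.trans inf_le_right) hHC) fun A hA hab => ?_, h7]
  rw [h7]
  exact ow (hS.pi.isPGroup hp.out) (hA.trans h1) ((isPi_compl_iff hp.out).1 (hH.pi.of_le hA))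
    ((h7 ▸ le_inf hab ((der_le A).trans hA) : ⁅A, A⁆ ≤ K ⊓ 𝓒(S)).trans inf_le_right) hn
    (hA.trans hHK) hK' hab hθ (stab_res (le_sup_right.trans (le_stab (irr_CInv hη))) hn)
    (hA.trans h11) hβ e

omit hp in
theorem cen_iff (hχ : χ ∈ irr M) (hν : ν ∈ irr Z) {l : Lin Z}
    (h : ∀ a ∈ Z, ∀ x, χ (a * x) = lin l a * χ x) : dot Z χ ν ≠ 0 ↔ lin l = ν := by
  rw [dot_congr_left (irr_on hν) (φ' := χ 1 • lin l) fun x hx => by
    simpa [mul_comm] using h x hx 1, dot_smul_left, mul_ne_zero_iff, and_iff_right (irr_one_ne hχ)]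
  exact ⟨irr_eq_of_dot_ne (lin_irr l) hν, fun e => by rw [e, dot_irr_self hν]; exact one_ne_zero⟩

omit hp in
theorem res_mul {a : Γ} {u : ℂ} (ha : a ∈ K) (h : ∀ x, χ (a * x) = u * χ x) (x : Γ) :
    Res (K : Set Γ) χ (a * x) = u * Res (K : Set Γ) χ x := by
  by_cases hx : x ∈ K
  · rw [Res_of_mem _ (mul_mem ha hx), Res_of_mem _ hx, h]
  · rw [Res_of_not_mem _ hx, Res_of_not_mem _ (mt (K.mul_mem_cancel_left ha).1 hx), mul_zero]

omit hp in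
theorem cen_eq {a : Γ} {u v : ℂ} (h : ∀ x, φ (a * x) = u * φ x) (h' : ∀ x, ψ (a * x) = v * ψ x)
    (hv : v * conj v = 1) (hd : dot K φ ψ ≠ 0) : u = v := by
  have h1 := Equiv.sum_comp (Equiv.mulLeft a) fun x => φ x * conj (ψ x)
  simp only [Equiv.coe_mulLeft, h, h', map_mul, mul_mul_mul_comm u _ (conj v),
    ← Finset.mul_sum] at h1
  rw [mul_eq_right₀ (right_ne_zero_of_mul (dot_def K φ ψ ▸ hd))] at h1
  rw [← mul_one u, ← hv, mul_left_comm, h1, mul_one]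

theorem central {Γ : Type*} [Group Γ] [Fintype Γ] {G K S Z : Subgroup Γ} {ν : Γ → ℂ} (hK : Nrm K G)
    (hK' : ¬ p ∣ ♯K) (hS : Syl p S G) (hM : Nrm (K ⊔ S) G) (hZ : Z ≤ K ⊔ S) (hZ' : G ≤ 𝓒(Z))
    (hν : ν ∈ irr Z) : (ov (¬ p ∣ ·) G Z ν).card = (ov (¬ p ∣ ·) (G ⊓ 𝓝(S)) Z ν).card := by
  classical
  have hn : S ≤ 𝓝(K) := hS.le.trans hK.le_normalizer
  have hC := inf_norm_eq hS.pi hn hK'
  have hM1 : Nrm (K ⊓ 𝓒(S) ⊔ S) (G ⊓ 𝓝(S)) := hC ▸ nrm_inf hM _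
  have hSC : S ≤ 𝓝(K ⊓ 𝓒(S)) := norm_of_cent (cent_symm inf_le_right)
  have hC' : ¬ p ∣ ♯(K ⊓ 𝓒(S) : Subgroup Γ) := fun h => hK' (h.trans (card_dvd inf_le_left))
  have hZS : Z ≤ 𝓒(S) := cent_symm (hS.le.trans hZ')
  have hZ1 : Z ≤ K ⊓ 𝓒(S) ⊔ S := hC ▸ le_inf hZ (norm_of_cent hZS)
  have hZN : Nrm Z G := nrm_of_le_normalizer (hZ.trans hM.le) (norm_of_cent hZ')
  have hs : G ≤ stab ν := fun x hx => cent_le_stab (irr_on hν) (hZ' hx)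
  have hR := hS.pi.isPGroup hp.out
  obtain ⟨F, F1, F2⟩ := exists_par hS.pi hn hK'
  obtain ⟨E, E1, E2⟩ := exists_par hS.pi hSC hC'
  have hc : ∀ β ∈ irr (K ⊓ 𝓒(S)), S ≤ stab β := fun β h x hx =>
    cent_le_stab (irr_on h) (cent_symm inf_le_right hx)
  have h1 : ∀ θ ∈ irr K, S ≤ stab θ → ∀ β ∈ irr (K ⊓ 𝓒(S)), GR p (K ⊓ 𝓒(S)) θ β → ∀ i,
      (F θ i ∈ (ov (¬ p ∣ ·) (K ⊔ S) Z ν).filter (S ≤ stab ·) ↔
        E β i ∈ (ov (¬ p ∣ ·) (K ⊓ 𝓒(S) ⊔ S) Z ν).filter (S ≤ stab ·)) := fun θ h1 h2 β h3 e i => by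
    obtain ⟨h4, h5, -, -, h6⟩ := F1 θ h1 h2 i
    obtain ⟨h7, h8, -, -, h9⟩ := E1 β h3 (hc β h3) i
    obtain ⟨l, hl⟩ := exists_lin_of_central h4 hZ
      ((comm_eq_bot_iff.2 (cent_symm (hM.le.trans hZ'))).le.trans bot_le)
    obtain ⟨m, hm⟩ := exists_lin_of_central h7 hZ1
      ((comm_eq_bot_iff.2 (cent_symm ((hM1.le.trans inf_le_left).trans hZ'))).le.trans bot_le)
    have h10 : lin l = lin m := CF_ext (lin_on l) (lin_on m) fun z hz => by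
      have h10 : IsMulCommutative Z := comm_iff_le_cent.2 ((hZ.trans hM.le).trans hZ')
      obtain ⟨a, ha, b, hb, rfl⟩ := (mem_sup_norm ((core_le _ _).trans (le_norm_core _ _))).1
        ((nil_core_sup {p} (nil_of_comm h10)).ge hz)
      have ha' := core_le _ _ ha
      have hb' := core_le _ _ hb
      have h11 := hS.le_of_norm (core_pi {p} Z) ((core_le _ _).trans hZN.le)
        (norm_of_cent ((core_le _ _).trans hZS)) ha
      have h12 := le_of_not_dvd hS.pi hSC (core_pi _ Z) ((core_le _ _).trans hZ1) hb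
      rw [lin_apply_mul l ha', lin_apply_mul m ha', cen_eq (res_mul h12.1 (hl b hb'))
        (res_mul h12 (hm b hb')) (lin_mul_conj m hb') (h5.symm ▸ h8.symm ▸ e.ne),
        mul_right_cancel₀ (irr_one_ne h4) ((hl a ha' 1).symm.trans ((congrArg _ (mul_one a)).trans
          (h6 a h11 (cent_symm (hM.le.trans hZ') ha')))),
        mul_right_cancel₀ (irr_one_ne h7) ((hm a ha' 1).symm.trans ((congrArg _ (mul_one a)).trans
          (h9 a h11 (cent_symm ((hM1.le.trans inf_le_left).trans hZ') ha'))))]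
    simp only [Finset.mem_filter, mem_ov, cen_iff h4 hν hl, cen_iff h7 hν hm, h10, h4, h7,
      le_sup_right.trans (le_stab (irr_CInv h4)), le_sup_right.trans (le_stab (irr_CInv h7)),
      mt (fun h => (h5 ▸ deg_Res K (F θ i) ▸ h : p ∣ _).trans (deg_dvd_card h1)) hK',
      mt (fun h => (h8 ▸ deg_Res _ (E β i) ▸ h : p ∣ _).trans (deg_dvd_card h3)) hC']
  have h2 := fun η (h : η ∈ (ov (¬ p ∣ ·) (K ⊔ S) Z ν).filter (S ≤ stab ·)) =>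
    F2 η (mem_ov.1 (Finset.mem_filter.1 h).1).1 (mem_ov.1 (Finset.mem_filter.1 h).1).2.2
  choose f f1 f2 j f3 using h2
  have h3 := fun η h => gr_exists hR hn hK' rfl (f1 η h) (f2 η h)
  choose g g1 g2 using h3
  have h4 := fun η h => E1 _ (g1 η h) (hc _ (g1 η h)) (j η h)
  refine Nat.cast_injective (R := ℚ) ?_
  rw [orbit_sum hp.out hM hZN hZ hν hs hS, orbit_sum hp.out hM1 (hZN.mono (hZ1.trans hM1.le)
    inf_le_left) hZ1 hν (inf_le_left.trans hs) (hS.of_le (le_inf hS.le le_normalizer) inf_le_left),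
    inf_assoc, inf_idem]
  refine Finset.sum_bij (fun η h => E (g η h) (j η h)) (fun η h => (h1 _ (f1 η h) (f2 η h) _
    (g1 η h) (g2 η h) _).1 (f3 η h ▸ h)) (fun η h η' h' e => ?_) (fun ξ h => ?_) fun η h => ?_
  · have h5 : g η h = g η' h' := by rw [← (h4 η h).2.1, e, (h4 η' h').2.1]
    rw [f3 η h, f3 η' h', gr_inj hR hn hK' rfl (f1 η h) (f2 η h) (f1 η' h') (f2 η' h') (g1 η h)
      (g2 η h) (h5 ▸ g2 η' h'), (h4 η h).2.2.1 (j η' h') (by rw [e, h5])]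
  · obtain ⟨β, h5, h6, i, rfl⟩ := E2 ξ (mem_ov.1 (Finset.mem_filter.1 h).1).1
      (mem_ov.1 (Finset.mem_filter.1 h).1).2.2
    obtain ⟨θ, h7, h8, h9⟩ := gr_surj hR hn hK' rfl h5
    have h10 := (h1 θ h7 h8 β h5 h9 i).2 h
    have h11 : f _ h10 = θ := by
      rw [← (F1 _ (f1 _ h10) (f2 _ h10) (j _ h10)).2.1, ← f3 _ h10, (F1 θ h7 h8 i).2.1]
    have h12 := g2 _ h10
    have h13 := f3 _ h10
    rw [h11] at h12 h13
    exact ⟨_, h10, by rw [gr_unique hR hn hK' rfl h7 h8 (g1 _ h10) h5 h12 h9,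
      ← (F1 θ h7 h8 i).2.2.1 _ h13]⟩
  · obtain ⟨h5, h6, -, h7, -⟩ := F1 _ (f1 η h) (f2 η h) (j η h)
    obtain ⟨h8, h9, -, h10, -⟩ := h4 η h
    rw [← f3 η h] at h5 h6 h7
    have h11 : G ⊓ 𝓝(S) ⊓ stab η = G ⊓ 𝓝(S) ⊓ stab (E (g η h) (j η h)) := Subgroup.ext fun x =>
      and_congr_right fun hx => by
        have h11 := hK.le_normalizer hx.1
        have h12 := norm_inf (zpowers_le.2 h11) (norm_cent (zpowers_le.2 hx.2)) (mem_zpowers x)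
        exact (h7 x h11 hx.2).trans ((and_congr_left' (gr_stab_iff hR hn hK' rfl (f1 η h) (f2 η h)
          (g1 η h) (g2 η h) h11 h12 fun y hy => mem_stab_cj.2 (f2 η h
            (conj_mem_of_mem_norm hx.2 hy)))).trans (h10 x h12 hx.2).symm)
    rw [term hK hK' hS hM h5 h8 (h6 ▸ f1 η h) (h9.symm ▸ g1 η h) (h6 ▸ h9.symm ▸ g2 η h) h11,
      ← inf_relIndex_left, h11, inf_relIndex_left]

end CA.H10MK
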