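import Cfsg.Agent.Lib.Char.H10MK
import Cfsg.Agent.Lib.Grp.H12PSolv

/-!
# The relative McKay equality for `p`-solvable groups
-/

set_option autoImplicit false
set_option linter.unusedSectionVars false

namespace CA.H10MK2
open Cfsg CA.PF CA.H12Gl CA.H12Gl2 CA.H12Tri CA.H12Deg CA.H10TI CA.H10Gal CA.H10OW CA.H10MK
  CA.H12PSolv Subgroup Function
open CA.BG hiding cj cj_one cj_mul cj_inv_cj cj_cj_inv mem_cent1
open scoped ComplexConjugate commutatorElement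

universe u
variable {Γ : Type u} [Group Γ] [Fintype Γ] {G H K L M N U A P S Z : Subgroup Γ}
  {χ β θ φ ψ η ξ ν : Γ → ℂ} {p : ℕ} [hp : Fact p.Prime]

theorem central' (hK : Nrm K ⊤) (hZK : Z ≤ K) (hZ : ⊤ ≤ 𝓒(Z)) (hi : ¬ p ∣ Z.relIndex K)
    (hZP : Z ≤ P) (hP : PiNat {p} (Z.relIndex P)) (hP' : ¬ p ∣ P.relIndex ⊤) (hM : Nrm (K ⊔ P) ⊤)
    (hν : ν ∈ irr Z) : (ov (¬ p ∣ ·) ⊤ Z ν).card = (ov (¬ p ∣ ·) 𝓝(P) Z ν).card := by
  obtain ⟨S, hS⟩ := syl_exists hp.out P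
  obtain ⟨T, hT⟩ := syl_exists hp.out Z
  have h1 := hS.of_idx le_top ((piNat_compl_iff hp.out).2 hP')
  have h2 := hT.of_idx hZK ((piNat_compl_iff hp.out).2 hi)
  have h3 := (burnside_hasPC hp.out h2 (le_top.trans (hZ.trans (cent_anti hT.le)))).sup_syl h2
  have hZS : Z ≤ 𝓝(S) := norm_of_cent (cent_symm (le_top.trans hZ))
  have h4 : Z ⊔ S = P := eq_of_idx (sup_le hZP hS.le)
    (hP.of_dvd (relIndex_dvd_of_le_left _ le_sup_left)) (hS.le_of_idx le_sup_right)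
  have h5 : 𝓞({p}ᶜ, K) ⊔ S = K ⊔ P := by
    rw [← h4, ← sup_assoc, sup_eq_left.2 hZK]
    nth_rw 2 [← h3]
    rw [sup_comm T, sup_assoc, sup_eq_right.2 (h1.le_of_norm hT.pi le_top (hT.le.trans hZS))]
  have h6 : 𝓝(P) = ⊤ ⊓ 𝓝(S) := by
    rw [top_inf_eq]
    exact le_antisymm (hS.norm_of_normal (h4 ▸ sup_le hZS le_normalizer))
      (h4 ▸ norm_sup (norm_of_cent (le_top.trans hZ)) le_rfl)
  rw [h6]
  exact central (nrm_of_le_normalizer le_top (norm_core _ hK.le_normalizer))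
    ((isPi_compl_iff hp.out).1 (core_pi _ K)) h1 (h5 ▸ hM) (h5 ▸ le_sup_of_le_left hZK) hZ hν

theorem final_top (hL : Nrm L ⊤) (hK : Nrm K ⊤) (hLK : L ≤ K) (hi : ¬ p ∣ L.relIndex K)
    (hLP : L ≤ P) (hP : PiNat {p} (L.relIndex P)) (hP' : ¬ p ∣ P.relIndex ⊤) (hM : Nrm (K ⊔ P) ⊤)
    (hν : ν ∈ irr L) (hs : ⊤ ≤ stab ν) :
    (ov (¬ p ∣ ·) ⊤ L ν).card = (ov (¬ p ∣ ·) 𝓝(P) L ν).card := by
  obtain ⟨E, _, _, Q, _, _, π, ρ, ζ, lam, T⟩ := exists_tri hL hν hs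
  have h1 : st π ρ 𝓝(P) = 𝓝(st π ρ P) := Subgroup.ext fun q => by
    obtain ⟨x, rfl⟩ := T.sρ q
    simp only [T.mem_st (le_norm_of_le hLP), mem_normalizer_iff, T.sρ.forall, T.sπ.forall,
      ← map_mul, ← map_inv, T.mem_st hLP]
  have h2 : st π ρ (K ⊔ P) = st π ρ K ⊔ st π ρ P := by
    rw [st, ← comap_sup_eq _ _ _ T.sπ, Subgroup.map_sup]; rfl
  rw [card_ov_tri T le_top, card_ov_tri T (le_norm_of_le hLP), T.st_top, h1]
  by_cases h : p ∣ charDegree ν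
  · simp [ov, h.mul_left]
  simp only [hp.out.dvd_mul, h, or_false]
  exact central' (T.st_top ▸ T.nrm_st hLK hK) (Tri.st_mono hLK) T.central
    (by rwa [T.relIndex_st le_rfl hLK]) (Tri.st_mono hLP) (by rwa [T.relIndex_st le_rfl hLP])
    (by rwa [← T.st_top, T.relIndex_st hLP le_top])
    (h2 ▸ T.st_top ▸ T.nrm_st (le_sup_of_le_left hLK) hM) T.irrl

theorem final (hL : Nrm L G) (hK : Nrm K G) (hLK : L ≤ K) (hi : ¬ p ∣ L.relIndex K)
    (hS : Syl p S G) (hM : Nrm (K ⊔ S) G) (hν : ν ∈ irr L) (hs : G ≤ stab ν) :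
    (ov (¬ p ∣ ·) G L ν).card = (ov (¬ p ∣ ·) (G ⊓ 𝓝(L ⊔ S)) L ν).card := by
  have := Fintype.ofFinite G
  have hP : L ⊔ S ≤ G := sup_le hL.le hS.le
  rw [← card_ov_sub le_rfl hL.le (irr_on hν), ← card_ov_sub inf_le_left hL.le (irr_on hν),
    inf_subgroupOf_left, subgroupOf_normalizer_eq hP, subgroupOf_self]
  refine final_top (K := K.subgroupOf G) (subgroupOf_self G ▸ nrm_sub hL) (subgroupOf_self G ▸ nrm_sub hK)
    (comap_mono hLK) (by rwa [relIndex_subgroupOf hK.le]) (comap_mono le_sup_left) ?_ ?_ ?_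
    ((sub_irr_iff hL.le (irr_on hν)).2 hν) (subgroupOf_self G ▸ stab_sub hs)
  · rw [relIndex_subgroupOf hP, sup_comm, relIndex_sup_norm (hS.le.trans hL.le_normalizer)]
    exact hS.pi.relIndex L
  · exact (piNat_compl_iff hp.out).1 (by
      rw [relIndex_top_right]; exact hS.le_of_idx le_sup_right)
  · rw [← subgroupOf_sup hK.le hP, ← sup_assoc, sup_eq_left.2 hLK, ← subgroupOf_self G]
    exact nrm_sub hM

/-- The relative McKay equality. -/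
theorem mckay (hG : IsPSolvable p G) (hS : Syl p S G) (hL : Nrm L G) (hν : ν ∈ irr L)
    (hs : S ≤ stab ν) :
    (ov (¬ p ∣ ·) G L ν).card = (ov (¬ p ∣ ·) (G ⊓ 𝓝(L ⊔ S)) L ν).card := by
  classical
  induction hn : L.relIndex G using Nat.strong_induction_on generalizing G L ν with | _ n ih => ?_
  have h0 : ∀ U < G, L ≤ U → L.relIndex U < n := fun U hU h => by
    rw [← hn, ← relIndex_mul_relIndex L U G h hU.le]
    exact lt_mul_of_one_lt_right (Nat.pos_of_ne_zero (relIndex_ne_zero' _ _))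
      (Nat.one_lt_iff_ne_zero_and_ne_one.2 ⟨relIndex_ne_zero' _ _,
        mt relIndex_eq_one.1 hU.not_ge⟩)
  have hN : L ⊔ S ≤ G ⊓ 𝓝(L ⊔ S) := le_inf (sup_le hL.le hS.le) le_normalizer
  by_cases h1 : G ≤ stab ν
  swap
  · have h2 : ∀ U, S ≤ U → U ≤ G → ∀ n, ¬ p ∣ (stab ν).relIndex U * n ↔ ¬ p ∣ n :=
      fun U h h' n => by
        rw [hp.out.dvd_mul, or_iff_right ((piNat_compl_iff hp.out).1 ((hS.of_le h h').le_of_idx hs))]
    have h3 : L ≤ G ⊓ stab ν := le_inf hL.le (le_stab (irr_CInv hν))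
    rw [card_ov_stab hL hν, card_ov_stab (hL.mono (le_sup_left.trans hN) inf_le_left) hν]
    simp only [h2 G hS.le le_rfl, h2 _ (le_sup_right.trans hN) inf_le_left]
    rw [ih _ (h0 _ (inf_lt_left.2 h1) h3) (psolv_of_le inf_le_left hG) (hS.of_le (le_inf hS.le hs)
      inf_le_left) (hL.mono h3 inf_le_left) hν hs rfl, inf_right_comm]
  by_cases h2 : G ≤ 𝓝(L ⊔ S)
  · rw [inf_eq_left.2 h2]
  obtain ⟨K, hK, hLK, h3, h4⟩ : ∃ K, Nrm K G ∧ L ≤ K ∧ ¬ K ≤ L ∧ PP p (L.relIndex K) := by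
    have := hL.normal
    obtain ⟨K, h3, -, h4, h5⟩ := exists_step hG (N := L.subgroupOf G) (M := ⊤) fun h =>
      h2 (le_norm_of_le ((subgroupOf_eq_top.1 (top_le_iff.1 h)).trans le_sup_left))
    have h6 : K.map G.subtype ≤ G := map_subtype_le K
    refine ⟨K.map G.subtype ⊔ L, (nrm_of_normal h6 (by
      rwa [subgroupOf, comap_map_eq_self_of_injective G.subtype_injective])).sup hL, le_sup_right,
      fun h => h4 (map_le_iff_le_comap.1 (le_sup_left.trans h)), ?_⟩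
    rwa [relIndex_sup_norm (h6.trans hL.le_normalizer), ← relIndex_subgroupOf h6, subgroupOf,
      subgroupOf, comap_map_eq_self_of_injective G.subtype_injective]
  by_cases h5 : G ≤ 𝓝(K ⊔ S)
  · refine final hL hK hLK (h4.elim (fun ⟨m, hm⟩ => (h2 ?_).elim)
      fun h => hp.out.coprime_iff_not_dvd.1 h.symm) hS
      (nrm_of_le_normalizer (sup_le hK.le hS.le) h5) hν h1
    have h6 := (hS.of_le le_sup_right (sup_le hK.le hS.le)).le_of_idx (le_sup_right : S ≤ L ⊔ S)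
    rwa [eq_of_idx (sup_le_sup_right hLK S) ?_ h6]
    refine PiNat.of_dvd ?_ (relIndex_dvd_of_le_left _ le_sup_left)
    rw [← relIndex_mul_relIndex L K _ hLK le_sup_left, hm, sup_comm,
      relIndex_sup_norm (hS.le.trans hK.le_normalizer)]
    exact (piNat_pow hp.out m).mul (hS.pi.relIndex K)
  have h6 : K ⊔ S ≤ G ⊓ 𝓝(K ⊔ S) := le_inf (sup_le hK.le hS.le) le_normalizer
  have h7 := hS.of_le (le_sup_right.trans h6) inf_le_left
  have h8 := hL.mono (hLK.trans (le_sup_left.trans h6)) inf_le_left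
  have h9 : ∀ {K}, Nrm K G → G ⊓ 𝓝(S) ≤ 𝓝(K ⊔ S) := fun h =>
    norm_sup (inf_le_left.trans h.le_normalizer) inf_le_right
  have h10 : G ⊓ 𝓝(K ⊔ S) ⊓ 𝓝(L ⊔ S) = G ⊓ 𝓝(L ⊔ S) := by
    rw [inf_right_comm, inf_eq_left, ← sup_eq_left.2 hLK, sup_assoc]
    exact norm_sup (inf_le_left.trans hK.le_normalizer) inf_le_right
  rw [← h10, ← ih _ (h0 _ (inf_lt_left.2 h5) h8.le) (psolv_of_le inf_le_left hG) h7 h8 hν hs rfl]
  refine Nat.cast_injective (R := ℚ) ?_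
  rw [orbit_sum hp.out hK hL hLK hν h1 hS, orbit_sum hp.out (hK.mono (le_sup_left.trans h6)
    inf_le_left) h8 hLK hν (inf_le_left.trans h1) h7, inf_right_comm, inf_eq_left.2 (h9 hK)]
  refine Finset.sum_congr rfl fun θ hθ => ?_
  rw [ih _ ?_ hG hS hK (mem_ov.1 (Finset.mem_filter.1 hθ).1).1 (Finset.mem_filter.1 hθ).2 rfl]
  rw [← hn, ← relIndex_mul_relIndex L K G hLK hK.le]
  exact lt_mul_of_one_lt_left (Nat.pos_of_ne_zero (relIndex_ne_zero' _ _))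
    (Nat.one_lt_iff_ne_zero_and_ne_one.2 ⟨relIndex_ne_zero' _ _, mt relIndex_eq_one.1 h3⟩)

omit hp in
theorem card_ov (hL : L ≤ K) (ν : L → ℂ) (P : ℕ → Prop) :
    Nat.card {χ : IrrCharacter K // P (charDegree χ.1) ∧
      (∑ᶠ l : L, χ.1 (inclusion hL l) * conj (ν l)) ≠ 0} = (ov P K L (extendByZero L ν)).card := by
  have := Fintype.ofFinite L
  have h0 : ∀ χ : K → ℂ, charDegree (extendByZero K χ) = charDegree χ := fun χ =>
    deg_congr (congrFun (res_ext K χ) 1)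
  have h1 : ∀ χ : K → ℂ, dot L (extendByZero K χ) (extendByZero L ν) ≠ 0 ↔
      (∑ᶠ l : L, χ (inclusion hL l) * conj (ν l)) ≠ 0 := fun χ => by
    rw [dot_ext hL, finsum_eq_sum_of_fintype, classInner, mul_ne_zero_iff, and_iff_right
      (inv_ne_zero (cardC_ne L))]; rfl
  rw [← Nat.card_eq_finsetCard]
  refine Nat.card_congr (Equiv.ofBijective (fun χ => ⟨extendByZero K χ.1.1,
    mem_ov.2 ⟨ext_mem_irr.2 χ.1.2, (h1 _).2 χ.2.2, (h0 _).symm ▸ χ.2.1⟩⟩) ⟨?_, ?_⟩)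
  · exact fun χ χ' e => Subtype.ext (Subtype.ext (ext_injective K (congrArg Subtype.val e)))
  · rintro ⟨χ, hχ⟩
    obtain ⟨h2, h3, h4⟩ := mem_ov.1 hχ
    obtain ⟨χ, rfl⟩ := exists_ext h2
    exact ⟨⟨χ, h0 _ ▸ h4, (h1 _).1 h3⟩, rfl⟩

omit hp in
theorem card_ov_top (ν : L → ℂ) (P : ℕ → Prop) :
    Nat.card {χ : IrrCharacter Γ // P (charDegree χ.1) ∧
      (∑ᶠ l : L, χ.1 l * conj (ν l)) ≠ 0} = (ov P ⊤ L (extendByZero L ν)).card := by
  have := Fintype.ofFinite L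
  have h1 : ∀ χ : Γ → ℂ, dot L χ (extendByZero L ν) ≠ 0 ↔
      (∑ᶠ l : L, χ l * conj (ν l)) ≠ 0 := fun χ => by
    rw [← dot_Res_left (ext_on L ν), ← ext_res, dot_ext le_rfl, finsum_eq_sum_of_fintype,
      classInner, mul_ne_zero_iff, and_iff_right
      (inv_ne_zero (cardC_ne L))]
  rw [← Nat.card_eq_finsetCard]
  refine Nat.card_congr (Equiv.ofBijective (fun χ => ⟨χ.1.1,
    mem_ov.2 ⟨mem_irr_top.2 χ.1.2, (h1 _).2 χ.2.2, χ.2.1⟩⟩) ⟨?_, ?_⟩)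
  · exact fun χ χ' e => Subtype.ext (Subtype.ext (Subtype.mk.inj e))
  · rintro ⟨χ, hχ⟩
    obtain ⟨h2, h3, h4⟩ := mem_ov.1 hχ
    exact ⟨⟨⟨χ, mem_irr_top.1 h2⟩, h4, (h1 _).1 h3⟩, rfl⟩

end CA.H10MK2
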