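import Cfsg.Agent.Lib.Char.H10Gal

/-!
# The Okuyama–Wajima argument: extendibility is preserved by the Glauberman correspondence
-/

set_option autoImplicit false
set_option linter.unusedSectionVars false

namespace CA.H10OW
open Cfsg CA.PF CA.OQuo CA.H12Gl CA.H12Gl2 CA.H12Gl3 CA.H12Gl4 CA.H12Deg CA.H10Gal Subgroup Function
open CA.BG hiding cj cj_one cj_mul cj_inv_cj cj_cj_inv mem_cent1
open scoped ComplexConjugate commutatorElement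

variable {Γ : Type*} [Group Γ] [Fintype Γ] {G H K L N V D Q R : Subgroup Γ}
  {χ β θ φ ψ η ξ : Γ → ℂ} {p : ℕ}

theorem irr_of_res (h : IsChar K χ) (hN : N ≤ K) (hr : Res (N : Set Γ) χ ∈ irr N) :
    χ ∈ irr K := by
  obtain ⟨ψ, h1, h2⟩ := h.exists_irr fun e => irr_ne_zero hr (by rw [e, map_zero])
  have h3 := h.sub_irr h1 h2
  have h4 := ((irr_char h1).Res hN).eq_zero_of_add_irr (h3.Res hN)
    (by rwa [← map_add, add_sub_cancel]) fun e => irr_one_ne h1 (by rw [← Res_one N ψ, e]; rfl)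
  rwa [sub_eq_zero.1 (h3.eq_zero (by rw [← Res_one N (χ - ψ), h4]; rfl))]

theorem res_eq_iff (hN : N ≤ K) (h : χ ∈ irr K) (hθ : θ ∈ irr N) (hd : dot N χ θ ≠ 0) :
    Res (N : Set Γ) χ = θ ↔ χ 1 = θ 1 :=
  ⟨fun e => by rw [← e, Res_one], fun e => ((irr_char h).Res hN).eq_of_one hθ
    (by rwa [dot_Res_left (irr_on hθ)]) (by rwa [Res_one])⟩

theorem dot_ne_of_res (hθ : θ ∈ irr N) (h : Res (N : Set Γ) χ = θ) : dot N χ θ ≠ 0 := by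
  rw [← dot_Res_left (irr_on hθ), h, dot_irr_self hθ]; exact one_ne_zero

theorem stab_res (hχ : H ≤ stab χ) (hN : H ≤ 𝓝(N)) : H ≤ stab (Res (N : Set Γ) χ) :=
  fun g hg => by rw [mem_stab, cj_Res (conj_iff_of_norm (hN hg)), hχ hg]

/-- A coprime operator group acting through an abelian quotient. -/
theorem exists_cyc (hn : H ≤ 𝓝(V)) (hc : (♯V).Coprime ♯H) (hV : Group.IsSolvable V)
    (hab : ⁅H, H⁆ ≤ 𝓒(V)) (hL : ¬ V ≤ L) :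
    ∃ D ≤ H, ⁅H, H⁆ ≤ D ∧ CycMod H D ∧ ¬ V ⊓ 𝓒(D) ≤ L := by
  by_contra! h
  have hW : H ≤ 𝓝(H ⊓ 𝓒(V)) := norm_inf le_normalizer (norm_cent hn)
  have hVW : V ≤ 𝓝(H ⊓ 𝓒(V)) := norm_of_cent (cent_symm inf_le_right)
  have hab' : ⁅H, H⁆ ≤ H ⊓ 𝓒(V) := le_inf (der_le H) hab
  have h1 := coprime_abelian_gen_cent (K := V /ᵍ (H ⊓ 𝓒(V))) (L := (V ⊓ L) /ᵍ (H ⊓ 𝓒(V)))
    ((isMulCommutative_quo_iff hW).2 hab') (mim_le_normalizer _ hn) (coprime_mim hc)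
    fun B hB ⟨x, hx, hx'⟩ => by
      have h2 := qpre_le hW inf_le_left hB
      obtain ⟨y, hy, rfl⟩ := (mem_mim_of_le hW).1 hx
      rw [← quo_mpre B, ← cop_quo_cent' (h2.trans hW) hVW (h2.trans hn)
        (hc.coprime_dvd_right (card_dvd h2)) (.inr hV)]
      refine mim_mono _ (le_inf inf_le_left (h _ h2 (hab'.trans (le_qpre B)) ⟨y, hy, ?_⟩))
      rw [← quo_mpre B, ← mim_zpowers _ (hW hy), ← mim_sup _ (zpowers_le.2 (hW hy)) (mpre_le _ _),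
        quo_le_quo_iff hW (sup_le (zpowers_le.2 (hW hy)) (mpre_le _ _))
          ((le_qpre B).trans le_sup_right)] at hx'
      exact hx'
  rw [quo_le_quo_iff' hVW (inf_le_left.trans hVW)] at h1
  have h2 := sup_inf_of_le_left (C := V) (inf_le_left.trans hVW : V ⊓ L ≤ _) inf_le_left
  rw [inf_eq_right.2 h1, CA.BG.eq_bot_mono (inf_le_inf_right _ inf_le_left)
    (inf_eq_bot_of_coprime hc.symm), sup_bot_eq] at h2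
  exact hL (h2.le.trans inf_le_right)

theorem ext_cyc_iff (hHK : H ≤ 𝓝(K)) (hD : D ≤ H) (hab : ⁅H, H⁆ ≤ D) (hc : CycMod H D)
    (hθ : θ ∈ irr K) : Ext (K ⊔ H) K θ ↔
      ∃ φ ∈ irr (K ⊔ D), H ≤ stab φ ∧ Res (K : Set Γ) φ = θ := by
  have h1 : K ⊔ D ≤ K ⊔ H := sup_le_sup_left hD K
  have h2 : H ≤ 𝓝(K ⊔ D) := norm_sup hHK (norm_of_der_le hab hD)
  rw [ext_iff le_sup_left hθ]
  refine ⟨fun ⟨χ, h3, h4⟩ => ?_, fun ⟨φ, h3, h4, h5⟩ => ?_⟩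
  · have h5 := (Res_Res (le_sup_left : K ≤ K ⊔ D) χ).trans h4
    exact ⟨_, irr_of_res ((irr_char h3).Res h1) le_sup_left (h5 ▸ hθ),
      stab_res (le_sup_right.trans (le_stab (irr_CInv h3))) h2, h5⟩
  · obtain ⟨s, hs, h6⟩ := hc
    obtain ⟨χ, h7, h8⟩ := ext_cyc (s := s) (nrm_of_le_normalizer h1
      (sup_le (le_norm_of_le le_sup_left) h2)) (le_antisymm (sup_le h1 (zpowers_le.2
        (mem_sup_right hs))) (sup_le (le_sup_of_le_left le_sup_left) (h6.trans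
          (sup_le le_sup_right (le_sup_of_le_left le_sup_right))))) h3
      (sup_le (le_sup_left.trans (le_stab (irr_CInv h3))) h4)
    exact ⟨χ, h7, by rw [← h5, ← h8, Res_Res (le_sup_left : K ≤ K ⊔ D)]⟩

variable [Fact p.Prime]

theorem ow_step (hQ : IsPGroup p Q) (hQK : Q ≤ 𝓝(K)) (hHK : H ≤ 𝓝(K)) (hHQ : H ≤ 𝓝(Q))
    (hK : ¬ p ∣ ♯K) (hH : ¬ p ∣ ♯H) (hD : D ≤ H) (hDQ : D ≤ 𝓒(Q)) (hab : ⁅H, H⁆ ≤ D)
    (hab' : ⁅H, H⁆ ≤ K) (hc : CycMod H D) (hθ : θ ∈ irr K) (hs : Q ≤ stab θ) (hs' : H ≤ stab θ)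
    (hβ : β ∈ irr (K ⊓ 𝓒(Q))) (e : GR p (K ⊓ 𝓒(Q)) θ β) :
    Ext (K ⊔ H) K θ ↔ Ext (K ⊓ 𝓒(Q) ⊔ H) (K ⊓ 𝓒(Q)) β := by
  have hH1 : H ≤ 𝓝(K ⊓ 𝓒(Q)) := norm_inf hHK (norm_cent hHQ)
  have hHD := norm_of_der_le hab hD
  have hQB : Q ≤ 𝓝(K ⊔ D) := norm_sup hQK (norm_of_cent (cent_symm hDQ))
  have hB : ¬ p ∣ ♯(K ⊔ D : Subgroup Γ) := fun h => by
    rw [sup_comm] at h
    exact (((Fact.out : p.Prime).dvd_mul).1 (h.trans (card_sup_dvd (hD.trans hHK)))).elim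
      (fun h => hH (h.trans (card_dvd hD))) hK
  have hC : K ⊓ 𝓒(Q) ⊔ D = (K ⊔ D) ⊓ 𝓒(Q) := by
    rw [sup_comm K, sup_inf_of_le_left (hD.trans hHK) hDQ, sup_comm]
  have hN : Nrm K (K ⊔ D) := nrm_of_le_normalizer le_sup_left (sup_le le_normalizer (hD.trans hHK))
  have hN1 : Nrm (K ⊓ 𝓒(Q)) (K ⊓ 𝓒(Q) ⊔ D) :=
    nrm_of_le_normalizer le_sup_left (sup_le le_normalizer (hD.trans hH1))
  have hC1 : K ⊓ 𝓒(Q) = K ⊓ 𝓒(Q) := rfl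
  have hA : ⁅K ⊔ D, K ⊔ D⁆ ≤ K := by
    rw [sup_comm]
    exact (comm_sup_le (hD.trans hHK) (hD.trans hHK)).trans (sup_le ((der_mono hD).trans hab') le_rfl)
  have hA1 : ⁅K ⊓ 𝓒(Q) ⊔ D, K ⊓ 𝓒(Q) ⊔ D⁆ ≤ K ⊓ 𝓒(Q) := by
    rw [sup_comm]
    exact (comm_sup_le (hD.trans hH1) (hD.trans hH1)).trans (sup_le
      (le_inf ((der_mono hD).trans hab') ((der_le D).trans hDQ)) le_rfl)
  have hs1 : H ≤ stab β := fun g hg => (gr_stab_iff hQ hQK hK rfl hθ hs hβ e (hHK hg) (hH1 hg)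
    (by rwa [mem_stab.1 (hs' hg)])).1 (hs' hg)
  have h1 : ∀ φ ∈ irr (K ⊔ D), dot K φ θ ≠ 0 → Q ≤ stab φ := fun φ h1 h2 => by
    obtain ⟨ψ, h3, h4, h5⟩ := exists_inv_over_ab hN hA hQK hQB (by
      obtain ⟨n, hn⟩ := IsPGroup.iff_card.1 hQ
      exact hn ▸ ((Fact.out : p.Prime).coprime_iff_not_dvd.2 fun h =>
        hB (h.trans (relIndex_dvd_card _ _))).pow_left n) hθ hs
    obtain ⟨i, h6, rfl⟩ := exists_lin_of_over hN hA h3 h1 hθ h5 h2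
    intro g hg
    have h7 := mem_stab_of_comm (irr_CF (lin_irr i)) (hQB hg) h6 fun y hy => by
      obtain ⟨k, hk, d, hd, rfl⟩ := (mem_sup_norm' (hD.trans hHK)).1 hy
      have h8 := mul_mem (conj_mem_of_norm hQK hg hk) (inv_mem hk)
      rwa [show g * (k * d) * g⁻¹ * (k * d)⁻¹ = g * k * g⁻¹ * (g * d * g⁻¹ * d⁻¹) * k⁻¹ by group,
        mem_cent.1 (hDQ hd) g hg, show d * g * g⁻¹ * d⁻¹ = 1 by group, mul_one]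
    rw [mem_stab, cj_mul, h7, h4 hg]
  have h2 : ∀ φ ∈ irr (K ⊔ D), Q ≤ stab φ → ∀ ψ ∈ irr (K ⊓ 𝓒(Q) ⊔ D), GR p (K ⊓ 𝓒(Q) ⊔ D) φ ψ →
      (dot K φ θ ≠ 0 ↔ dot (K ⊓ 𝓒(Q)) ψ β ≠ 0) := fun φ h2 h3 ψ h4 h5 =>
    gr_over_iff hQ hQB hB hC hN hQK rfl h2 h3 h4 h5 hθ hs hβ e
  have h3 : kk (K ⊔ D) K θ = kk (K ⊓ 𝓒(Q) ⊔ D) (K ⊓ 𝓒(Q)) β := by
    have h3 := fun φ (hφ : φ ∈ ov (fun _ => True) (K ⊔ D) K θ) => gr_exists hQ hQB hB hC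
      (mem_ov.1 hφ).1 (h1 φ (mem_ov.1 hφ).1 (mem_ov.1 hφ).2.1)
    choose f h3 h4 using h3
    refine Finset.card_bij f (fun φ hφ => ?_) (fun φ hφ φ' hφ' e => ?_) fun ψ hψ => ?_
    · obtain ⟨h5, h6, -⟩ := mem_ov.1 hφ
      exact mem_ov.2 ⟨h3 φ hφ, (h2 φ h5 (h1 φ h5 h6) _ (h3 φ hφ) (h4 φ hφ)).1 h6, trivial⟩
    · obtain ⟨h5, h6, -⟩ := mem_ov.1 hφ
      obtain ⟨h7, h8, -⟩ := mem_ov.1 hφ'
      exact gr_inj hQ hQB hB hC h5 (h1 φ h5 h6) h7 (h1 φ' h7 h8) (h3 φ hφ) (h4 φ hφ)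
        (e ▸ h4 φ' hφ')
    · obtain ⟨h5, h6, -⟩ := mem_ov.1 hψ
      obtain ⟨φ, h7, h8, h9⟩ := gr_surj hQ hQB hB hC h5
      have h10 : φ ∈ ov (fun _ => True) (K ⊔ D) K θ :=
        mem_ov.2 ⟨h7, (h2 φ h7 h8 ψ h5 h9).2 h6, trivial⟩
      exact ⟨φ, h10, gr_unique hQ hQB hB hC h7 h8 (h3 φ h10) h5 (h4 φ h10) h9⟩
  obtain ⟨a, h4, h5, h6⟩ := exists_ab hN hθ (sup_le (le_stab (irr_CInv hθ)) (hD.trans hs')) hA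
  obtain ⟨b, h7, -, h8⟩ := exists_ab hN1 hβ (sup_le (le_stab (irr_CInv hβ)) (hD.trans hs1)) hA1
  obtain rfl : a = b := by
    rw [← h3, sup_comm (K ⊓ 𝓒(Q)) D, relIndex_sup_norm (hD.trans hH1), ← inf_relIndex_right, inf_assoc,
      inf_eq_right.2 hDQ, inf_relIndex_right, ← relIndex_sup_norm (hD.trans hHK), sup_comm D,
      ← h4] at h7
    exact (Nat.pow_left_injective two_ne_zero (mul_right_cancel₀ h5 h7)).symm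
  have h9 : ∀ φ ∈ irr (K ⊔ D), dot K φ θ ≠ 0 → ∀ ψ ∈ irr (K ⊓ 𝓒(Q) ⊔ D),
      GR p (K ⊓ 𝓒(Q) ⊔ D) φ ψ → (H ≤ stab φ ∧ Res (K : Set Γ) φ = θ ↔
        H ≤ stab ψ ∧ Res (K ⊓ 𝓒(Q) : Subgroup Γ) ψ = β) := fun φ h9 h10 ψ h11 h12 => by
    have h13 := (h2 φ h9 (h1 φ h9 h10) ψ h11 h12).1 h10
    refine and_congr (forall₂_congr fun g hg => gr_stab_iff hQ hQB hB hC h9 (h1 φ h9 h10) h11 h12
      (norm_sup hHK hHD hg) (norm_sup hH1 hHD hg) (h1 _ (irr_cj (conj_iff_of_norm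
        (norm_sup hHK hHD hg)) h9) (by rwa [← mem_stab.1 (hs' hg), dot_cj]))) ?_
    rw [res_eq_iff le_sup_left h9 hθ h10, res_eq_iff le_sup_left h11 hβ h13, h6 φ h9 h10,
      h8 ψ h11 h13, mul_eq_right₀ (irr_one_ne hθ), mul_eq_right₀ (irr_one_ne hβ)]
  rw [ext_cyc_iff hHK hD hab hc hθ, ext_cyc_iff hH1 hD hab hc hβ]
  refine ⟨fun ⟨φ, h10, h11⟩ => ?_, fun ⟨ψ, h10, h11⟩ => ?_⟩
  · have h12 := dot_ne_of_res hθ h11.2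
    obtain ⟨ψ, h13, h14⟩ := gr_exists hQ hQB hB hC h10 (h1 φ h10 h12)
    exact ⟨ψ, h13, (h9 φ h10 h12 ψ h13 h14).1 h11⟩
  · obtain ⟨φ, h13, h14, h15⟩ := gr_surj hQ hQB hB hC h10
    exact ⟨φ, h13, (h9 φ h13 ((h2 φ h13 h14 ψ h10 h15).2 (dot_ne_of_res hβ h11.2)) ψ h10 h15).2 h11⟩

/-- **Okuyama–Wajima**. -/
theorem ow (hR : IsPGroup p R) (hHR : H ≤ 𝓝(R)) (hH : ¬ p ∣ ♯H) (hab : ⁅H, H⁆ ≤ 𝓒(R))
    (hRK : R ≤ 𝓝(K)) (hHK : H ≤ 𝓝(K)) (hK : ¬ p ∣ ♯K) (hab' : ⁅H, H⁆ ≤ K) (hθ : θ ∈ irr K)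
    (hs : R ≤ stab θ) (hs' : H ≤ stab θ) (hβ : β ∈ irr (K ⊓ 𝓒(R))) (e : GR p (K ⊓ 𝓒(R)) θ β) :
    Ext (K ⊔ H) K θ ↔ Ext (K ⊓ 𝓒(R) ⊔ H) (K ⊓ 𝓒(R)) β := by
  induction hn : ♯K using Nat.strong_induction_on generalizing K θ with | _ n ih => ?_
  by_cases h0 : R ≤ 𝓒(K)
  · have h1 : K ⊓ 𝓒(R) = K := inf_eq_left.2 (cent_symm h0)
    rw [h1] at hβ e ⊢
    rw [irr_eq_of_dot_ne hθ hβ e.ne]
  obtain ⟨V, hVR, ⟨h1, h2, h3⟩, h4⟩ := exists_minimal_le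
    (P := fun V => R ≤ 𝓝(V) ∧ H ≤ 𝓝(V) ∧ ¬ V ≤ 𝓒(K)) (H := R) ⟨le_normalizer, hHR, h0⟩
  have hnil : Group.IsNilpotent R := hR.isNilpotent
  have h5 : ⁅V, R⁆ ≤ 𝓒(K) := by
    have h5 := comm_lt_of_nil hnil le_rfl hVR h1 fun h => h3 (h.le.trans bot_le)
    exact of_not_not fun h => h5.ne (h4 _ ⟨le_norm_comm_right _ _, norm_comm h2 hHR, h⟩ h5.le)
  obtain ⟨D, hD, h6, h7, h8⟩ := exists_cyc h2 (by
      obtain ⟨n, hn⟩ := IsPGroup.iff_card.1 (hR.to_le hVR)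
      exact hn ▸ ((Fact.out : p.Prime).coprime_iff_not_dvd.2 hH).pow_left n)
    (solv_of_le (solv_of_nil hnil) hVR) (hab.trans (cent_anti hVR)) h3
  have hQR : V ⊓ 𝓒(D) ≤ R := inf_le_left.trans hVR
  have hHQ : H ≤ 𝓝(V ⊓ 𝓒(D)) := norm_inf h2 (norm_cent (norm_of_der_le h6 hD))
  generalize hQ : V ⊓ 𝓒(D) = Q at h8 hQR hHQ
  have h9 : R ≤ 𝓝(K ⊓ 𝓒(Q)) := by
    have h9 : K ⊓ 𝓒(Q) = K ⊓ 𝓒(Q ⊔ ⁅V, R⁆) := by
      rw [cent_sup, inf_comm 𝓒(Q), ← inf_assoc, inf_eq_left.2 (cent_symm h5)]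
    exact h9 ▸ norm_inf hRK (norm_cent (norm_of_comm_le_left ((commutator_mono (sup_le
      (hQ ▸ inf_le_left) (comm_le_left h1)) le_rfl).trans le_sup_right)))
  have hH1 : H ≤ 𝓝(K ⊓ 𝓒(Q)) := norm_inf hHK (norm_cent hHQ)
  have hK1 : ¬ p ∣ ♯(K ⊓ 𝓒(Q) : Subgroup Γ) := fun h => hK (h.trans (card_dvd inf_le_left))
  obtain ⟨η, h10, h11⟩ := gr_exists (hR.to_le hQR) (hQR.trans hRK) hK rfl hθ (hQR.trans hs)
  have h12 : ∀ g ∈ stab θ, g ∈ 𝓝(K) → g ∈ 𝓝(K ⊓ 𝓒(Q)) → g ∈ stab η := fun g h h' h'' =>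
    (gr_stab_iff (hR.to_le hQR) (hQR.trans hRK) hK rfl hθ (hQR.trans hs) h10 h11 h' h''
      (by rw [mem_stab.1 h]; exact hQR.trans hs)).1 h
  have h13 : K ⊓ 𝓒(R) = K ⊓ 𝓒(Q) ⊓ 𝓒(R) := by rw [inf_assoc, inf_eq_right.2 (cent_anti hQR)]
  have h14 : R ≤ stab η := fun g hg => h12 g (hs hg) (hRK hg) (h9 hg)
  obtain ⟨M, hM⟩ := CA.BlkVal.exists_isPModular (p := p) Fact.out
  rw [ow_step (hR.to_le hQR) (hQR.trans hRK) hHK hHQ hK hH hD (cent_symm (hQ ▸ inf_le_right)) h6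
    hab' h7 hθ (hQR.trans hs) hs' h10 h11, h13]
  refine ih _ (hn ▸ cent_lt h8) h9 hH1 hK1 (le_inf hab' (hab.trans (cent_anti hQR))) h10 h14
    (fun g hg => h12 g (hs' hg) (hHK hg) (hH1 hg)) (h13 ▸ hβ) ?_ rfl
  rw [← h13, gr_iff_br hM hR h9 hK1 h13 h10 h14 hβ, ← (gr_iff_br hM (hR.to_le hQR) (hQR.trans hRK)
    hK rfl hθ (hQR.trans hs) h10).1 h11, CA.H11Amb.br_br_of_le hQR,
    ← gr_iff_br hM hR hRK hK rfl hθ hs hβ]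
  exact e

end CA.H10OW
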