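import Cfsg.Agent.Lib.Char.H10FS
import Mathlib.GroupTheory.RegularWreathProduct

/-!
# Characters of finite direct powers, monomial characters, wreath products
-/

set_option autoImplicit false
set_option linter.unusedSectionVars false

namespace CA.H10Pi
open Cfsg CA.H10FS CA.MatRep CA.H11FS CA.Clif CA.Gall CA.Ind2 CA.Ext CChar.CharFun CChar.CharOrth CChar.CharInt CChar.CharProd CChar.CharKer CA.Ind Subgroup
open scoped ComplexConjugate

section pi
variable {ι : Type*} [Fintype ι] [DecidableEq ι] {H : ι → Type*} [∀ i, Group (H i)]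
  [∀ i, Fintype (H i)]

theorem inner_pi (a b : ∀ i, H i → ℂ) :
    classInner (fun x : ∀ i, H i => ∏ i, a i (x i)) (fun x => ∏ i, b i (x i)) =
      ∏ i, classInner (a i) (b i) := by
  simp only [CA.Ind.inner_def]
  rw [Finset.prod_mul_distrib, Finset.prod_inv_distrib, Nat.card_pi, Nat.cast_prod,
    Fintype.prod_sum]
  simp only [map_prod, Finset.prod_mul_distrib]

theorem char_pi {a : ∀ i, H i → ℂ} (h : ∀ i, IsCharacter (H i) (a i)) :
    IsCharacter (∀ i, H i) (fun x => ∏ i, a i (x i)) := by
  have := char_prod Finset.univ (χ := fun i (x : ∀ i, H i) => a i (Pi.evalMonoidHom H i x))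
    fun i _ => char_comp (h i) _
  convert this using 1
  funext x; simp

theorem irr_pi {a : ∀ i, H i → ℂ} (h : ∀ i, IsIrrCharacter (H i) (a i)) :
    IsIrrCharacter (∀ i, H i) (fun x => ∏ i, a i (x i)) :=
  irr_of_char_of_inner_self (char_pi fun i => char_of_irr (h i)) (by
    rw [inner_pi, Finset.prod_eq_one fun i _ => inner_irr_self (h i)])

theorem exists_pi {θ : (∀ i, H i) → ℂ} (h : IsIrrCharacter _ θ) :
    ∃ a : ∀ i, H i → ℂ, (∀ i, IsIrrCharacter (H i) (a i)) ∧ θ = fun x => ∏ i, a i (x i) := by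
  classical
  have e : regChar (∀ i, H i) = ∑ f : ∀ i, IrrCharacter (H i),
      (∏ i, (f i).1 1) • fun x : ∀ i, H i => ∏ i, (f i).1 (x i) := by
    funext x
    simp only [Finset.sum_apply, Pi.smul_apply, smul_eq_mul, ← Finset.prod_mul_distrib]
    rw [← Fintype.prod_sum (fun i (φ : IrrCharacter (H i)) => φ.1 1 * φ.1 (x i))]
    simp only [sum_degree_mul_apply]
    by_cases hx : x = 1
    · subst hx
      simp only [Pi.one_apply, regChar_one, Nat.card_pi, Nat.cast_prod]
    · obtain ⟨i, hi⟩ := Function.ne_iff.1 hx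
      rw [regChar_of_ne hx, Finset.prod_eq_zero (Finset.mem_univ i) (regChar_of_ne (G := H i) hi)]
  have h1 : classInner (regChar (∀ i, H i)) θ ≠ 0 := by
    rw [inner_regChar_left]; simpa using irr_apply_one_ne_zero h
  rw [e, CChar.CharFun.inner_sum_left] at h1
  obtain ⟨f, -, hf⟩ := Finset.exists_ne_zero_of_sum_ne_zero h1
  rw [CChar.CharFun.inner_smul_left] at hf
  exact ⟨fun i => (f i).1, fun i => (f i).2,
    (irr_eq_of_inner_ne_zero (irr_pi fun i => (f i).2) h (right_ne_zero_of_mul hf)).symm⟩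

theorem eq_of_pi {a b : ∀ i, H i → ℂ} (ha : ∀ i, IsIrrCharacter (H i) (a i))
    (hb : ∀ i, IsIrrCharacter (H i) (b i))
    (h : (fun x : ∀ i, H i => ∏ i, a i (x i)) = fun x => ∏ i, b i (x i)) (i : ι) : a i = b i := by
  have h1 := inner_irr_self (irr_pi hb)
  nth_rewrite 1 [← h] at h1
  rw [inner_pi] at h1
  exact irr_eq_of_inner_ne_zero (ha i) (hb i) fun e => by
    rw [Finset.prod_eq_zero (Finset.mem_univ i) e] at h1; exact zero_ne_one h1

end pi

/-- `χ` is induced from a linear character. -/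
def Mon {G : Type*} [Group G] [Fintype G] (χ : G → ℂ) : Prop :=
  ∃ (H : Subgroup G) (lam : H →* ℂˣ), χ = indFun H fun h => (lam h : ℂ)

variable {G : Type*} [Group G] [Fintype G] {χ : G → ℂ}

theorem mon_of {K : Type*} [Group K] [Fintype K] (hχ : IsIrrCharacter G χ) (f : K →* G)
    (hf : Function.Injective f) (l : K →* ℂˣ)
    (h : classInner (fun k => χ (f k)) (fun k => (l k : ℂ)) ≠ 0)
    (hd : Nat.card G ≤ charDegree χ * Nat.card K) : Mon χ := by
  classical
  let e := MonoidHom.ofInjective hf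
  refine ⟨f.range, l.comp e.symm.toMonoidHom, ?_⟩
  have h1 : classInner (indFun f.range fun h => ((l.comp e.symm.toMonoidHom) h : ℂ)) χ ≠ 0 := by
    rw [inner_ind_left _ _ (irr_classFun hχ), Ne, CChar.CharFun.inner_eq_zero_comm,
      ← CChar.CharFun.inner_comp_mulEquiv e]
    simpa [e, MonoidHom.ofInjective_apply] using h
  have hc := isCharacter_indFun f.range (char_of_irr (irr_of_unitsHom (l.comp e.symm.toMonoidHom)))
  have h2 : (indFun f.range fun h => ((l.comp e.symm.toMonoidHom) h : ℂ)) 1 = f.range.index := by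
    rw [indFun_one]; simp
  refine (eq_of_inner_ne_zero_of_apply_one hc hχ h1 ?_).symm
  rw [h2, irr_apply_one_eq hχ]
  congr 1
  refine le_antisymm ?_ (degree_le_of_inner_ne_zero hc hχ h1 (irr_apply_one_eq hχ) h2)
  rw [← f.range.index_mul_card, ← Nat.card_congr e.toEquiv] at hd
  exact Nat.le_of_mul_le_mul_right hd Nat.card_pos

theorem Mon.out (h : Mon χ) (hχ : IsIrrCharacter G χ) : ∃ (H : Subgroup G) (l : H →* ℂˣ),
    charDegree χ = H.index ∧ ∀ [Fintype H], classInner (fun x : H => χ x) (fun x => (l x : ℂ)) ≠ 0 := by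
  obtain ⟨H, l, e⟩ := h
  refine ⟨H, l, charDegree_eq (by rw [e, indFun_one]; simp), ?_⟩
  intro _
  rw [← inner_ind_right _ _ (irr_classFun hχ), ← e, inner_irr_self hχ]
  exact one_ne_zero

section wr
open RegularWreathProduct
variable {M Q : Type*} [Group M] [Group Q]

def bas : (Q → M) →* M ≀ᵣ Q where
  toFun f := ⟨f, 1⟩
  map_one' := rfl
  map_mul' a b := by ext <;> simp

def wmap {M' : Type*} [Group M'] (j : M →* M') : M ≀ᵣ Q →* M' ≀ᵣ Q where
  toFun w := ⟨fun q => j (w.left q), w.right⟩
  map_one' := by ext <;> simp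
  map_mul' a b := by ext <;> simp

theorem wmap_inj {M' : Type*} [Group M'] {j : M →* M'} (hj : Function.Injective j) :
    Function.Injective (wmap j : M ≀ᵣ Q →* M' ≀ᵣ Q) := fun a b h => by
  ext q
  · exact hj (congrFun (congrArg left h) q)
  · have := congrArg right h; exact this

def basEquiv : (Q → M) ≃* (rightHom : M ≀ᵣ Q →* Q).ker where
  toFun f := ⟨bas f, rfl⟩
  invFun w := w.1.left
  left_inv _ := rfl
  right_inv w := Subtype.ext (RegularWreathProduct.ext rfl (MonoidHom.mem_ker.1 w.2).symm)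
  map_mul' a b := Subtype.ext (map_mul bas a b)

/-- Kaloujnine–Krasner embedding. -/
noncomputable def kk {G : Type*} [Group G] (N : Subgroup G) [N.Normal] : G →* N ≀ᵣ (G ⧸ N) where
  toFun g := ⟨fun q => ⟨q.out⁻¹ * g * ((g : G ⧸ N)⁻¹ * q).out, by
    rw [← QuotientGroup.eq_one_iff]; simp⟩, g⟩
  map_one' := by ext <;> simp
  map_mul' a b := by ext <;> simp [mul_assoc]

theorem kk_inj {G : Type*} [Group G] (N : Subgroup G) [N.Normal] : Function.Injective (kk N) := by
  rw [injective_iff_map_eq_one]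
  intro g h
  have h1 : (g : G ⧸ N) = 1 := congrArg right h
  have h2 : (1 : G ⧸ N).out⁻¹ * g * ((g : G ⧸ N)⁻¹ * 1).out = 1 :=
    congrArg (fun w => ((w.left 1 : N) : G)) h
  rw [h1, inv_one, mul_one, mul_assoc, inv_mul_eq_one, eq_comm, mul_eq_right] at h2
  exact h2

theorem mon_wr [Fintype M] [Fintype Q] [Fintype (M ≀ᵣ Q)] (hQ : (Nat.card Q).Prime)
    (hM : ∀ φ, IsIrrCharacter M φ → Mon φ) {χ : M ≀ᵣ Q → ℂ} (hχ : IsIrrCharacter _ χ) : Mon χ := by
  classical
  set B := (rightHom : M ≀ᵣ Q →* Q).ker with hB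
  have hsurj : ∀ (X : Type _) [Group X], Function.Surjective (rightHom : X ≀ᵣ Q →* Q) :=
    fun X _ q => ⟨inl q, rfl⟩
  obtain ⟨θ, hθ, hi⟩ := CA.Cons.exists_irr_under B hχ
  obtain ⟨φ, hφ, e⟩ := exists_pi (irr_comp_of_surjective hθ (basEquiv (M := M) (Q := Q)).toMonoidHom
    basEquiv.surjective)
  obtain ⟨m, hm⟩ := inner_char_char (char_comp (char_of_irr hχ) B.subtype) (char_of_irr hθ)
  have hm' : classInner (fun n : B => χ n) θ = m := hm
  have hm0 : 0 < m := Nat.pos_of_ne_zero fun h0 => hi (by rw [hm', h0]; simp)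
  have hd : charDegree χ = m * (inertia θ).index * ∏ q, charDegree (φ q) := by
    apply charDegree_eq
    have h1 := congrFun e 1
    simp only [map_one, Pi.one_apply] at h1
    rw [apply_one_eq hχ hθ hi, hm', h1]
    push_cast
    simp only [irr_apply_one_eq (hφ _)]
  have hi' : classInner (fun x => χ (bas x)) (fun x => ∏ q, φ q (x q)) ≠ 0 := by
    rw [← e]
    have := CChar.CharFun.inner_comp_mulEquiv (basEquiv (M := M) (Q := Q)) (fun n : B => χ n) θ
    rw [← this] at hi
    exact hi
  have key : ∀ (H : Q → Subgroup M) (l : ∀ q, H q →* ℂˣ),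
      (∀ q, classInner (fun x : H q => φ q x) (fun x => (l q x : ℂ)) ≠ 0) →
      classInner (fun x : ∀ q, H q => χ (bas fun q => x q)) (fun x => ∏ q, (l q (x q) : ℂ)) ≠ 0 :=
    fun H l h => CA.Cons.inner_comp_ne_zero
      (Pi.monoidHom fun q => (H q).subtype.comp (Pi.evalMonoidHom (fun q => H q) q))
      (char_comp (char_of_irr hχ) bas) (irr_pi hφ) hi'
      (char_pi fun q => char_of_irr (irr_of_unitsHom (l q))) (by
        have := inner_pi (fun q (x : H q) => φ q x) (fun q x => (l q x : ℂ))
        exact this.trans_ne (Finset.prod_ne_zero_iff.2 fun q _ => h q))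
  by_cases hT : inertia θ = ⊤
  · have hφe : ∀ q, φ q = φ 1 := by
      intro q
      have h1 : (fun x : Q → M => ∏ i, φ (q * i) (x i)) = fun x => ∏ i, φ i (x i) := by
        funext x
        have h2 := congrFun (inertia_eq_top_iff.1 hT (inl q)) (basEquiv x)
        have h3 := congrFun e x
        have h4 := congrFun e fun i => x (q⁻¹ * i)
        simp only [MulEquiv.coe_toMonoidHom] at h3 h4
        rw [← h3, ← h2, Fintype.prod_equiv (Equiv.mulLeft q) (fun i => φ (q * i) (x i))
          (fun i => φ i (x (q⁻¹ * i))) (fun i => by simp), ← h4, cj_apply]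
        congr 1
        apply Subtype.ext
        ext <;> simp [basEquiv, bas]
      simpa using eq_of_pi (fun i => hφ (q * i)) hφ h1 1
    obtain ⟨H, l, hH, hl⟩ := (hM _ (hφ 1)).out (hφ 1)
    haveI : Fintype (H ≀ᵣ Q) := Fintype.ofFinite _
    let L : H ≀ᵣ Q →* ℂˣ := MonoidHom.mk' (fun w => ∏ q, l (w.left q)) fun a b => by
      simp only [mul_left, Pi.mul_apply, map_mul, Finset.prod_mul_distrib]
      congr 1
      exact Fintype.prod_equiv (Equiv.mulLeft a.right⁻¹) _ _ fun i => by simp
    set C := (rightHom : H ≀ᵣ Q →* Q).ker with hC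
    have hα := char_comp (char_of_irr hχ) (wmap (Q := Q) H.subtype)
    have h1 : classInner (fun n : C => χ (wmap H.subtype n.1)) (fun n => (L n : ℂ)) ≠ 0 := by
      rw [← CChar.CharFun.inner_comp_mulEquiv basEquiv]
      have := key (fun _ => H) (fun _ => l) fun q => by rw [hφe q]; exact hl
      simpa [L, basEquiv, bas, wmap] using this
    rw [← inner_ind_right C _ (char_classFun hα)] at h1
    obtain ⟨μ, hμ, h2, h3⟩ := CA.Cons.exists_common hα h1
    rw [inner_ind_left _ _ (irr_classFun hμ)] at h3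
    haveI : Fact (Nat.card Q).Prime := ⟨hQ⟩
    haveI : IsCyclic Q := isCyclic_of_prime_card rfl
    obtain ⟨ν, -, hν⟩ := exists_linear_of_commutator_le (N := C) (by
      rw [_root_.commutator_def, commutator_le]
      intro a _ b _
      rw [hC, MonoidHom.mem_ker, map_commutatorElement, commutatorElement_eq_one_iff_mul_comm]
      exact IsCyclic.commutative.is_comm.comm _ _) (irr_of_unitsHom L) hμ h3
    refine mon_of hχ _ (wmap_inj H.subtype_injective) (ν * L) (by simpa [hν] using h2) ?_
    rw [hd, hT, index_top, Finset.prod_congr rfl fun q _ => by rw [hφe q, hH], Finset.prod_const,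
      RegularWreathProduct.card, RegularWreathProduct.card, ← H.index_mul_card, mul_pow,
      Finset.card_univ, ← Nat.card_eq_fintype_card]
    calc _ = 1 * (H.index ^ Nat.card Q * Nat.card H ^ Nat.card Q * Nat.card Q) := by ring
      _ ≤ m * (H.index ^ Nat.card Q * Nat.card H ^ Nat.card Q * Nat.card Q) :=
        Nat.mul_le_mul_right _ hm0
      _ = _ := by ring
  · choose H l hH hl using fun q => (hM _ (hφ q)).out (hφ q)
    have hBi : B.index = Nat.card Q := by
      rw [hB, index_ker, MonoidHom.range_eq_top.2 (hsurj M), card_top]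
    have hTi : (inertia θ).index = Nat.card Q :=
      ((Nat.dvd_prime hQ).1 (hBi ▸ index_dvd_of_le (le_inertia (irr_classFun hθ)))).resolve_left
        fun h => hT (index_eq_one.1 h)
    refine mon_of hχ (bas.comp (Pi.monoidHom fun q => (H q).subtype.comp
      (Pi.evalMonoidHom (fun q => H q) q))) (fun a b h => funext fun q =>
        Subtype.ext (congrFun (congrArg left h) q))
      (∏ q, (l q).comp (Pi.evalMonoidHom (fun q => H q) q)) ?_ ?_
    · have := key H l fun q => hl q
      convert this using 2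
      · rfl
      · funext k; simp
    · rw [hd, hTi, Nat.card_pi, RegularWreathProduct.card, mul_assoc, ← Finset.prod_mul_distrib,
        Finset.prod_congr rfl fun q _ => by rw [hH q, index_mul_card], Finset.prod_const,
        Finset.card_univ, ← Nat.card_eq_fintype_card]
      calc _ = 1 * (Nat.card Q * Nat.card M ^ Nat.card Q) := by ring
        _ ≤ m * (Nat.card Q * Nat.card M ^ Nat.card Q) := Nat.mul_le_mul_right _ hm0
        _ = _ := by ring

end wr

end CA.H10Pi
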