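import Cfsg.Agent.Lib.Char.H10FS
import Cfsg.Agent.Lib.Solv.FpfRed

/-!
# Groups whose real irreducible characters have degree prime to `p`
-/

set_option autoImplicit false
set_option linter.unusedSectionVars false
set_option linter.unusedVariables false

universe u

namespace CA.H10RP
open Cfsg CA.H10FS CA.MatRep CA.Clif CChar.CharFun CChar.CharOrth CChar.CharInt CChar.CharKer
  Subgroup
open CA.Ind hiding inner_def classFun_mul
open scoped ComplexConjugate commutatorElement IsMulCommutative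

variable {G : Type u} [Group G] [Finite G] {p : ℕ}

/-- All real irreducible characters have degree prime to `p`. -/
def RP (p : ℕ) (G : Type u) [Group G] [Finite G] : Prop :=
  ∀ χ : IrrCharacter G, (∀ g : G, ((χ : G → ℂ) g).im = 0) → ¬ p ∣ charDegree (χ : G → ℂ)

theorem RP.quot (h : RP p G) (N : Subgroup G) [N.Normal] : RP p (G ⧸ N) := fun χ hχ => by
  have := h ⟨fun g => χ.1 (g : G ⧸ N), irr_inflate χ.2⟩ fun g => hχ _
  exact this

/-- The subgroup generated by the `2`-elements. -/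
abbrev K2 (G : Type u) [Group G] : Subgroup G := closure {g : G | ∃ k : ℕ, orderOf g = 2 ^ k}

theorem map_K2 (N : Subgroup G) [N.Normal] : (K2 G).map (QuotientGroup.mk' N) ≤ K2 (G ⧸ N) := by
  rw [MonoidHom.map_closure]
  refine closure_mono ?_
  rintro _ ⟨g, ⟨k, hk⟩, rfl⟩
  have := orderOf_map_dvd (QuotientGroup.mk' N) g
  rw [hk] at this
  obtain ⟨j, -, hj⟩ := (Nat.dvd_prime_pow Nat.prime_two).1 this
  exact ⟨j, hj⟩

theorem exists_real_over {N H : Subgroup G} [N.Normal] [Fintype N] (hd : H ⊓ N = ⊥) {c : ℕ}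
    (hc : H.index = c * Nat.card N) (ho : Odd c) (l : N →* ℂˣ) {x : G}
    (hx : ∀ n : N, l ⟨x * n * x⁻¹, ‹N.Normal›.conj_mem n n.2 x⟩ = (l n)⁻¹) :
    ∃ χ : IrrCharacter G, (∀ g, (χ.1 g).im = 0) ∧
      classInner (fun n : N => χ.1 n) (fun n => (l n : ℂ)) ≠ 0 := by
  classical
  haveI := Fintype.ofFinite G
  haveI := Fintype.ofFinite H
  have hl := irr_of_unitsHom l
  have e : classInner (fun n : N => indFun H (fun _ => (1 : ℂ)) n) (fun n => (l n : ℂ)) = c := by
    rw [CA.Ind.inner_def, Finset.sum_eq_single 1]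
    · rw [OneMemClass.coe_one, indFun_one, hc]
      have := CA.Ind.card_ne_zero N
      simp only [map_one, Units.val_one]; push_cast; field_simp
    · intro n _ hn
      rw [indFun_eq_zero_of_not_conj, zero_mul]
      intro y hy
      have : y * n * y⁻¹ ∈ H ⊓ N := ⟨hy, ‹N.Normal›.conj_mem n n.2 y⟩
      rw [hd, mem_bot] at this
      exact hn (Subtype.ext (by simpa using this))
    · simp
  obtain ⟨χ, e', a, b, d, f⟩ := (rr_one.ind (H := H)).exists_over
    (isCharacter_indFun H char_one) hl (x := x) (by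
      funext n
      rw [cj_apply, hx, ← map_inv]
      exact char_apply_inv (char_of_irr hl) n) e ho
  refine ⟨⟨χ, a⟩, real_of_fs a (by rw [b]; exact one_ne_zero), ?_⟩
  rw [show classInner (fun n : N => χ n) (fun n => (l n : ℂ)) = e' from f]
  exact_mod_cast d.pos.ne'

theorem exists_inverted {N : Subgroup G} [hN : N.Normal] [IsMulCommutative N] {x : G} {k : ℕ}
    (hx : x ^ 2 ^ k = 1) (hc : x ∉ centralizer (N : Set G)) :
    ∃ (l : N →* ℂˣ) (y : G), l ≠ 1 ∧ ∀ n : N, l ⟨y * n * y⁻¹, hN.conj_mem n n.2 y⟩ = (l n)⁻¹ := by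
  have : ∃ y : G, y ∉ centralizer (N : Set G) ∧ y * y ∈ centralizer (N : Set G) := by
    by_contra h
    push Not at h
    have : ∀ j : ℕ, x ^ 2 ^ j ∉ centralizer (N : Set G) := fun j => by
      induction j with
      | zero => simpa using hc
      | succ j ih => rw [pow_succ, pow_mul, sq]; exact h _ ih
    exact this k (hx ▸ one_mem _)
  obtain ⟨y, h1, h2⟩ := this
  rw [mem_centralizer_iff] at h1 h2
  push Not at h1
  obtain ⟨n, hn, h1⟩ := h1
  let σ : N →* N := (MulAut.conjNormal (H := N) y).toMonoidHom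
  have hm : (⟨n, hn⟩ : N) * (σ ⟨n, hn⟩)⁻¹ ≠ 1 := by
    intro h
    have := congrArg Subtype.val (mul_inv_eq_one.1 h)
    change n = y * n * y⁻¹ at this
    exact h1 (by conv_lhs => rw [this]
                 group)
  obtain ⟨μ, hμ⟩ := CommGroup.exists_apply_ne_one_of_hasEnoughRootsOfUnity N ℂ hm
  refine ⟨μ * (μ.comp σ)⁻¹, y, fun h => hμ ?_, fun m => ?_⟩
  · have := DFunLike.congr_fun h ⟨n, hn⟩
    simpa using this
  · have e : σ (σ m) = m := Subtype.ext (by
      change y * (y * m * y⁻¹) * y⁻¹ = m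
      have := h2 m m.2
      calc y * (y * m * y⁻¹) * y⁻¹ = (y * y) * m * (y * y)⁻¹ := by group
        _ = m := by rw [← this]; group)
    change μ (σ m) * (μ (σ (σ m)))⁻¹ = (μ m * (μ (σ m))⁻¹)⁻¹
    rw [e, mul_inv_rev, inv_inv]

theorem index_dvd {N : Subgroup G} [N.Normal] [Fintype N] (χ : IrrCharacter G) {θ : N → ℂ}
    (hθ : IsIrrCharacter N θ) (h : classInner (fun n : N => χ.1 n) θ ≠ 0) :
    (inertia θ).index ∣ charDegree χ.1 := by
  haveI := Fintype.ofFinite G
  have e := apply_one_eq χ.2 hθ h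
  obtain ⟨m, hm⟩ := inner_char_char (char_restrict (char_of_irr χ.2) N) (char_of_irr hθ)
  rw [hm, irr_apply_one_eq χ.2, irr_apply_one_eq hθ] at e
  have : charDegree χ.1 = m * (inertia θ).index * charDegree θ := by exact_mod_cast e
  rw [this]; exact Dvd.dvd.mul_right (Dvd.intro_left _ rfl) _

theorem exists_lin [hp : Fact p.Prime] (hG : IsPGroup p G) [Fintype G] {χ : G → ℂ}
    (hχ : IsCharacter G χ) (hd : ¬ p ∣ charDegree χ) :
    ∃ θ, IsIrrCharacter G θ ∧ θ 1 = 1 ∧ classInner χ θ ≠ 0 := by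
  obtain ⟨m, h1, h2⟩ := char_exists_nat_coeffs hχ
  by_contra h
  push Not at h
  apply hd
  have e : χ 1 = ((∑ θ : IrrCharacter G, m θ * charDegree θ.1 : ℕ) : ℂ) := by
    conv_lhs => rw [h2]
    simp only [Finset.sum_apply, Pi.smul_apply, smul_eq_mul, Nat.cast_sum, Nat.cast_mul]
    exact Finset.sum_congr rfl fun θ _ => by rw [irr_apply_one_eq θ.2]
  rw [charDegree_eq e]
  refine Finset.dvd_sum fun θ _ => ?_
  by_cases h0 : m θ = 0
  · simp [h0]
  obtain ⟨n, hn⟩ := IsPGroup.iff_card.1 hG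
  have := charDegree_dvd_card θ.2
  rw [hn] at this
  obtain ⟨j, -, hj⟩ := (Nat.dvd_prime_pow hp.out).1 this
  rcases j with _ | j
  · exact absurd (h θ.1 θ.2 (by rw [irr_apply_one_eq θ.2, hj]; simp)) (by
      rw [h1]; exact_mod_cast h0)
  · rw [hj]; exact Dvd.dvd.mul_left (dvd_pow_self _ (by omega)) _

theorem relIndex_dvd_index (I M : Subgroup G) [M.Normal] : I.relIndex M ∣ I.index := by
  have a := relIndex_mul_index (inf_le_right : I ⊓ M ≤ M)
  have b := relIndex_mul_index (inf_le_left : I ⊓ M ≤ I)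
  rw [inf_relIndex_right] at a
  rw [inf_relIndex_left, ← a] at b
  obtain ⟨c, hc⟩ := relIndex_dvd_index_of_normal M I
  have h0 : M.relIndex I ≠ 0 := index_ne_zero_of_finite
  refine ⟨c, Nat.eq_of_mul_eq_mul_left (Nat.pos_of_ne_zero h0) ?_⟩
  rw [b, hc]; ring

theorem eq_one_of_dvd [hp : Fact p.Prime] {H : Type*} [Group H] [Finite H] (hH : IsPGroup p H)
    {a : ℕ} (h : a ∣ Nat.card H) (h' : ¬ p ∣ a) : a = 1 := by
  obtain ⟨n, hn⟩ := IsPGroup.iff_card.1 hH
  rw [hn] at h
  obtain ⟨j, -, rfl⟩ := (Nat.dvd_prime_pow hp.out).1 h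
  rcases j with _ | j
  · rfl
  · exact absurd (dvd_pow_self _ (by omega)) h'

theorem eq_one_of_pow {x : G} {a b : ℕ} (h : a.Coprime b) (ha : x ^ a = 1) (hb : x ^ b = 1) :
    x = 1 := by
  rw [← orderOf_eq_one_iff]
  exact Nat.eq_one_of_dvd_coprimes h (orderOf_dvd_of_pow_eq_one ha)
    (orderOf_dvd_of_pow_eq_one hb)

theorem normal_closure_pow (p : ℕ) : (closure {g : G | ∃ k : ℕ, orderOf g = p ^ k}).Normal := by
  refine ⟨fun x hx g => ?_⟩
  have : (closure {g : G | ∃ k : ℕ, orderOf g = p ^ k}).map (MulAut.conj g).toMonoidHom ≤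
      closure {g : G | ∃ k : ℕ, orderOf g = p ^ k} := by
    rw [MonoidHom.map_closure]
    refine closure_mono ?_
    rintro _ ⟨y, ⟨k, hk⟩, rfl⟩
    exact ⟨k, by rw [← hk]; exact (MulAut.conj g).orderOf_eq y⟩
  exact this ⟨x, hx, rfl⟩

theorem normal_aux [hp : Fact p.Prime] (n : ℕ) : ∀ (G : Type u) [Group G] [Finite G],
    Nat.card G = n → RP p G → ∀ (U Q L : Subgroup G), U.Normal →
    (∀ u ∈ U, ∃ k : ℕ, u ^ p ^ k ∈ K2 G) → Q ≤ U → IsPGroup p Q → ¬ p ∣ Q.relIndex U →
    L.Normal → Group.IsSolvable L → Q ≤ L → Q.Normal := by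
  induction n using Nat.strong_induction_on with
  | _ n ih =>
  intro G _ _ hn hR U Q L hU hK hQU hQ hi hL hs hQL
  classical
  by_cases hb : L ⊓ U = ⊥
  · have : Q = ⊥ := eq_bot_iff.2 (hb ▸ le_inf hQL hQU)
    rw [this]; infer_instance
  obtain ⟨N, q, hN, hNL, hN0, hab, hq, hNq, hmin⟩ :=
    CA.FpfRed.exists_minimal_normal (CA.Core.isSolvable_of_le inf_le_left hs) hb
  have hNU : N ≤ U := hNL.trans inf_le_right
  let f := QuotientGroup.mk' N
  have hf : Function.Surjective f := QuotientGroup.mk'_surjective N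
  have hM : (Q ⊔ N).Normal := by
    have := ih (Nat.card (G ⧸ N)) (by
      rw [← hn, card_eq_card_quotient_mul_card_subgroup N]
      exact lt_mul_of_one_lt_right Nat.card_pos ((one_lt_card_iff_ne_bot N).2 hN0))
      (G ⧸ N) rfl (hR.quot N) (U.map f) (Q.map f) (L.map f) (hU.map f hf) (by
        rintro _ ⟨u, hu, rfl⟩
        obtain ⟨k, hk⟩ := hK u hu
        exact ⟨k, map_K2 N ⟨_, hk, map_pow _ _ _⟩⟩) (map_mono hQU) (hQ.map f) (by
        rw [relIndex_map_map, QuotientGroup.ker_mk', sup_of_le_left hNU]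
        exact fun h => hi (h.trans (relIndex_dvd_of_le_left U le_sup_left))) (hL.map f hf)
        (solvable_of_surjective (f.subgroupMap_surjective L)) (map_mono hQL)
    have := this.comap f
    rwa [comap_map_eq, QuotientGroup.ker_mk'] at this
  have hiM : ¬ p ∣ Q.relIndex (Q ⊔ N) := fun h => hi (h.trans
    ⟨_, (relIndex_mul_relIndex Q (Q ⊔ N) U le_sup_left (sup_le hQU hNU)).symm⟩)
  by_cases hpq : q = p
  · subst hpq
    have hNp : IsPGroup q N := fun x => ⟨1, Subtype.ext (by simpa using hNq x x.2)⟩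
    have := eq_one_of_dvd (hQ.to_sup_of_normal_right hNp) (relIndex_dvd_card _ _) hiM
    rw [relIndex_eq_one] at this
    rwa [le_antisymm this le_sup_left] at hM
  have hco : ∀ k, q.Coprime (p ^ k) := fun k =>
    ((Nat.coprime_primes hq hp.out).2 hpq).pow_right k
  obtain ⟨H, hH⟩ : ∃ H, H = normalizer (Q : Set G) := ⟨_, rfl⟩
  have hsup : H ⊔ N = ⊤ := by
    have : normalizer (((Q.subgroupOf (Q ⊔ N)).map (Q ⊔ N).subtype : Subgroup G) : Set G) ⊔
        (Q ⊔ N) = ⊤ := Sylow.normalizer_sup_eq_top ((hQ.comap_subtype (K := Q ⊔ N)).toSylow hiM)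
    rw [subgroupOf_map_subtype, inf_of_le_left le_sup_left,
      ← hH, ← sup_assoc, sup_of_le_left (hH ▸ le_normalizer : Q ≤ H)] at this
    exact this
  by_contra hQn
  have hNH : ¬ N ≤ H := fun h => hQn (by
    rw [← normalizer_eq_top_iff, ← hH, ← hsup, sup_of_le_left h])
  have hdec : ∀ g : G, ∃ h ∈ H, ∃ m ∈ N, h * m = g := fun g => by
    have : g ∈ ((H ⊔ N : Subgroup G) : Set G) := hsup ▸ mem_top g
    rw [mul_normal] at this
    exact this
  have hd : H ⊓ N = ⊥ := by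
    refine (hmin _ ⟨fun x hx g => ?_⟩ inf_le_right).resolve_right
      fun h => hNH (h ▸ inf_le_left)
    obtain ⟨h, hh, m, hm, rfl⟩ := hdec g
    have : h * m * x * (h * m)⁻¹ = h * x * h⁻¹ := by
      rw [mul_assoc h, mul_comm_of_mem_isMulCommutative N hm hx.2]; group
    rw [this]
    exact ⟨H.mul_mem (H.mul_mem hh hx.1) (H.inv_mem hh), hN.conj_mem _ hx.2 _⟩
  haveI := Fintype.ofFinite N
  haveI := Fintype.ofFinite G
  have key : ∀ (l : N →* ℂˣ) (y : G), l ≠ 1 →
      ¬ ∀ n : N, l ⟨y * n * y⁻¹, hN.conj_mem n n.2 y⟩ = (l n)⁻¹ := by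
    intro l y hl hy
    have hidx : H.index = 1 * Nat.card N := by
      rw [one_mul]
      refine (IsComplement'.index_eq_card (isComplement'_of_disjoint_and_mul_eq_univ
        (disjoint_iff.2 (by rw [inf_comm, hd])) ?_))
      rw [← normal_mul, sup_comm, hsup, coe_top]
    obtain ⟨χ, h1, h2⟩ := exists_real_over hd hidx odd_one l hy
    have hl' := irr_of_unitsHom l
    have h3 := index_dvd χ hl' h2
    have h4 : Q ⊔ N ≤ inertia (fun n => (l n : ℂ)) := by
      rw [← relIndex_eq_one]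
      refine eq_one_of_dvd hQ ?_ fun h => hR χ h1 ((h.trans (relIndex_dvd_index _ _)).trans h3)
      refine (relIndex_dvd_of_le_left _ (le_inertia (irr_classFun hl'))).trans ?_
      rw [relIndex_sup_right]; exact relIndex_dvd_card _ _
    rcases hmin ⁅N, Q ⊔ N⁆ inferInstance (commutator_le_left _ _) with h5 | h5
    · apply hNH
      rw [commutator_eq_bot_iff_le_centralizer] at h5
      rw [hH]
      exact h5.trans ((centralizer_le (SetLike.coe_subset_coe.2 le_sup_left)).trans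
        (centralizer_le_normalizer _))
    · apply hl
      have : ⁅N, Q ⊔ N⁆ ≤ l.ker.map N.subtype := by
        rw [commutator_le]
        intro a ha b hb
        refine ⟨⟨a, ha⟩ * (⟨b * a * b⁻¹, hN.conj_mem a ha b⟩)⁻¹, ?_, ?_⟩
        · have := mem_inertia'.1 (h4 hb) ⟨a, ha⟩
          rw [SetLike.mem_coe, MonoidHom.mem_ker, map_mul, map_inv, Units.ext this, mul_inv_cancel]
        · simp [commutatorElement_def, mul_assoc]
      ext1 m
      obtain ⟨m', h6, h7⟩ := this (h5.ge m.2)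
      rw [← (Subtype.ext h7 : m' = m)]; exact h6
  by_cases hq2 : q = 2
  · subst hq2
    obtain ⟨⟨m, hm⟩, hm1⟩ := ne_bot_iff_exists_ne_one.1 hN0
    obtain ⟨l, hl⟩ := CommGroup.exists_apply_ne_one_of_hasEnoughRootsOfUnity N ℂ hm1
    refine key l 1 (fun h => hl (by rw [h]; rfl)) fun n => ?_
    rw [eq_inv_iff_mul_eq_one, ← map_mul, ← map_one l]
    congr 1
    exact Subtype.ext (by simpa [sq] using hNq n n.2)
  have hKH : K2 G ≤ H := by
    rw [closure_le]
    rintro x ⟨k, hk⟩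
    have hx : x ^ 2 ^ k = 1 := hk ▸ pow_orderOf_eq_one x
    have hc : x ∈ centralizer (N : Set G) := by
      by_contra hc
      obtain ⟨l, y, h1, h2⟩ := exists_inverted hx hc
      exact key l y h1 h2
    obtain ⟨h, hh, m, hm, e⟩ := hdec x
    have e' : h = x * m⁻¹ := by rw [← e]; group
    have hcm : Commute x m⁻¹ := (show Commute x m from (hc m hm).symm).inv_right
    have h1 : m⁻¹ ^ 2 ^ k ∈ H ⊓ N := ⟨by
      have := pow_mem hh (2 ^ k)
      rwa [e', hcm.mul_pow, hx, one_mul] at this, pow_mem (inv_mem hm) _⟩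
    rw [hd, mem_bot] at h1
    have := eq_one_of_pow (((Nat.coprime_primes hq Nat.prime_two).2 hq2).pow_right k)
      (hNq _ (inv_mem hm)) h1
    rw [this, mul_one] at e'
    exact e' ▸ hh
  refine hN0 (eq_bot_iff.2 fun m hm => ?_)
  obtain ⟨k, hk⟩ := hK m (hNU hm)
  have h1 : m ^ p ^ k ∈ H ⊓ N := ⟨hKH hk, pow_mem hm _⟩
  rw [hd, mem_bot] at h1
  exact eq_one_of_pow (hco k) (hNq m hm) h1

theorem sylow_normal [hp : Fact p.Prime]
    (hs : Group.IsSolvable (closure {g : G | ∃ k : ℕ, orderOf g = p ^ k})) (hR : RP p G)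
    {U : Subgroup G} (hU : U.Normal) (hK : ∀ u ∈ U, ∃ k : ℕ, u ^ p ^ k ∈ K2 G) (Q : Sylow p U) :
    ((Q : Subgroup U).map U.subtype).Normal := by
  refine normal_aux _ G rfl hR U _ _ hU hK (map_subtype_le _) (Q.isPGroup'.map _) ?_ ?_ hs ?_
  · rw [relIndex, subgroupOf, comap_map_eq_self_of_injective U.subtype_injective]
    exact Q.not_dvd_index
  · exact normal_closure_pow p
  · rintro _ ⟨x, hx, rfl⟩
    obtain ⟨k, hk⟩ := IsPGroup.iff_orderOf.1 (Q.isPGroup'.map U.subtype) ⟨_, x, hx, rfl⟩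
    exact subset_closure ⟨k, by rw [← hk, ← orderOf_coe]⟩

theorem cent_ab [hp : Fact p.Prime] (hp2 : p ≠ 2) (hR : RP p G) {P N : Subgroup G}
    (hP : IsPGroup p P) [hN : N.Normal] [IsMulCommutative N] (hNP : N ≤ ⁅P, P⁆) {x : G} {k : ℕ}
    (hx : x ^ 2 ^ k = 1) : x ∈ centralizer (N : Set G) := by
  classical
  haveI := Fintype.ofFinite G
  haveI := Fintype.ofFinite N
  haveI := Fintype.ofFinite P
  haveI : Fact (Nat.Prime 2) := ⟨Nat.prime_two⟩
  by_contra hc
  obtain ⟨l, y, h1, h2⟩ := exists_inverted hx hc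
  have hNP' : N ≤ P := hNP.trans (commutator_le_self P)
  obtain ⟨S⟩ : Nonempty (Sylow 2 G) := inferInstance
  have hd : (S : Subgroup G) ⊓ N = ⊥ :=
    disjoint_iff.1 (IsPGroup.disjoint_of_ne 2 p hp2.symm _ _ S.isPGroup' (hP.to_le hNP'))
  obtain ⟨c, hc⟩ : Nat.card N ∣ (S : Subgroup G).index := by
    refine (IsPGroup.coprime_card_of_ne p 2 hp2 _ _ (hP.to_le hNP')
      S.isPGroup').dvd_of_dvd_mul_left ?_
    rw [card_mul_index]; exact card_subgroup_dvd_card N
  have ho : Odd c := Nat.not_even_iff_odd.1 fun h =>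
    S.not_dvd_index (hc ▸ Dvd.dvd.mul_left h.two_dvd _)
  obtain ⟨χ, h3, h4⟩ := exists_real_over hd (hc.trans (mul_comm _ _)) ho l h2
  obtain ⟨θ, h5, h6, h7⟩ := exists_lin hP (char_restrict (char_of_irr χ.2) P) (hR χ h3)
  have h8 : (fun n : N => θ (inclusion hNP' n)) = fun _ => 1 := by
    funext n
    have : inclusion hNP' n ∈ charKer θ := by
      refine commutator_le_charKer (char_of_irr h5) h6 ?_
      have := hNP n.2
      rw [← map_subtype_commutator] at this
      obtain ⟨z, hz, e⟩ := this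
      rwa [show inclusion hNP' n = z from Subtype.ext e.symm]
    rw [(mem_charKer (char_of_irr h5)).1 this, h6]
  have h9 := CA.Cons.inner_comp_ne_zero (inclusion hNP') (char_restrict (char_of_irr χ.2) P) h5 h7
    char_one (by rw [h8, CA.Cons.ci_one_one]; exact one_ne_zero)
  obtain ⟨g, hg⟩ := mem_conjs.1 (mem_conjs_of_common χ.2 irr_one (irr_of_unitsHom l) h9 h4)
  exact h1 (MonoidHom.ext fun n => Units.ext (congrFun hg n))

theorem cent_aux [hp : Fact p.Prime] (hp2 : p ≠ 2) (n : ℕ) : ∀ (G : Type u) [Group G] [Finite G],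
    Nat.card G = n → RP p G → ∀ (P M : Subgroup G), IsPGroup p P → M.Normal → M ≤ ⁅P, P⁆ →
    ∀ (x : G) (k : ℕ), x ^ 2 ^ k = 1 → x ∈ centralizer (M : Set G) := by
  induction n using Nat.strong_induction_on with
  | _ n ih =>
  intro G _ _ hn hR P M hP hM hMP x k hx
  by_cases hb : M = ⊥
  · intro m hm
    rw [hb, SetLike.mem_coe, mem_bot] at hm
    simp [hm]
  have hMp : IsPGroup p M := hP.to_le (hMP.trans (commutator_le_self P))
  haveI := hMp.isNilpotent
  obtain ⟨N, q, hN, hNM, hN0, hab, -⟩ := CA.FpfRed.exists_minimal_normal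
    (inferInstance : Group.IsSolvable M) hb
  let f := QuotientGroup.mk' N
  have hf : Function.Surjective f := QuotientGroup.mk'_surjective N
  have h1 := ih (Nat.card (G ⧸ N)) (by
      rw [← hn, card_eq_card_quotient_mul_card_subgroup N]
      exact lt_mul_of_one_lt_right Nat.card_pos ((one_lt_card_iff_ne_bot N).2 hN0))
      (G ⧸ N) rfl (hR.quot N) (P.map f) (M.map f) (hP.map f) (hM.map f hf)
      (by rw [← map_commutator]; exact map_mono hMP) (f x) k (by rw [← map_pow, hx, map_one])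
  have h2 := cent_ab hp2 hR hP (hNM.trans hMP) hx
  intro m hm
  have h3 : x * m * x⁻¹ * m⁻¹ ∈ N := by
    rw [← QuotientGroup.ker_mk' N, MonoidHom.mem_ker]
    have := h1 (f m) ⟨m, hm, rfl⟩
    change f _ = 1
    simp only [map_mul, map_inv]
    rw [← this]; group
  obtain ⟨c, hc⟩ : ∃ c, c = x * m * x⁻¹ * m⁻¹ := ⟨_, rfl⟩
  rw [← hc] at h3
  have h4 : ∀ j : ℕ, x ^ j * m = c ^ j * m * x ^ j := fun j => by
    induction j with
    | zero => simp
    | succ j ih =>
      have e : x * c ^ j = c ^ j * x := (h2 _ (pow_mem h3 j)).symm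
      calc x ^ (j + 1) * m = x * (x ^ j * m) := by rw [pow_succ', mul_assoc]
        _ = (x * c ^ j) * m * x ^ j := by rw [ih]; group
        _ = c ^ j * (x * m * x⁻¹ * m⁻¹) * m * x ^ (j + 1) := by rw [e]; group
        _ = _ := by rw [← hc, ← pow_succ]
  have h5 := h4 (2 ^ k)
  rw [hx, one_mul, mul_one, eq_comm, mul_eq_right] at h5
  obtain ⟨j, hj⟩ := hMp ⟨c, hNM h3⟩
  have h6 : c = 1 := eq_one_of_pow (((Nat.coprime_primes hp.out Nat.prime_two).2 hp2).pow j k)
    (congrArg Subtype.val hj) h5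
  rw [h6, eq_comm, mul_inv_eq_one, mul_inv_eq_iff_eq_mul] at hc
  exact hc.symm

theorem K2_le_cent [hp : Fact p.Prime] (hp2 : p ≠ 2) (hR : RP p G) {P M : Subgroup G}
    (hP : IsPGroup p P) (hM : M.Normal) (hMP : M ≤ ⁅P, P⁆) : K2 G ≤ centralizer (M : Set G) := by
  rw [closure_le]
  rintro x ⟨k, hk⟩
  exact cent_aux hp2 _ G rfl hR P M hP hM hMP x k (hk ▸ pow_orderOf_eq_one x)

end CA.H10RP
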