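import Cfsg.Agent.Lib.Char.H10MK2

/-!
# Real characters over sections of odd order; real characters of odd degree of solvable groups
-/

set_option autoImplicit false
set_option linter.unusedSectionVars false

namespace CA.H10Real
open Cfsg CA.PF CA.OQuo CA.H12Gl CA.H12Gl2 CA.H12Gl4 CA.H12Deg CA.H10TI CA.H10Gal CA.H10OW CA.H10MK
  CA.H10MK2 CA.H12PSolv Subgroup Function
open CA.BG hiding cj cj_one cj_mul cj_inv_cj cj_cj_inv mem_cent1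
open scoped ComplexConjugate commutatorElement

variable {Γ : Type*} [Group Γ] [Fintype Γ] {G H K L M N U A P S Z : Subgroup Γ}
  {χ β θ φ ψ η ξ ν : Γ → ℂ}

theorem exists_fixed {X : Finset (Γ → ℂ)} (hX : ¬ 2 ∣ X.card) (h : ∀ φ ∈ X, star φ ∈ X) :
    ∃ φ ∈ X, star φ = φ := by
  by_contra! h1
  refine hX ((ZMod.natCast_eq_zero_iff _ _).1 ?_)
  rw [Finset.card_eq_sum_ones, Nat.cast_sum]
  exact Finset.sum_involution (fun φ _ => star φ) (fun _ _ => by decide) (fun φ hφ _ => h1 φ hφ) h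
    fun _ _ => star_star _

theorem dot_star_ne (h : dot N χ θ ≠ 0) : dot N (star χ) (star θ) ≠ 0 := by
  rwa [dot_star, map_ne_zero]

theorem real_under (hN : Nrm N K) (hχ : χ ∈ irr K) (hr : star χ = χ) (hθ : θ ∈ irr N)
    (hd : dot N χ θ ≠ 0) (ho : ¬ 2 ∣ (stab θ).relIndex K) : star θ = θ := by
  obtain ⟨φ, h1, h2⟩ := exists_fixed (card_cfclass K θ ▸ ho) fun φ h =>
    have h1 := cfclass_irr hN hθ h
    (clifford_mem hN hχ hθ hd (irr_star h1)).1 (hr ▸ dot_star_ne ((clifford_mem hN hχ hθ hd h1).2 h))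
  obtain ⟨g, -, rfl⟩ := mem_cfclass.1 (cfclass_symm h1)
  rw [← cj_star, h2]

theorem over_of_under (hL : Nrm L U) (hLK : L ≤ K) (hK : K ≤ U) (hν : ν ∈ irr L) (hs : U ≤ stab ν)
    (hχ : χ ∈ irr U) (hd : dot L χ ν ≠ 0) (hθ : θ ∈ irr K) (h : dot K χ θ ≠ 0) :
    dot L θ ν ≠ 0 := by
  obtain ⟨μ, h7, h8⟩ := exists_irr_under hLK hθ
  have h9 := mem_cfclass_of_common hL hχ hν hd h7
    (dot_ne_trans hLK hK (irr_char hχ) hθ (irr_char h7) h h8)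
  rw [cfclass_of_stab hs, Finset.mem_singleton] at h9
  exact h9 ▸ h8

theorem exists_real_inv (hK : Group.IsSolvable K) (hN : Nrm N K) (ho : ¬ 2 ∣ N.relIndex K)
    (hθ : θ ∈ irr N) (hr : star θ = θ) (hs : K ≤ stab θ) : ∃ χ ∈ irr K, star χ = χ ∧
      Res (N : Set Γ) χ = θ ∧ ∀ ψ ∈ irr K, star ψ = ψ → dot N ψ θ ≠ 0 → ψ = χ := by
  induction hn : ♯K using Nat.strong_induction_on generalizing K with | _ n ih => ?_
  by_cases h0 : K ≤ N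
  · obtain rfl := le_antisymm h0 hN.le
    exact ⟨θ, hθ, hr, Res_eq_self (irr_on hθ), fun ψ h _ h' => irr_eq_of_dot_ne h hθ h'⟩
  obtain ⟨M, h1, h2, h3⟩ := exists_maximal_ge (P := fun M => M < K) (H := N ⊔ ⁅K, K⁆)
    (lt_of_le_of_ne (sup_le hN.le (der_le K)) fun h => h0 ((quo_eq_bot_iff
      hN.le_normalizer).1 (of_not_not fun h' => (der_lt_of_solv (isSolvable_mim _ hK) h').ne (by
        rw [← mim_commutator _ hN.le_normalizer hN.le_normalizer,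
          ← quo_self_sup ((der_le K).trans hN.le_normalizer), h]))))
  have hM : Nrm M K := nrm_of_le_normalizer h2.le (norm_of_der_le (le_sup_right.trans h1) h2.le)
  have hNM : N ≤ M := le_sup_left.trans h1
  have h4 := relIndex_mul_relIndex N M K hNM h2.le
  have h5 : ¬ 2 ∣ M.relIndex K := fun h => ho (h4 ▸ h.mul_left _)
  obtain ⟨φ, h6, h7, h8, h9⟩ := ih _ (hn ▸ card_lt_of_lt h2) (solv_of_le hK h2.le)
    (hN.mono hNM h2.le) (fun h => ho (h4 ▸ h.mul_right _)) (h2.le.trans hs) rfl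
  have h10 : K ≤ stab φ := fun g hg => h9 _ (hM.irr_cj hg h6) (by rw [← cj_star, h7])
    (by rw [← mem_stab.1 (hs hg), dot_cj]; exact dot_ne_of_res hθ h8)
  obtain ⟨s, hs1, hs2⟩ := SetLike.exists_of_lt h2
  obtain ⟨η, h11, h12⟩ := ext_cyc (s := s) hM (of_not_not fun h => hs2 (h3 _ (lt_of_le_of_ne
    (sup_le h2.le (zpowers_le.2 hs1)) h) le_sup_left ▸ mem_sup_right (mem_zpowers s))) h6 h10
  obtain ⟨e, h13, -, h14⟩ := exists_ab hM h6 h10 (le_sup_right.trans h1)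
  obtain ⟨χ, h15, h16⟩ := exists_fixed (X := ov (fun _ => True) K M φ)
    (fun h => h5 (h13 ▸ h.mul_left _)) fun χ h =>
      mem_ov.2 ⟨irr_star (mem_ov.1 h).1, h7 ▸ dot_star_ne (mem_ov.1 h).2.1, trivial⟩
  obtain ⟨h17, h18, -⟩ := mem_ov.1 h15
  have h19 : Res (M : Set Γ) χ = φ := (res_eq_iff h2.le h17 h6 h18).2 (by
    rw [h14 χ h17 h18, ← h14 η h11 (dot_ne_of_res h6 h12), ← h12, Res_one])
  refine ⟨χ, h17, h16, by rw [← Res_Res hNM, h19, h8], fun ψ h20 h21 h22 => ?_⟩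
  obtain ⟨ξ, h23, h24⟩ := exists_irr_under h2.le h20
  obtain rfl := h9 ξ h23 (real_under hM h20 h21 h23 h24 fun h => h5 (h.trans
    (relIndex_dvd_of_le_left _ (le_stab (irr_CInv h23)))))
    (over_of_under hN hNM h2.le hθ hs h20 h22 h23 h24)
  obtain ⟨i, h25, rfl⟩ := exists_lin_of_over hM (le_sup_right.trans h1) h17 h20 h6 h18 h24
  rw [star_mul', h16, ← lin_inv] at h21
  have h26 := lin_injective (gall_inj hM (irr_char h17) (h19 ▸ h6) (lin_irr _)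
    (by rwa [lin_inv, cfker_star]) (lin_irr i) h25 h21)
  have h27 : i ^ M.relIndex K = 1 := lin_injective (CF_ext (lin_on _) (lin_on _) fun x hx => by
    rw [lin_pow _ hx, ← lin_apply_pow _ hx, lin_eq_one_of_le h25 (pow_relIndex_mem hM hx), lin_one,
      triv_of_mem hx])
  rw [(pow_eq_one_iff_of_coprime (Nat.prime_two.coprime_iff_not_dvd.2 h5)).1
    ⟨by rw [sq]; exact mul_eq_one_iff_inv_eq.2 h26, h27⟩, lin_one, triv_mul_of_on (irr_on h17)]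

open Classical in
/-- The real irreducible characters of odd degree over `θ`. -/
noncomputable def rv (K N : Subgroup Γ) (θ : Γ → ℂ) : Finset (Γ → ℂ) :=
  (ov (¬ 2 ∣ ·) K N θ).filter fun χ => star χ = χ

theorem mem_rv : χ ∈ rv K N θ ↔
    (χ ∈ irr K ∧ dot N χ θ ≠ 0 ∧ ¬ 2 ∣ charDegree χ) ∧ star χ = χ := by
  classical rw [rv, Finset.mem_filter, mem_ov]

theorem card_rv_stab (hN : Nrm N K) (hθ : θ ∈ irr N) (hr : star θ = θ)
    (ho : ¬ 2 ∣ (stab θ).relIndex K) : (rv K N θ).card = (rv (K ⊓ stab θ) N θ).card := by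
  obtain ⟨h1, h2, h3⟩ := cfInd_sum_Inertia hN hθ
  have h0 : ∀ ψ ∈ irr (K ⊓ stab θ), 2 ∣ charDegree (Ind K (K ⊓ stab θ) ψ) ↔ 2 ∣ charDegree ψ :=
    fun ψ h => by
      rw [deg_Ind inf_le_left (irr_char h), inf_relIndex_left, Nat.prime_two.dvd_mul,
        or_iff_right ho]
  refine (Finset.card_bij (fun ψ _ => Ind K (K ⊓ stab θ) ψ) (fun ψ hψ => ?_) (fun χ h χ' h' e => ?_)
    fun χ hχ => ?_).symm
  · obtain ⟨⟨h4, h5, h6⟩, h7⟩ := mem_rv.1 hψ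
    exact mem_rv.2 ⟨⟨(h1 ψ h4 h5).1, by rwa [(h1 ψ h4 h5).2], by rwa [h0 ψ h4]⟩,
      by rw [star_Ind, h7]⟩
  · exact h2 _ (mem_rv.1 h).1.1 _ (mem_rv.1 h').1.1 (mem_rv.1 h).1.2.1 (mem_rv.1 h').1.2.1 e
  · obtain ⟨⟨h4, h5, h6⟩, h7⟩ := mem_rv.1 hχ
    obtain ⟨ψ, h8, h9, rfl⟩ := h3 χ h4 h5
    exact ⟨ψ, mem_rv.2 ⟨⟨h8, h9, by rwa [← h0 ψ h8]⟩, h2 _ (irr_star h8) _ h8
      (hr ▸ dot_star_ne h9) h9 (by rwa [← star_Ind])⟩, rfl⟩

theorem card_rv_eq_one (hK : Group.IsSolvable K) (hN : Nrm N K) (ho : ¬ 2 ∣ N.relIndex K)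
    (hθ : θ ∈ irr N) (hr : star θ = θ) (hd : ¬ 2 ∣ charDegree θ) : (rv K N θ).card = 1 := by
  have h0 : N ≤ K ⊓ stab θ := le_inf hN.le (le_stab (irr_CInv hθ))
  obtain ⟨χ, h1, h2, h3, h4⟩ := exists_real_inv (solv_of_le hK inf_le_left)
    (hN.mono h0 inf_le_left) (fun h => ho (h.trans (relIndex_dvd_of_norm hN.le_normalizer
      inf_le_left))) hθ hr inf_le_right
  rw [card_rv_stab hN hθ hr fun h => ho (h.trans (relIndex_dvd_of_le_left _ (h0.trans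
    inf_le_right))), Finset.card_eq_one]
  exact ⟨χ, Finset.eq_singleton_iff_unique_mem.2 ⟨mem_rv.2 ⟨⟨h1, dot_ne_of_res hθ h3,
    by rwa [← deg_Res N, h3]⟩, h2⟩, fun ψ h => h4 ψ (mem_rv.1 h).1.1 (mem_rv.1 h).2
      (mem_rv.1 h).1.2.1⟩⟩

open Classical in
theorem fiber_sum {p : ℕ} (hp : p.Prime) (hK : Nrm K U) (hS : Syl p S U) (hχ : χ ∈ irr U)
    (hd : ¬ p ∣ charDegree χ) {X : Finset (Γ → ℂ)}
    (h1 : ∀ θ, θ ∈ X ↔ θ ∈ irr K ∧ S ≤ stab θ ∧ dot K χ θ ≠ 0) :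
    ∑ θ ∈ X, (1 : ℚ) / (stab θ).relIndex (U ⊓ 𝓝(S)) = 1 := by
  have h4 : ∀ θ ∈ X, cfclass (U ⊓ 𝓝(S)) θ = X := fun θ hθ => Finset.ext fun φ => by
    obtain ⟨h4, h5, h6⟩ := (h1 θ).1 hθ
    rw [h1, mem_cfclass]
    refine ⟨?_, fun ⟨h7, h8, h9⟩ => ?_⟩
    · rintro ⟨g, hg, rfl⟩
      exact ⟨hK.irr_cj hg.1 h4, fun x hx => mem_stab_cj.2 (h5 (conj_mem_of_mem_norm hg.2 hx)),
        by rwa [dot_cj_of_CInv (irr_CInv hχ) hg.1]⟩
    · obtain ⟨g, hg, rfl⟩ := mem_cfclass.1 (mem_cfclass_of_common hK hχ h4 h6 h7 h9)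
      obtain ⟨t, ht, h10⟩ := Hall.syl_conj ((hS.cj_mem hg).of_le (le_inf (hS.cj_mem hg).le
        fun _ ⟨x, hx, e⟩ => e ▸ mem_stab_cj.1 (h8 hx)) inf_le_left) hp
        (hS.of_le (le_inf hS.le h5) inf_le_left)
      exact ⟨t * g, ⟨mul_mem ht.1 hg, mem_norm_iff_cj.2 (by rw [CA.BG.cj_mul, h10])⟩,
        by rw [← cj_cj, mem_stab.1 ht.2]⟩
  obtain ⟨θ, h5, h6⟩ := exists_irr_under hK.le hχ
  obtain ⟨T, hT⟩ := syl_exists hp (U ⊓ stab θ)
  obtain ⟨g, hg, h7⟩ := hS.syl_conj hp (hT.of_idx inf_le_left ((piNat_compl_iff hp).2 fun h =>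
    hd ((inf_relIndex_left U (stab θ) ▸ h).trans ((dvd_mul_right _ _).trans
      (relIndex_stab_dvd hK hχ h5 h6)))))
  have h8 := Finset.card_ne_zero.2 ⟨_, (h1 (cj g θ)).2 ⟨hK.irr_cj hg h5, fun x hx =>
    mem_stab_cj.2 (hT.le (h7 ▸ conj_mem_cj.2 hx)).2, by rwa [dot_cj_of_CInv (irr_CInv hχ) hg]⟩⟩
  rw [Finset.sum_congr rfl fun θ hθ => by rw [← card_cfclass, h4 θ hθ], Finset.sum_const,
    nsmul_eq_mul, mul_one_div_cancel (Nat.cast_ne_zero.2 h8)]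

open Classical in
theorem orbit_sum_real (hK : Nrm K U) (hL : Nrm L U) (hLK : L ≤ K) (hν : ν ∈ irr L)
    (hs : U ≤ stab ν) (hS : Syl 2 S U) : ((rv U L ν).card : ℚ) =
      ∑ θ ∈ (rv K L ν).filter (S ≤ stab ·),
        ((rv U K θ).card : ℚ) / (stab θ).relIndex (U ⊓ 𝓝(S)) := by
  set X := (rv K L ν).filter (S ≤ stab ·) with hX
  have h2 : ∀ χ ∈ rv U L ν, ∑ θ ∈ X.filter (dot K χ · ≠ 0),
      (1 : ℚ) / (stab θ).relIndex (U ⊓ 𝓝(S)) = 1 := fun χ hχ => by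
    obtain ⟨⟨h1, h2, h3⟩, h4⟩ := mem_rv.1 hχ
    refine fiber_sum Nat.prime_two hK hS h1 h3 fun θ => ?_
    rw [Finset.mem_filter, Finset.mem_filter, mem_rv]
    exact ⟨fun h => ⟨h.1.1.1.1, h.1.2, h.2⟩, fun ⟨h5, h6, h7⟩ => ⟨⟨⟨⟨h5, over_of_under hL hLK hK.le
      hν hs h1 h2 h5 h7, fun h => h3 (h.trans (deg_dvd hK h1 h5 h7))⟩, real_under hK h1 h4 h5 h7
        fun h => h3 (h.trans ((dvd_mul_right _ _).trans (relIndex_stab_dvd hK h1 h5 h7)))⟩, h6⟩, h7⟩⟩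
  rw [Finset.card_eq_sum_ones, Nat.cast_sum, Nat.cast_one, ← Finset.sum_congr rfl h2,
    Finset.sum_comm' (t' := X) (s' := fun θ => rv U K θ) fun χ θ => ?_]
  · simp [div_eq_mul_inv]
  · rw [Finset.mem_filter, mem_rv, mem_rv]
    refine ⟨fun ⟨h3, h4, h5⟩ => ⟨⟨⟨h3.1.1, h5, h3.1.2.2⟩, h3.2⟩, h4⟩, fun ⟨h3, h4⟩ =>
      ⟨⟨⟨h3.1.1, ?_, h3.1.2.2⟩, h3.2⟩, h4, h3.1.2.1⟩⟩
    obtain ⟨⟨h5, h6, -⟩, -⟩ := mem_rv.1 (Finset.mem_filter.1 h4).1
    exact dot_ne_trans hLK hK.le (irr_char h3.1.1) h5 (irr_char hν) h3.1.2.1 h6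

theorem res_inj (hM : Nrm M U) (hU : M ⊔ A = U) (hη : η ∈ irr M) (hs : U ≤ stab η)
    (hθ : Res (M ⊓ A : Subgroup Γ) η ∈ irr (M ⊓ A)) (h1 : χ ∈ irr U) (h2 : dot M χ η ≠ 0)
    (h1' : ψ ∈ irr U) (h2' : dot M ψ η ≠ 0) (e : Res (A : Set Γ) χ = Res (A : Set Γ) ψ) : χ = ψ := by
  have hA : A ≤ U := hU ▸ le_sup_right
  obtain ⟨φ, h3, h4⟩ := exists_irr_under hA h1
  obtain ⟨h5, h6, -⟩ := res_eq hM hU hη hs hθ h1 h2 h3 h4
  by_contra h7
  refine dot_ne_trans hM.le le_rfl (((irr_char h3).Ind hA).sub_irr h1 (by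
    rwa [dot_Ind_left _ _ (irr_CInv h1), Ne, dot_eq_zero_comm])) h1' (irr_char hη) ?_ h2' h6
  rw [dot_sub_left, dot_irr_ne h1 h1' h7, sub_zero, dot_Ind_left _ _ (irr_CInv h1'), Ne,
    dot_eq_zero_comm]
  exact dot_ne_of_res h3 (e.symm.trans h5)

theorem res_surj (hM : Nrm M U) (hU : M ⊔ A = U) (hη : η ∈ irr M) (hs : U ≤ stab η)
    (hθ : Res (M ⊓ A : Subgroup Γ) η ∈ irr (M ⊓ A)) (h1 : ψ ∈ irr A)
    (h2 : dot (M ⊓ A) ψ (Res (M ⊓ A : Subgroup Γ) η) ≠ 0) :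
    ∃ χ ∈ irr U, dot M χ η ≠ 0 ∧ Res (A : Set Γ) χ = ψ := by
  rw [← dot_Ind_eq hM hU hη hs hθ (irr_CF h1), dot_expand_le hM.le le_rfl
    (Ind_CF (hU ▸ le_sup_right) (irr_on h1)) (irr_on hη)] at h2
  obtain ⟨χ, h3, h4⟩ := Finset.exists_ne_zero_of_sum_ne_zero h2
  rw [dot_Ind_left _ _ (irr_CInv h3), mul_ne_zero_iff, Ne, dot_eq_zero_comm] at h4
  exact ⟨χ, h3, h4.2, (res_eq hM hU hη hs hθ h3 h4.2 h1 h4.1).1⟩

theorem final_real (hG : Group.IsSolvable G) (hL : Nrm L G) (hK : Nrm K G) (hLK : L ≤ K)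
    (hi : ¬ 2 ∣ L.relIndex K) (hS : Syl 2 S G) (hM : Nrm (K ⊔ S) G) (hν : ν ∈ irr L)
    (hr : star ν = ν) (hs : G ≤ stab ν) :
    (rv G L ν).card = (rv (G ⊓ 𝓝(L ⊔ S)) L ν).card := by
  classical
  have hN : L ⊔ S ≤ G ⊓ 𝓝(L ⊔ S) := le_inf (sup_le hL.le hS.le) le_normalizer
  have hP := nrm_of_le_normalizer hN inf_le_right
  have hS1 := hS.of_le (le_sup_right.trans hN) inf_le_left
  have h0 : G ⊓ 𝓝(S) ≤ 𝓝(L ⊔ S) := norm_sup (inf_le_left.trans hL.le_normalizer) inf_le_right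
  obtain ⟨θ, h1, h2, h3, h4⟩ := exists_real_inv (solv_of_le hG hK.le) (hL.mono hLK hK.le) hi hν hr
    (hK.le.trans hs)
  have h5 : G ≤ stab θ := fun g hg => h4 _ (hK.irr_cj hg h1) (by rw [← cj_star, h2])
    (by rw [← mem_stab.1 (hs hg), dot_cj]; exact dot_ne_of_res hν h3)
  have h6 : K ⊔ (L ⊔ S) = K ⊔ S := by rw [← sup_assoc, sup_eq_left.2 hLK]
  have h7 : K ⊓ (L ⊔ S) = L := by
    rw [inf_comm, sup_comm, sup_inf_of_le_right (hS.le.trans hL.le_normalizer) hLK, sup_eq_right]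
    exact (hS.pi.inf_left K).le_of_relIndex inf_le_right (hK.le.trans hL.le_normalizer)
      ((piNat_compl_iff Nat.prime_two).2 hi)
  have hKM := hK.mono le_sup_left hM.le
  have h8 : Res (K ⊓ (L ⊔ S) : Subgroup Γ) θ ∈ irr (K ⊓ (L ⊔ S)) := by rwa [h7, h3]
  have h9 : ∀ η ∈ (rv (K ⊔ S) L ν).filter (S ≤ stab ·), η ∈ irr (K ⊔ S) ∧ dot K η θ ≠ 0 :=
    fun η h => by
      obtain ⟨⟨h9, h10, h11⟩, h12⟩ := mem_rv.1 (Finset.mem_filter.1 h).1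
      obtain ⟨φ, h13, h14⟩ := exists_irr_under le_sup_left h9
      exact ⟨h9, h4 φ h13 (real_under hKM h9 h12 h13 h14 fun h => h11 (h.trans
        ((dvd_mul_right _ _).trans (relIndex_stab_dvd hKM h9 h13 h14)))) (over_of_under
          (hL.mono (le_sup_of_le_left hLK) hM.le) hLK le_sup_left hν (hM.le.trans hs) h9 h10 h13
          h14) ▸ h14⟩
  have h10 := fun χ ψ => res_inj (χ := χ) (ψ := ψ) hKM h6 h1 (hM.le.trans h5) h8
  have h11 : ∀ η ∈ (rv (K ⊔ S) L ν).filter (S ≤ stab ·), Res (L ⊔ S : Subgroup Γ) η ∈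
      (rv (L ⊔ S) L ν).filter (S ≤ stab ·) := fun η h => by
    obtain ⟨⟨h11, h12, h13⟩, h14⟩ := mem_rv.1 (Finset.mem_filter.1 h).1
    obtain ⟨ψ, h15, h16⟩ := exists_irr_under (h6 ▸ le_sup_right : L ⊔ S ≤ _) h11
    have h17 := (res_eq hKM h6 h1 (hM.le.trans h5) h8 h11 (h9 η h).2 h15 h16).1 ▸ h15
    exact Finset.mem_filter.2 ⟨mem_rv.2 ⟨⟨h17, by rwa [dot_Res_left (cfOn_mono
      (le_sup_left : L ≤ L ⊔ S) (irr_on hν))], by rwa [deg_Res]⟩, by rw [← Res_star, h14]⟩,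
      le_sup_right.trans (le_stab (irr_CInv h17))⟩
  refine Nat.cast_injective (R := ℚ) ?_
  rw [orbit_sum_real hM hL (le_sup_of_le_left hLK) hν hs hS, orbit_sum_real hP
    (hL.mono (le_sup_left.trans hN) inf_le_left) le_sup_left hν (inf_le_left.trans hs) hS1,
    inf_right_comm, inf_eq_left.2 h0]
  refine Finset.sum_bij (fun η _ => Res (L ⊔ S : Subgroup Γ) η) h11 (fun η h η' h' =>
    h10 _ _ (h9 η h).1 (h9 η h).2 (h9 η' h').1 (h9 η' h').2) (fun ζ h => ?_) fun η h => ?_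
  · obtain ⟨⟨h12, h13, h14⟩, h15⟩ := mem_rv.1 (Finset.mem_filter.1 h).1
    obtain ⟨η, h16, h17, rfl⟩ := res_surj hKM h6 h1 (hM.le.trans h5) h8 h12 (by rwa [h7, h3])
    exact ⟨η, Finset.mem_filter.2 ⟨mem_rv.2 ⟨⟨h16, by rwa [dot_Res_left (cfOn_mono
      (le_sup_left : L ≤ L ⊔ S) (irr_on hν))] at h13, by rwa [deg_Res] at h14⟩, h10 _ _ (irr_star h16) (h2 ▸ dot_star_ne h17)
        h16 h17 (by rwa [Res_star])⟩, le_sup_right.trans (le_stab (irr_CInv h16))⟩, rfl⟩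
  · obtain ⟨⟨h12, -, h13⟩, h14⟩ := mem_rv.1 (Finset.mem_filter.1 h).1
    obtain ⟨⟨h15, -, h16⟩, h17⟩ := mem_rv.1 (Finset.mem_filter.1 (h11 η h)).1
    have h18 : G ⊓ 𝓝(S) ⊓ stab η = G ⊓ 𝓝(S) ⊓ stab (Res (L ⊔ S : Subgroup Γ) η) :=
      Subgroup.ext fun x => and_congr_right fun hx => ⟨fun h =>
        stab_res (zpowers_le.2 h) (zpowers_le.2 (h0 hx)) (mem_zpowers x), fun h' =>
        h10 _ _ (hM.irr_cj hx.1 h12) (by rw [← mem_stab.1 (h5 hx.1), dot_cj]; exact (h9 η h).2) h12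
          (h9 η h).2 (by rw [← cj_Res (conj_iff_of_norm (h0 hx)), h'])⟩
    rw [card_rv_eq_one hG hM ((piNat_compl_iff Nat.prime_two).1 (hS.le_of_idx le_sup_right)) h12 h14
      h13, card_rv_eq_one (solv_of_le hG inf_le_left) hP ((piNat_compl_iff Nat.prime_two).1
        (hS1.le_of_idx le_sup_right)) h15 h17 h16, ← inf_relIndex_left, h18, inf_relIndex_left]

/-- The McKay equality for real characters of odd degree of solvable groups. -/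
theorem mckay_real (hG : Group.IsSolvable G) (hS : Syl 2 S G) (hL : Nrm L G) (hν : ν ∈ irr L)
    (hr : star ν = ν) (hs : S ≤ stab ν) : (rv G L ν).card = (rv (G ⊓ 𝓝(L ⊔ S)) L ν).card := by
  classical
  induction hn : L.relIndex G using Nat.strong_induction_on generalizing G L ν with | _ n ih => ?_
  have h0 : ∀ U < G, L ≤ U → L.relIndex U < n := fun U hU h => by
    rw [← hn, ← relIndex_mul_relIndex L U G h hU.le]
    exact lt_mul_of_one_lt_right (Nat.pos_of_ne_zero (relIndex_ne_zero' _ _))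
      (Nat.one_lt_iff_ne_zero_and_ne_one.2 ⟨relIndex_ne_zero' _ _,
        mt relIndex_eq_one.1 hU.not_ge⟩)
  have hN : L ⊔ S ≤ G ⊓ 𝓝(L ⊔ S) := le_inf (sup_le hL.le hS.le) le_normalizer
  by_cases h1 : G ≤ stab ν
  swap
  · have h2 : ∀ U, S ≤ U → U ≤ G → ¬ 2 ∣ (stab ν).relIndex U := fun U h h' =>
      (piNat_compl_iff Nat.prime_two).1 ((hS.of_le h h').le_of_idx hs)
    have h3 : L ≤ G ⊓ stab ν := le_inf hL.le (le_stab (irr_CInv hν))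
    rw [card_rv_stab hL hν hr (h2 G hS.le le_rfl), card_rv_stab (hL.mono (le_sup_left.trans hN)
      inf_le_left) hν hr (h2 _ (le_sup_right.trans hN) inf_le_left), ih _ (h0 _ (inf_lt_left.2 h1) h3)
      (solv_of_le hG inf_le_left) (hS.of_le (le_inf hS.le hs) inf_le_left) (hL.mono h3 inf_le_left)
      hν hr hs rfl, inf_right_comm]
  by_cases h2 : G ≤ 𝓝(L ⊔ S)
  · rw [inf_eq_left.2 h2]
  obtain ⟨K, hK, hLK, h3, h4⟩ : ∃ K, Nrm K G ∧ L ≤ K ∧ ¬ K ≤ L ∧ PP 2 (L.relIndex K) := by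
    have := hL.normal
    obtain ⟨K, h3, -, h4, h5⟩ := exists_step (psolv_of_solvable (p := 2)) (N := L.subgroupOf G)
      (M := ⊤) fun h =>
        h2 (le_norm_of_le ((subgroupOf_eq_top.1 (top_le_iff.1 h)).trans le_sup_left))
    have h6 : K.map G.subtype ≤ G := map_subtype_le K
    refine ⟨K.map G.subtype ⊔ L, (nrm_of_normal h6 (by
      rwa [subgroupOf, comap_map_eq_self_of_injective G.subtype_injective])).sup hL, le_sup_right,
      fun h => h4 (map_le_iff_le_comap.1 (le_sup_left.trans h)), ?_⟩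
    rwa [relIndex_sup_norm (h6.trans hL.le_normalizer), ← relIndex_subgroupOf h6, subgroupOf,
      subgroupOf, comap_map_eq_self_of_injective G.subtype_injective]
  by_cases h5 : G ≤ 𝓝(K ⊔ S)
  · refine final_real hG hL hK hLK (h4.elim (fun ⟨m, hm⟩ => (h2 ?_).elim)
      fun h => Nat.prime_two.coprime_iff_not_dvd.1 h.symm) hS
      (nrm_of_le_normalizer (sup_le hK.le hS.le) h5) hν hr h1
    have h6 := (hS.of_le le_sup_right (sup_le hK.le hS.le)).le_of_idx (le_sup_right : S ≤ L ⊔ S)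
    rwa [eq_of_idx (sup_le_sup_right hLK S) ?_ h6]
    refine PiNat.of_dvd ?_ (relIndex_dvd_of_le_left _ le_sup_left)
    rw [← relIndex_mul_relIndex L K _ hLK le_sup_left, hm, sup_comm,
      relIndex_sup_norm (hS.le.trans hK.le_normalizer)]
    exact (piNat_pow Nat.prime_two m).mul (hS.pi.relIndex K)
  have h6 : K ⊔ S ≤ G ⊓ 𝓝(K ⊔ S) := le_inf (sup_le hK.le hS.le) le_normalizer
  have h7 := hS.of_le (le_sup_right.trans h6) inf_le_left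
  have h8 := hL.mono (hLK.trans (le_sup_left.trans h6)) inf_le_left
  have h10 : G ⊓ 𝓝(K ⊔ S) ⊓ 𝓝(L ⊔ S) = G ⊓ 𝓝(L ⊔ S) := by
    rw [inf_right_comm, inf_eq_left, ← sup_eq_left.2 hLK, sup_assoc]
    exact norm_sup (inf_le_left.trans hK.le_normalizer) inf_le_right
  rw [← h10, ← ih _ (h0 _ (inf_lt_left.2 h5) h8.le) (solv_of_le hG inf_le_left) h7 h8 hν hr hs rfl]
  refine Nat.cast_injective (R := ℚ) ?_
  rw [orbit_sum_real hK hL hLK hν h1 hS, orbit_sum_real (hK.mono (le_sup_left.trans h6)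
    inf_le_left) h8 hLK hν (inf_le_left.trans h1) h7, inf_right_comm,
    inf_eq_left.2 (norm_sup (inf_le_left.trans hK.le_normalizer) inf_le_right)]
  refine Finset.sum_congr rfl fun θ hθ => ?_
  obtain ⟨h11, h12⟩ := mem_rv.1 (Finset.mem_filter.1 hθ).1
  rw [ih _ ?_ hG hS hK h11.1 h12 (Finset.mem_filter.1 hθ).2 rfl]
  rw [← hn, ← relIndex_mul_relIndex L K G hLK hK.le]
  exact lt_mul_of_one_lt_left (Nat.pos_of_ne_zero (relIndex_ne_zero' _ _))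
    (Nat.one_lt_iff_ne_zero_and_ne_one.2 ⟨relIndex_ne_zero' _ _, mt relIndex_eq_one.1 h3⟩)

theorem dot_bot_ne (h : χ ∈ irr K) : dot ⊥ χ (triv ⊥) ≠ 0 := by
  obtain ⟨θ, h1, h2⟩ := exists_irr_under bot_le h
  rwa [← (le_cfker_iff_triv h1).1 bot_le]

theorem all_real_iff : (∀ χ ∈ irr K, ¬ 2 ∣ charDegree χ → star χ = χ) ↔
    (rv K ⊥ (triv ⊥)).card = (ov (¬ 2 ∣ ·) K ⊥ (triv ⊥)).card := by
  classical
  rw [rv, Finset.card_filter_eq_iff]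
  exact ⟨fun h χ h' => h χ (mem_ov.1 h').1 (mem_ov.1 h').2.2,
    fun h χ h1 h2 => h χ (mem_ov.2 ⟨h1, dot_bot_ne h1, h2⟩)⟩

theorem all_real_norm (hG : Group.IsSolvable G) (hS : Syl 2 S G) (hn : G ≤ 𝓝(S)) :
    (∀ χ ∈ irr G, ¬ 2 ∣ charDegree χ → star χ = χ) ↔ Phi S ≤ ⁅S, S⁆ ∧ G = S := by
  have hN := nrm_of_le_normalizer hS.le hn
  have h0 := hS.not_dvd Nat.prime_two
  refine ⟨fun h => ?_, fun ⟨h1, h2⟩ χ h3 h4 => ?_⟩
  · obtain rfl : G = S := by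
      obtain ⟨χ, -, -, -, h1⟩ := exists_real_inv hG hN h0 (triv_irr S) (star_triv S)
        (le_stab (hN.triv_CF).2)
      have h2 : ∀ ψ ∈ irr G, S ≤ cfker ψ → ψ = χ := fun ψ h2 h3 => by
        obtain ⟨θ, h4, h5⟩ := exists_irr_under hS.le h2
        obtain rfl := (le_cfker_iff_triv h4).1 ((sub_cfker_constt hS.le hn le_rfl h2 h4 h5).2 h3)
        obtain ⟨a, h6, h7⟩ := exists_deg hN h2 h4 h5
        refine h1 ψ h2 (h ψ h2 fun h => h0 (Dvd.dvd.trans ?_ h6)) h5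
        rwa [h7, CA.H12Deg.deg_eq (n := 1) (by simp), mul_one] at h
      refine le_antisymm (fun x hx => of_not_not fun hx' => ?_) hS.le
      obtain ⟨ψ, h3, h4, h5⟩ := exists_irr_not_mem_cfker hN hx hx'
      rw [h2 ψ h3 h4, ← h2 _ (triv_irr G) (by rw [cfker_triv]; exact hS.le), cfker_triv] at h5
      exact h5 hx
    refine ⟨Phi_le_of Nat.prime_two hS.pi le_rfl fun x hx => of_not_not fun hx' => ?_, rfl⟩
    obtain ⟨ψ, h3, h4, h5⟩ := exists_irr_not_mem_cfker (nrm_of_le_normalizer (der_le G)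
      (le_normalizer.trans (norm_der G))) (pow_mem hx 2) hx'
    obtain ⟨i, rfl⟩ := (irr_char h3).exists_lin ((irr_one_eq_one_iff h3).2 h4)
    have h6 := congrFun (h _ h3 (by rw [CA.H12Deg.deg_eq (n := 1) (by simp)]; decide)) x
    refine h5 ((irr_mem_cfker h3).2 ?_)
    rw [lin_apply_pow i hx, sq, lin_apply_one, ← lin_mul_conj i hx]
    exact congrArg _ h6.symm
  · subst h2
    obtain ⟨k, hk⟩ := hS.pi.exists_card Nat.prime_two
    obtain ⟨i, rfl⟩ := (irr_char h3).exists_lin ((deg_eq_one_iff h3).1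
      (((Nat.prime_two.coprime_iff_not_dvd.2 h4).symm.pow_right k).eq_one_of_dvd
        (hk ▸ deg_dvd_card h3)))
    rw [← lin_inv]
    refine congrArg _ (inv_eq_iff_mul_eq_one.2 (lin_injective (CF_ext (lin_on _) (lin_on _)
      fun x hx => ?_)))
    rw [← sq, lin_pow i hx, ← lin_apply_pow i hx, lin_eq_one_of_le (der_le_cfker_lin i)
      (h1 (pow_mem_Phi Nat.prime_two hS.pi hx)), lin_one, triv_of_mem hx]

theorem card_rv (K : Subgroup Γ) :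
    Nat.card {χ : IrrCharacter K // (∀ g, (χ.1 g).im = 0) ∧ Odd (charDegree χ.1)} =
      (rv K ⊥ (triv ⊥)).card := by
  have h0 : ∀ χ : K → ℂ, charDegree (extendByZero K χ) = charDegree χ := fun χ =>
    deg_congr (congrFun (res_ext K χ) 1)
  have h1 : ∀ χ : K → ℂ, star (extendByZero K χ) = extendByZero K χ ↔ ∀ g, (χ g).im = 0 :=
    fun χ => ⟨fun h g => Complex.conj_eq_iff_im.1 (by
      simpa [CA.Ind.ext_of_mem _ _ g.2] using congrFun h g), fun h =>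
      CF_ext (cfOn_star (ext_on K χ)) (ext_on K χ) fun x hx => by
        simpa [CA.Ind.ext_of_mem _ _ hx] using Complex.conj_eq_iff_im.2 (h _)⟩
  rw [← Nat.card_eq_finsetCard]
  refine Nat.card_congr (Equiv.ofBijective (fun χ => ⟨extendByZero K χ.1.1,
    mem_rv.2 ⟨⟨ext_mem_irr.2 χ.1.2, dot_bot_ne (ext_mem_irr.2 χ.1.2), (h0 _).symm ▸
      χ.2.2.not_two_dvd_nat⟩, (h1 _).2 χ.2.1⟩⟩) ⟨?_, ?_⟩)
  · exact fun χ χ' e => Subtype.ext (Subtype.ext (ext_injective K (congrArg Subtype.val e)))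
  · rintro ⟨χ, hχ⟩
    obtain ⟨⟨h2, -, h3⟩, h4⟩ := mem_rv.1 hχ
    obtain ⟨χ, rfl⟩ := exists_ext h2
    exact ⟨⟨χ, (h1 _).1 h4, Nat.odd_iff.2 (Nat.two_dvd_ne_zero.1 (h0 _ ▸ h3))⟩, rfl⟩

theorem card_rv_top :
    Nat.card {χ : IrrCharacter Γ // (∀ g, (χ.1 g).im = 0) ∧ Odd (charDegree χ.1)} =
      (rv (⊤ : Subgroup Γ) ⊥ (triv ⊥)).card := by
  have h1 : ∀ χ : Γ → ℂ, star χ = χ ↔ ∀ g, (χ g).im = 0 := fun χ =>
    funext_iff.trans (forall_congr' fun _ => Complex.conj_eq_iff_im)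
  rw [← Nat.card_eq_finsetCard]
  refine Nat.card_congr (Equiv.ofBijective (fun χ => ⟨χ.1.1,
    mem_rv.2 ⟨⟨mem_irr_top.2 χ.1.2, dot_bot_ne (mem_irr_top.2 χ.1.2),
      χ.2.2.not_two_dvd_nat⟩, (h1 _).2 χ.2.1⟩⟩) ⟨?_, ?_⟩)
  · exact fun χ χ' e => Subtype.ext (Subtype.ext (Subtype.mk.inj e))
  · rintro ⟨χ, hχ⟩
    obtain ⟨⟨h2, -, h3⟩, h4⟩ := mem_rv.1 hχ
    exact ⟨⟨⟨χ, mem_irr_top.1 h2⟩, (h1 _).1 h4, Nat.odd_iff.2 (Nat.two_dvd_ne_zero.1 h3)⟩, rfl⟩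

end CA.H10Real
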