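import Cfsg.Agent.Lib.Char.H10Bli
import Cfsg.Agent.Lib.Perm.PermMod
import Cfsg.Agent.Lib.Block.H28Lat
import Cfsg.Agent.Lib.Block.BlkVal

/-! Characters of small degree of groups with a TI Sylow subgroup. -/

set_option autoImplicit false
set_option linter.unusedSectionVars false

namespace CA.H10TI
open Cfsg CA.PF CA.H12Mon CA.H12Deg CA.H10Bli Subgroup Matrix
open CA.BG hiding cj_one cj_mul cj_inv_cj cj_cj_inv cj
open scoped ComplexConjugate commutatorElement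

theorem norm_eq_zero {K P ι : Type*} [Field K] {p : ℕ} [Fact p.Prime] [CharP K p] [Group P]
    [Fintype P] [Fintype ι] [DecidableEq ι] (hP : IsPGroup p P) (τ : P →* Matrix ι ι K)
    (h : Fintype.card ι < Fintype.card P) (w : ι → K) : ∑ x, τ x *ᵥ w = 0 := by
  let L := Fintype.linearCombination K fun x : P => τ x *ᵥ w
  obtain ⟨f, hf, h0, h1⟩ := CA.PermMod.exists_fixed hP (W := LinearMap.ker L) (fun g f hf => by
    rw [LinearMap.mem_ker, Fintype.linearCombination_apply] at hf ⊢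
    have := congrArg (τ g⁻¹ *ᵥ ·) hf
    rw [← Equiv.sum_comp (Equiv.mulLeft g)] at this
    simpa [mulVec_sum, mulVec_smul, ← map_mul] using this)
    (LinearMap.ker_ne_bot_of_finrank_lt (by simpa using h))
  have h2 : ∀ x, f x = f 1 := fun x => by simpa using h1 x 1
  rw [LinearMap.mem_ker, Fintype.linearCombination_apply] at hf
  simp only [h2 _, ← Finset.smul_sum] at hf
  exact (smul_eq_zero.1 hf).resolve_left fun e => h0 (funext fun x => (h2 x).trans e)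

theorem sum_free {P X A : Type*} [Group P] [Fintype P] [MulAction P X] [AddCommMonoid A] (f : X → A)
    (s : Finset X) (hs : ∀ (x : P), ∀ q ∈ s, x • q ∈ s) (h1 : ∀ q ∈ s, ∀ x : P, x • q = q → x = 1)
    (h : ∀ q ∈ s, ∑ x : P, f (x • q) = 0) : ∑ q ∈ s, f q = 0 := by
  classical
  induction s using Finset.strongInduction with | _ s ih => ?_
  rcases s.eq_empty_or_nonempty with rfl | ⟨q, hq⟩
  · simp
  have h2 : Finset.univ.image (fun x : P => x • q) ⊆ s := fun r hr => by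
    obtain ⟨x, -, rfl⟩ := Finset.mem_image.1 hr
    exact hs x q hq
  rw [← Finset.sum_sdiff h2, Finset.sum_image fun x _ y _ e => eq_of_inv_mul_eq_one
    (h1 q hq _ (by rw [mul_smul, ← show x • q = y • q from e, inv_smul_smul])), h q hq, add_zero]
  refine ih _ (Finset.sdiff_ssubset h2 ⟨q, Finset.mem_image.2 ⟨1, by simp⟩⟩) (fun x r hr => ?_)
    (fun r hr => h1 r (Finset.mem_sdiff.1 hr).1) fun r hr => h r (Finset.mem_sdiff.1 hr).1
  simp only [Finset.mem_sdiff, Finset.mem_image, Finset.mem_univ, true_and] at hr ⊢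
  exact ⟨hs x r hr.1, fun ⟨y, e⟩ => hr.2 ⟨x⁻¹ * y, by rw [mul_smul, e, inv_smul_smul]⟩⟩

variable {Γ : Type*} [Group Γ] [Fintype Γ] {G H K L M N U A C P Q : Subgroup Γ}
  {χ β θ φ ψ μ : Γ → ℂ} {p q n : ℕ} {x y z g : Γ}

theorem sum_eq_zero_top (hp : p.Prime) (hP : IsPGroup p P) (hPH : P ≤ H)
    (hfree : ∀ g ∉ H, ∀ x ∈ P, g⁻¹ * x * g ∈ H → x = 1) (hψ : IsIrrCharacter Γ ψ)
    (h1 : ψ ≠ fun _ => 1) (hd : charDegree ψ < ♯P) : ∑ x ∈ fs (H : Set Γ), ψ x = 0 := by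
  classical
  by_contra h0
  haveI := Fact.mk hp
  obtain ⟨M, hM⟩ := CA.BlkVal.exists_isPModular hp
  haveI := CA.BlkVal.charP_k hM
  haveI := Fintype.ofFinite (Γ ⧸ H)
  haveI := Fintype.ofFinite P
  obtain ⟨m, ρ, hρ, rfl⟩ := id hψ
  have htr : ∀ s : Finset Γ, ∑ x ∈ s, ρ.character x = LinearMap.trace ℂ _ (∑ x ∈ s, ρ x) :=
    fun s => (map_sum _ _ _).symm
  obtain ⟨w, hw⟩ : ∃ w, (∑ x ∈ fs (H : Set Γ), ρ x) w ≠ 0 := by
    by_contra h
    push Not at h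
    exact h0 (by rw [htr, show ∑ x ∈ fs (H : Set Γ), ρ x = 0 from LinearMap.ext h, map_zero])
  set v := (∑ x ∈ fs (H : Set Γ), ρ x) w with hv
  have hfix : ∀ h ∈ H, ρ h v = v := fun h hh => by
    rw [hv, ← Module.End.mul_apply, Finset.mul_sum, ← sum_fs_mul_left hh (fun x => ρ x)]
    simp only [map_mul]
  obtain ⟨a, ha⟩ := CChar.CharRep.exists_eq_smul_of_commute ρ (∑ g, ρ g) fun g => by
    rw [Finset.sum_mul, Finset.mul_sum]
    simp only [← map_mul]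
    exact (Equiv.sum_comp (Equiv.mulRight g) _).trans (Equiv.sum_comp (Equiv.mulLeft g) _).symm
  have ha0 : ∑ g, ρ g = 0 := by
    have h2 := dot_irr_ne (mem_irr_top.2 hψ) (triv_irr ⊤) (by rwa [triv_top])
    rw [dot_triv_right, fs_top, mul_eq_zero, inv_eq_zero, htr, ha, map_smul, smul_eq_mul,
      ← map_one ρ, mul_eq_zero] at h2
    rw [ha, (h2.resolve_left (cardC_ne _)).resolve_right (CChar.CharFun.irr_apply_one_ne_zero hψ),
      zero_smul]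
  have hout : ∀ g : Γ, ρ (g : Γ ⧸ H).out v = ρ g v := fun g => by
    obtain ⟨h, e⟩ := QuotientGroup.mk_out_eq_mul H g
    rw [e, map_mul, Module.End.mul_apply, hfix _ h.2]
  have hsum : ∑ q : Γ ⧸ H, ρ q.out v = 0 := by
    have h2 := congrArg (fun T : Module.End ℂ _ => T v) ha0
    simp only [LinearMap.sum_apply, LinearMap.zero_apply] at h2
    haveI := Fintype.ofFinite H
    rw [← Equiv.sum_comp H.groupEquivQuotientProdSubgroup.symm, Fintype.sum_prod_type] at h2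
    rw [Finset.sum_congr rfl (g := fun q : Γ ⧸ H => ♯H • ρ q.out v) fun q _ => by
      rw [Nat.card_eq_fintype_card, ← Finset.card_univ, ← Finset.sum_const]
      refine Finset.sum_congr rfl fun h _ => ?_
      rw [← hout]
      exact congrArg (fun q : Γ ⧸ H => ρ q.out v)
        (congrArg Prod.fst (H.groupEquivQuotientProdSubgroup.apply_symm_apply (q, h))),
      ← Finset.smul_sum, ← Nat.cast_smul_eq_nsmul ℂ] at h2
    exact (smul_eq_zero.1 h2).resolve_left (cardC_ne H)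
  obtain ⟨ι, _, _, B, σ, c, hσ, hc, hgen⟩ := CA.H28Lat.exists_lattice (CA.BlkVal.O M) ρ hw
  have hco : ∀ g i, B.repr (ρ g v) i = ((σ g *ᵥ c) i : ℂ) := fun g i => by
    rw [← LinearMap.toMatrix_mulVec_repr B B, ← hσ, funext hc]
    exact (RingHom.map_mulVec (algebraMap _ ℂ) (σ g) c i).symm
  let r := IsLocalRing.residue (CA.BlkVal.O M)
  have hr : ∀ g u, r ∘ (σ g *ᵥ u) = CA.H28Lat.red σ g *ᵥ (r ∘ u) := fun g u =>
    funext (RingHom.map_mulVec r (σ g) u)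
  let f : Γ ⧸ H → ι → CA.BlkVal.k M := fun q => r ∘ (σ q.out *ᵥ c)
  have hf : ∀ g : Γ, f g = r ∘ (σ g *ᵥ c) := fun g => congrArg (r ∘ ·)
    (funext fun i => Subtype.ext (by rw [← hco, ← hco, hout]))
  have h2 : ∑ q, f q = 0 := funext fun i => by
    have : ∑ q : Γ ⧸ H, (σ q.out *ᵥ c) i = 0 := Subtype.ext (by
      simpa [hco] using congrArg (fun u => B.repr u i) hsum)
    simpa [f] using congrArg r this
  rw [← Finset.add_sum_erase _ _ (Finset.mem_univ ((1 : Γ) : Γ ⧸ H)), sum_free (P := P) f, hf, map_one,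
    one_mulVec, add_zero] at h2
  · obtain ⟨i, -⟩ : ∃ i, B.repr v i ≠ 0 := by
      by_contra h
      push Not at h
      exact hw (B.repr.map_eq_zero_iff.1 (Finsupp.ext h))
    obtain ⟨a, e⟩ := hgen (Pi.single i 1)
    have h3 := congrArg r (congrFun e i)
    rw [Finset.sum_apply, map_sum, Finset.sum_eq_zero fun g _ => by
      rw [Pi.smul_apply, smul_eq_mul, map_mul, show r _ = _ from congrFun (hr g c) i, h2]
      simp] at h3
    simp at h3
  · intro x q hq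
    refine Finset.mem_erase.2 ⟨fun e => Finset.ne_of_mem_erase hq ?_, Finset.mem_univ _⟩
    rw [← inv_smul_smul x q, e]
    exact QuotientGroup.eq.2 (by simpa using hPH x.2)
  · intro q hq x e
    obtain ⟨g, rfl⟩ := QuotientGroup.mk_surjective q
    refine Subtype.ext (hfree g (fun h => Finset.ne_of_mem_erase hq
      (QuotientGroup.eq.2 (by simpa using h))) x x.2 ?_)
    simpa [mul_assoc] using QuotientGroup.eq.1 e.symm
  · intro q _
    obtain ⟨g, rfl⟩ := QuotientGroup.mk_surjective q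
    refine Eq.trans (Finset.sum_congr rfl fun x _ => ?_) (norm_eq_zero hP
      ((CA.H28Lat.red σ).comp P.subtype) ?_ (r ∘ (σ g *ᵥ c)))
    · rw [show x • (g : Γ ⧸ H) = ((x * g : Γ) : Γ ⧸ H) from rfl, hf, map_mul, ← mulVec_mulVec, hr]
      rfl
    · rwa [← Module.finrank_eq_card_basis B, ← Nat.card_eq_fintype_card,
        ← deg_eq (χ := ρ.character) (n := Module.finrank ℂ (Fin m → ℂ)) (by simp)]

/-! ### multiplicities -/

/-- The multiplicity `[φ_K, θ]` as a natural number. -/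
noncomputable def ml (K : Subgroup Γ) (φ θ : Γ → ℂ) : ℕ := ⌊(dot K φ θ).re⌋₊

theorem ml_eq {m : ℕ} (h : dot K φ θ = m) : ml K φ θ = m := by simp [ml, h]

theorem ml_cast (hK : K ≤ G) (hφ : IsChar G φ) (hθ : IsChar K θ) : dot K φ θ = ml K φ θ := by
  obtain ⟨m, h⟩ := dot_char_over_nat hK hφ hθ
  rw [ml_eq h, h]

theorem ml_ne_zero (hK : K ≤ G) (hφ : IsChar G φ) (hθ : IsChar K θ) :
    ml K φ θ ≠ 0 ↔ dot K φ θ ≠ 0 := by rw [ml_cast hK hφ hθ, Nat.cast_ne_zero]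

theorem ml_trans (hK : K ≤ L) (hL : L ≤ G) (hφ : IsChar G φ) (hθ : IsChar K θ) :
    ml K φ θ = ∑ ψ ∈ irr L, ml L φ ψ * ml K ψ θ := ml_eq (by
  rw [← dot_Res_left (cfOn_mono hK hθ.1), CF_expand (hφ.Res hL).CF, dot_sum_left, Nat.cast_sum]
  exact Finset.sum_congr rfl fun ψ hψ => by
    rw [dot_smul_left, dot_Res_left (irr_on hψ), ml_cast hL hφ (irr_char hψ),
      ml_cast hK (irr_char hψ) hθ, Nat.cast_mul])

theorem deg_eq_sum (hK : K ≤ G) (hφ : IsChar G φ) :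
    charDegree φ = ∑ θ ∈ irr K, ml K φ θ * charDegree θ := deg_eq (by
  rw [← Res_one K φ, CF_expand_apply (hφ.Res hK).CF, Nat.cast_sum]
  exact Finset.sum_congr rfl fun ψ hψ => by
    rw [dot_Res_left (irr_on hψ), ml_cast hK hφ (irr_char hψ), irr_deg hψ, Nat.cast_mul])

theorem ml_comm (hφ : IsChar K φ) (hθ : IsChar K θ) : ml K φ θ = ml K θ φ :=
  (ml_eq (dot_comm_nat (ml_cast le_rfl hφ hθ))).symm

theorem ml_Res_left (hθ : θ ∈ cfOn (L : Set Γ)) (φ : Γ → ℂ) :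
    ml K (Res (L : Set Γ) φ) θ = ml K φ θ := by rw [ml, dot_Res_left hθ, ml]

theorem ml_Res (hK : K ≤ G) (hφ : IsChar G φ) (hψ : IsChar G ψ) :
    ml K φ (Res (K : Set Γ) ψ) = ∑ θ ∈ irr K, ml K φ θ * ml K ψ θ := by
  rw [ml_trans le_rfl hK hφ (hψ.Res hK)]
  exact Finset.sum_congr rfl fun θ hθ => by
    rw [ml_comm (irr_char hθ) (hψ.Res hK), ml_Res_left (irr_on hθ)]

theorem ml_irr_self (h : χ ∈ irr K) : ml K χ χ = 1 := ml_eq (by simpa using dot_irr_self h)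

theorem ml_irr_ne (h : χ ∈ irr K) (h' : ψ ∈ irr K) (e : χ ≠ ψ) : ml K χ ψ = 0 :=
  ml_eq (by simpa using dot_irr_ne h h' e)

theorem ml_triv_of_le (hK : K ≤ G) (h : IsChar G χ) (hk : K ≤ cfker χ) :
    ml K χ (triv K) = charDegree χ := ml_eq (by
  rw [dot_triv_right, Finset.sum_congr rfl fun x hx => cfker_apply (hk (mem_fs.1 hx)),
    Finset.sum_const, card_fs, nsmul_eq_mul, inv_mul_cancel_left₀ (cardC_ne K), IsChar.deg h])

theorem ml_triv_of_not_le (hK : Nrm K G) (h : χ ∈ irr G) (hk : ¬ K ≤ cfker χ) :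
    ml K χ (triv K) = 0 := ml_eq (by
  have := sum_eq_zero_of_not_le_cfker hK h hk 1
  simp only [mul_one] at this
  simp [dot_triv_right, this])

theorem deg_mul (h : IsChar G χ) (h' : IsChar G ψ) :
    charDegree (χ * ψ) = charDegree χ * charDegree ψ :=
  deg_eq (by rw [Pi.mul_apply, IsChar.deg h, IsChar.deg h', Nat.cast_mul])

theorem deg_star (h : IsChar G χ) : charDegree (star χ) = charDegree χ :=
  deg_congr (star_one_VC h.VC)

theorem deg_Ind (hK : K ≤ G) (h : IsChar K θ) :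
    charDegree (Ind G K θ) = K.relIndex G * charDegree θ :=
  deg_eq (by rw [Ind_one hK, IsChar.deg h, Nat.cast_mul])

theorem deg_Res (K : Subgroup Γ) (χ : Γ → ℂ) : charDegree (Res (K : Set Γ) χ) = charDegree χ :=
  deg_congr (Res_one K χ)

theorem dot_mul_star (K : Subgroup Γ) (φ ψ : Γ → ℂ) :
    dot K (φ * star ψ) (triv K) = dot K φ (Res (K : Set Γ) ψ) := by
  rw [dot_mul_left, star_star, triv_mul]

/-! ### TI Sylow subgroups -/

/-- `P` is a TI Sylow `p`-subgroup of `G`. -/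
structure TI (p : ℕ) (P G : Subgroup Γ) : Prop where
  prime : p.Prime
  syl : Syl p P G
  ti : ∀ g ∈ G, ∀ x ∈ P, x ≠ 1 → g * x * g⁻¹ ∈ P → g ∈ 𝓝(P)

theorem TI.mono (h : TI p P G) (h1 : P ≤ L) (h2 : L ≤ G) : TI p P L :=
  ⟨h.prime, h.syl.of_le h1 h2, fun g hg => h.ti g (h2 hg)⟩

theorem ti_top [hp : Fact p.Prime] (P : Sylow p Γ) (h : ∀ g, g ∉ 𝓝((P : Subgroup Γ)) →
    (P : Subgroup Γ) ⊓ (open Pointwise in MulAut.conj g • (P : Subgroup Γ)) = ⊥) :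
    TI p (P : Subgroup Γ) ⊤ := ⟨hp.out, syl_top hp.out P, fun g _ x hx h1 e => by
  by_contra hg
  exact h1 (by simpa using (h g hg).le (mem_inf.2 ⟨e, conj_mem_cj.2 hx⟩))⟩

theorem TI.mem (h : TI p P G) (h1 : G ⊓ 𝓝(P) ≤ H) (h2 : H ≤ G) (hg : g ∈ G) (hx : x ∈ P)
    (hx1 : x ≠ 1) (e : g * x * g⁻¹ ∈ H) : g ∈ H := by
  have hP : P ≤ H := (le_inf h.syl.le le_normalizer).trans h1
  obtain ⟨k, hk, h3⟩ := (h.syl.of_le hP h2).syl_conj_le h.prime (K := zpowers (g * x * g⁻¹))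
    (by rw [← cj_zpowers]; exact (h.syl.pi.of_le (zpowers_le.2 hx)).cj g) (zpowers_le.2 e)
  have h4 := h1 ⟨mul_mem (h2 hk) hg, h.ti _ (mul_mem (h2 hk) hg) x hx hx1 (by
    simpa [mul_assoc] using h3 (conj_mem_cj.2 (mem_zpowers _)))⟩
  simpa using mul_mem (inv_mem hk) h4

theorem TI.ml_triv (h : TI p P G) (h1 : G ⊓ 𝓝(P) ≤ H) (h2 : H ≤ G) (hψ : ψ ∈ irr G)
    (h0 : ψ ≠ triv G) (hd : charDegree ψ < ♯P) : ml H ψ (triv H) = 0 := by
  haveI := Fintype.ofFinite G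
  have hP : P ≤ H := (le_inf h.syl.le le_normalizer).trans h1
  have := sum_eq_zero_top (Γ := G) (P := P.subgroupOf G) (H := H.subgroupOf G) h.prime
    ((h.syl.pi.isPGroup h.prime).comap_subtype) (comap_mono hP)
    (fun g hg x hx e => by
      by_contra hx1
      exact hg (inv_mem_iff.1 (h.mem h1 h2 (inv_mem g.2) hx (fun e => hx1 (Subtype.ext e))
        (by simpa [mem_subgroupOf] using e)))) (mem_irr.1 hψ).2
    (fun e => h0 (CF_ext (irr_on hψ) (triv_CF G).1 fun x hx =>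
      (congrFun e ⟨x, hx⟩).trans (triv_of_mem hx).symm))
    (by rwa [Nat.card_congr (subgroupOfEquivOfLe h.syl.le).toEquiv])
  refine ml_eq ?_
  rw [dot_triv_right, ← Finset.sum_bij (s := fs ((H.subgroupOf G : Subgroup G) : Set G))
    (t := fs (H : Set Γ))
    (fun (x : G) _ => (x : Γ)) (fun x hx => mem_fs.2 (mem_fs.1 hx :))
    (fun _ _ _ _ e => Subtype.ext e)
    (fun x hx => ⟨⟨x, h2 (mem_fs.1 hx)⟩, mem_fs.2 (mem_fs.1 hx :), rfl⟩) (fun _ _ => rfl), this]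
  simp

theorem TI.dot_Res (h : TI p P G) (h1 : G ⊓ 𝓝(P) ≤ H) (h2 : H ≤ G) (hχ : IsChar G χ)
    (hd : charDegree χ ^ 2 ≤ ♯P) : dot H χ (Res (H : Set Γ) χ) = dot G χ χ := by
  classical
  rcases eq_or_ne χ 0 with rfl | h0
  · simp
  have hA := hχ.mul hχ.star
  have h3 : dot G (χ * star χ) (triv G) = dot G χ χ := by rw [dot_mul_star, Res_eq_self hχ.1]
  rw [← dot_mul_star, ← h3, ml_cast h2 hA (triv_char H), ml_cast le_rfl hA (triv_char G),
    ml_trans h2 le_rfl hA (triv_char H), Finset.sum_eq_single_of_mem _ (triv_irr G),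
    ml_triv_of_le h2 (triv_char G) (by rwa [cfker_triv]), deg_eq (n := 1) (by simp), mul_one]
  intro ψ hψ e
  refine mul_eq_zero.2 (or_iff_not_imp_left.2 fun h4 => h.ml_triv h1 h2 hψ e ?_)
  have h5 := (ml_ne_zero le_rfl hA (triv_char G)).2 (h3 ▸ dot_self_ne_zero h0)
  have h6 := deg_eq_sum le_rfl hA
  rw [deg_mul hχ hχ.star, deg_star hχ, ← sq] at h6
  have h7 := Finset.add_le_sum (f := fun θ => ml G (χ * star χ) θ * charDegree θ)
    (fun _ _ => Nat.zero_le _) hψ (triv_irr G) e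
  have h8 := Nat.mul_pos (Nat.pos_of_ne_zero h5) (deg_pos (triv_irr G))
  have h9 := Nat.le_mul_of_pos_left (charDegree ψ) (Nat.pos_of_ne_zero h4)
  omega

theorem TI.Res_irr (h : TI p P G) (h1 : G ⊓ 𝓝(P) ≤ H) (h2 : H ≤ G) (hχ : χ ∈ irr G)
    (hd : charDegree χ ^ 2 ≤ ♯P) : Res (H : Set Γ) χ ∈ irr H :=
  irr_of_char ((irr_char hχ).Res h2) (by
    rw [dot_Res_left (Res_on _ _), h.dot_Res h1 h2 (irr_char hχ) hd, dot_irr_self hχ])

theorem cent_of_Res_irr (hH : H ≤ G) (hχ : χ ∈ irr G) (h : Res (H : Set Γ) χ ∈ irr H) (hz : z ∈ H)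
    (hc : H ≤ 𝓒₁(z)) (hg : g ∈ G) : ⁅z, g⁆ ∈ cfker χ := by
  obtain ⟨l, hl⟩ := exists_lin_of_central h (zpowers_le.2 hz) (A := zpowers z)
    ((comm_eq_bot_iff.2 (cent_symm (cent_zpowers z ▸ hc))).le.trans bot_le)
  have h1 := hl z (mem_zpowers z) 1
  rw [mul_one, Res_of_mem _ hz, Res_one] at h1
  have h2 := (CChar.CharKer.mem_charCenter_iff_commutator (mem_irr.1 hχ).2).1
    ((CChar.CharKer.mem_charCenter (irr_char hχ).2 (g := ⟨z, hH hz⟩)).2 (by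
      show ‖χ z‖ = ‖χ 1‖
      rw [h1, norm_mul, norm_lin l (mem_zpowers z), one_mul])) ⟨g, hg⟩
  exact (irr_mem_cfker hχ).2 (CChar.CharKer.apply_of_mem_charKer h2 :)

theorem orderOf_conj' (x g : Γ) : orderOf (x * g * x⁻¹) = orderOf g :=
  (MulAut.conj x).orderOf_eq g

theorem TI.pow_mem (h : TI p P G) (hg : g ∈ G ⊓ 𝓝(P)) (hp : p ∣ orderOf g) :
    g ^ (orderOf g / p) ∈ P ∧ g ^ (orderOf g / p) ≠ 1 := by
  have h1 := orderOf_pow_orderOf_div (orderOf_pos g).ne' hp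
  exact ⟨(h.syl.of_le (le_inf h.syl.le le_normalizer) inf_le_left).mem_of_normal inf_le_right
    (Subgroup.pow_mem _ hg _) (h1.symm ▸ (piNat_prime h.prime).2 rfl),
    fun e => h.prime.ne_one (by rw [← h1, e, orderOf_one])⟩

theorem TI.mem_norm (h : TI p P G) (hg : g ∈ G ⊓ 𝓝(P)) (hp : p ∣ orderOf g) (hx : x ∈ G)
    (e : x * g * x⁻¹ ∈ G ⊓ 𝓝(P)) : x ∈ G ⊓ 𝓝(P) :=
  h.mem le_rfl inf_le_left hx (h.pow_mem hg hp).1 (h.pow_mem hg hp).2
    (by rw [← conj_pow]; exact Subgroup.pow_mem _ e _)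

theorem TI.exists_conj (h : TI p P G) (hg : g ∈ G) (hp : p ∣ orderOf g) :
    ∃ x ∈ G, x * g * x⁻¹ ∈ G ⊓ 𝓝(P) := by
  have h1 := orderOf_pow_orderOf_div (orderOf_pos g).ne' hp
  obtain ⟨x, hx, e⟩ := h.syl.syl_conj_le h.prime
    (isPi_of_card_eq h.prime ((Nat.card_zpowers _).trans h1)) (zpowers_le.2 (Subgroup.pow_mem _ hg _))
  have h2 := e (conj_mem_cj.2 (mem_zpowers _))
  have h3 := mul_mem (mul_mem hx hg) (inv_mem hx)
  refine ⟨x, hx, h3, h.ti _ h3 _ h2 (fun e => h.prime.ne_one ?_) ?_⟩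
  · rw [← h1, ← orderOf_conj' x, e, orderOf_one]
  · rwa [← conj_pow, (Commute.self_pow _ _).eq, mul_inv_cancel_right, conj_pow]

theorem TI.Ind_eq (h : TI p P G) (hθ : θ ∈ CF (G ⊓ 𝓝(P))) (hg : g ∈ G ⊓ 𝓝(P))
    (hp : p ∣ orderOf g) : Ind G (G ⊓ 𝓝(P)) θ g = θ g :=
  Ind_eq_of_TI inf_le_left hθ.2 fun _ hx e => h.mem_norm hg hp hx (mem_of_ne_zero hθ.1 e)

theorem Ind_eq_zero (hθ : ∀ g, ¬ p ∣ orderOf g → θ g = 0) (hp : ¬ p ∣ orderOf g) :
    Ind G H θ g = 0 := by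
  rw [Ind_apply', Finset.sum_eq_zero fun x _ => hθ _ (by rwa [orderOf_conj']), mul_zero]

theorem TI.dot_triv (h : TI p P G) (hφ : φ ∈ CF G) (h0 : ∀ g, ¬ p ∣ orderOf g → φ g = 0) :
    dot (G ⊓ 𝓝(P)) φ (triv (G ⊓ 𝓝(P))) = dot G φ (triv G) := by
  rw [← dot_Ind_right _ hφ.2]
  refine dot_congr_right (A := {g | g ∈ G ∧ p ∣ orderOf g}) (fun g hg => ?_) fun g hg => ?_
  · exact (not_and_or.1 hg).elim (hφ.1 g) (h0 g)
  · obtain ⟨x, hx, e⟩ := h.exists_conj hg.1 hg.2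
    rw [← Ind_CInv G _ _ x hx g, h.Ind_eq (triv_CF _) e (by rw [orderOf_conj']; exact hg.2),
      triv_of_mem e, triv_of_mem hg.1]

theorem TI.dot_sub (h : TI p P G) {φ' ψ' : Γ → ℂ} (hφ : φ ∈ CF G) (hψ : ψ ∈ CF G) (hφ' : φ' ∈ CF G)
    (hψ' : ψ' ∈ CF G) (e : ∀ g, ¬ p ∣ orderOf g → φ g * conj (ψ g) = φ' g * conj (ψ' g)) :
    dot (G ⊓ 𝓝(P)) φ (Res (G ⊓ 𝓝(P) : Subgroup Γ) ψ) + dot G φ' ψ' =
      dot (G ⊓ 𝓝(P)) φ' (Res (G ⊓ 𝓝(P) : Subgroup Γ) ψ') + dot G φ ψ := by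
  have := h.dot_triv (sub_mem (CF_mul hφ (CF_star hψ)) (CF_mul hφ' (CF_star hψ')))
    fun g hg => sub_eq_zero.2 (e g hg)
  simp only [dot_sub_left, dot_mul_star, Res_eq_self hψ.1, Res_eq_self hψ'.1] at this
  linear_combination this

theorem TI.exists_lift (h : TI p P G) (hχ : χ ∈ irr G)
    (h1 : Res (G ⊓ 𝓝(P) : Subgroup Γ) χ ∈ irr (G ⊓ 𝓝(P))) (hθ : θ ∈ irr (G ⊓ 𝓝(P)))
    (e : ∀ g, ¬ p ∣ orderOf g → θ g = Res (G ⊓ 𝓝(P) : Subgroup Γ) χ g) :
    ∃ ψ ∈ irr G, Res (G ⊓ 𝓝(P) : Subgroup Γ) ψ = θ ∧ ∀ g, ¬ p ∣ orderOf g → ψ g = χ g := by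
  have h2 := sub_mem (irr_VC hθ) (irr_VC h1)
  have h3 := add_mem (irr_VC hχ) (VC_Ind inf_le_left h2)
  set ψ := χ + Ind G (G ⊓ 𝓝(P)) (θ - Res (G ⊓ 𝓝(P) : Subgroup Γ) χ) with hψ
  have h4 : ∀ g, ¬ p ∣ orderOf g → ψ g = χ g := fun g hg => by
    rw [hψ, Pi.add_apply, Ind_eq_zero (θ := θ - _) (fun g hg => sub_eq_zero.2 (e g hg)) hg, add_zero]
  have h5 : Res (G ⊓ 𝓝(P) : Subgroup Γ) ψ = θ := CF_ext (Res_on _ _) (irr_on hθ) fun g hg => by
    rw [Res_of_mem _ hg]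
    by_cases hp : p ∣ orderOf g
    · rw [hψ, Pi.add_apply, h.Ind_eq (VC_CF h2) hg hp, Pi.sub_apply, Res_of_mem _ hg, add_sub_cancel]
    · rw [h4 g hp, e g hp, Res_of_mem _ hg]
  have h6 := h.dot_sub (VC_CF h3) (VC_CF h3) (irr_CF hχ) (irr_CF hχ) fun g hg => by rw [h4 g hg]
  rw [← dot_Res_left (Res_on _ _) ψ, ← dot_Res_left (Res_on _ _) χ, h5, dot_irr_self hθ,
    dot_irr_self h1, dot_irr_self hχ, add_right_inj] at h6
  refine ⟨ψ, (Dirr_of_dot h3 h6.symm).irr_of_pos ?_, h5, h4⟩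
  rw [h4 1 (by simpa using h.prime.ne_one), irr_deg hχ]
  exact_mod_cast deg_pos hχ

end CA.H10TI
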