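import Cfsg.Agent.Lib.Char.H12Deg

/-!
# Sets of character degrees: the basic dichotomy (Isaacs 12.3, 12.4) and solvability
-/

set_option autoImplicit false
set_option linter.unusedSectionVars false
set_option linter.unusedVariables false

namespace CA.H12Cd
open Cfsg CA.PF CA.OQuo CA.H12Gl CA.H12Gl2 CA.H12Gl4 CA.H12Mon CA.H12Tri CA.H12Deg
  Subgroup Function
open CA.BG hiding cj cj_one cj_mul cj_inv_cj cj_cj_inv mem_cent1
open scoped ComplexConjugate commutatorElement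

universe u
variable {Γ : Type*} [Group Γ] [Fintype Γ] {G H K L M N U A P Q D : Subgroup Γ}
  {χ β γ θ φ ψ η ξ : Γ → ℂ} {p d m n : ℕ} {x y : Γ}

/-- The set of irreducible character degrees. -/
noncomputable def cd (X : Type*) [Group X] [Finite X] : Finset ℕ :=
  (irr (⊤ : Subgroup X)).image charDegree

theorem mem_cd : d ∈ cd Γ ↔ ∃ χ ∈ irr (⊤ : Subgroup Γ), charDegree χ = d := Finset.mem_image

theorem mem_cd' {X : Type*} [Group X] [Finite X] :
    d ∈ cd X ↔ ∃ χ : IrrCharacter X, charDegree χ.1 = d := by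
  have := Fintype.ofFinite X
  exact mem_cd.trans ⟨fun ⟨χ, h, e⟩ => ⟨⟨χ, mem_irr_top.1 h⟩, e⟩,
    fun ⟨χ, e⟩ => ⟨χ.1, mem_irr_top.2 χ.2, e⟩⟩

theorem deg_mem (h : χ ∈ irr (⊤ : Subgroup Γ)) : charDegree χ ∈ cd Γ := mem_cd.2 ⟨χ, h, rfl⟩

theorem mem_cd_sub : d ∈ cd K ↔ ∃ θ ∈ irr K, charDegree θ = d :=
  mem_cd'.trans ⟨fun ⟨χ, e⟩ => ⟨_, ext_mem_irr.2 χ.2, (deg_congr (CA.Ind.ext_one K χ.1)).trans e⟩,
    fun ⟨θ, h, e⟩ => ⟨⟨_, (mem_irr.1 h).2⟩, (deg_congr (χ := θ) rfl).symm.trans e⟩⟩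

theorem card_cd (X : Type*) [Group X] [Finite X] :
    Nat.card {n : ℕ // ∃ χ : IrrCharacter X, charDegree χ.1 = n} = (cd X).card := by
  rw [← Nat.card_eq_finsetCard]
  exact Nat.card_congr (Equiv.subtypeEquivRight fun _ => mem_cd'.symm)

theorem one_mem_cd : 1 ∈ cd Γ := mem_cd.2 ⟨_, triv_irr ⊤, H12Deg.deg_eq (by simp)⟩

theorem cd_pos (h : d ∈ cd Γ) : 0 < d := by
  obtain ⟨χ, h', rfl⟩ := mem_cd.1 h
  exact deg_pos h'

theorem cd_dvd (h : d ∈ cd Γ) : d ∣ Nat.card Γ := by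
  obtain ⟨χ, h', rfl⟩ := mem_cd.1 h
  simpa using deg_dvd_card h'

theorem cd_surj {X : Type*} [Group X] [Finite X] {f : Γ →* X} (hf : Surjective f) :
    cd X ⊆ cd Γ := fun d h => by
  obtain ⟨χ, rfl⟩ := mem_cd'.1 h
  exact mem_cd'.2 ⟨⟨_, CChar.CharFun.irr_comp_of_surjective χ.2 f hf⟩, deg_congr (by simp)⟩

theorem cd_quo (N : Subgroup Γ) [N.Normal] : cd (Γ ⧸ N) ⊆ cd Γ :=
  cd_surj (QuotientGroup.mk'_surjective N)

theorem exists_of_mem_quo [N.Normal] (h : d ∈ cd (Γ ⧸ N)) :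
    ∃ χ ∈ irr (⊤ : Subgroup Γ), N ≤ cfker χ ∧ charDegree χ = d := by
  obtain ⟨χ, rfl⟩ := mem_cd'.1 h
  refine ⟨_, mem_irr_top.2 (CChar.CharKer.irr_inflate χ.2), fun x hx y => ?_, deg_congr (by simp)⟩
  simp [(QuotientGroup.eq_one_iff x).2 hx]

theorem mem_quo [N.Normal] (h : χ ∈ irr (⊤ : Subgroup Γ)) (hk : N ≤ cfker χ) :
    charDegree χ ∈ cd (Γ ⧸ N) := by
  obtain ⟨ψ, h1, h2⟩ := CChar.CharKer.irr_exists_quotient (mem_irr_top.1 h) N
    fun g hg => cfker_apply (hk hg)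
  exact mem_cd'.2 ⟨⟨ψ, h1⟩, (deg_congr (h2 1).symm).symm⟩

theorem comm_of_cd (h : ∀ d ∈ cd Γ, d = 1) (a b : Γ) : a * b = b * a :=
  CChar.CharKer.comm_iff_irr_apply_one.2 (fun χ hχ => (deg_eq_one_iff (mem_irr_top.2 hχ)).1
    (h _ (deg_mem (mem_irr_top.2 hχ)))) a b

theorem cd_of_comm (h : ∀ a b : Γ, a * b = b * a) (hd : d ∈ cd Γ) : d = 1 := by
  obtain ⟨χ, rfl⟩ := mem_cd'.1 hd
  exact H12Deg.deg_eq (by simpa using CChar.CharFun.irr_apply_one_of_comm h χ.2)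

theorem deg_Ind (hK : K ≤ L) (h : IsChar K θ) :
    charDegree (Ind L K θ) = K.relIndex L * charDegree θ :=
  H12Deg.deg_eq (by rw [Ind_one hK, IsChar.deg h]; push_cast; rfl)

theorem deg_mul (h : IsChar K θ) (h' : IsChar L φ) :
    charDegree (θ * φ) = charDegree θ * charDegree φ :=
  H12Deg.deg_eq (by rw [Pi.mul_apply, IsChar.deg h, IsChar.deg h']; push_cast; rfl)

theorem deg_lin_iff (h : χ ∈ irr K) : charDegree χ = 1 ↔ ⁅K, K⁆ ≤ cfker χ :=
  (deg_eq_one_iff h).trans (irr_one_eq_one_iff h)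

theorem cd_pow [Fact p.Prime] (h : IsPGroup p Γ) (hd : d ∈ cd Γ) : ∃ k, d = p ^ k := by
  obtain ⟨k, hk⟩ := IsPGroup.iff_card.1 h
  obtain ⟨i, -, hi⟩ := (Nat.dvd_prime_pow Fact.out).1 (hk ▸ cd_dvd hd)
  exact ⟨i, hi⟩

/-- Degrees of a normal `p`-complement. -/
theorem cd_compl [hp : Fact p.Prime] [N.Normal] (h1 : ¬ p ∣ ♯N) {k : ℕ} (h2 : N.index = p ^ k)
    (hd : d ∈ cd N) : ∃ e ∈ cd Γ, d = ordCompl[p] e := by
  obtain ⟨θ, h, rfl⟩ := mem_cd_sub.1 hd
  obtain ⟨χ, h3, h4⟩ := exists_irr_over (le_top (a := N)) h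
  obtain ⟨a, h5, h6⟩ := exists_deg (nrm_top N) h3 h h4
  rw [relIndex_top_right, h2, Nat.dvd_prime_pow hp.out] at h5
  obtain ⟨i, -, rfl⟩ := h5
  refine ⟨_, deg_mem h3, ?_⟩
  rw [h6, Nat.ordCompl_mul, Nat.ordCompl_self_pow hp.out, one_mul,
    (Nat.ordCompl_eq_self_iff_zero_or_not_dvd _ hp.out).2
      (Or.inr fun h' => h1 (h'.trans (deg_dvd_card h)))]

/-! ### The dichotomy -/

/-- `K` is maximal among the normal subgroups with non-abelian quotient. -/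
structure MaxNA (K : Subgroup Γ) : Prop where
  nrm : K.Normal
  ne : ¬ commutator Γ ≤ K
  le : ∀ L : Subgroup Γ, L.Normal → K < L → commutator Γ ≤ L

theorem exists_maxNA (N : Subgroup Γ) [hN : N.Normal] (h : ¬ commutator Γ ≤ N) :
    ∃ K, N ≤ K ∧ MaxNA K := by
  obtain ⟨K, h1, h2⟩ := Finite.exists_le_maximal
    (p := fun K : Subgroup Γ => K.Normal ∧ ¬ commutator Γ ≤ K) ⟨hN, h⟩
  exact ⟨K, h1, h2.1.1, h2.1.2, fun L hL hlt => by
    by_contra h3; exact hlt.not_ge (h2.2 ⟨hL, h3⟩ hlt.le)⟩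

theorem MaxNA.quo (h : MaxNA K) [K.Normal] : MaxNA (⊥ : Subgroup (Γ ⧸ K)) := by
  have hs := QuotientGroup.mk'_surjective K
  have e : (commutator Γ).map (QuotientGroup.mk' K) = commutator (Γ ⧸ K) := by
    rw [commutator_def, map_commutator, map_top_of_surjective _ hs]; rfl
  refine ⟨inferInstance, fun h1 => h.ne ?_, fun L hL h1 => ?_⟩
  · rwa [← e, le_bot_iff, Subgroup.map_eq_bot_iff, QuotientGroup.ker_mk'] at h1
  · rw [← e, map_le_iff_le_comap]
    refine h.le _ inferInstance (lt_of_le_of_ne (QuotientGroup.le_comap_mk' K L) fun e' => h1.ne' ?_)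
    rw [← map_comap_eq_self_of_surjective hs L, ← e', Subgroup.map_eq_bot_iff, QuotientGroup.ker_mk']

theorem MaxNA.pgroup (h : MaxNA (⊥ : Subgroup Γ)) (hc : commutator Γ ≤ center Γ) :
    ∃ p : ℕ, p.Prime ∧ IsPGroup p Γ := by
  have : Group.IsNilpotent Γ := ⟨2, top_le_iff.1 fun x _ =>
    Subgroup.mem_upperCentralSeries_succ_iff.2 fun y => by
      rw [Subgroup.upperCentralSeries_one]; exact hc (commutator_mem_commutator trivial trivial)⟩
  obtain ⟨p, hp, hd⟩ := Nat.exists_prime_and_dvd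
    (fun e => h.ne (card_eq_one.1 e).le : Nat.card (commutator Γ) ≠ 1)
  have := Fact.mk hp
  refine ⟨p, hp, IsPGroup.iff_card.2 ⟨_, Nat.eq_prime_pow_of_unique_prime_dvd Nat.card_pos.ne'
    fun {q} hq hq' => ?_⟩⟩
  have := Fact.mk hq
  obtain ⟨Q⟩ : Nonempty (Sylow q Γ) := inferInstance
  have h1 := h.le Q (Sylow.normal_of_normalizerCondition Group.normalizerCondition_of_isNilpotent Q)
    (bot_lt_iff_ne_bot.2 (Q.ne_bot_of_dvd_card hq'))
  have h2 := hd.trans (card_dvd_of_le h1)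
  rw [Q.card_eq_multiplicity] at h2
  exact ((Nat.prime_dvd_prime_iff_eq hp hq).1 (hp.dvd_of_dvd_pow h2)).symm

/-- `Γ/K` is a Frobenius group with abelian complement and kernel the abelian `p`-group `N/K`. -/
structure FS (p : ℕ) (K N : Subgroup Γ) : Prop where
  prime : p.Prime
  nK : Nrm K ⊤
  nN : Nrm N ⊤
  lt : K < N
  ne : N ≠ ⊤
  der : commutator Γ ≤ N
  ab : ⁅N, N⁆ ≤ K
  pow : ∃ a, K.relIndex N = p ^ a
  fpf : ∀ x, x ∉ N → ∀ y ∈ N, x * y * x⁻¹ * y⁻¹ ∈ K → y ∈ K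

theorem MaxNA.frob (h : MaxNA (⊥ : Subgroup Γ)) (hab : ⁅commutator Γ, commutator Γ⁆ = ⊥)
    (hc : ¬ commutator Γ ≤ center Γ) : ∃ p, FS p ⊥ (commutator Γ) := by
  set N := commutator Γ with hN
  have hcm : ∀ a ∈ N, ∀ b ∈ N, a * b = b * a := fun a ha b hb =>
    commutatorElement_eq_one_iff_mul_comm.1 (mem_bot.1 (hab ▸ commutator_mem_commutator ha hb))
  have hm : ∀ a b : Γ, a * b * a⁻¹ * b⁻¹ ∈ N := fun a b => commutator_mem_commutator trivial trivial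
  have hZ : center Γ = ⊥ := by
    by_contra e; exact hc (h.le _ inferInstance (bot_lt_iff_ne_bot.2 e))
  have h1 : ∀ x : Γ, N ≤ centralizer {x} ∨ ∀ y ∈ N, y * x = x * y → y = 1 := fun x => by
    by_cases e : N ⊓ centralizer {x} = ⊥
    · exact Or.inr fun y h1 h2 => mem_bot.1 (e ▸ ⟨h1, mem_centralizer_singleton_iff.2 h2⟩)
    · refine Or.inl ((h.le (N ⊓ centralizer {x}) ⟨fun y hy g => ⟨Normal.conj_mem inferInstance _ hy.1 g,
        mem_centralizer_singleton_iff.2 ?_⟩⟩ (bot_lt_iff_ne_bot.2 e)).trans inf_le_right)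
      have h2 := mem_centralizer_singleton_iff.1 hy.2
      have h3 := hcm _ (hm g⁻¹ x) y hy.1
      calc g * y * g⁻¹ * x = g * (y * (g⁻¹ * x * g⁻¹⁻¹ * x⁻¹)) * x * g⁻¹ := by group
        _ = g * (g⁻¹ * x * g⁻¹⁻¹ * x⁻¹) * (y * x) * g⁻¹ := by rw [← h3]; group
        _ = _ := by rw [h2]; group
  obtain ⟨x₀, hx₀⟩ : ∃ x : Γ, ∀ y ∈ N, y * x = x * y → y = 1 := by
    by_contra e
    exact hc fun y hy => mem_center_iff.2 fun g => (mem_centralizer_singleton_iff.1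
      ((h1 g).resolve_right (fun h => e ⟨g, h⟩) hy)).symm
  have h2 : ∀ g : Γ, ∃ y ∈ N, ∃ c, c * x₀ = x₀ * c ∧ g = y * c := fun g => by
    obtain ⟨y, h3, h4⟩ := CA.BPerm.exists_conj_eq_mul hx₀ (hm g x₀)
    refine ⟨y, h3, y⁻¹ * g, ?_, by group⟩
    calc y⁻¹ * g * x₀ = y⁻¹ * (g * x₀ * g⁻¹ * x₀⁻¹ * x₀) * g := by group
      _ = _ := by rw [← h4]; group
  have h3 : ∀ x : Γ, N ≤ centralizer {x} → x ∈ N := fun x hx => by
    obtain ⟨y, h3, c, h4, rfl⟩ := h2 x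
    have : c ∈ center Γ := mem_center_iff.2 fun g => by
      obtain ⟨z, h5, b, h6, rfl⟩ := h2 g
      have h7 : z * c = c * z := mul_left_cancel (a := y) (by
        rw [← mul_assoc, ← hcm z h5 y h3, mul_assoc, mem_centralizer_singleton_iff.1 (hx h5),
          mul_assoc])
      have h8 : b * c = c * b := commutatorElement_eq_one_iff_mul_comm.1 (hx₀ _ (hm b c)
        (((Commute.mul_left h6 h4).mul_left (Commute.inv_left h6)).mul_left (Commute.inv_left h4)))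
      rw [mul_assoc, h8, ← mul_assoc, h7, mul_assoc]
    rw [hZ, mem_bot] at this
    rwa [this, mul_one]
  obtain ⟨p, hp, hd⟩ := Nat.exists_prime_and_dvd
    (fun e => h.ne (card_eq_one.1 e).le : Nat.card N ≠ 1)
  have := Fact.mk hp
  obtain ⟨Q⟩ : Nonempty (Sylow p N) := inferInstance
  have hQ : (Q : Subgroup N).Normal := ⟨fun a ha b => by
    rwa [show b * a * b⁻¹ = a from Subtype.ext (by simp [hcm _ b.2 _ a.2])]⟩
  have := Q.characteristic_of_normal hQ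
  have h4 := h.le ((Q : Subgroup N).map N.subtype) inferInstance (bot_lt_iff_ne_bot.2 fun e =>
    Q.ne_bot_of_dvd_card hd ((map_eq_bot_iff_of_injective _ N.subtype_injective).1 e))
  refine ⟨p, hp, nrm_bot _, nrm_top N, bot_lt_iff_ne_bot.2 fun e => h.ne e.le, fun e => hc
    fun a ha => mem_center_iff.2 fun b => hcm b (e ▸ trivial) a ha, le_rfl, hab.le, ?_,
    fun x hx y hy e => mem_bot.2 ((h1 x).resolve_left (fun h => hx (h3 x h)) y hy
      (commutatorElement_eq_one_iff_mul_comm.1 e).symm)⟩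
  rw [relIndex_bot_left]
  exact IsPGroup.iff_card.1 ((Q.isPGroup'.map N.subtype).to_le h4)

theorem MaxNA.dich (h : MaxNA K) (hab : ⁅commutator Γ, commutator Γ⁆ ≤ K) [K.Normal] :
    (⁅commutator Γ, ⊤⁆ ≤ K ∧ ∃ p : ℕ, p.Prime ∧ IsPGroup p (Γ ⧸ K)) ∨ ∃ p N, FS p K N := by
  have := Fintype.ofFinite (Γ ⧸ K)
  have hs := QuotientGroup.mk'_surjective K
  have e : (commutator Γ).map (QuotientGroup.mk' K) = commutator (Γ ⧸ K) := by
    rw [commutator_def, map_commutator, map_top_of_surjective _ hs]; rfl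
  by_cases hc : commutator (Γ ⧸ K) ≤ center (Γ ⧸ K)
  · refine Or.inl ⟨commutator_le.2 fun a ha b _ => ?_, h.quo.pgroup hc⟩
    rw [← QuotientGroup.eq_one_iff, ← QuotientGroup.mk'_apply, map_commutatorElement,
      commutatorElement_eq_one_iff_mul_comm]
    exact (mem_center_iff.1 (hc (e ▸ mem_map_of_mem _ ha)) _).symm
  obtain ⟨p, F⟩ := h.quo.frob (by
    rwa [← e, ← map_commutator, Subgroup.map_eq_bot_iff, QuotientGroup.ker_mk']) hc
  have hK : (⊥ : Subgroup (Γ ⧸ K)).comap (QuotientGroup.mk' K) = K := QuotientGroup.ker_mk' K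
  refine Or.inr ⟨p, (commutator (Γ ⧸ K)).comap (QuotientGroup.mk' K), F.prime, nrm_top _,
    nrm_top _, ?_, fun e' => F.ne ?_, map_le_iff_le_comap.1 e.le, ?_, ?_, fun x hx y hy e' => ?_⟩
  · exact hK.ge.trans_lt ((comap_lt_comap_of_surjective hs).2 F.lt)
  · rw [← map_comap_eq_self_of_surjective hs (commutator _), e', map_top_of_surjective _ hs]
  · refine le_trans (map_le_iff_le_comap.1 ?_) hK.le
    rw [map_commutator, map_comap_eq_self_of_surjective hs]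
    exact F.ab
  · have := relIndex_pb hs ⊥ (commutator (Γ ⧸ K))
    rw [hK] at this
    rw [this]; exact F.pow
  · rw [← QuotientGroup.eq_one_iff] at e' ⊢
    exact F.fpf _ hx _ hy (by simpa using e')

theorem MaxNA.solv (h : MaxNA K) [K.Normal] (hs : Group.IsSolvable (Γ ⧸ K)) :
    ⁅commutator Γ, commutator Γ⁆ ≤ K := by
  have := Fintype.ofFinite (Γ ⧸ K)
  have hs := QuotientGroup.mk'_surjective K
  have e : (commutator Γ).map (QuotientGroup.mk' K) = commutator (Γ ⧸ K) := by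
    rw [commutator_def, map_commutator, map_top_of_surjective _ hs]; rfl
  refine le_trans ((Subgroup.map_eq_bot_iff _).1 ?_) (QuotientGroup.ker_mk' K).le
  rw [map_commutator, e]
  by_contra h1
  exact (Group.IsSolvable.commutator_lt_of_ne_bot fun e => h.quo.ne e.le).not_ge
    (h.quo.le _ inferInstance (bot_lt_iff_ne_bot.2 h1))

namespace FS
variable (F : FS p K N)
include F

theorem lin (h : β ∈ irrK N K) : β 1 = 1 :=
  card_lin_ker (F.nK.mono F.lt.le le_top) F.ab β h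

theorem fixed (h : β ∈ irrK N K) (hx : x ∉ N) (hs : x ∈ stab β) : β = triv N := by
  by_contra e
  obtain ⟨y, h1, h2, h3⟩ := exists_fixed_irrK (F.nK.mono F.lt.le le_top)
    (F.nN.le_normalizer trivial) (F.nK.le_normalizer trivial) (mem_irrK.1 h).1 (mem_irrK.1 h).2 e hs
  exact h2 (F.fpf x hx y h1 h3)

theorem index_mem : N.index ∈ cd Γ ∧ N.index < K.relIndex N := by
  classical
  obtain ⟨y, h1, h2⟩ := SetLike.exists_of_lt F.lt
  obtain ⟨β, h3, h4, h5⟩ := exists_irr_not_mem_cfker (F.nK.mono F.lt.le le_top) h1 h2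
  have h6 : β ≠ triv N := fun e => h5 (by rwa [e, cfker_triv])
  have h7 : ⊤ ⊓ stab β ≤ N := fun x hx => by
    by_contra h; exact h6 (F.fixed (mem_irrK.2 ⟨h3, h4⟩) h hx.2)
  have h8 := (inertia_Ind_irr_iff F.nN h3).2 h7
  refine ⟨mem_cd.2 ⟨_, h8, ?_⟩, ?_⟩
  · rw [deg_Ind le_top (irr_char h3), (deg_eq_one_iff h3).2 (F.lin (mem_irrK.2 ⟨h3, h4⟩)),
      relIndex_top_right, mul_one]
  · rw [← relIndex_top_right, ← relIndex_stab_of_irr F.nN h3 h8, ← card_cfclass,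
      ← card_irrK_of_der_le (F.nK.mono F.lt.le le_top) F.ab]
    refine Finset.card_lt_card ⟨fun φ hφ => ?_, fun h => h6 ?_⟩
    · obtain ⟨g, -, rfl⟩ := mem_cfclass.1 hφ
      exact mem_irrK.2 ⟨F.nN.irr_cj trivial h3, (le_cfker_cj (F.nK.le_normalizer trivial)).2 h4⟩
    · have := cfclass_symm (h (mem_irrK.2 ⟨triv_irr N, by rw [cfker_triv]; exact F.lt.le⟩))
      obtain ⟨g, -, e⟩ := mem_cfclass.1 this
      rw [e, cj_triv fun x => F.nN.conj_iff trivial]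

theorem one_lt : 1 < N.index := one_lt_index_of_ne_top F.ne

theorem dvd : p ∣ K.relIndex N := by
  obtain ⟨a, ha⟩ := F.pow
  refine ha ▸ dvd_pow_self p ?_
  rintro rfl
  exact F.lt.not_ge (relIndex_eq_one.1 ha)

theorem not_dvd : ¬ p ∣ N.index := fun h => by
  have := Fact.mk F.prime
  have := F.nN.normal_of_top
  have := F.nK.normal_of_top
  obtain ⟨a, ha⟩ := F.pow
  obtain ⟨P⟩ : Nonempty (Sylow p (Γ ⧸ K)) := inferInstance
  have hs := QuotientGroup.mk'_surjective K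
  have hN : IsPGroup p (N.map (QuotientGroup.mk' K)) := IsPGroup.iff_card.2 ⟨a, by
    rw [← ha, ← relIndex_ker, QuotientGroup.ker_mk']⟩
  have := Normal.map ‹N.Normal› _ hs
  have h1 := hN.le_sylow_of_normal P
  have := P.isPGroup'.isNilpotent
  have h2 : (N.map (QuotientGroup.mk' K)).subgroupOf P ≠ ⊥ := fun e => F.lt.not_ge (by
    rwa [subgroupOf_eq_bot, disjoint_iff, inf_eq_left.2 h1, Subgroup.map_eq_bot_iff,
      QuotientGroup.ker_mk'] at e)
  obtain ⟨z, h3, h4, h5⟩ := PGBasic.exists_mem_center_of_nilpotent h2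
  obtain ⟨y, h6, h7⟩ := mem_subgroupOf.1 h3
  have h8 : (P : Subgroup (Γ ⧸ K)) ≤ N.map (QuotientGroup.mk' K) := fun g hg => by
    obtain ⟨x, rfl⟩ := hs g
    refine mem_map_of_mem _ (by_contra fun hx => h4 (Subtype.ext ?_))
    rw [← h7]
    refine (QuotientGroup.eq_one_iff y).2 (F.fpf x hx y h6 ((QuotientGroup.eq_one_iff _).1 ?_))
    have := congrArg Subtype.val (mem_center_iff.1 h5 ⟨_, hg⟩)
    simp only [coe_mul, ← h7, QuotientGroup.mk'_apply] at this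
    simp [this]
  refine P.not_dvd_index (h.trans ?_)
  rw [← index_map_eq N hs (by rw [QuotientGroup.ker_mk']; exact F.lt.le)]
  exact index_dvd_of_le h8

theorem eq_of_fixed (hψ : ψ ∈ irr N) (hr : Res (K : Set Γ) ψ ∈ irr K) (hβ : β ∈ irrK N K)
    (hγ : γ ∈ irrK N K) (hx : x ∉ N) (h1 : x ∈ stab (β * ψ)) (h2 : x ∈ stab (γ * ψ)) : β = γ := by
  have hK := F.nK.mono F.lt.le le_top
  obtain ⟨i, rfl⟩ := (irr_char (mem_irrK.1 hβ).1).exists_lin (F.lin hβ)
  obtain ⟨j, rfl⟩ := (irr_char (mem_irrK.1 hγ).1).exists_lin (F.lin hγ)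
  have hk : K ≤ cfker (PF.lin (i * j⁻¹)) := by
    rw [lin_mul, lin_inv]
    exact le_cfker_mul (mem_irrK.1 hβ).2 (by rw [cfker_star]; exact (mem_irrK.1 hγ).2)
  have e : PF.lin (i * j⁻¹) * (PF.lin j * ψ) = PF.lin i * ψ := by
    rw [← mul_assoc, ← lin_mul, inv_mul_cancel_right]
  have h3 : Res (K : Set Γ) (PF.lin j * ψ) = Res (K : Set Γ) ψ := Res_congr fun y hy => by
    rw [Pi.mul_apply, lin_eq_one_of_le (mem_irrK.1 hγ).2 hy, one_mul]
  have h4 := gall_inj hK (irr_char (lin_mul_irr j hψ)) (h3 ▸ hr) (F.nN.irr_cj (mem_top x)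
    (lin_irr _)) ((le_cfker_cj (F.nK.le_normalizer trivial)).2 hk) (lin_irr _) hk (by
      rw [e, ← mem_stab.1 h2, ← PF.cj_mul, e, mem_stab.1 h1])
  have h5 := F.fixed (mem_irrK.2 ⟨lin_irr _, hk⟩) hx h4
  rw [← lin_one] at h5
  rw [mul_inv_eq_one.1 (lin_injective h5)]

/-- Isaacs 12.4 (weak form). -/
theorem dich (hψ : ψ ∈ irr N) : N.index * charDegree ψ ∈ cd Γ ∨ p ∣ charDegree ψ := by
  classical
  have := F.nN.normal_of_top
  have := Fintype.ofFinite (Γ ⧸ N)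
  by_contra h
  rw [not_or] at h
  have hK := F.nK.mono F.lt.le le_top
  obtain ⟨a, ha⟩ := F.pow
  have hr := Res_irr_of_cop hK hψ (ha ▸ ((F.prime.coprime_iff_not_dvd.2 h.2).symm.pow_right a))
  have h1 : ∀ β ∈ irrK N K, ∃ x, x ∉ N ∧ x ∈ stab (β * ψ) := fun β hβ => by
    by_contra h1
    have h2 := gall_irr hK (irr_char hψ) hr (mem_irrK.1 hβ).1 (mem_irrK.1 hβ).2
    refine h.1 (mem_cd.2 ⟨_, (inertia_Ind_irr_iff F.nN h2).2 fun x hx => by_contra fun h3 =>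
      h1 ⟨x, h3, hx.2⟩, ?_⟩)
    rw [deg_Ind le_top (irr_char h2), relIndex_top_right, deg_congr (ψ := ψ)]
    rw [Pi.mul_apply, F.lin hβ, one_mul]
  choose! f hf using h1
  have h2 := Finset.card_le_card_of_injOn (s := irrK N K) (t := Finset.univ)
    (fun β => (f β : Γ ⧸ N)) (fun _ _ => Finset.mem_univ _) fun β hβ γ hγ e => by
      refine F.eq_of_fixed hψ hr hβ hγ (hf β hβ).1 (hf β hβ).2 ?_
      have h3 := le_stab (irr_CInv (gall_irr hK (irr_char hψ) hr (mem_irrK.1 hγ).1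
        (mem_irrK.1 hγ).2)) (QuotientGroup.eq.1 e)
      simpa using mul_mem (hf γ hγ).2 (inv_mem h3)
  rw [card_irrK_of_der_le hK F.ab, Finset.card_univ, ← Nat.card_eq_fintype_card] at h2
  exact F.index_mem.2.not_ge h2

end FS

end CA.H12Cd
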