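import Cfsg.Agent.Lib.Char.H12Mon
import Cfsg.Agent.Lib.Char.H13Brauer
import Cfsg.Agent.Lib.Block.H11Nilp
import Cfsg.Agent.Lib.Block.BlkHeight

/-!
# Induction theorems of Brauer, Artin and Solomon
-/

set_option autoImplicit false
set_option linter.unusedSectionVars false
set_option linter.unusedVariables false

namespace CA.H12Ch8
open Cfsg CA.PF CA.OQuo CA.H12Gl CA.H12Gl2 CA.H12Mon CA.H12PPart CA.BlkVal Subgroup Function
open CA.BG hiding cj cj_one cj_mul cj_inv_cj cj_cj_inv mem_cent1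
open scoped ComplexConjugate commutatorElement

variable {Γ : Type*} [Group Γ] [Fintype Γ] {G H K L M N U C E : Subgroup Γ}
  {χ β θ φ ψ : Γ → ℂ} {p : ℕ} {x y : Γ}

theorem zpowers_mk (hx : x ∈ E) : zpowers (⟨x, hx⟩ : E) = (zpowers x).subgroupOf E := by
  ext z
  simp [mem_zpowers_iff, mem_subgroupOf, Subtype.ext_iff]

theorem elem_iff : IsElementary p E ↔
    ∃ x ∈ E, E ≤ 𝓒₁(x) ∧ (orderOf x).Coprime p ∧ ∃ k, (zpowers x).relIndex E = p ^ k :=
  ⟨fun ⟨⟨x, hx⟩, h1, h2, k, h3⟩ => ⟨x, hx, fun g hg => BG.mem_cent1.2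
      (congrArg Subtype.val (mem_center_iff.1 h1 ⟨g, hg⟩)), orderOf_mk x hx ▸ h2, k,
      by rwa [zpowers_mk] at h3⟩,
    fun ⟨x, hx, h1, h2, k, h3⟩ => ⟨⟨x, hx⟩, mem_center_iff.2 fun g => Subtype.ext
      (BG.mem_cent1.1 (h1 g.2)), (orderOf_mk x hx).symm ▸ h2, k, by rwa [zpowers_mk]⟩⟩

theorem elem_of_le (hp : p.Prime) (h : IsElementary p E) (hU : U ≤ E) : IsElementary p U := by
  obtain ⟨x, hx, h1, h2, k, h3⟩ := elem_iff.1 h
  obtain ⟨y, hy⟩ := exists_zpowers_of_cyc (cyc_of_le (cyc_zpowers x)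
    (inf_le_left : zpowers x ⊓ U ≤ _))
  have h4 := hy.le (mem_zpowers y)
  rw [← cent_zpowers] at h1
  refine elem_iff.2 ⟨y, h4.2, hU.trans (h1.trans (cent_le_cent1 h4.1)), h2.coprime_dvd_left
    (orderOf_dvd_of_mem_zpowers h4.1), ?_⟩
  obtain ⟨j, -, hj⟩ := (Nat.dvd_prime_pow hp).1 (h3 ▸ relIndex_dvd_of_norm (norm_of_cent h1) hU)
  exact ⟨j, by rw [hy, inf_relIndex_right, hj]⟩

theorem elem_of_cyc (hp : p.Prime) (h : IsCyclic U) : IsElementary p U := by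
  obtain ⟨g, rfl⟩ := exists_zpowers_of_cyc h
  obtain ⟨k, hk⟩ := orderOf_pPart hp g
  refine elem_of_le hp (H13Brauer.isElementary_sup hp (not_dvd_orderOf_pReg hp g)
    (P := zpowers (pPart p g)) (IsPGroup.of_card (by rw [Nat.card_zpowers, hk]))
    (zpowers_le.2 (BG.mem_cent1.2 (commute_pPart_pReg hp g).eq))) (zpowers_le.2 ?_)
  simpa only [pReg_mul_pPart hp g] using mul_mem_sup (mem_zpowers (pReg p g))
    (mem_zpowers (pPart p g))

theorem Ind_mem {S : Submodule ℤ (Γ → ℂ)} (h : ∀ χ ∈ irr E, Ind G E χ ∈ S) (hφ : φ ∈ VC E) :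
    Ind G E φ ∈ S :=
  VC_induction (P := fun φ => Ind G E φ ∈ S) (by simp) h
    (fun _ _ h1 h2 => by rw [map_sub]; exact sub_mem h1 h2) hφ

/-- Brauer's induction theorem as an induction principle. -/
theorem brauer_mem {S : Submodule ℤ (Γ → ℂ)}
    (h : ∀ (E : Subgroup Γ) p, p.Prime → IsElementary p E → ∀ χ ∈ irr E, Ind ⊤ E χ ∈ S)
    (hφ : φ ∈ VC (⊤ : Subgroup Γ)) : φ ∈ S := by
  refine Submodule.span_le.2 ?_ (H13Brauer.mem_span_of_gen (mem_VC_top.1 hφ))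
  rintro _ ⟨E, p, ψ, hp, hE, hψ, rfl⟩
  rw [← Ind_top]
  exact Ind_mem (h E p hp hE) (ext_mem_VC.2 hψ)

theorem brauer_lin {S : Submodule ℤ (Γ → ℂ)}
    (h : ∀ (E : Subgroup Γ) p, p.Prime → IsElementary p E → ∀ i : Lin E, Ind ⊤ E (lin i) ∈ S)
    (hφ : φ ∈ VC (⊤ : Subgroup Γ)) : φ ∈ S :=
  brauer_mem (fun E p hp hE χ hχ => by
    obtain ⟨U, h1, i, rfl⟩ := nil_mon (H11Nilp.isNilpotent_of_isElementary hp hE) hχ
    rw [Ind_Ind le_top]
    exact h U p hp (elem_of_le hp hE h1) i) hφ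

/-- Sums of lists of terms closed under negation. -/
def lists {T : Type*} (v : T → Γ → ℂ) (Q : T → Prop)
    (h : ∀ t, Q t → ∃ t', Q t' ∧ v t' = -v t) : Submodule ℤ (Γ → ℂ) :=
  AddSubgroup.toIntSubmodule
    { carrier := {f | ∃ l : List T, (∀ t ∈ l, Q t) ∧ f = (l.map v).sum}
      zero_mem' := ⟨[], by simp, rfl⟩
      add_mem' := by
        rintro _ _ ⟨l, h1, rfl⟩ ⟨l', h2, rfl⟩
        exact ⟨l ++ l', fun t ht => (List.mem_append.1 ht).elim (h1 t) (h2 t), by simp⟩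
      neg_mem' := by
        rintro _ ⟨l, h1, rfl⟩
        induction l with
        | nil => exact ⟨[], by simp, by simp⟩
        | cons a l ih =>
          obtain ⟨l', h2, h3⟩ := ih fun t ht => h1 t (List.mem_cons_of_mem a ht)
          obtain ⟨a', h4, h5⟩ := h a (h1 a List.mem_cons_self)
          exact ⟨a' :: l', fun t ht => (List.mem_cons.1 ht).elim (fun e => e ▸ h4) (h2 t), by
            rw [List.map_cons, List.sum_cons, neg_add, h3, List.map_cons, List.sum_cons, h5]⟩ }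

theorem mem_lists {T : Type*} {v : T → Γ → ℂ} {Q : T → Prop}
    {h : ∀ t, Q t → ∃ t', Q t' ∧ v t' = -v t} (t : T) (ht : Q t) (e : φ = v t) :
    φ ∈ lists v Q h :=
  ⟨[t], by simpa, by simpa⟩

/-! ### Artin's theorem -/

open Classical in
/-- `|A|` times the indicator of the generators of `A`. -/
noncomputable def gen (A : Subgroup Γ) : Γ → ℂ := fun x => if zpowers x = A then ♯A else 0

theorem sum_Ind_gen (K : Subgroup Γ) [Fintype (Subgroup Γ)] [DecidablePred (· ≤ K)] :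
    ∑ A with A ≤ K, Ind K A (gen A) = (♯K : ℂ) • triv K := funext fun g => by
  classical
  simp only [Finset.sum_apply, Ind_apply', Finset.mul_sum, gen, mul_ite,
    inv_mul_cancel₀ (cardC_ne _), mul_zero]
  rw [Finset.sum_comm, Finset.sum_congr rfl (g := fun _ => triv K g) fun x hx => ?_,
    Finset.sum_const, card_fs, nsmul_eq_mul, Pi.smul_apply, smul_eq_mul]
  rw [Finset.sum_ite_eq]
  by_cases h : g ∈ K <;> simp [h, triv_of_mem, triv_of_not_mem, conj_mem_iff (mem_fs.1 hx)]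

theorem gen_on (A : Subgroup Γ) : gen A ∈ cfOn (A : Set Γ) := fun x hx =>
  if_neg fun (e : zpowers x = A) => hx (e ▸ mem_zpowers x)

theorem gen_VC (A : Subgroup Γ) : gen A ∈ VC A := by
  classical
  induction A using WellFoundedLT.induction with | ind A ih => ?_
  by_cases h : ∃ x, zpowers x = A
  swap
  · rw [show gen A = 0 from funext fun x => if_neg fun e => h ⟨x, e⟩]; exact zero_mem _
  obtain ⟨a, ha⟩ := h
  have := Fintype.ofFinite (Subgroup Γ)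
  have h1 := sum_Ind_gen A
  rw [← Finset.add_sum_erase _ _ (a := A) (by simp), Ind_self (CInv_of_le_stab fun x hx =>
    cent_le_stab (gen_on A) (comm_iff_le_cent.1 (comm_of_cyclic (ha ▸ cyc_zpowers a)) hx)),
    ← eq_sub_iff_add_eq] at h1
  rw [h1]
  refine sub_mem (VC_natCast_smul _ (triv_VC A)) (Submodule.sum_mem _ fun B hB => ?_)
  have h2 := (Finset.mem_filter.1 (Finset.mem_erase.1 hB).2).2
  exact VC_Ind h2 (ih B (h2.lt_of_ne (Finset.mem_erase.1 hB).1))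

theorem artin {S : Submodule ℤ (Γ → ℂ)}
    (h : ∀ A ≤ K, IsCyclic A → ∀ i : Lin A, Ind K A (lin i) ∈ S) (hφ : φ ∈ VC K) :
    (♯K : ℂ) • φ ∈ S := by
  classical
  have := Fintype.ofFinite (Subgroup Γ)
  rw [← triv_mul_of_on (VC_on hφ), ← smul_mul_assoc, ← sum_Ind_gen, Finset.sum_mul]
  refine Submodule.sum_mem _ fun A hA => ?_
  have h1 := (Finset.mem_filter.1 hA).2
  rw [← Ind_mul _ _ (VC_CInv hφ), ← mul_Res_of_on (gen_on A)]
  by_cases h2 : ∃ x, zpowers x = A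
  · obtain ⟨a, ha⟩ := h2
    refine Ind_mem (fun χ hχ => ?_) (VC_mul (gen_VC A) (VC_Res h1 hφ))
    obtain ⟨i, rfl⟩ := irr_exists_lin (comm_of_cyclic (ha ▸ cyc_zpowers a)) hχ
    exact h A h1 (ha ▸ cyc_zpowers a) i
  · rw [show gen A = 0 from funext fun x => if_neg fun e => h2 ⟨x, e⟩, zero_mul, map_zero]
    exact zero_mem _

/-! ### Local induction theorems -/

theorem exists_const_mem {R : Type*} [CommRing R] [Algebra R ℂ] {S : Submodule R (Γ → ℂ)}
    (hm : ∀ f ∈ S, ∀ g ∈ S, f * g ∈ S) (hp : p.Prime)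
    (h : ∀ x, ∃ f ∈ S, ∃ n : ℤ, ¬ (p : ℤ) ∣ n ∧ f x = n) :
    ∃ m : ℤ, ¬ (p : ℤ) ∣ m ∧ (fun _ => (m : ℂ)) ∈ S := by
  classical
  choose f hf n hn e using h
  have h1 : ∀ s : Finset Γ, ∏ y ∈ s, ((n y : Γ → ℂ) - f y) - ((∏ y ∈ s, n y : ℤ) : Γ → ℂ) ∈ S := by
    intro s
    induction s using Finset.induction_on with
    | empty => simp
    | insert a s ha ih =>
      rw [Finset.prod_insert ha, Finset.prod_insert ha]
      set A := ∏ y ∈ s, ((n y : Γ → ℂ) - f y)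
      set b := ∏ y ∈ s, n y
      rw [show (n a - f a) * A - ((n a * b : ℤ) : Γ → ℂ) =
        n a • (A - b) - f a * (A - b) - b • f a by simp only [zsmul_eq_mul]; push_cast; ring]
      exact sub_mem (sub_mem (zsmul_mem ih _) (hm _ (hf a) _ ih)) (zsmul_mem (hf a) _)
  have h2 := h1 Finset.univ
  rw [show ∏ y, ((n y : Γ → ℂ) - f y) = 0 from funext fun g => by
    rw [Finset.prod_apply]; exact Finset.prod_eq_zero (Finset.mem_univ g) (by simp [e]),
    zero_sub, neg_mem_iff] at h2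
  refine ⟨_, fun hd => ?_, h2⟩
  obtain ⟨y, -, hy⟩ := (Prime.dvd_finsetProd_iff (Nat.prime_iff_prime_int.1 hp) _).1 hd
  exact hn y hy

theorem span_mul_mem {R : Type*} [CommRing R] [Algebra R ℂ] {S : Set (Γ → ℂ)}
    (h : ∀ f ∈ S, ∀ g ∈ S, f * g ∈ Submodule.span R S) :
    ∀ f ∈ Submodule.span R S, ∀ g ∈ Submodule.span R S, f * g ∈ Submodule.span R S :=
  fun f hf g hg => Submodule.span_le.2 (by rintro _ ⟨a, ha, b, hb, rfl⟩; exact h a ha b hb)
    ((Submodule.span_mul_span R S S).le (Submodule.mul_mem_mul hf hg))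

theorem res_pReg {M : Ideal AlgInt} (hM : IsPModular p M) (h : IsChar ⊤ χ) (x : Γ) :
    res M (χ (pReg p x)) = res M (χ x) :=
  BlkHeight.res_char_pReg hM (isChar_top.1 h) x

theorem exists_rat_Ind (h : ∀ x, ∃ q : ℚ, φ x = q) (G H : Subgroup Γ) (x : Γ) :
    ∃ q : ℚ, Ind G H φ x = q := by
  choose q hq using h
  exact ⟨(♯H : ℚ)⁻¹ * ∑ g ∈ fs (G : Set Γ), q (g * x * g⁻¹), by simp [Ind_apply', hq]⟩

theorem Ind_apply_of {c : ℂ} (h1 : ∀ g ∈ N, φ (g * x * g⁻¹) = c)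
    (h2 : ∀ g, φ (g * x * g⁻¹) ≠ 0 → g ∈ N) : Ind ⊤ H φ x = (♯H : ℂ)⁻¹ * ♯N * c := by
  rw [Ind_apply', sum_fs_subset (A := N) (fun _ _ => mem_top _) fun g _ hg => by_contra fun e => hg (h2 g e),
    Finset.sum_congr rfl fun g hg => h1 g (mem_fs.1 hg), Finset.sum_const, card_fs, nsmul_eq_mul,
    mul_assoc]

theorem not_dvd_of_res {M : Ideal AlgInt} (hM : IsPModular p M) {z : ℂ} (hz : IsIntegral ℤ z)
    (hq : ∃ q : ℚ, z = q) {n : ℕ} (hn : ¬ p ∣ n) (h : res M z = n) :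
    ∃ m : ℤ, ¬ (p : ℤ) ∣ m ∧ z = m := by
  obtain ⟨q, rfl⟩ := hq
  obtain ⟨m, hm⟩ := CChar.CharInt.exists_int_of_rat_isIntegral hz
  refine ⟨m, fun hd => hn ((natCast_k_eq_zero_iff hM n).1 ?_), hm⟩
  rw [← h, hm]
  exact res_eq_zero_of_lt ((v_intCast_lt_one_iff hM m).2 hd)

/-- `H` is `p`-quasi-elementary. -/
def QE (p : ℕ) (H : Subgroup Γ) : Prop :=
  ∃ C : Subgroup Γ, C ≤ H ∧ H ≤ 𝓝(C) ∧ IsCyclic C ∧ (♯C).Coprime p ∧ ∃ k, C.relIndex H = p ^ k

theorem QE.of_le (hp : p.Prime) (h : QE p H) (hU : U ≤ H) : QE p U := by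
  obtain ⟨C, h1, h2, h3, h4, k, h5⟩ := h
  obtain ⟨j, -, hj⟩ := (Nat.dvd_prime_pow hp).1 (h5 ▸ relIndex_dvd_of_norm h2 hU)
  exact ⟨C ⊓ U, inf_le_right, norm_inf (hU.trans h2) le_normalizer, cyc_of_le h3 inf_le_left,
    h4.coprime_dvd_left (card_dvd inf_le_left), j, by rw [inf_relIndex_right, hj]⟩

theorem exists_qe (hp : p.Prime) (x : Γ) :
    ∃ H, QE p H ∧ ∃ n : ℤ, ¬ (p : ℤ) ∣ n ∧ Ind ⊤ H (triv H) x = n := by
  obtain ⟨M, hM⟩ := exists_isPModular hp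
  set y := pReg p x
  obtain ⟨P, hP⟩ := syl_exists hp 𝓝(zpowers y)
  have hy : IsPi {p}ᶜ (zpowers y) := isPi_zpowers.2
    ((piNat_compl_iff hp).2 (not_dvd_orderOf_pReg hp x))
  have h1 := hall_sup_normal' (by simpa using hP.pi) hP.le hy
  have h2 : P ⊔ zpowers y ≤ 𝓝(zpowers y) := sup_le hP.le le_normalizer
  have h3 := (triv_char (P ⊔ zpowers y)).Ind le_top
  refine ⟨P ⊔ zpowers y, ⟨_, le_sup_right, h2, cyc_zpowers y, (isPi_compl_iff_coprime hp).1 hy,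
    PiNat.exists_pow hp (by simpa using h1.idx) (relIndex_ne_zero' _ _)⟩,
    not_dvd_of_res hM (h3.isIntegral x) (exists_rat_Ind (fun g => ?_) _ _ _)
      ((piNat_compl_iff hp).1 (hP.le_of_idx (K := P ⊔ zpowers y) le_sup_left)) ?_⟩
  · by_cases h : g ∈ P ⊔ zpowers y
    · exact ⟨1, by simp [triv_of_mem h]⟩
    · exact ⟨0, by simp [triv_of_not_mem h]⟩
  rw [← res_pReg hM h3, Ind_apply_of (N := 𝓝(zpowers y)) (c := 1) (fun g hg => triv_of_mem
    (mem_sup_right (conj_mem_of_mem_norm hg (mem_zpowers y)))) fun g hg => mem_norm_of_cj_le ?_,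
    mul_one, card_div_card h2, res_natCast]
  rw [cj_zpowers, zpowers_le]
  exact h1.mem_of_normal h2 (mem_of_ne_zero (triv_CF _).1 hg) (by
    rw [H11Nilp.orderOf_conj]; exact isPi_zpowers.1 hy)

theorem sum_irr_conj_smul (hC : IsMulCommutative C) (hx : x ∈ C) (y : Γ) [Decidable (y = x)] :
    (∑ χ ∈ irr C, conj (χ x) • χ) y = if y = x then (♯C : ℂ) else 0 := by
  simp only [Finset.sum_apply, Pi.smul_apply, smul_eq_mul, mul_comm (conj _)]
  split_ifs with h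
  · rw [h, sum_irr_mul_conj_self hx, inf_eq_left.2 (le_cent1_iff.2 (comm_iff_le_cent.1 hC hx))]
  by_cases hy : y ∈ C
  · exact sum_irr_mul_conj_ne hy fun k hk e => h (by
      rw [← e, ← mem_cent.1 (comm_iff_le_cent.1 hC hk) y hy, mul_inv_cancel_right])
  · exact Finset.sum_eq_zero fun χ hχ => by rw [irr_on hχ y hy, zero_mul]

theorem conv_sum_left {ι : Type*} (s : Finset ι) (c : ι → ℂ) (f : ι → Γ → ℂ) (ψ : Γ → ℂ) :
    conv (∑ i ∈ s, c i • f i) ψ = ∑ i ∈ s, c i • conv (f i) ψ := funext fun x => by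
  simp only [conv_def, Finset.sum_apply, Pi.smul_apply, smul_eq_mul, Finset.sum_mul, Finset.mul_sum,
    mul_assoc]
  exact Finset.sum_comm

/-- Characters induced from `p`-elementary subgroups. -/
def indE (p : ℕ) (Γ : Type*) [Group Γ] [Fintype Γ] : Set (Γ → ℂ) :=
  {f | ∃ (E : Subgroup Γ) (ψ : Γ → ℂ), IsElementary p E ∧ IsChar E ψ ∧ f = Ind ⊤ E ψ}

theorem exists_indE (hp : p.Prime) (x : Γ) :
    ∃ f ∈ Submodule.span AlgInt (indE p Γ), ∃ n : ℤ, ¬ (p : ℤ) ∣ n ∧ f x = n := by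
  classical
  obtain ⟨M, hM⟩ := exists_isPModular hp
  set y := pReg p x
  obtain ⟨P, hP⟩ := syl_exists hp 𝓒₁(y)
  have hy : IsPi {p}ᶜ (zpowers y) := isPi_zpowers.2
    ((piNat_compl_iff hp).2 (not_dvd_orderOf_pReg hp x))
  have hd : DProd (zpowers y) P (zpowers y ⊔ P) :=
    ⟨cent_zpowers y ▸ hP.le, hy.inf_eq_bot' hP.pi, rfl⟩
  have hE := H13Brauer.isElementary_sup hp (not_dvd_orderOf_pReg hp x) (hP.pi.isPGroup hp) hP.le
  have hc := fun χ (h : χ ∈ irr (zpowers y)) =>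
    (conv_char hd (irr_char h) (triv_char P)).Ind le_top
  have hi := fun χ (h : χ ∈ irr (zpowers y)) => (irr_char h).star.isIntegral y
  set δ := ∑ χ ∈ irr (zpowers y), conj (χ y) • χ with hδ
  have hδ' : δ ∈ cfOn (zpowers y : Set Γ) :=
    Submodule.sum_mem _ fun χ h => Submodule.smul_mem _ _ (irr_on h)
  have h1 : ∀ a ∈ zpowers y, ∀ b ∈ P, conv δ (triv P) (a * b) =
      if a = y then (♯(zpowers y) : ℂ) else 0 := fun a ha b hb => by
    rw [conv_apply hd.2.1 hδ' (triv_CF P).1 ha hb, triv_of_mem hb, mul_one, hδ,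
      sum_irr_conj_smul (comm_of_cyclic (cyc_zpowers y)) (mem_zpowers y)]
  have h2 : Ind ⊤ (zpowers y ⊔ P) (conv δ (triv P)) = ∑ χ ∈ irr (zpowers y),
      conj (χ y) • Ind ⊤ (zpowers y ⊔ P) (conv χ (triv P)) := by
    rw [hδ, conv_sum_left _ _ fun χ => χ, map_sum]; simp only [map_smul]
  have h3 : ∀ z, res M (Ind ⊤ (zpowers y ⊔ P) (conv δ (triv P)) z) = ∑ χ ∈ irr (zpowers y),
      res M (conj (χ y)) * res M (Ind ⊤ (zpowers y ⊔ P) (conv χ (triv P)) z) := fun z => by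
    rw [h2, Finset.sum_apply]
    exact (res_sum _ _ fun χ h => mul_mem (isIntegral_mem (hi χ h))
      (isIntegral_mem ((hc χ h).isIntegral z))).trans (Finset.sum_congr rfl fun χ h =>
        res_mul (isIntegral_mem (hi χ h)) (isIntegral_mem ((hc χ h).isIntegral z)))
  refine ⟨Ind ⊤ (zpowers y ⊔ P) (conv δ (triv P)), ?_, not_dvd_of_res hM ?_
    (exists_rat_Ind (fun g => ?_) _ _ _) (hP.not_dvd hp) ?_⟩
  · rw [h2]
    exact Submodule.sum_mem _ fun χ h => Submodule.smul_mem _ (⟨_, hi χ h⟩ : AlgInt)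
      (Submodule.subset_span ⟨_, _, hE, conv_char hd (irr_char h) (triv_char P), rfl⟩)
  · rw [h2, Finset.sum_apply]
    exact IsIntegral.sum _ fun χ h => (hi χ h).mul ((hc χ h).isIntegral x)
  · by_cases h : g ∈ zpowers y ⊔ P
    · obtain ⟨a, ha, b, hb, rfl⟩ := DProd.exists_mul hd h
      rw [h1 a ha b hb]
      split_ifs
      exacts [⟨♯(zpowers y), by simp⟩, ⟨0, by simp⟩]
    · exact ⟨0, by simp [conv_on hδ' (triv_CF P).1 g h]⟩
  rw [h3, ← Finset.sum_congr rfl fun χ h => congrArg _ (res_pReg hM (hc χ h) x), ← h3,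
    Ind_apply_of (N := 𝓒₁(y)) (c := ♯(zpowers y)) (fun g hg => by
      rw [BG.mem_cent1.1 hg, mul_inv_cancel_right, ← mul_one y, h1 y (mem_zpowers y) 1 P.one_mem,
        mul_one, if_pos rfl]) fun g hg => ?_, DProd.card' hd, ← card_mul_relIndex hP.le,
    ← res_natCast]
  · congr 1
    have := cardC_ne P
    have := cardC_ne (zpowers y)
    push_cast
    field_simp
  · have h4 := (hall_sup_normal' (by simpa using hP.pi) (norm_of_cent hd.1) hy).mem_of_normal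
      (sup_le (norm_of_cent hd.1) le_normalizer) (sup_comm (zpowers y) P ▸
        mem_of_ne_zero (conv_on hδ' (triv_CF P).1) hg) (by
          rw [H11Nilp.orderOf_conj]; exact isPi_zpowers.1 hy)
    rw [← mul_one (g * _ * _), h1 _ h4 1 P.one_mem] at hg
    exact BG.mem_cent1.2 (mul_inv_eq_iff_eq_mul.1 (by_contra fun e => hg (if_neg e)))

theorem mem_span_int {S : Set (Γ → ℂ)} (hS : ∀ f ∈ S, f ∈ VC (⊤ : Subgroup Γ))
    (hφ : φ ∈ VC (⊤ : Subgroup Γ)) (h : φ ∈ Submodule.span AlgInt S) :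
    φ ∈ Submodule.span ℤ S := by
  obtain ⟨n, α, v, h⟩ := Submodule.mem_span_set'.1 h
  obtain ⟨π, hπ⟩ := H13Brauer.exists_retraction (fun i => (α i : ℂ)) fun i => (α i).2
  rw [CF_eq_of_dot (VC_CF hφ) (VC_CF (Submodule.sum_mem _ fun i (_ : i ∈ Finset.univ) =>
    Submodule.smul_mem _ (π i) (hS _ (v i).2))) fun χ hχ => ?_]
  · exact Submodule.sum_mem _ fun i _ => Submodule.smul_mem _ _ (Submodule.subset_span (v i).2)
  obtain ⟨c, hc⟩ := dot_VC_int hφ (irr_VC hχ)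
  choose m hm using fun i => dot_VC_int (hS _ (v i).2) (irr_VC hχ)
  rw [hc, ← hπ Finset.univ m c (by
    rw [← hc, ← h, dot_sum_left]
    exact Finset.sum_congr rfl fun i _ => by
      rw [← hm, mul_comm]; exact (dot_smul_left _ _ _ _).symm), dot_sum_left]
  push_cast
  exact Finset.sum_congr rfl fun i _ => by rw [dot_zsmul_left, hm, mul_comm]

theorem const_VC (m : ℤ) : (fun _ => (m : ℂ)) ∈ VC (⊤ : Subgroup Γ) := by
  convert VC_intCast_smul m (triv_VC (⊤ : Subgroup Γ)) using 1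
  ext; simp [triv_top]

theorem local_brauer (hp : p.Prime) :
    ∃ m : ℤ, ¬ (p : ℤ) ∣ m ∧ (fun _ => (m : ℂ)) ∈ Submodule.span ℤ (indE p Γ) := by
  obtain ⟨m, h1, h2⟩ := exists_const_mem (S := Submodule.span AlgInt (indE p Γ))
    (span_mul_mem (by
      rintro _ ⟨E, ψ, h1, h2, rfl⟩ _ ⟨E', ψ', -, h3, rfl⟩
      have h4 := h3.Ind le_top
      exact Submodule.subset_span ⟨E, _, h1, h2.mul (h4.Res le_top), by
        rw [mul_Res_of_on h2.1, Ind_mul _ _ (CF_inv h4.CF)]⟩)) hp (exists_indE hp)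
  exact ⟨m, h1, mem_span_int (by
    rintro _ ⟨E, ψ, -, h, rfl⟩; exact (h.Ind le_top).VC) (const_VC m) h2⟩

end CA.H12Ch8
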