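import Cfsg.Agent.Lib.Char.H12Ch8
import Cfsg.Agent.Lib.Char.H12Berger
import Cfsg.Agent.Lib.Odd.BGCoprime

/-!
# Applications of Brauer's induction theorem
-/

set_option autoImplicit false
set_option linter.unusedSectionVars false
set_option linter.unusedVariables false

namespace CA.H12Ch8b
open Cfsg CA.PF CA.OQuo CA.H12Gl CA.H12Gl2 CA.H12Mon CA.H12PPart CA.BlkVal CA.H12Ch8 CA.H12Tri
  Subgroup Function
open CA.BG hiding cj cj_one cj_mul cj_inv_cj cj_cj_inv mem_cent1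
open scoped ComplexConjugate commutatorElement

variable {Γ : Type*} [Group Γ] [Fintype Γ] {G H K L M N U C D E : Subgroup Γ}
  {χ β θ φ ψ F : Γ → ℂ} {p m n e : ℕ} {x y u v : Γ}

/-- `x ↦ x ^ e` is the map to the `n`-part. -/
structure PE (Γ : Type*) (m n e : ℕ) : Prop where
  card : Nat.card Γ = m * n
  cop : m.Coprime n
  e0 : e ≡ 0 [MOD m]
  e1 : e ≡ 1 [MOD n]

theorem exists_pe (h : Nat.card Γ = m * n) (hc : m.Coprime n) : ∃ e, PE Γ m n e :=
  ⟨_, h, hc, (Nat.chineseRemainder hc 0 1).2.1, (Nat.chineseRemainder hc 0 1).2.2⟩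

namespace PE
variable (h : PE Γ m n e)
include h

theorem pow_left (hu : (orderOf u).Coprime n) : u ^ e = 1 :=
  orderOf_dvd_iff_pow_eq_one.1 ((hu.dvd_of_dvd_mul_right (h.card ▸ orderOf_dvd_natCard u)).trans
    ((Nat.modEq_zero_iff_dvd).1 h.e0))

theorem pow_right (hv : (orderOf v).Coprime m) : v ^ e = v := by
  conv_rhs => rw [← pow_one v]
  exact pow_eq_pow_iff_modEq.2 (h.e1.of_dvd
    (hv.dvd_of_dvd_mul_left (h.card ▸ orderOf_dvd_natCard v)))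

theorem pow_mul (hc : Commute u v) (hu : (orderOf u).Coprime n) (hv : (orderOf v).Coprime m) :
    (u * v) ^ e = v := by
  rw [hc.mul_pow, h.pow_left hu, h.pow_right hv, one_mul]

theorem orderOf_pow (x : Γ) : orderOf (x ^ e) ∣ n := by
  obtain ⟨k, rfl⟩ := (Nat.modEq_zero_iff_dvd).1 h.e0
  rw [orderOf_dvd_iff_pow_eq_one, ← _root_.pow_mul, mul_right_comm, ← h.card, _root_.pow_mul,
    pow_card_eq_one', one_pow]

theorem orderOf_rest (x : Γ) : orderOf (x * (x ^ e)⁻¹) ∣ m := by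
  rw [orderOf_dvd_iff_pow_eq_one, ((Commute.refl x).pow_right e).inv_right.mul_pow, inv_pow,
    mul_inv_eq_one, ← _root_.pow_mul, pow_eq_pow_iff_modEq]
  refine Nat.ModEq.of_dvd (h.card ▸ orderOf_dvd_natCard x) ?_
  simpa [mul_comm] using (h.e1.mul_left' m).symm

theorem pow_CInv (hF : F ∈ CInv ⊤) : (fun x => F (x ^ e)) ∈ CInv ⊤ := fun k hk x => by
  simp only [conj_pow, hF k hk]

theorem dot_mem (P : Submodule ℤ ℂ) (hF : F ∈ CInv ⊤)
    (hP : ∀ (B : Subgroup Γ) p, p.Prime → IsElementary p B → ♯B ∣ n → ∀ β ∈ irr B, dot B F β ∈ P)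
    (hχ : χ ∈ VC (⊤ : Subgroup Γ)) : dot ⊤ (fun x => F (x ^ e)) χ ∈ P := by
  refine brauer_mem (S := P.comap (AddMonoidHom.toIntLinearMap
    ⟨⟨dot ⊤ fun x => F (x ^ e), dot_zero_right _ _⟩, dot_add_right _ _⟩))
    (fun E p hp hE χ hχ => ?_) hχ
  have hn := H11Nilp.isNilpotent_of_isElementary hp hE
  set π := {p | p ∣ n}
  have hd : DProd 𝓞(πᶜ, E) 𝓞(π, E) E := ⟨core_cent_core π E,
    (core_pi _ E).inf_eq_bot' (core_pi π E), by rw [sup_comm, nil_core_sup π hn]⟩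
  obtain ⟨α, h1, β, h2, rfl⟩ := exists_conv hd hχ
  have h3 : ∀ b ∈ 𝓞(π, E), (orderOf b).Coprime m := fun b hb =>
    ((core_pi π E).orderOf hb).coprime (piNat_of_coprime h.cop)
  change dot ⊤ _ _ ∈ P
  rw [dot_Ind_right _ (h.pow_CInv hF), dot_congr_left (irr_on hχ)
    (φ' := conv (triv _) (Res (𝓞(π, E) : Set Γ) F)) fun x hx => ?_,
    dot_conv hd (triv_CF _).1 (Res_on _ _) (irr_on h1) (irr_on h2), dot_Res_left (irr_on h2)]
  · obtain ⟨k, hk⟩ := dot_VC_int (triv_VC _) (irr_VC h1)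
    rw [hk, ← zsmul_eq_mul]
    exact P.smul_mem k (hP _ p hp (elem_of_le hp hE (core_le π E))
      (((core_pi π E).nat.coprime (piNat_of_coprime h.cop)).dvd_of_dvd_mul_left
        (h.card ▸ card_subgroup_dvd_card _)) β h2)
  · obtain ⟨a, ha, b, hb, rfl⟩ := DProd.exists_mul hd hx
    rw [conv_apply hd.2.1 (triv_CF _).1 (Res_on _ _) ha hb, triv_of_mem ha, one_mul,
      Res_of_mem _ hb, h.pow_mul (DProd.mul_comm' hd ha hb)
        (((core_pi _ E).orderOf ha).coprime' fun _ _ h => h) (h3 b hb)]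

open Classical in
theorem dot_ind (g : Γ) (hχ : χ ∈ VC (⊤ : Subgroup Γ)) :
    IsIntegral ℤ (dot ⊤ (fun x => if IsConj (x ^ e) g then (n : ℂ) else 0) χ) := by
  refine h.dot_mem AlgInt.toSubmodule (F := fun x => if IsConj x g then (n : ℂ) else 0)
    (fun k _ x => if_congr ⟨fun h => (isConj_iff.2 ⟨k, rfl⟩).trans h,
      fun h => (isConj_iff.2 ⟨k, rfl⟩).symm.trans h⟩ rfl rfl) (fun B p _ _ ⟨c, hc⟩ β hβ => ?_) hχ
  rw [dot_def, Finset.mul_sum]
  refine Submodule.sum_mem _ fun x _ => ?_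
  split_ifs
  · rw [hc, Nat.cast_mul, ← mul_assoc, inv_mul_cancel_left₀ (cardC_ne B)]
    exact (isIntegral_natCast c).mul ((irr_char hβ).star.isIntegral x)
  · simp

end PE

theorem conj_char {B : Subgroup Γ} {g : Γ} (h : BG.cj g B ≤ H) (hθ : IsChar H θ) :
    IsChar B (Res (B : Set Γ) (cj g θ)) :=
  (pb_char (f := (MulAut.conj g).toMonoidHom) hθ).Res (map_le_iff_le_comap.1 h)

/-- The Brauer–Suzuki transfer theorem. -/
theorem brauer_suzuki (hH : (♯H).Coprime H.index)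
    (hf : ∀ x ∈ H, ∀ y ∈ H, IsConj x y → ∃ h ∈ H, h * x * h⁻¹ = y)
    (hE : ∀ (E : Subgroup Γ) p, p.Prime → IsElementary p E → ♯E ∣ ♯H → ∃ g, BG.cj g E ≤ H) :
    ∃ K : Subgroup Γ, K.Normal ∧ K ⊔ H = ⊤ ∧ K ⊓ H = ⊥ := by
  classical
  obtain ⟨e, h⟩ := exists_pe (Γ := Γ) H.index_mul_card.symm hH.symm
  let r : Γ → Γ := fun x => if hx : ∃ y ∈ H, IsConj x y then hx.choose else 1
  have r1 : ∀ x, r x ∈ H := fun x => by
    simp only [r]; split_ifs with hx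
    exacts [hx.choose_spec.1, H.one_mem]
  have r2 : ∀ x, ∀ y ∈ H, IsConj x y → IsConj x (r x) := fun x y hy hc => by
    have hx : ∃ y ∈ H, IsConj x y := ⟨y, hy, hc⟩
    simp only [r, dif_pos hx]; exact hx.choose_spec.2
  have r3 : ∀ φ ∈ CF H, ∀ x, ∀ y ∈ H, IsConj x y → φ (r x) = φ y := fun φ hφ x y hy hc => by
    obtain ⟨k, hk, e⟩ := hf _ (r1 x) y hy ((r2 x y hy hc).symm.trans hc)
    rw [← e, CF_conj hφ hk]
  have r4 : ∀ φ ∈ CF H, φ ∘ r ∈ CInv ⊤ := fun φ hφ k _ x => by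
    have hc : IsConj x (k * x * k⁻¹) := isConj_iff.2 ⟨k, rfl⟩
    by_cases hx : ∃ y ∈ H, IsConj x y
    · obtain ⟨y, hy, h1⟩ := hx
      exact (r3 φ hφ _ y hy (hc.symm.trans h1)).trans (r3 φ hφ _ y hy h1).symm
    · have hx' : ¬ ∃ y ∈ H, IsConj (k * x * k⁻¹) y := fun ⟨y, hy, h1⟩ => hx ⟨y, hy, hc.trans h1⟩
      simp only [comp, r, dif_neg hx, dif_neg hx']
  have r5 : ∀ x, IsConj (x ^ e) (r (x ^ e)) := fun x => by
    obtain ⟨g, hg⟩ := hE _ 2 Nat.prime_two (elem_of_cyc Nat.prime_two (cyc_zpowers (x ^ e)))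
      (by rw [Nat.card_zpowers]; exact h.orderOf_pow x)
    exact r2 _ _ (hg (conj_mem_cj.2 (mem_zpowers _))) (isConj_iff.2 ⟨g, rfl⟩)
  let S : (Γ → ℂ) →ₗ[ℂ] Γ → ℂ := LinearMap.funLeft ℂ ℂ fun x => r (x ^ e)
  have hS : ∀ φ x, S φ x = φ (r (x ^ e)) := fun _ _ => rfl
  have s1 : ∀ θ ∈ irr H, S θ ∈ VC (⊤ : Subgroup Γ) := fun θ hθ =>
    VC_of_dot_int (mem_CF (fun _ h => (h trivial).elim) (h.pow_CInv (r4 θ (irr_CF hθ))))
      fun χ hχ => by
        obtain ⟨k, hk⟩ := Submodule.mem_span_singleton.1 (h.dot_mem (Submodule.span ℤ {1})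
          (r4 θ (irr_CF hθ)) (fun B p hp h1 h2 β hβ => by
            obtain ⟨g, hg⟩ := hE B p hp h1 h2
            obtain ⟨k, hk⟩ := dot_char_char (conj_char hg (irr_char hθ)) (irr_char hβ)
            rw [dot_congr_left (irr_on hβ) (φ' := Res (B : Set Γ) (cj g θ)) fun x hx => by
              rw [Res_of_mem _ hx]
              exact r3 θ (irr_CF hθ) x _ (hg (conj_mem_cj.2 hx)) (isConj_iff.2 ⟨g, rfl⟩), hk]
            exact Submodule.mem_span_singleton.2 ⟨k, by simp⟩) (irr_VC hχ))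
        exact ⟨k, hk.symm.trans (by simp)⟩
  let δ : Γ → Γ → ℂ := fun y => ∑ θ ∈ irr H, conj (θ y) • θ
  have d1 : ∀ y ∈ H, ∀ z ∈ H, δ y z = if IsConj z y then (♯(H ⊓ 𝓒₁(z) : Subgroup Γ) : ℂ) else 0 :=
    fun y hy z hz => by
      simp only [δ, Finset.sum_apply, Pi.smul_apply, smul_eq_mul, mul_comm (conj _)]
      split_ifs with hc
      · obtain ⟨k, hk, rfl⟩ := hf z hz y hy hc
        rw [← sum_irr_mul_conj_self hz]
        exact Finset.sum_congr rfl fun θ hθ => by rw [CF_conj (irr_CF hθ) hk]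
      · exact sum_irr_mul_conj_ne hz fun k _ e => hc (isConj_iff.2 ⟨k, e⟩)
  have d2 : ∀ φ ∈ CF H, ∑ y ∈ fs (H : Set Γ), φ y • δ y = (♯H : ℂ) • φ := fun φ hφ => by
    conv_rhs => rw [CF_expand hφ]
    simp only [δ, Finset.smul_sum, smul_smul]
    rw [Finset.sum_comm]
    refine Finset.sum_congr rfl fun θ _ => ?_
    rw [← Finset.sum_smul, dot_eq_sum_left H hφ.1, mul_inv_cancel_left₀ (cardC_ne H)]
  let c : Γ → ℂ := fun y => dot ⊤ (S (δ y)) (triv ⊤)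
  have c1 : ∀ φ ∈ CF H, ∑ y ∈ fs (H : Set Γ), φ y * c y = ♯H * dot ⊤ (S φ) (triv ⊤) :=
    fun φ hφ => by
      rw [← dot_smul_left, ← map_smul, ← d2 φ hφ, map_sum, dot_sum_left]
      simp only [c, map_smul, dot_smul_left]
  have c2 : ∀ y ∈ H, ∃ k : ℕ, 1 ≤ k ∧ c y = k := fun y hy => by
    have h1 : IsIntegral ℤ (c y) := by
      simp only [c, δ, map_sum, map_smul, dot_sum_left, dot_smul_left]
      refine IsIntegral.sum _ fun θ hθ => ((irr_char hθ).star.isIntegral y).mul ?_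
      obtain ⟨k, hk⟩ := dot_VC_int (s1 θ hθ) (triv_VC ⊤)
      rw [hk]; exact isIntegral_intCast k
    have h2 : c y = (∑ x, if IsConj (r (x ^ e)) y then ♯(H ⊓ 𝓒₁(r (x ^ e)) : Subgroup Γ) else 0 : ℕ)
        / (♯(⊤ : Subgroup Γ) : ℕ) := by
      simp only [c, dot_triv_right, fs_top, hS, d1 y hy _ (r1 _)]
      push_cast
      rw [div_eq_inv_mul]
    obtain ⟨k, hk⟩ := CChar.CharInt.dvd_of_isIntegral_div (card_ne_zero' _) (h2 ▸ h1)
    refine ⟨k, Nat.pos_of_ne_zero ?_, by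
      rw [h2, hk, Nat.cast_mul, mul_div_cancel_left₀ _ (cardC_ne _)]⟩
    rintro rfl
    have h3 := Finset.sum_eq_zero_iff.1 hk y (Finset.mem_univ y)
    have h4 := r5 y
    rw [h.pow_right (hH.coprime_dvd_left (orderOf_dvd_card_of_mem hy))] at h3 h4
    rw [if_pos h4.symm] at h3
    exact card_ne_zero' _ h3
  have c3 : ∀ y ∈ H, c y = 1 := fun y hy => by
    choose! k hk1 hk2 using c2
    have h1 := c1 _ (triv_CF H)
    rw [show S (triv H) = triv ⊤ from funext fun x => by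
      rw [hS, triv_of_mem (r1 _), triv_of_mem (mem_top x)], dot_triv_triv, mul_one,
      Finset.sum_congr rfl fun y hy => by
        rw [triv_of_mem (mem_fs.1 hy), one_mul, hk2 y (mem_fs.1 hy)], ← card_fs,
      Finset.card_eq_sum_ones] at h1
    rw [hk2 y hy, ← (Finset.sum_eq_sum_iff_of_le fun y hy => hk1 y (mem_fs.1 hy)).1
      (by exact_mod_cast h1.symm) y (mem_fs.2 hy), Nat.cast_one]
  have c4 : ∀ φ ∈ CF H, dot ⊤ (S φ) (triv ⊤) = dot H φ (triv H) := fun φ hφ => by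
    rw [dot_triv_right H, eq_inv_mul_iff_mul_eq₀ (cardC_ne H), ← c1 φ hφ]
    exact Finset.sum_congr rfl fun y hy => by rw [c3 y (mem_fs.1 hy), mul_one]
  have s2 : ∀ φ ∈ CF H, S φ 1 = φ 1 := fun φ hφ => by
    rw [hS, one_pow, r3 φ hφ 1 1 H.one_mem (IsConj.refl 1)]
  have s3 : ∀ θ ∈ irr H, S θ ∈ irr (⊤ : Subgroup Γ) := fun θ hθ => by
    obtain ⟨k, hk, hk'⟩ := irr_one_pos hθ
    refine (Dirr_of_dot (s1 θ hθ) ?_).irr_of_pos (by rw [s2 θ (irr_CF hθ), hk']; simpa)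
    have h1 := c4 _ (CF_mul (irr_CF hθ) (CF_star (irr_CF hθ)))
    rw [dot_mul_left, star_star, triv_mul_of_on (irr_on hθ), dot_irr_self hθ] at h1
    rw [← h1, show S (θ * star θ) = S θ * star (S θ) from rfl, dot_mul_left, star_star,
      triv_mul_of_on (VC_on (s1 θ hθ))]
  have s4 : IsChar ⊤ (S ((♯H : ℂ) • triv ⊥)) := by
    rw [← sum_irr_smul, map_sum]
    refine char_sum _ fun θ hθ => ?_
    obtain ⟨k, -, hk⟩ := irr_one_pos hθ
    rw [map_smul, hk]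
    exact (irr_char (s3 θ hθ)).natCast_smul k
  have s5 : ∀ x, x ∈ cfker (S ((♯H : ℂ) • triv ⊥)) ↔ r (x ^ e) = 1 := fun x => by
    rw [s4.mem_cfker (mem_top x), s2 _ (Submodule.smul_mem _ _ ((nrm_bot H).triv_CF)), hS,
      Pi.smul_apply, Pi.smul_apply, smul_right_inj (cardC_ne H), triv_one]
    exact ⟨fun h => mem_of_ne_zero (triv_CF ⊥).1 (h ▸ one_ne_zero), fun h => h ▸ triv_one _⟩
  set K := cfker (S ((♯H : ℂ) • triv ⊥))
  have hK := cfker_nrm s4.CF fun e => cardC_ne H (by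
    simpa [s2 _ (Submodule.smul_mem _ _ ((nrm_bot H).triv_CF))] using congrFun e 1)
  have h1 : K ⊓ H = ⊥ := eq_bot_iff.2 fun x hx => by
    have h1 := r5 x
    rwa [(s5 x).1 hx.1, h.pow_right (hH.coprime_dvd_left (orderOf_dvd_card_of_mem hx.2)),
      isConj_one_left] at h1
  refine ⟨K, hK.normal_of_top, eq_of_le_of_card_eq le_top ?_, h1⟩
  have h2 := c4 _ (nrm_bot H).triv_CF
  rw [show S (triv ⊥) = triv K from funext fun x => by
    by_cases hx : x ∈ K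
    · rw [hS, (s5 x).1 hx, triv_one, triv_of_mem hx]
    · rw [hS, triv_of_not_mem hx, triv_of_not_mem (mt (s5 x).2 hx)],
    dot_congr_right (triv_CF K).1 (ψ' := triv K) (fun x hx => by
      rw [triv_of_mem (mem_top x), triv_of_mem hx]),
    dot_congr_right (triv_CF ⊥).1 (ψ' := triv ⊥) (fun x hx => by
      rw [triv_of_mem (bot_le (a := H) hx), triv_of_mem hx])] at h2
  have h3 := dot_change ⊤ K (triv K) (triv K)
  have h4 := dot_change H ⊥ (triv ⊥) (triv ⊥)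
  rw [dot_triv_triv, mul_one] at h3 h4
  rw [sup_comm, card_sup_of_disjoint (le_top.trans hK.le_normalizer) (inf_comm H K ▸ h1)]
  have h5 : (♯H * ♯K : ℂ) = ♯(⊤ : Subgroup Γ) := by
    rw [← h3, h2, mul_left_comm, h4, card_bot, Nat.cast_one, mul_one]
  exact Nat.cast_injective (R := ℂ) (by rw [Nat.cast_mul, h5])

/-! ### Extension theorems -/

theorem exists_lin_ext (hD : D ≤ E) (hφ : φ ∈ irr D) (h1 : φ 1 = 1)
    (h : D ⊓ ⁅E, E⁆ ≤ cfker φ) : ∃ χ ∈ irr E, χ 1 = 1 ∧ Res (D : Set Γ) χ = φ := by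
  have hn := (Nrm.refl E).commutator (Nrm.refl E)
  have h2 := congrArg (dot D · φ) (sum_irrK_smul hn)
  simp only [dot_sum_left, dot_smul_left] at h2
  obtain ⟨χ, h3, h4⟩ := Finset.exists_ne_zero_of_sum_ne_zero (h2 ▸ mul_ne_zero (relIndexC_ne _ _) (by
    rw [dot_congr_left (irr_on hφ) (φ' := triv (D ⊓ ⁅E, E⁆)) fun x hx => by
      by_cases hx' : x ∈ ⁅E, E⁆
      · rw [triv_of_mem hx', triv_of_mem (K := D ⊓ ⁅E, E⁆) ⟨hx, hx'⟩]
      · rw [triv_of_not_mem hx', triv_of_not_mem (K := D ⊓ ⁅E, E⁆) fun h => hx' h.2],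
      dot_congr_right (triv_CF _).1 (ψ' := triv (D ⊓ ⁅E, E⁆)) fun x hx => by
        rw [cfker_apply (h hx), h1, triv_of_mem hx]]
    exact dot_self_ne_zero (irr_ne_zero (triv_irr _))))
  have h5 := (irr_one_eq_one_iff (mem_irrK.1 h3).1).2 (mem_irrK.1 h3).2
  exact ⟨χ, (mem_irrK.1 h3).1, h5, ((irr_char (mem_irrK.1 h3).1).Res hD).eq_of_one hφ
    (by rw [dot_Res_left (irr_on hφ)]; exact right_ne_zero_of_mul h4) (by rw [Res_one, h5, h1])⟩

theorem exists_elem (hp : p.Prime) (hN : Nrm N ⊤) (hi : PiNat {p} N.index) (hθ : θ ∈ irr N)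
    (hs : ⊤ ≤ stab θ) : ∃ E : Subgroup Γ, IsElementary p E ∧ E ⊔ N = ⊤ ∧
      ∃ φ ∈ irr (E ⊓ N), E ≤ stab φ ∧ GR p (E ⊓ N) θ φ := by
  classical
  have := Fact.mk hp
  obtain ⟨M, hM⟩ := exists_isPModular hp
  obtain ⟨m, h1, h2⟩ := local_brauer (Γ := Γ) hp
  have hc := (irr_char hθ).mul (irr_char hθ).star
  have hi' := CInv_mul (CInv_of_le_stab hs) (CInv_star (CInv_of_le_stab hs))
  obtain ⟨E, ψ, h3, h4, h5⟩ : ∃ (E : Subgroup Γ) (ψ : Γ → ℂ), IsElementary p E ∧ IsChar E ψ ∧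
      ¬ v M (dot N (Ind ⊤ E ψ) (θ * star θ)) < 1 := by
    by_contra! h
    have h3 : ∀ f ∈ Submodule.span ℤ (indE p Γ), v M (dot N f (θ * star θ)) < 1 := fun f hf => by
      induction hf using Submodule.span_induction with
      | zero => simp
      | mem f hf => obtain ⟨E, ψ, h3, h4, rfl⟩ := hf; exact h E ψ h3 h4
      | add f g _ _ hf hg => rw [dot_add_left]; exact (v M).map_add_lt hf hg
      | smul c f _ hf => rw [dot_zsmul_left]; exact v_mul_lt_one_right (intCast_mem_O c) hf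
    have h4 := h3 _ h2
    rw [dot_comm, dot_mul_left, star_star, show (fun _ => (m : ℂ)) * θ = (m : ℂ) • θ from rfl,
      dot_smul_right, dot_irr_self hθ, mul_one, map_intCast, map_intCast,
      v_intCast_lt_one_iff hM] at h4
    exact h1 h4
  have hn : E ≤ 𝓝(N) := le_top.trans hN.le_normalizer
  have h6 : dot N (Ind ⊤ E ψ) (θ * star θ) =
      (E ⊔ N).index * dot (E ⊓ N) (ψ * θ) (Res ((E ⊓ N : Subgroup Γ) : Set Γ) θ) := by
    have h6 : ψ * θ ∈ cfOn ((E ⊓ N : Subgroup Γ) : Set Γ) := fun x hx => by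
      by_cases h : x ∈ E
      · rw [Pi.mul_apply, irr_on hθ x fun h' => hx ⟨h, h'⟩, mul_zero]
      · rw [Pi.mul_apply, h4.1 x h, zero_mul]
    have h7 := dot_change N ⊤ (Ind ⊤ E ψ) (θ * star θ)
    have h8 := dot_change E (E ⊓ N) ψ (θ * star θ)
    have h9 : (♯(E ⊔ N : Subgroup Γ) * ♯(E ⊓ N : Subgroup Γ) : ℂ) = ♯E * ♯N := by
      exact_mod_cast card_sup_mul_inf hn
    have h10 : (♯(E ⊔ N : Subgroup Γ) * (E ⊔ N).index : ℂ) = ♯(⊤ : Subgroup Γ) := by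
      rw [card_top]; exact_mod_cast (E ⊔ N).card_mul_index
    rw [dot_Ind_left _ _ hi'] at h7
    rw [dot_Res_right h6, dot_mul_left]
    apply mul_left_cancel₀ (mul_ne_zero (cardC_ne E) (cardC_ne N))
    rw [mul_assoc, h7, mul_left_comm, h8, ← h10, ← h9]; ring
  have h7 : IsChar (E ⊓ N) (ψ * θ) := by
    have := (h4.Res (inf_le_left : E ⊓ N ≤ E)).mul ((irr_char hθ).Res inf_le_right)
    rwa [← Res_mul, Res_eq_self fun x hx => by
      by_cases h : x ∈ E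
      · rw [Pi.mul_apply, irr_on hθ x fun h' => hx ⟨h, h'⟩, mul_zero]
      · rw [Pi.mul_apply, h4.1 x h, zero_mul]] at this
  have h8 := (irr_char hθ).Res (inf_le_right : E ⊓ N ≤ N)
  rw [h6] at h5
  have h9 : E ⊔ N = ⊤ := index_eq_one.1 ((hi.of_dvd (index_dvd_of_le le_sup_right)).eq_one
    ((piNat_compl_iff hp).2 fun h => h5 (v_mul_lt_one_left ((v_natCast_lt_one_iff hM _).2 h)
      (dot_mem_O le_rfl h7 h8))))
  obtain ⟨P, hP⟩ := syl_exists hp E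
  have hD : E ≤ 𝓝(E ⊓ N) := norm_inf le_normalizer hn
  rw [h9, index_top, Nat.cast_one, one_mul, ← res_eq_zero_iff (dot_mem_O le_rfl h7 h8),
    dot_expand h7.CF, res_sum _ _ fun φ h => mul_mem (dot_mem_O le_rfl h7 (irr_char h))
      (dot_mem_O le_rfl (irr_char h) h8), sum_fixed ((natCast_k_eq_zero_iff hM p).2 dvd_rfl)
      (hP.pi.isPGroup hp) (fun u hu φ h => irr_cj (conj_iff_of_norm (hD (hP.le hu))) h) _
      fun u hu φ h => by
        rw [← dot_cj _ u (ψ * θ) φ, ← dot_cj _ u φ, cj_mul, cj_of_CF h4.CF (hP.le hu),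
          mem_stab.1 (hs (mem_top u)), mem_stab.1 (H12Mon.stab_Res (CInv_of_le_stab
            (le_top.trans hs)) hD (hP.le hu))]] at h5
  obtain ⟨φ, h10, h11⟩ := Finset.exists_ne_zero_of_sum_ne_zero h5
  obtain ⟨h12, h13⟩ := Finset.mem_filter.1 h10
  obtain ⟨k, hk⟩ := dot_char_char h8 (irr_char h12)
  refine ⟨E, h3, h9, φ, h12, (hP.sup_of_idx (K := E ⊓ N) inf_le_left (by
    rw [inf_relIndex_left, ← relIndex_sup_norm hn, h9, relIndex_top_right]; exact hi)).ge.trans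
    (sup_le h13 (le_stab (irr_CInv h12))), k, (dot_Res_left (irr_on h12) θ).symm.trans hk,
    fun h => h11 (res_eq_zero_of_lt (v_mul_lt_one_right (dot_mem_O le_rfl h7 (irr_char h12)) ?_))⟩
  rw [dot_comm_nat hk]
  exact (v_natCast_lt_one_iff hM k).2 h

theorem ext_of_gr (hp : p.Prime) (hN : Nrm N ⊤) (hi : PiNat {p} N.index) (hθ : θ ∈ irr N)
    (hs : ⊤ ≤ stab θ) (hE : E ⊔ N = ⊤) (hψ : IsChar E ψ)
    (h : GR p (E ⊓ N) θ (Res (N : Set Γ) ψ)) :
    ∃ χ ∈ irr (⊤ : Subgroup Γ), Res (N : Set Γ) χ = θ := by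
  obtain ⟨M, hM⟩ := exists_isPModular hp
  obtain ⟨k, h1, h2⟩ := h
  have h3 := hψ.Ind le_top
  rw [← dot_Ind_right _ (irr_CInv hθ), ← Res_Ind_of_mul le_top le_top (fun g _ => by
    obtain ⟨a, ha, b, hb, e⟩ := (mem_sup_norm (le_top.trans hN.le_normalizer)).1
      (hE.ge (mem_top g))
    exact ⟨a, ha, b, hb, e.symm⟩) hψ.CF, dot_Res_right (irr_on hθ)] at h1
  replace h1 := dot_comm_nat h1
  rw [dot_expand_le le_top le_rfl h3.CF (irr_on hθ)] at h1
  by_contra! h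
  refine h2 ((v_natCast_lt_one_iff hM k).1 (h1 ▸ v_sum_lt_one _ _ fun χ hχ =>
    v_mul_lt_one_right (dot_mem_O le_rfl h3 (irr_char hχ)) ?_))
  by_cases h4 : dot N χ θ = 0
  · simp [h4]
  obtain ⟨a, h5, h6⟩ := H12Berger.exists_dvd_relIndex hN hχ hθ h4
  have h7 := clifford_stab hN hχ hθ h4 hs
  have h8 : dot N χ θ = a := mul_right_cancel₀ (irr_one_ne hθ)
    (((congrFun h7 1).symm.trans (Res_one _ _)).trans h6)
  rw [h8, v_natCast_lt_one_iff hM]
  by_contra h9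
  rw [h8, (hi.of_dvd (relIndex_top_right N ▸ h5)).eq_one ((piNat_compl_iff hp).2 h9), Nat.cast_one,
    one_smul] at h7
  exact h χ hχ h7

/-- Dade's extension theorem. -/
theorem dade_ext {P : Subgroup Γ} (hp : p.Prime) (hN : Nrm N ⊤) (hi : PiNat {p} N.index)
    (hP : Syl p P ⊤) (h : ⁅P, P⁆ ⊓ N = ⊥) (hθ : θ ∈ irr N) (hs : ⊤ ≤ stab θ) :
    ∃ χ ∈ irr (⊤ : Subgroup Γ), Res (N : Set Γ) χ = θ := by
  obtain ⟨E, h1, h2, φ, h3, -, h4⟩ := exists_elem hp hN hi hθ hs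
  obtain ⟨x, hx, h5, -, k, h6⟩ := elem_iff.1 h1
  obtain ⟨Q, hQ⟩ := syl_exists hp E
  obtain ⟨g, -, hg⟩ := hP.syl_le_conj hp hQ.pi le_top
  rw [← cent_zpowers] at h5
  have h7 : ⁅E, E⁆ ⊓ N = ⊥ := by
    rw [← hQ.sup_of_idx (zpowers_le.2 hx) (h6 ▸ piNat_pow hp k), eq_bot_iff,
      ← BG.cj_bot g, ← h, cj_inf, cj_of_mem_norm (hN.le_normalizer (mem_top g)), cj_comm]
    refine inf_le_inf_right N (le_trans ?_ (der_mono hg))
    have h7 : ∀ A ≤ E, ⁅A, zpowers x⁆ ≤ ⁅Q, Q⁆ := fun A hA =>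
      (comm_eq_bot_iff.2 (hA.trans h5)).le.trans bot_le
    exact der_sup_le_of_norm (le_normalizer.trans (norm_der Q)) (norm_of_cent (cent_symm
      (((der_le Q).trans hQ.le).trans h5))) le_rfl (h7 _ (zpowers_le.2 hx)) (h7 _ hQ.le)
  obtain ⟨χ, h8, -, h9⟩ := exists_lin_ext (inf_le_left : E ⊓ N ≤ E) h3
    ((irr_one_eq_one_iff h3).2 ((le_inf (der_mono inf_le_left)
      ((der_le _).trans inf_le_right)).trans (h7.le.trans bot_le)))
    ((le_inf inf_le_right (inf_le_left.trans inf_le_right)).trans (h7.le.trans bot_le))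
  refine ext_of_gr hp hN hi hθ hs h2 (irr_char h8) ?_
  rwa [← Res_eq_self (Res_inf_char (irr_char h8)).1,
    Res_Res (A := ((E ⊓ N : Subgroup Γ) : Set Γ)) (B := N) fun _ h => h.2, h9]

end CA.H12Ch8b
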