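import Cfsg.Agent.Lib.Char.H19Tor

/-! The character table of a group with the class structure of a Suzuki group. -/

set_option autoImplicit false
set_option linter.unusedSectionVars false

namespace CA.H19Tor

open Subgroup Cfsg CChar.CharFun CChar.CharOrth CA.TorusCount Finset
open scoped ComplexConjugate Classical

variable {G : Type*} [Group G] [Fintype G]

theorem card_cent_of_cls {T : Subgroup G} (hT : CC T) {g : G} (hg : g ∈ Cls T) :
    Nat.card (centralizer ({g} : Set G)) = Nat.card T := by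
  obtain ⟨h1, x, hx⟩ := hg
  rw [card_centralizer_eq_of_isConj (isConj_iff.2 ⟨x, rfl⟩), hT _ hx (conj_ne_one h1 x)]

theorem card_image {T : Subgroup G} (hT : CC T) {w : ℕ} (hw : Nat.card (normalizer (T : Set G)) = w * Nat.card T)
    {I : Type*} (X : {θ : IrrCharacter T // θ ≠ irrOne T} → I) (h : ∀ θ η, X θ = X η ↔ J θ.1 η.1) :
    w * (univ.image X).card + 1 = Nat.card T := by
  have h1 := card_eq_sum_card_image X univ
  rw [sum_congr rfl (g := fun _ => w) fun b hb => by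
    obtain ⟨η, -, rfl⟩ := mem_image.1 hb
    simp only [h, card_J hT hw η.2], sum_const, smul_eq_mul, card_univ, Fintype.card_subtype_compl,
    Fintype.card_subtype_eq, card_irrT hT] at h1
  have : 0 < Nat.card T := Nat.card_pos
  rw [mul_comm, ← h1]; omega

theorem exists_not_J {T : Subgroup G} (hT : CC T) {w : ℕ} (hw : Nat.card (normalizer (T : Set G)) = w * Nat.card T)
    (h : 2 * w + 1 < Nat.card T) (a b : {θ : IrrCharacter T // θ ≠ irrOne T}) :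
    ∃ θ : {θ : IrrCharacter T // θ ≠ irrOne T}, ¬ J θ.1 a.1 ∧ ¬ J θ.1 b.1 := by
  by_contra hc
  push Not at hc
  have h1 : (univ : Finset {θ : IrrCharacter T // θ ≠ irrOne T}) ⊆
      (univ.filter fun θ => J θ.1 a.1) ∪ univ.filter fun θ => J θ.1 b.1 := fun θ _ => by
    have := hc θ
    simp only [mem_union, mem_filter, mem_univ, true_and]
    tauto
  have h2 := (card_le_card h1).trans (card_union_le _ _)
  rw [card_J hT hw a.2, card_J hT hw b.2, card_univ, Fintype.card_subtype_compl, Fintype.card_subtype_eq,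
    card_irrT hT] at h2
  omega

theorem nonempty_ne {T : Subgroup G} (hT : CC T) (h : 1 < Nat.card T) :
    Nonempty {θ : IrrCharacter T // θ ≠ irrOne T} := by
  rw [← card_irrT hT, Fintype.one_lt_card_iff_nontrivial] at h
  obtain ⟨θ, h⟩ := exists_ne (irrOne T)
  exact ⟨θ, h⟩

variable (G) in
/-- the class structure of the Suzuki group with `q = 2 r²` -/
structure Data (r : ℕ) where
  s : G
  u : G
  T0 : Subgroup G
  T1 : Subgroup G
  T2 : Subgroup G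
  St : IrrCharacter G
  hr : 2 ≤ r
  cG : (Nat.card G : ℤ) = (2 * r ^ 2) ^ 2 * ((2 * r ^ 2) ^ 2 + 1) * (2 * r ^ 2 - 1)
  c0 : CC T0
  c1 : CC T1
  c2 : CC T2
  k0 : Nat.card T0 + 1 = 2 * r ^ 2
  k1 : Nat.card T1 = 2 * r ^ 2 + 2 * r + 1
  k2 : Nat.card T2 + 2 * r = 2 * r ^ 2 + 1
  n0 : Nat.card (normalizer (T0 : Set G)) = 2 * Nat.card T0
  n1 : Nat.card (normalizer (T1 : Set G)) = 4 * Nat.card T1
  n2 : Nat.card (normalizer (T2 : Set G)) = 4 * Nat.card T2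
  s1 : s ≠ 1
  u1 : u ≠ 1
  cs : Nat.card (centralizer ({s} : Set G)) = (2 * r ^ 2) ^ 2
  cu : Nat.card (centralizer ({u} : Set G)) = 2 * (2 * r ^ 2)
  nu : ¬ IsConj u u⁻¹
  cases : ∀ g : G, g ≠ 1 → IsConj s g ∨ IsConj u g ∨ IsConj u⁻¹ g ∨ g ∈ Cls T0 ∨ g ∈ Cls T1 ∨ g ∈ Cls T2
  St1 : St.1 1 = (2 * r ^ 2) ^ 2
  Sts : St.1 s = 0
  Stu : St.1 u = 0
  St0 : ∀ g ∈ Cls T0, St.1 g = 1
  Sta : ∀ g ∈ Cls T1, St.1 g = -1
  Stb : ∀ g ∈ Cls T2, St.1 g = -1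
  mult : ∀ χ : IrrCharacter G, ∃ e a f : ℕ, χ.1 1 = e + (2 * r ^ 2 - 1) * a + (2 * r ^ 2 - 1) * f ∧
    χ.1 s = e + (2 * r ^ 2 - 1) * a - f ∧ (χ.1 u).re = e - a

/-- the character table -/
structure Tab {r : ℕ} (D : Data G r) where
  W1 : IrrCharacter G
  W2 : IrrCharacter G
  X : Finset (IrrCharacter G)
  Y : Finset (IrrCharacter G)
  Z : Finset (IrrCharacter G)
  v : ℝ
  sum : ∀ F : IrrCharacter G → ℂ, ∑ χ, F χ = F (irrOne G) + F D.St + F W1 + F W2 + ∑ χ ∈ X, F χ + ∑ χ ∈ Y, F χ +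
    ∑ χ ∈ Z, F χ
  cover : ∀ χ, χ = irrOne G ∨ χ = D.St ∨ χ = W1 ∨ χ = W2 ∨ χ ∈ X ∨ χ ∈ Y ∨ χ ∈ Z
  cX : X.card + 1 = r ^ 2
  cY : 2 * Y.card = r ^ 2 + r
  cZ : 2 * Z.card + r = r ^ 2
  vX : ∀ χ ∈ X, ∀ g, g ∉ Cls D.T0 → χ.1 g = 1 + D.St.1 g
  vY : ∀ χ ∈ Y, χ.1 1 = (2 * r ^ 2 - 1) * (2 * r ^ 2 - 2 * r + 1) ∧ χ.1 D.s = 2 * r - 1 ∧ χ.1 D.u = -1 ∧
    (∀ g ∈ Cls D.T0, χ.1 g = 0) ∧ ∀ g ∈ Cls D.T2, χ.1 g = 0
  vZ : ∀ χ ∈ Z, χ.1 1 = (2 * r ^ 2 - 1) * (2 * r ^ 2 + 2 * r + 1) ∧ χ.1 D.s = -(2 * r + 1) ∧ χ.1 D.u = -1 ∧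
    (∀ g ∈ Cls D.T0, χ.1 g = 0) ∧ ∀ g ∈ Cls D.T1, χ.1 g = 0
  vW : ∀ χ, χ = W1 ∨ χ = W2 → χ.1 1 = r * (2 * r ^ 2 - 1) ∧ χ.1 D.s = -r ∧ (∀ g ∈ Cls D.T0, χ.1 g = 0) ∧
    (∀ g ∈ Cls D.T1, χ.1 g = 1) ∧ ∀ g ∈ Cls D.T2, χ.1 g = -1
  vW1 : W1.1 D.u = v * Complex.I
  vW2 : W2.1 D.u = -(v * Complex.I)
  hv : v ^ 2 = r ^ 2

namespace Data
variable {r : ℕ} (D : Data G r)

theorem s0 : D.s ∉ Cls D.T0 := fun h => by
  have := card_cent_of_cls D.c0 h; have := D.cs; have := D.k0; have := D.hr; nlinarith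
theorem sa : D.s ∉ Cls D.T1 := fun h => by
  have := card_cent_of_cls D.c1 h; have := D.cs; have := D.k1; have := D.hr
  have : r ^ 2 ≥ 2 * r := by nlinarith
  nlinarith
theorem sb : D.s ∉ Cls D.T2 := fun h => by
  have := card_cent_of_cls D.c2 h; have := D.cs; have := D.k2; have := D.hr; nlinarith
theorem u0 : D.u ∉ Cls D.T0 := fun h => by
  have := card_cent_of_cls D.c0 h; have := D.cu; have := D.k0; omega
theorem ua : D.u ∉ Cls D.T1 := fun h => by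
  have := card_cent_of_cls D.c1 h; have := D.cu; have := D.k1; omega
theorem ub : D.u ∉ Cls D.T2 := fun h => by
  have := card_cent_of_cls D.c2 h; have := D.cu; have := D.k2; omega
theorem a0 {g : G} (h : g ∈ Cls D.T1) : g ∉ Cls D.T0 := fun h' => by
  have := card_cent_of_cls D.c0 h'; have := card_cent_of_cls D.c1 h; have := D.k0; have := D.k1; omega
theorem b0 {g : G} (h : g ∈ Cls D.T2) : g ∉ Cls D.T0 := fun h' => by
  have := card_cent_of_cls D.c0 h'; have := card_cent_of_cls D.c2 h; have := D.k0; have := D.k2; have := D.hr; omega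
theorem ab {g : G} (h : g ∈ Cls D.T1) : g ∉ Cls D.T2 := fun h' => by
  have := card_cent_of_cls D.c2 h'; have := card_cent_of_cls D.c1 h; have := D.k2; have := D.k1; have := D.hr; omega
theorem su : ¬ IsConj D.s D.u := fun h => by
  have := card_centralizer_eq_of_isConj h; have := D.cs; have := D.cu; have := D.hr
  have : r ^ 2 ≥ 4 := by nlinarith
  nlinarith

theorem St_ne : D.St ≠ irrOne G := fun e => by
  have := D.Sts
  rw [e, irrOne_apply] at this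
  exact one_ne_zero this

/-- the characters of degree `q² + 1` -/
theorem exists_X : ∃ X : Finset (IrrCharacter G), X ⊆ (univ.erase (irrOne G)).erase D.St ∧ X.card + 1 = r ^ 2 ∧
    (∀ χ ∈ X, ∀ g, g ∉ Cls D.T0 → χ.1 g = 1 + D.St.1 g) ∧
    ∀ χ ∈ (univ.erase (irrOne G)).erase D.St \ X, ∀ g ∈ Cls D.T0, χ.1 g = 0 := by
  have sp : ∀ {M : Type} [AddCommMonoid M] (F : IrrCharacter G → M),
      ∑ χ, F χ = F (irrOne G) + (F D.St + ∑ χ ∈ (univ.erase (irrOne G)).erase D.St, F χ) := fun F => by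
    rw [← add_sum_erase _ _ (mem_univ (irrOne G)), ← add_sum_erase _ _ (mem_erase.2 ⟨D.St_ne, mem_univ _⟩)]
  have a1 : ∀ θ : {θ : IrrCharacter D.T0 // θ ≠ irrOne _}, c θ.1 (irrOne G) = -1 := fun θ =>
    c_of_const (κ := 1) (fun _ _ _ => by simp [irrOne_apply]) (deg_one D.c0 _) θ.2
  have a2 : ∀ θ : {θ : IrrCharacter D.T0 // θ ≠ irrOne _}, c θ.1 D.St = -1 := fun θ =>
    c_of_const (κ := 1) (fun t h h' => by simp [D.St0 t (mem_cls_self h h')]) (deg_one D.c0 _) θ.2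
  have a3 : ∀ θ η : {θ : IrrCharacter D.T0 // θ ≠ irrOne _},
      ∑ χ ∈ (univ.erase (irrOne G)).erase D.St, c θ.1 χ * c η.1 χ = if J θ.1 η.1 then 1 else 0 := fun θ η => by
    have := gram D.c0 D.n0 θ.2 η.2
    rw [sp, a1, a1, a2, a2] at this
    omega
  choose X h1 h2 h3 using fun θ : {θ : IrrCharacter D.T0 // θ ≠ irrOne _} =>
    one_vec ((a3 θ θ).trans (if_pos (MulAction.mem_orbit_self _)))
  have a4 : ∀ θ g, g ∉ Cls D.T0 → (c θ.1 (X θ) : ℂ) * (X θ).1 g = 1 + D.St.1 g := fun θ g hg => by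
    have := sum_c D.c0 θ.1 hg
    rw [sp, a1, a2, sum_eq_single_of_mem _ (h1 θ) fun l a b => by simp [h3 θ l a b], irrOne_apply] at this
    push_cast at this
    linear_combination this
  have a5 : ∀ θ, c θ.1 (X θ) = 1 := fun θ => (mul_self_eq_one_iff.1 (h2 θ)).resolve_right fun e => by
    have := a4 θ 1 fun h => h.1 rfl
    obtain ⟨n, -, hn⟩ := irr_apply_one (X θ).2
    rw [e, hn, D.St1] at this
    have h4 : (-1 : ℤ) * n = 1 + (2 * r ^ 2) ^ 2 := by exact_mod_cast this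
    nlinarith
  refine ⟨univ.image X, fun χ h => ?_, ?_, fun χ h g hg => ?_, fun χ h g hg => ?_⟩
  · obtain ⟨θ, -, rfl⟩ := mem_image.1 h
    exact h1 θ
  · have h7 := card_image D.c0 D.n0 X fun θ η => by
      have h4 := a3 θ η
      rw [sum_eq_single_of_mem _ (h1 θ) fun l a b => by rw [h3 θ l a b, zero_mul], a5, one_mul] at h4
      refine ⟨fun e => by_contra fun hJ => ?_, fun hJ => by_contra fun e => ?_⟩
      · rw [if_neg hJ, e, a5] at h4; omega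
      · rw [if_pos hJ, h3 η _ (h1 θ) e] at h4; omega
    have := D.k0
    have h8 : 2 * (univ.image X).card + 1 = Nat.card D.T0 := by convert h7
    omega
  · obtain ⟨θ, -, rfl⟩ := mem_image.1 h
    rw [← a4 θ g hg, a5]; simp
  · rw [mem_sdiff] at h
    simpa using val_of_const D.c0 (κ := 0) (fun θ hθ => h3 ⟨θ, hθ⟩ χ h.1 fun e => h.2 (e ▸ mem_image_of_mem _ (mem_univ _))) hg

/-- the numerical data of the remaining characters -/
theorem exists_R {X : Finset (IrrCharacter G)} (hX : X ⊆ (univ.erase (irrOne G)).erase D.St) (cX : X.card + 1 = r ^ 2)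
    (vX : ∀ χ ∈ X, ∀ g, g ∉ Cls D.T0 → χ.1 g = 1 + D.St.1 g) {R : Finset (IrrCharacter G)}
    (hR : R = (univ.erase (irrOne G)).erase D.St \ X) : ∃ (a f : IrrCharacter G → ℤ) (v : IrrCharacter G → ℝ),
    (∀ χ ∈ R, 0 ≤ a χ ∧ 0 ≤ f χ ∧ χ.1 1 = (2 * r ^ 2 - 1) * (a χ + f χ) ∧ χ.1 D.s = (2 * r ^ 2 - 1) * a χ - f χ ∧
      χ.1 D.u = -a χ + v χ * Complex.I) ∧
    ∑ χ ∈ R, a χ * a χ = r ^ 2 ∧ ∑ χ ∈ R, a χ * f χ = (2 * r ^ 2 - 2) * r ^ 2 ∧
    ∑ χ ∈ R, f χ * f χ = 4 * r ^ 6 - 4 * r ^ 4 + 2 * r ^ 2 ∧ ∑ χ ∈ R, v χ * v χ = 2 * r ^ 2 ∧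
    ∑ χ ∈ R, a χ * v χ = 0 := by
  choose e a f h1 h2 h3 using D.mult
  have sp : ∀ F : IrrCharacter G → ℂ, ∑ χ, F χ = F (irrOne G) + (F D.St + (∑ χ ∈ R, F χ + ∑ χ ∈ X, F χ)) :=
    fun F => by
    rw [← add_sum_erase _ _ (mem_univ (irrOne G)), ← add_sum_erase _ _ (mem_erase.2 ⟨D.St_ne, mem_univ _⟩), hR,
      sum_sdiff hX]
  have kX : (X.card : ℂ) = r ^ 2 - 1 := by rw [eq_sub_iff_add_eq]; exact_mod_cast cX
  have col : ∀ g h, g ∉ Cls D.T0 → h ∉ Cls D.T0 → ∑ χ ∈ R, χ.1 g * conj (χ.1 h) =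
      (if IsConj g h then (Nat.card (centralizer ({g} : Set G)) : ℂ) else 0) - 1 - D.St.1 g * conj (D.St.1 h) -
        (r ^ 2 - 1) * ((1 + D.St.1 g) * conj (1 + D.St.1 h)) := fun g h hg hh => by
    rw [← sum_irr_mul_conj, sp, sum_congr (s₁ := X) rfl (g := fun _ => (1 + D.St.1 g) * conj (1 + D.St.1 h))
      fun χ hχ => by rw [vX χ hχ g hg, vX χ hχ h hh], sum_const, nsmul_eq_mul,
      kX, irrOne_apply, irrOne_apply, map_one]
    ring
  have o0 : (1 : G) ∉ Cls D.T0 := fun h => h.1 rfl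
  have ui : D.u⁻¹ ∉ Cls D.T0 := fun ⟨a, x, b⟩ => D.u0 ⟨D.u1, x, by simpa [mul_assoc] using inv_mem b⟩
  let d : IrrCharacter G → ℤ := fun χ => e χ + (2 * r ^ 2 - 1) * a χ + (2 * r ^ 2 - 1) * f χ
  let s : IrrCharacter G → ℤ := fun χ => e χ + (2 * r ^ 2 - 1) * a χ - f χ
  let p : IrrCharacter G → ℤ := fun χ => e χ - a χ
  let v : IrrCharacter G → ℝ := fun χ => (χ.1 D.u).im
  have hd : ∀ χ : IrrCharacter G, χ.1 1 = d χ := fun χ => by rw [h1]; simp [d]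
  have hs : ∀ χ : IrrCharacter G, χ.1 D.s = s χ := fun χ => by rw [h2]; simp [s]
  have hu : ∀ χ : IrrCharacter G, χ.1 D.u = p χ + v χ * Complex.I := fun χ =>
    Complex.ext (by simp [p, h3]) (by simp [v])
  have c11 := col 1 1 o0 o0
  have c12 := col 1 D.s o0 D.s0
  have c13 := congrArg Complex.re (col 1 D.u o0 D.u0)
  have c22 := col D.s D.s D.s0 D.s0
  have c23 := congrArg Complex.re (col D.s D.u D.s0 D.u0)
  have c33 := congrArg Complex.re (col D.u D.u D.u0 D.u0)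
  have c34 := col D.u D.u⁻¹ D.u0 ui
  rw [if_pos (IsConj.refl _), show centralizer ({1} : Set G) = ⊤ by ext; simp [mem_centralizer_singleton_iff],
    card_top, show (Nat.card G : ℂ) = (Nat.card G : ℤ) by simp, D.cG] at c11
  rw [if_neg fun h => D.s1 (isConj_one_right.1 h)] at c12
  rw [if_neg fun h => D.u1 (isConj_one_right.1 h)] at c13
  rw [if_pos (IsConj.refl _), D.cs] at c22
  rw [if_neg D.su] at c23
  rw [if_pos (IsConj.refl _), D.cu] at c33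
  rw [if_neg D.nu] at c34
  simp only [char_apply_inv (char_of_irr (Subtype.property _)), Complex.conj_conj] at c34
  have c35 := congrArg Complex.im c34
  replace c34 := congrArg Complex.re c34
  simp only [D.St1, D.Sts, D.Stu, map_zero, add_zero, map_one, mul_zero, mul_one, sub_zero] at c11 c12 c13 c22 c23 c33 c34 c35
  simp only [hd, hs, hu, map_intCast, map_add, map_mul, Complex.conj_ofReal, Complex.conj_I, map_pow, map_one,
    map_natCast, map_ofNat] at c11 c12 c13 c22 c23 c33 c34 c35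
  have e11 : ∑ χ ∈ R, d χ * d χ = (2 * r ^ 2) ^ 2 * ((2 * r ^ 2) ^ 2 + 1) * (2 * r ^ 2 - 1) - 1 -
      (2 * r ^ 2) ^ 2 * (2 * r ^ 2) ^ 2 - (r ^ 2 - 1) * ((1 + (2 * r ^ 2) ^ 2) * (1 + (2 * r ^ 2) ^ 2)) := by
    exact_mod_cast c11
  have e12 : ∑ χ ∈ R, d χ * s χ = 0 - 1 - (r ^ 2 - 1) * (1 + (2 * r ^ 2) ^ 2) := by exact_mod_cast c12
  have e22 : ∑ χ ∈ R, s χ * s χ = (2 * r ^ 2) ^ 2 - 1 - (r ^ 2 - 1) := by exact_mod_cast c22
  have hre : ((r : ℂ) ^ 2).re = r ^ 2 := by rw [← Nat.cast_pow, Complex.natCast_re, Nat.cast_pow]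
  have him : ((r : ℂ) ^ 2).im = 0 := by rw [← Nat.cast_pow, Complex.natCast_im]
  rw [sq (2 * _ : ℂ)] at c13
  simp [Complex.re_sum, Complex.im_sum, hre, him] at c13 c23 c33 c34 c35
  rw [sum_add_distrib] at c33
  have e13 : ∑ χ ∈ R, d χ * p χ = -1 - (r ^ 2 - 1) * (1 + (2 * r ^ 2) ^ 2) := by
    rw [sq (2 * _ : ℤ)]; exact_mod_cast c13
  have e23 : ∑ χ ∈ R, s χ * p χ = -1 - (r ^ 2 - 1) := by exact_mod_cast c23
  have e33 : ∑ χ ∈ R, p χ * p χ = r ^ 2 := by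
    have : ∑ χ ∈ R, (p χ : ℝ) * p χ = r ^ 2 := by linarith
    exact_mod_cast this
  have e0 : ∀ χ ∈ R, e χ = 0 := fun χ hχ => by
    have : ∑ χ ∈ R, ((2 * r ^ 2) ^ 2 * e χ : ℤ) * ((2 * r ^ 2) ^ 2 * e χ) = 0 := by
      rw [sum_congr rfl (g := fun χ => d χ * d χ + 2 * (2 * r ^ 2 - 1) * (d χ * s χ) +
        2 * ((2 * r ^ 2) ^ 2 - 2 * r ^ 2) * (d χ * p χ) + (2 * r ^ 2 - 1) ^ 2 * (s χ * s χ) +
        2 * (2 * r ^ 2 - 1) * ((2 * r ^ 2) ^ 2 - 2 * r ^ 2) * (s χ * p χ) +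
        ((2 * r ^ 2) ^ 2 - 2 * r ^ 2) ^ 2 * (p χ * p χ)) fun χ _ => by simp only [d, s, p]; ring]
      simp only [sum_add_distrib, ← mul_sum, e11, e12, e13, e22, e23, e33]
      ring
    have h4 := mul_self_eq_zero.1 ((sum_eq_zero_iff_of_nonneg fun l _ => mul_self_nonneg _).1 this χ hχ)
    have := D.hr
    exact_mod_cast (mul_eq_zero.1 h4).resolve_left (by positivity)
  refine ⟨fun χ => a χ, fun χ => f χ, v, fun χ hχ => ⟨by positivity, by positivity, ?_, ?_, ?_⟩, ?_, ?_, ?_, ?_, ?_⟩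
  · rw [h1, e0 χ hχ]; push_cast; ring
  · rw [h2, e0 χ hχ]; push_cast; ring
  · rw [hu]; simp [p, e0 χ hχ]
  · rw [← e33]; exact sum_congr rfl fun χ hχ => by simp [p, e0 χ hχ]
  · rw [sum_congr rfl (g := fun χ => (2 * r ^ 2 - 1) * (p χ * p χ) + s χ * p χ) fun χ hχ => by
      simp only [s, p, e0 χ hχ]; ring]
    simp only [sum_add_distrib, ← mul_sum, e23, e33]
    ring
  · rw [sum_congr rfl (g := fun χ => (2 * r ^ 2 - 1) ^ 2 * (p χ * p χ) + 2 * (2 * r ^ 2 - 1) * (s χ * p χ) +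
      s χ * s χ) fun χ hχ => by simp only [s, p, e0 χ hχ]; ring]
    simp only [sum_add_distrib, ← mul_sum, e22, e23, e33]
    ring
  · linarith
  · rw [sum_congr rfl (g := fun χ => -2 * (a χ * v χ)) fun χ hχ => by simp [p, e0 χ hχ]; ring, ← mul_sum] at c35
    simpa using c35

end Data

end CA.H19Tor
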