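import Cfsg.Agent.Lib.Char.H19Tab

/-! Existence of the character table of a group with the class structure of a Suzuki group. -/

set_option autoImplicit false
set_option linter.unusedSectionVars false

namespace CA.H19Tor

open Subgroup Cfsg CChar.CharFun CChar.CharOrth CA.TorusCount Finset
open scoped ComplexConjugate Classical

variable {G : Type*} [Group G] [Fintype G]

namespace Data
variable {r : ℕ} (D : Data G r)

theorem tor {T : Subgroup G} (hT : CC T) (hn : Nat.card (normalizer (T : Set G)) = 4 * Nat.card T)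
    (hSt : ∀ g ∈ Cls T, D.St.1 g = -1) (hs : D.s ∉ Cls T) (hu : D.u ∉ Cls T) (h0 : ∀ g ∈ Cls T, g ∉ Cls D.T0)
    {X R : Finset (IrrCharacter G)} (vX : ∀ χ ∈ X, ∀ g, g ∉ Cls D.T0 → χ.1 g = 1 + D.St.1 g)
    (sp : ∀ {M : Type} [AddCommMonoid M] (F : IrrCharacter G → M),
      ∑ χ, F χ = F (irrOne G) + (F D.St + (∑ χ ∈ R, F χ + ∑ χ ∈ X, F χ)))
    {a f : IrrCharacter G → ℤ} {v : IrrCharacter G → ℝ}
    (hR : ∀ χ ∈ R, χ.1 D.s = (2 * r ^ 2 - 1) * a χ - f χ ∧ χ.1 D.u = -a χ + v χ * Complex.I) :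
    (∀ θ : {θ : IrrCharacter T // θ ≠ irrOne _}, c θ.1 (irrOne G) = -1 ∧ c θ.1 D.St = 1 ∧ (∀ χ ∈ X, c θ.1 χ = 0) ∧
      ∑ χ ∈ R, c θ.1 χ * a χ = -1 ∧ ∑ χ ∈ R, c θ.1 χ * f χ = -(2 * r ^ 2) ∧ ∑ χ ∈ R, c θ.1 χ * v χ = 0) ∧
    ∀ θ η : {θ : IrrCharacter T // θ ≠ irrOne _},
      ∑ χ ∈ R, c θ.1 χ * c η.1 χ = 2 + if J θ.1 η.1 then 1 else 0 := by
  have a1 : ∀ θ : {θ : IrrCharacter T // θ ≠ irrOne _}, c θ.1 (irrOne G) = -1 := fun θ =>
    c_of_const (κ := 1) (fun _ _ _ => by simp [irrOne_apply]) (deg_one hT _) θ.2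
  have a2 : ∀ θ : {θ : IrrCharacter T // θ ≠ irrOne _}, c θ.1 D.St = 1 := fun θ =>
    c_of_const (κ := -1) (fun t h h' => by simp [hSt t (mem_cls_self h h')]) (deg_one hT _) θ.2
  have a3 : ∀ θ : {θ : IrrCharacter T // θ ≠ irrOne _}, ∀ χ ∈ X, c θ.1 χ = 0 := fun θ χ hχ =>
    c_of_const (κ := 0) (fun t h h' => by
      simp [vX χ hχ t (h0 t (mem_cls_self h h')), hSt t (mem_cls_self h h')]) (deg_one hT _) θ.2
  refine ⟨fun θ => ?_, fun θ η => ?_⟩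
  · have b1 := sum_c hT θ.1 hs
    have b2 := sum_c hT θ.1 hu
    rw [sp, a1, D.Sts, irrOne_apply, sum_eq_zero (s := X) fun χ h => by simp [a3 θ χ h],
      sum_congr rfl (g := fun χ => ((c θ.1 χ * ((2 * r ^ 2 - 1) * a χ - f χ) : ℤ) : ℂ)) fun χ h => by
        rw [(hR χ h).1]; push_cast; rfl, ← Int.cast_sum] at b1
    rw [sp, a1, D.Stu, irrOne_apply, sum_eq_zero (s := X) fun χ h => by simp [a3 θ χ h],
      sum_congr rfl (g := fun χ => (c θ.1 χ : ℂ) * (-a χ + v χ * Complex.I)) fun χ h => by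
        rw [(hR χ h).2]] at b2
    have b3 := congrArg Complex.re b2
    have b4 := congrArg Complex.im b2
    simp [Complex.re_sum, Complex.im_sum] at b3 b4
    have b5 : ∑ χ ∈ R, c θ.1 χ * a χ = -1 := by
      have : ∑ χ ∈ R, (c θ.1 χ : ℝ) * a χ = -1 := by linarith
      exact_mod_cast this
    have b6 : ∑ χ ∈ R, c θ.1 χ * ((2 * r ^ 2 - 1) * a χ - f χ) = 1 := by
      have : ((∑ χ ∈ R, c θ.1 χ * ((2 * r ^ 2 - 1) * a χ - f χ) : ℤ) : ℂ) = 1 := by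
        rw [← sub_eq_zero, ← b1]; simp; ring
      exact_mod_cast this
    rw [sum_congr rfl (g := fun χ => (2 * r ^ 2 - 1) * (c θ.1 χ * a χ) - c θ.1 χ * f χ) fun χ _ => by ring,
      sum_sub_distrib, ← mul_sum, b5] at b6
    exact ⟨a1 θ, a2 θ, a3 θ, b5, by linarith, b4⟩
  · have := gram hT hn θ.2 η.2
    rw [sp, a1, a1, a2, a2, sum_eq_zero (s := X) fun χ h => by simp [a3 θ χ h]] at this
    omega

theorem exists_tab : Nonempty (Tab D) := by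
  obtain ⟨X, hX, cX, vX, v0⟩ := D.exists_X
  obtain ⟨R, hR⟩ : ∃ R, R = (univ.erase (irrOne G)).erase D.St \ X := ⟨_, rfl⟩
  rw [← hR] at v0
  obtain ⟨a, f, v, hv, saa, saf, sff, svv, sav⟩ := D.exists_R hX cX vX hR
  have sp : ∀ {M : Type} [AddCommMonoid M] (F : IrrCharacter G → M),
      ∑ χ, F χ = F (irrOne G) + (F D.St + (∑ χ ∈ R, F χ + ∑ χ ∈ X, F χ)) := fun F => by
    rw [← add_sum_erase _ _ (mem_univ (irrOne G)), ← add_sum_erase _ _ (mem_erase.2 ⟨D.St_ne, mem_univ _⟩), hR,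
      sum_sdiff hX]
  obtain ⟨p1, g1⟩ := D.tor D.c1 D.n1 D.Sta D.sa D.ua (fun _ => D.a0) vX sp fun χ h => (hv χ h).2.2.2
  obtain ⟨p2, g2⟩ := D.tor D.c2 D.n2 D.Stb D.sb D.ub (fun _ => D.b0) vX sp fun χ h => (hv χ h).2.2.2
  have hr := D.hr
  have hr2 : 2 * r ≤ r ^ 2 := by nlinarith
  have k1 := D.k1
  have k2 := D.k2
  let cc : {θ : IrrCharacter D.T1 // θ ≠ irrOne _} ⊕ {θ : IrrCharacter D.T2 // θ ≠ irrOne _} → IrrCharacter G → ℤ :=
    Sum.elim (fun θ => c θ.1) fun η χ => -c η.1 χ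
  have x12 : ∀ θ η, ∑ χ ∈ R, cc (.inl θ) χ * cc (.inr η) χ = 2 := fun θ η => by
    have := sum_cross D.c1 D.c2 (fun _ => D.ab) θ.1 η.1
    rw [sp, (p1 θ).1, (p1 θ).2.1, (p2 η).1, (p2 η).2.1, sum_eq_zero (s := X) fun χ h => by
      simp [(p1 θ).2.2.1 χ h]] at this
    simp only [cc, Sum.elim_inl, Sum.elim_inr, mul_neg, sum_neg_distrib]
    omega
  have x21 : ∀ θ η, ∑ χ ∈ R, cc (.inr η) χ * cc (.inl θ) χ = 2 := fun θ η => by
    simpa only [mul_comm] using x12 θ η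
  have x11 : ∀ θ η, ∑ χ ∈ R, cc (.inl θ) χ * cc (.inl η) χ = 2 + if J θ.1 η.1 then 1 else 0 := g1
  have x22 : ∀ θ η, ∑ χ ∈ R, cc (.inr θ) χ * cc (.inr η) χ = 2 + if J θ.1 η.1 then 1 else 0 := fun θ η => by
    simpa only [cc, Sum.elim_inr, neg_mul_neg] using g2 θ η
  have h3 : ∀ k, ∑ χ ∈ R, cc k χ * cc k χ = 3 := by
    rintro (θ | θ)
    · rw [x11, if_pos (show J _ _ from MulAction.mem_orbit_self _)]; rfl
    · rw [x22, if_pos (show J _ _ from MulAction.mem_orbit_self _)]; rfl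
  have h2 : ∀ k k', ∑ χ ∈ R, cc k χ * cc k' χ = 2 ∨ ∑ χ ∈ R, cc k χ * cc k' χ = 3 := by
    rintro (θ | θ) (η | η)
    · rw [x11]; split_ifs <;> simp
    · exact .inl (x12 _ _)
    · exact .inl (x21 _ _)
    · rw [x22]; split_ifs <;> simp
  have ya : ∀ θ, ∑ χ ∈ R, cc (.inl θ) χ * a χ = -1 := fun θ => (p1 θ).2.2.2.1
  have yf : ∀ θ, ∑ χ ∈ R, cc (.inl θ) χ * f χ = -(2 * r ^ 2) := fun θ => (p1 θ).2.2.2.2.1
  have yv : ∀ θ, ∑ χ ∈ R, cc (.inl θ) χ * v χ = 0 := fun θ => (p1 θ).2.2.2.2.2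
  have za : ∀ θ, ∑ χ ∈ R, cc (.inr θ) χ * a χ = 1 := fun θ => by
    simp only [cc, Sum.elim_inr, neg_mul, sum_neg_distrib, (p2 θ).2.2.2.1, neg_neg]
  have zf : ∀ θ, ∑ χ ∈ R, cc (.inr θ) χ * f χ = 2 * r ^ 2 := fun θ => by
    simp only [cc, Sum.elim_inr, neg_mul, sum_neg_distrib, (p2 θ).2.2.2.2.1, neg_neg]
  have zv : ∀ θ, ∑ χ ∈ R, cc (.inr θ) χ * v χ = 0 := fun θ => by
    simp only [cc, Sum.elim_inr, Int.cast_neg, neg_mul, sum_neg_distrib, (p2 θ).2.2.2.2.2, neg_zero]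
  obtain ⟨θ1⟩ := nonempty_ne D.c1 (by omega)
  obtain ⟨η1⟩ := nonempty_ne D.c2 (by omega)
  obtain ⟨θ3, n31, -⟩ := exists_not_J D.c1 D.n1 (by omega) θ1 θ1
  obtain ⟨θ4, n41, n43⟩ := exists_not_J D.c1 D.n1 (by omega) θ1 θ3
  obtain ⟨i, hi, j, hj, hij, e1, e2, he1, he2, he⟩ := sunflower cc a h3 h2 (k1 := .inl θ4) (k2 := .inr η1)
    (k3 := .inl θ3) (k4 := .inl θ1) (x12 _ _) (by rw [x11, if_neg n43]; rfl) (by rw [x11, if_neg n41]; rfl)
    (x21 _ _) (x21 _ _) (by rw [x11, if_neg n31]; rfl) (by rw [ya, ya, ya, za]; rfl)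
  choose Y y1 y2 y3 y4 y5 using fun k => rest_vec (h3 k) hi hj hij (by rw [(he k).1, he1]) (by rw [(he k).2, he2])
  have ex : ∀ k (F : IrrCharacter G → ℤ), ∑ χ ∈ R, cc k χ * F χ = e1 * F i + e2 * F j + cc k (Y k) * F (Y k) :=
    fun k F => by
    rw [sum_three hi hj (y1 k) hij (y2 k) (y3 k) fun l a b c d => by rw [y5 k l a b c d, zero_mul], (he k).1, (he k).2]
  have exv : ∀ k, ∑ χ ∈ R, cc k χ * v χ = e1 * v i + e2 * v j + cc k (Y k) * v (Y k) := fun k => by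
    rw [sum_three hi hj (y1 k) hij (y2 k) (y3 k) fun l a b c d => by simp [y5 k l a b c d], (he k).1, (he k).2]
  have yy : ∀ k k', Y k = Y k' ↔ ∑ χ ∈ R, cc k χ * cc k' χ = 3 := fun k k' => by
    have b1 := h2 k k'
    rw [ex, (he k').1, (he k').2, he1, he2] at b1 ⊢
    refine ⟨fun e => ?_, fun e => by_contra fun e' => ?_⟩
    · have b2 := y4 k
      have b3 := y4 k'
      rw [← e] at b3
      rcases mul_self_eq_one_iff.1 b2 with b2 | b2 <;> rcases mul_self_eq_one_iff.1 b3 with b3 | b3 <;>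
        rw [b2, b3] at b1 ⊢ <;> omega
    · rw [y5 k' _ (y1 k) (y2 k) (y3 k) e'] at e
      omega
  obtain ⟨𝒴, h𝒴⟩ : ∃ S, S = univ.image fun θ => Y (.inl θ) := ⟨_, rfl⟩
  obtain ⟨𝒵, h𝒵⟩ : ∃ S, S = univ.image fun θ => Y (.inr θ) := ⟨_, rfl⟩
  have my : ∀ χ ∈ 𝒴, ∃ θ, Y (.inl θ) = χ := fun χ h => by simpa [h𝒴] using h
  have mz : ∀ χ ∈ 𝒵, ∃ θ, Y (.inr θ) = χ := fun χ h => by simpa [h𝒵] using h
  have cY : 2 * 𝒴.card = r ^ 2 + r := by
    have h7 := card_image D.c1 D.n1 (fun θ => Y (.inl θ)) fun θ η => by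
      rw [yy, x11]; split_ifs with h <;> simp [h]
    have h8 : 4 * 𝒴.card + 1 = Nat.card D.T1 := by rw [h𝒴]; convert h7
    omega
  have cZ : 2 * 𝒵.card + r = r ^ 2 := by
    have h7 := card_image D.c2 D.n2 (fun θ => Y (.inr θ)) fun θ η => by
      rw [yy, x22]; split_ifs with h <;> simp [h]
    have h8 : 4 * 𝒵.card + 1 = Nat.card D.T2 := by rw [h𝒵]; convert h7
    omega
  have yz : ∀ θ η, Y (.inl θ) ≠ Y (.inr η) := fun θ η e => by
    rw [yy, x12] at e; omega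
  have sY : 𝒴 ⊆ (R.erase i).erase j := fun χ h => by
    obtain ⟨θ, rfl⟩ := my χ h
    simp [y1, y2, y3]
  have sZ : 𝒵 ⊆ (R.erase i).erase j \ 𝒴 := fun χ h => by
    obtain ⟨θ, rfl⟩ := mz χ h
    refine mem_sdiff.2 ⟨by simp [y1, y2, y3], fun h => ?_⟩
    obtain ⟨η, e⟩ := my _ h
    exact yz _ _ e
  obtain ⟨E, hE⟩ : ∃ E, E = ((R.erase i).erase j \ 𝒴) \ 𝒵 := ⟨_, rfl⟩
  have spl : ∀ {M : Type} [AddCommMonoid M] (F : IrrCharacter G → M),
      ∑ χ ∈ R, F χ = F i + (F j + (∑ χ ∈ E, F χ + ∑ χ ∈ 𝒵, F χ + ∑ χ ∈ 𝒴, F χ)) := fun F => by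
    rw [← add_sum_erase _ _ hi, ← add_sum_erase _ _ (mem_erase.2 ⟨hij, hj⟩), hE, sum_sdiff sZ, sum_sdiff sY]
  have cY' : 2 * (𝒴.card : ℤ) = r ^ 2 + r := by exact_mod_cast cY
  have cZ' : 2 * (𝒵.card : ℤ) + r = r ^ 2 := by exact_mod_cast cZ
  have hr' : (2 : ℤ) ≤ r := by exact_mod_cast hr
  -- the multiplicities `a`
  obtain ⟨P, hP⟩ : ∃ P, P = e1 * a i + e2 * a j := ⟨_, rfl⟩
  have aY : ∀ θ, cc (.inl θ) (Y (.inl θ)) * a (Y (.inl θ)) = -1 - P := fun θ => by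
    have := ya θ; rw [ex] at this; omega
  have aZ : ∀ θ, cc (.inr θ) (Y (.inr θ)) * a (Y (.inr θ)) = 1 - P := fun θ => by
    have := za θ; rw [ex] at this; omega
  have sqk : ∀ k t, cc k (Y k) * a (Y k) = t → a (Y k) * a (Y k) = t * t := fun k t h => by
    rw [← h, mul_mul_mul_comm, y4, one_mul]
  have nE : 0 ≤ ∑ χ ∈ E, a χ * a χ := sum_nonneg fun _ _ => mul_self_nonneg _
  rw [spl, sum_congr (s₁ := 𝒵) rfl (g := fun _ => (1 - P) * (1 - P)) fun χ h => by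
      obtain ⟨θ, rfl⟩ := mz χ h; exact sqk _ _ (aZ θ),
    sum_congr (s₁ := 𝒴) rfl (g := fun _ => (-1 - P) * (-1 - P)) fun χ h => by
      obtain ⟨θ, rfl⟩ := my χ h; exact sqk _ _ (aY θ), sum_const, sum_const, nsmul_eq_mul, nsmul_eq_mul] at saa
  have q1 : 2 * (a i * a i + a j * a j + ∑ χ ∈ E, a χ * a χ + r * P * (r * P + 2)) = 0 := by
    linear_combination 2 * saa - (1 - P) ^ 2 * cZ' - (1 + P) ^ 2 * cY'
  have ni := mul_self_nonneg (a i)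
  have nj := mul_self_nonneg (a j)
  have q2 : 0 ≤ r * P * (r * P + 2) := by
    rcases le_or_gt 0 P with h | h
    · positivity
    · exact mul_nonneg_of_nonpos_of_nonpos (by nlinarith) (by nlinarith)
  have ai : a i = 0 := mul_self_eq_zero.1 (by omega)
  have aj : a j = 0 := mul_self_eq_zero.1 (by omega)
  have aE : ∀ χ ∈ E, a χ = 0 := fun χ h => mul_self_eq_zero.1
    ((sum_eq_zero_iff_of_nonneg fun l _ => mul_self_nonneg (a l)).1 (by omega) χ h)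
  rw [ai, aj, mul_zero, mul_zero, add_zero] at hP
  subst hP
  have bY : ∀ θ, cc (.inl θ) (Y (.inl θ)) = -1 ∧ a (Y (.inl θ)) = 1 := fun θ => by
    have b1 := aY θ
    have := (hv _ (y1 (.inl θ))).1
    rcases mul_self_eq_one_iff.1 (y4 (.inl θ)) with b | b <;> rw [b] at b1 ⊢ <;> omega
  have bZ : ∀ θ, cc (.inr θ) (Y (.inr θ)) = 1 ∧ a (Y (.inr θ)) = 1 := fun θ => by
    have b1 := aZ θ
    have := (hv _ (y1 (.inr θ))).1
    rcases mul_self_eq_one_iff.1 (y4 (.inr θ)) with b | b <;> rw [b] at b1 ⊢ <;> omega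
  -- the multiplicities `f`
  obtain ⟨Φ, hΦ⟩ : ∃ Φ, Φ = e1 * f i + e2 * f j := ⟨_, rfl⟩
  have fY : ∀ θ, f (Y (.inl θ)) = 2 * r ^ 2 + Φ := fun θ => by
    have := yf θ; rw [ex, (bY θ).1] at this; omega
  have fZ : ∀ θ, f (Y (.inr θ)) = 2 * r ^ 2 - Φ := fun θ => by
    have := zf θ; rw [ex, (bZ θ).1] at this; omega
  rw [spl, ai, aj, sum_eq_zero (s := E) fun χ h => by rw [aE χ h, zero_mul],
    sum_congr (s₁ := 𝒵) rfl (g := fun _ => 2 * (r : ℤ) ^ 2 - Φ) fun χ h => by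
      obtain ⟨θ, rfl⟩ := mz χ h; rw [(bZ θ).2, fZ, one_mul],
    sum_congr (s₁ := 𝒴) rfl (g := fun _ => 2 * (r : ℤ) ^ 2 + Φ) fun χ h => by
      obtain ⟨θ, rfl⟩ := my χ h; rw [(bY θ).2, fY, one_mul], sum_const, sum_const, nsmul_eq_mul, nsmul_eq_mul] at saf
  have q3 : Φ = -(2 * r) := by
    have : (2 * r : ℤ) * Φ = (2 * r) * -(2 * r) := by
      linear_combination 2 * saf - (2 * r ^ 2 - Φ) * cZ' - (2 * r ^ 2 + Φ) * cY'
    exact mul_left_cancel₀ (by omega) this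
  rw [spl, sum_congr (s₁ := 𝒵) rfl (g := fun _ => (2 * (r : ℤ) ^ 2 - Φ) * (2 * r ^ 2 - Φ)) fun χ h => by
      obtain ⟨θ, rfl⟩ := mz χ h; rw [fZ],
    sum_congr (s₁ := 𝒴) rfl (g := fun _ => (2 * (r : ℤ) ^ 2 + Φ) * (2 * r ^ 2 + Φ)) fun χ h => by
      obtain ⟨θ, rfl⟩ := my χ h; rw [fY], sum_const, sum_const, nsmul_eq_mul, nsmul_eq_mul, q3] at sff
  rw [q3] at hΦ fY fZ
  have q4 : 2 * ((e1 * f i + r) * (e1 * f i + r) + (e2 * f j + r) * (e2 * f j + r) + ∑ χ ∈ E, f χ * f χ) = 0 := by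
    linear_combination 2 * sff - (2 * r ^ 2 + 2 * r) ^ 2 * cZ' - (2 * r ^ 2 - 2 * r) ^ 2 * cY' - 4 * r * hΦ +
      2 * f i ^ 2 * he1 + 2 * f j ^ 2 * he2
  have ni := mul_self_nonneg (e1 * f i + r)
  have nj := mul_self_nonneg (e2 * f j + r)
  have nE : 0 ≤ ∑ χ ∈ E, f χ * f χ := sum_nonneg fun _ _ => mul_self_nonneg _
  have fi : e1 = -1 ∧ f i = r := by
    have b1 : e1 * f i + r = 0 := mul_self_eq_zero.1 (by omega)
    have := (hv _ hi).2.1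
    rcases mul_self_eq_one_iff.1 he1 with b | b <;> rw [b] at b1 ⊢ <;> omega
  have fj : e2 = -1 ∧ f j = r := by
    have b1 : e2 * f j + r = 0 := mul_self_eq_zero.1 (by omega)
    have := (hv _ hj).2.1
    rcases mul_self_eq_one_iff.1 he2 with b | b <;> rw [b] at b1 ⊢ <;> omega
  have E0 : E = ∅ := eq_empty_of_forall_notMem fun χ h => by
    have b1 : f χ = 0 := mul_self_eq_zero.1
      ((sum_eq_zero_iff_of_nonneg fun l _ => mul_self_nonneg (f l)).1 (by omega) χ h)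
    have b2 : χ ∈ R := by
      rw [hE] at h
      exact mem_of_mem_erase (mem_of_mem_erase (mem_sdiff.1 (mem_sdiff.1 h).1).1)
    obtain ⟨n, hn, b3⟩ := irr_apply_one χ.2
    have b4 := (hv χ b2).2.2.1
    rw [b3, aE χ h, b1] at b4
    simp at b4
    omega
  -- the imaginary parts
  have wY : ∀ θ, v (Y (.inl θ)) = -(v i + v j) := fun θ => by
    have := yv θ; rw [exv, (bY θ).1, fi.1, fj.1] at this; push_cast at this; linarith
  have wZ : ∀ θ, v (Y (.inr θ)) = v i + v j := fun θ => by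
    have := zv θ; rw [exv, (bZ θ).1, fi.1, fj.1] at this; push_cast at this; linarith
  rw [spl, ai, aj, E0, sum_empty,
    sum_congr (s₁ := 𝒵) rfl (g := fun _ => v i + v j) fun χ h => by
      obtain ⟨θ, rfl⟩ := mz χ h; rw [(bZ θ).2, wZ, Int.cast_one, one_mul],
    sum_congr (s₁ := 𝒴) rfl (g := fun _ => -(v i + v j)) fun χ h => by
      obtain ⟨θ, rfl⟩ := my χ h; rw [(bY θ).2, wY, Int.cast_one, one_mul], sum_const, sum_const, nsmul_eq_mul,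
    nsmul_eq_mul] at sav
  have cY2 : 2 * (𝒴.card : ℝ) = r ^ 2 + r := by exact_mod_cast cY
  have cZ2 : 2 * (𝒵.card : ℝ) + r = r ^ 2 := by exact_mod_cast cZ
  have q5 : v i + v j = 0 := by
    have : (2 * r : ℝ) * (v i + v j) = 0 := by
      push_cast at sav
      linear_combination -2 * sav + (v i + v j) * cZ2 - (v i + v j) * cY2
    exact (mul_eq_zero.1 this).resolve_left (by positivity)
  rw [q5] at wY wZ
  rw [spl, E0, sum_empty, sum_eq_zero (s := 𝒵) fun χ h => by obtain ⟨θ, rfl⟩ := mz χ h; rw [wZ, mul_zero],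
    sum_eq_zero (s := 𝒴) fun χ h => by obtain ⟨θ, rfl⟩ := my χ h; rw [wY, neg_zero, mul_zero],
    eq_neg_of_add_eq_zero_right q5] at svv
  have hW : ∀ χ ∈ R, a χ = 0 → f χ = r → (∀ k, cc k χ = -1) → χ.1 1 = r * (2 * r ^ 2 - 1) ∧ χ.1 D.s = -r ∧
      (∀ g ∈ Cls D.T0, χ.1 g = 0) ∧ (∀ g ∈ Cls D.T1, χ.1 g = 1) ∧ ∀ g ∈ Cls D.T2, χ.1 g = -1 := fun χ h b1 b2 b3 => by
    obtain ⟨-, -, b4, b5, -⟩ := hv χ h
    refine ⟨by rw [b4, b1, b2]; push_cast; ring, by rw [b5, b1, b2]; push_cast; ring, v0 χ h, fun g hg => ?_,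
      fun g hg => ?_⟩
    · simpa using val_of_const D.c1 (κ := -1) (fun θ hθ => b3 (.inl ⟨θ, hθ⟩)) hg
    · simpa using val_of_const D.c2 (κ := 1) (fun θ hθ => neg_injective (b3 (.inr ⟨θ, hθ⟩))) hg
  refine ⟨⟨i, j, X, 𝒴, 𝒵, v i, fun F => ?_, fun χ => ?_, cX, cY, cZ, vX, fun χ h => ?_, fun χ h => ?_, ?_, ?_, ?_,
    by linarith⟩⟩
  · rw [sp, spl, E0, sum_empty]; ring
  · by_contra hc
    push Not at hc
    have : χ ∈ E := by
      rw [hE, hR]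
      simp [hc]
    simp [E0] at this
  · obtain ⟨θ, rfl⟩ := my χ h
    obtain ⟨-, -, b4, b5, b6⟩ := hv _ (y1 (.inl θ))
    rw [(bY θ).2] at b4 b5 b6
    refine ⟨by rw [b4, fY]; push_cast; ring, by rw [b5, fY]; push_cast; ring, by simp [b6, wY], v0 _ (y1 _),
      fun g hg => ?_⟩
    simpa using val_of_const D.c2 (κ := 0) (fun η hη => neg_eq_zero.1
      (y5 (.inr ⟨η, hη⟩) _ (y1 _) (y2 _) (y3 _) (yz _ _))) hg
  · obtain ⟨θ, rfl⟩ := mz χ h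
    obtain ⟨-, -, b4, b5, b6⟩ := hv _ (y1 (.inr θ))
    rw [(bZ θ).2] at b4 b5 b6
    refine ⟨by rw [b4, fZ]; push_cast; ring, by rw [b5, fZ]; push_cast; ring, by simp [b6, wZ], v0 _ (y1 _),
      fun g hg => ?_⟩
    simpa using val_of_const D.c1 (κ := 0) (fun η hη =>
      y5 (.inl ⟨η, hη⟩) _ (y1 _) (y2 _) (y3 _) (yz _ _).symm) hg
  · rintro χ (rfl | rfl)
    · exact hW _ hi ai fi.2 fun k => (he k).1.trans fi.1
    · exact hW _ hj aj fj.2 fun k => (he k).2.trans fj.1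
  · simp [(hv _ hi).2.2.2.2, ai]
  · simp [(hv _ hj).2.2.2.2, aj, eq_neg_of_add_eq_zero_right q5]

end Data

end CA.H19Tor
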