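import Cfsg.Agent.Lib.Char.Ind
import Cfsg.Agent.Lib.Char.CharInt
import Cfsg.Agent.Lib.Lie.TorusCount

/-! Coefficient vectors of the characters induced from a self-centralizing abelian subgroup; vectors of norm three. -/

set_option autoImplicit false
set_option linter.unusedSectionVars false

namespace CA.H19Tor

open Subgroup Cfsg CChar.CharFun CChar.CharOrth CA.TorusCount Finset
open scoped ComplexConjugate Classical

section
variable {G : Type*} [Group G] [Fintype G] {T : Subgroup G}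

noncomputable instance act : MulAction (normalizer (T : Set G)) (IrrCharacter T) where
  smul n θ := ⟨fun t => θ.1 (T.normalizerMonoidHom n⁻¹ t), irr_comp_mulEquiv θ.2 _⟩
  one_smul θ := Subtype.ext (funext fun t => by
    change θ.1 (T.normalizerMonoidHom 1⁻¹ t) = _
    rw [inv_one, map_one]; rfl)
  mul_smul a b θ := Subtype.ext (funext fun t => by
    change θ.1 (T.normalizerMonoidHom (a * b)⁻¹ t) = θ.1 (T.normalizerMonoidHom b⁻¹ (T.normalizerMonoidHom a⁻¹ t))
    rw [mul_inv_rev, map_mul]; rfl)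

theorem smul_val (n : normalizer (T : Set G)) (θ : IrrCharacter T) (t : T) :
    (n • θ).1 t = θ.1 (T.normalizerMonoidHom n⁻¹ t) := rfl

theorem coe_nm (n : normalizer (T : Set G)) (t : T) :
    (T.normalizerMonoidHom n⁻¹ t : G) = (n : G)⁻¹ * t * n := by
  change (n⁻¹ : normalizer (T : Set G)) * (t : G) * ((n⁻¹ : normalizer (T : Set G)) : G)⁻¹ = _
  simp

theorem smul_one (n : normalizer (T : Set G)) : n • irrOne T = irrOne T := rfl

theorem smul_ne {θ : IrrCharacter T} (h : θ ≠ irrOne T) (n : normalizer (T : Set G)) : n • θ ≠ irrOne T :=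
  fun e => h (by rw [← inv_smul_smul n θ, e, smul_one])

variable (hT : CC T)
include hT

theorem deg_one (θ : IrrCharacter T) : θ.1 1 = 1 :=
  irr_apply_one_of_comm (fun a b => Subtype.ext (hT.comm a.2 b.2)) θ.2

theorem card_irrT : Fintype.card (IrrCharacter T) = Nat.card T := by
  have := sum_degree_sq (G := T)
  simp only [deg_one hT, one_pow, sum_const, card_univ, nsmul_eq_mul, mul_one] at this
  exact_mod_cast this

theorem sum_val {t : T} (ht : t ≠ 1) : ∑ θ : IrrCharacter T, θ.1 t = 0 := by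
  have := sum_degree_mul_apply t
  simpa only [deg_one hT, one_mul, regChar_of_ne ht] using this

theorem stab {θ : IrrCharacter T} (h : θ ≠ irrOne T) :
    MulAction.stabilizer (normalizer (T : Set G)) θ = T.subgroupOf _ := by
  ext n
  rw [MulAction.mem_stabilizer_iff, mem_subgroupOf]
  refine ⟨fun e => ?_, fun hn => Subtype.ext (funext fun t => ?_)⟩
  · by_contra hn
    have cm : ∀ a b : T, a * b = b * a := fun a b => Subtype.ext (hT.comm a.2 b.2)
    have hi : Function.Injective fun t : T => T.normalizerMonoidHom n⁻¹ t * t⁻¹ := fun s t e => by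
      by_contra hst
      have e1 : T.normalizerMonoidHom n⁻¹ (t⁻¹ * s) = t⁻¹ * s := by
        rw [map_mul, map_inv, inv_mul_eq_iff_eq_mul, ← mul_assoc]
        exact mul_inv_eq_iff_eq_mul.1 e
      have e2 := congrArg Subtype.val e1
      rw [coe_nm] at e2
      refine hn ?_
      rw [mul_assoc, inv_mul_eq_iff_eq_mul] at e2
      exact (hT _ (t⁻¹ * s).2 (fun e => hst (inv_mul_eq_one.1 (Subtype.ext e)).symm)).le
        (mem_centralizer_singleton_iff.2 e2.symm)
    refine h (Subtype.ext (funext fun s => ?_))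
    obtain ⟨t, rfl⟩ := Finite.injective_iff_surjective.1 hi s
    have m := char_map_mul_of_apply_one (char_of_irr θ.2) (deg_one hT θ)
    rw [m, ← smul_val, e, ← m, mul_inv_cancel, deg_one hT]; rfl
  · rw [smul_val]
    refine congrArg θ.1 (Subtype.ext ?_)
    rw [coe_nm, mul_assoc, hT.comm t.2 hn, inv_mul_cancel_left]

theorem card_stab {θ : IrrCharacter T} (h : θ ≠ irrOne T) :
    Nat.card (MulAction.stabilizer (normalizer (T : Set G)) θ) = Nat.card T := by
  rw [stab hT h]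
  exact Nat.card_congr (subgroupOfEquivOfLe le_normalizer).toEquiv

omit hT in
/-- conjugacy of characters under the normalizer -/
def J (θ η : IrrCharacter T) : Prop := θ ∈ MulAction.orbit (normalizer (T : Set G)) η

theorem card_J {w : ℕ} (hw : Nat.card (normalizer (T : Set G)) = w * Nat.card T) {η : IrrCharacter T}
    (h : η ≠ irrOne T) : (univ.filter fun θ : {θ : IrrCharacter T // θ ≠ irrOne T} => J θ.1 η).card = w := by
  have h1 := MulAction.card_orbit_mul_card_stabilizer_eq_card_group (normalizer (T : Set G)) η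
  simp only [← Nat.card_eq_fintype_card] at h1
  rw [card_stab hT h, hw] at h1
  rw [← Nat.eq_of_mul_eq_mul_right Nat.card_pos h1, ← Fintype.card_subtype, ← Nat.card_eq_fintype_card]
  exact Nat.card_congr
    { toFun := fun x => ⟨x.1.1, x.2⟩
      invFun := fun x => ⟨⟨x.1, by obtain ⟨_, n, rfl⟩ := x; exact smul_ne h n⟩, x.2⟩
      left_inv := fun _ => rfl
      right_inv := fun _ => rfl }

omit hT in
variable (T) in
/-- the induced virtual character -/
noncomputable def al (θ : IrrCharacter T) : G → ℂ := indFun T (θ.1 - fun _ => 1)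

omit hT in
theorem exists_c (χ : IrrCharacter G) (θ : IrrCharacter T) : ∃ k : ℤ, classInner (al T θ) χ = k := by
  obtain ⟨a, ha⟩ := inner_char_char (char_of_irr θ.2) (char_restrict (char_of_irr χ.2) T)
  obtain ⟨b, hb⟩ := inner_char_char (char_one (G := T)) (char_restrict (char_of_irr χ.2) T)
  exact ⟨a - b, by rw [al, CA.Ind.inner_ind_left _ _ (irr_classFun χ.2), CChar.CharFun.inner_sub_left, ha, hb]; simp⟩

omit hT in
/-- its coefficients -/
noncomputable def c (θ : IrrCharacter T) (χ : IrrCharacter G) : ℤ := (exists_c χ θ).choose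

omit hT in
theorem c_spec (θ : IrrCharacter T) (χ : IrrCharacter G) : classInner (al T θ) χ = c θ χ := (exists_c χ θ).choose_spec

omit hT in
theorem c_eq (θ : IrrCharacter T) (χ : IrrCharacter G) :
    (c θ χ : ℂ) = classInner (θ.1 - fun _ => 1) fun t : T => χ.1 t := by
  rw [← c_spec, al, CA.Ind.inner_ind_left _ _ (irr_classFun χ.2)]

theorem al_zero (θ : IrrCharacter T) {g : G} (hg : g ∉ Cls T) : al T θ g = 0 :=
  CA.Ind.indFun_eq_zero fun x hx => by
    by_cases h : g = 1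
    · subst h
      rw [show (⟨x * 1 * x⁻¹, hx⟩ : T) = 1 from Subtype.ext (by simp), Pi.sub_apply, deg_one hT, sub_self]
    · exact (hg ⟨h, x, hx⟩).elim

theorem sum_c (θ : IrrCharacter T) {g : G} (hg : g ∉ Cls T) : ∑ χ : IrrCharacter G, (c θ χ : ℂ) * χ.1 g = 0 := by
  rw [← al_zero hT θ hg, classFun_apply_eq_sum (ψ := al T θ) (CA.Ind.indFun_classFun _ _)]
  simp only [c_spec]

omit hT in
theorem inner_al {T' : Subgroup G} (θ : IrrCharacter T) (η : IrrCharacter T') :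
    classInner (al T θ) (al T' η) = ((∑ χ : IrrCharacter G, c θ χ * c η χ : ℤ) : ℂ) := by
  rw [inner_eq_sum (φ := al T θ) (CA.Ind.indFun_classFun _ _)]
  simp [c_spec]

theorem sum_cross {T' : Subgroup G} (hT' : CC T') (hd : ∀ g ∈ Cls T, g ∉ Cls T') (θ : IrrCharacter T)
    (η : IrrCharacter T') : ∑ χ : IrrCharacter G, c θ χ * c η χ = 0 := by
  have := inner_al θ η
  rw [inner_def, sum_eq_zero fun g _ => by
    by_cases h : g ∈ Cls T
    · rw [al_zero hT' η (hd g h), map_zero, mul_zero]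
    · rw [al_zero hT θ h, zero_mul], mul_zero] at this
  exact_mod_cast this.symm

theorem al_res (η : IrrCharacter T) : (fun t : T => al T η t) =
    (Nat.card T : ℂ)⁻¹ • ∑ n : normalizer (T : Set G), ((n • η).1 - fun _ => 1) := by
  funext t
  rw [al, CA.Ind.indFun_def, Pi.smul_apply, smul_eq_mul, Finset.sum_apply]
  congr 1
  rw [← sum_subset (subset_univ (univ.filter (· ∈ normalizer (T : Set G)))) fun x _ hx => ?_,
    sum_subtype (p := (· ∈ normalizer (T : Set G))) _ (by simp)]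
  · refine sum_congr rfl fun n _ => ?_
    rw [← coe_nm, CA.Ind.ext_coe]; rfl
  · by_contra h
    obtain ⟨h1, h2⟩ := CA.Ind.ext_ne_zero h
    by_cases ht : t = 1
    · subst ht
      rw [show (⟨_, h1⟩ : T) = 1 from Subtype.ext (by simp), Pi.sub_apply, deg_one hT, sub_self] at h2
      exact h2 rfl
    · have := hT.ti x⁻¹ t t.2 (fun e => ht (Subtype.ext e)) (by rwa [inv_inv])
      exact hx (by simpa using this)

theorem gram {w : ℕ} (hw : Nat.card (normalizer (T : Set G)) = w * Nat.card T) {θ η : IrrCharacter T}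
    (h : θ ≠ irrOne T) (h' : η ≠ irrOne T) :
    ∑ χ : IrrCharacter G, c θ χ * c η χ = w + if J θ η then 1 else 0 := by
  have h1 := inner_al θ η
  have h0 : (Nat.card T : ℂ) ≠ 0 := CA.Ind.card_ne_zero T
  have h2 : ∀ n : normalizer (T : Set G), classInner (θ.1 - fun _ => 1) ((n • η).1 - fun _ => 1) =
      1 + if θ = n • η then 1 else 0 := fun n => by
    have a1 := inner_irr_irr' θ (irrOne T)
    have a2 := inner_irr_irr' (irrOne T) (n • η)
    rw [if_neg h] at a1
    rw [if_neg (smul_ne h' n).symm] at a2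
    rw [CChar.CharFun.inner_sub_left, CChar.CharFun.inner_sub_right, CChar.CharFun.inner_sub_right, inner_irr_irr', inner_one_one]
    change _ - classInner θ.1 (irrOne T).1 - (classInner (irrOne T).1 _ - 1) = _
    rw [a1, a2]; ring
  have h3 : ∑ n : normalizer (T : Set G), (if θ = n • η then (1 : ℂ) else 0) =
      Nat.card T * if J θ η then 1 else 0 := by
    split_ifs with hJ
    · obtain ⟨n0, rfl⟩ := hJ
      rw [← Equiv.sum_comp (Equiv.mulLeft n0), ← card_stab hT h', mul_one, Nat.card_eq_fintype_card,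
        Fintype.card_subtype, sum_boole]
      congr 2
      ext n
      simp [mul_smul, eq_comm]
    · rw [mul_zero]
      exact sum_eq_zero fun n _ => if_neg fun e => hJ ⟨n, e.symm⟩
  rw [al, CA.Ind.inner_ind_left (χ := al T η) _ _ (CA.Ind.indFun_classFun _ _)] at h1
  rw [al_res hT, CChar.CharFun.inner_smul_right, CChar.CharFun.inner_sum_right] at h1
  simp only [h2, sum_add_distrib, h3, sum_const, card_univ, ← Nat.card_eq_fintype_card, hw, nsmul_eq_mul,
    map_inv₀, map_natCast] at h1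
  have h4 : ((∑ χ : IrrCharacter G, c θ χ * c η χ : ℤ) : ℂ) = (w + if J θ η then 1 else 0 : ℤ) := by
    rw [← h1]; push_cast; field_simp
  exact_mod_cast h4

omit hT in
theorem c_of_const {χ : IrrCharacter G} {κ : ℤ} (hχ : ∀ t ∈ T, t ≠ 1 → χ.1 t = κ) {θ : IrrCharacter T}
    (h1 : θ.1 1 = 1) (h : θ ≠ irrOne T) : c θ χ = -κ := by
  have a1 := inner_irr_irr' θ (irrOne T)
  rw [if_neg h] at a1
  have : (c θ χ : ℂ) = classInner (θ.1 - fun _ => 1) ((κ : ℂ) • fun _ : T => (1 : ℂ)) := by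
    rw [c_eq, inner_def, inner_def]
    congr 1
    refine sum_congr rfl fun t _ => ?_
    by_cases ht : t = 1
    · simp [ht, h1]
    · simp [hχ t t.2 fun e => ht (Subtype.ext e)]
  rw [CChar.CharFun.inner_smul_right, CChar.CharFun.inner_sub_left, inner_one_one] at this
  change _ = _ * (classInner θ.1 (irrOne T).1 - 1) at this
  rw [a1] at this
  have h2 : (c θ χ : ℂ) = (-κ : ℤ) := by rw [this]; simp
  exact_mod_cast h2

theorem val_of_const {χ : IrrCharacter G} {κ : ℤ} (hχ : ∀ θ : IrrCharacter T, θ ≠ irrOne T → c θ χ = κ) {g : G}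
    (hg : g ∈ Cls T) : χ.1 g = -κ := by
  obtain ⟨h1, x, hx⟩ := hg
  rw [← classFun_apply (irr_classFun χ.2) g x]
  have ht : (⟨_, hx⟩ : T) ≠ 1 := fun e => conj_ne_one h1 x (congrArg Subtype.val e)
  have h2 := classFun_apply_eq_sum (classFun_restrict (irr_classFun χ.2) T) ⟨_, hx⟩
  have h3 : ∀ θ : IrrCharacter T, classInner (fun t : T => χ.1 t) θ =
      κ + classInner (fun _ => 1) (fun t : T => χ.1 t) - if θ = irrOne T then (κ : ℂ) else 0 := fun θ => by
    rw [inner_char_comm (char_restrict (char_of_irr χ.2) T) (char_of_irr θ.2)]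
    split_ifs with h
    · rw [h, add_sub_cancel_left]; rfl
    · rw [← hχ θ h, c_eq, CChar.CharFun.inner_sub_left]; ring
  simp only [h3, sub_mul, sum_sub_distrib, ← mul_sum, sum_val hT ht, ite_mul, zero_mul, sum_ite_eq', mem_univ,
    if_true, irrOne_apply] at h2
  rw [h2]; ring

end

section
variable {I : Type*} {R : Finset I}

theorem one_vec {u : I → ℤ} (h : ∑ l ∈ R, u l * u l = 1) :
    ∃ z ∈ R, u z * u z = 1 ∧ ∀ l ∈ R, l ≠ z → u l = 0 := by
  obtain ⟨z, hz, h1⟩ := exists_ne_zero_of_sum_ne_zero (h ▸ one_ne_zero)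
  have h2 : 1 ≤ u z * u z := Int.add_one_le_of_lt (lt_of_le_of_ne (mul_self_nonneg _) h1.symm)
  rw [← add_sum_erase _ _ hz] at h
  have h3 : 0 ≤ ∑ l ∈ R.erase z, u l * u l := sum_nonneg fun l _ => mul_self_nonneg _
  refine ⟨z, hz, by omega, fun l hl hlz => mul_self_eq_zero.1 ?_⟩
  have h4 : ∑ l ∈ R.erase z, u l * u l = 0 := by omega
  exact (sum_eq_zero_iff_of_nonneg fun l _ => mul_self_nonneg _).1 h4 l (mem_erase.2 ⟨hlz, hl⟩)

theorem sq_le {u : I → ℤ} (h : ∑ l ∈ R, u l * u l = 3) {l : I} (hl : l ∈ R) : u l = 0 ∨ u l = 1 ∨ u l = -1 := by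
  have := single_le_sum (f := fun l => u l * u l) (fun l _ => mul_self_nonneg _) hl
  rw [h] at this
  have h1 : u l ≤ 1 := by nlinarith
  have h2 : -1 ≤ u l := by nlinarith
  omega

theorem rest_vec {u : I → ℤ} (h : ∑ l ∈ R, u l * u l = 3) {i j : I} (hi : i ∈ R) (hj : j ∈ R) (hij : j ≠ i)
    (h1 : u i * u i = 1) (h2 : u j * u j = 1) : ∃ z ∈ R, z ≠ i ∧ z ≠ j ∧ u z * u z = 1 ∧
      ∀ l ∈ R, l ≠ i → l ≠ j → l ≠ z → u l = 0 := by
  rw [← add_sum_erase _ _ hi, ← add_sum_erase _ _ (mem_erase.2 ⟨hij, hj⟩)] at h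
  obtain ⟨z, hz, h3, h4⟩ := one_vec (R := (R.erase i).erase j) (u := u) (by omega)
  simp only [mem_erase] at hz h4
  exact ⟨z, hz.2.2, hz.2.1, hz.1, h3, fun l a b c d => h4 l ⟨c, b, a⟩ d⟩

theorem sum_three {M : Type*} [AddCommMonoid M] {f : I → M} {i j k : I} (hi : i ∈ R) (hj : j ∈ R) (hk : k ∈ R)
    (hij : j ≠ i) (hki : k ≠ i) (hkj : k ≠ j) (h : ∀ l ∈ R, l ≠ i → l ≠ j → l ≠ k → f l = 0) :
    ∑ l ∈ R, f l = f i + f j + f k := by
  rw [← add_sum_erase _ _ hi, ← add_sum_erase _ _ (mem_erase.2 ⟨hij, hj⟩),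
    ← add_sum_erase _ _ (mem_erase.2 ⟨hkj, mem_erase.2 ⟨hki, hk⟩⟩), sum_eq_zero, add_zero, add_assoc]
  intro l hl
  simp only [mem_erase] at hl
  exact h l hl.2.2.2 hl.2.2.1 hl.2.1 hl.1

theorem sum_four {f : I → ℤ} {i j k z : I} (hi : i ∈ R) (hj : j ∈ R) (hk : k ∈ R) (hz : z ∈ R)
    (hij : j ≠ i) (hki : k ≠ i) (hkj : k ≠ j) (hzi : z ≠ i) (hzj : z ≠ j) (hzk : z ≠ k) :
    ∑ l ∈ R, f l = f i + f j + f k + f z + ∑ l ∈ (((R.erase i).erase j).erase k).erase z, f l := by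
  rw [← add_sum_erase _ _ hi, ← add_sum_erase _ _ (mem_erase.2 ⟨hij, hj⟩),
    ← add_sum_erase _ _ (mem_erase.2 ⟨hkj, mem_erase.2 ⟨hki, hk⟩⟩),
    ← add_sum_erase _ _ (mem_erase.2 ⟨hzk, mem_erase.2 ⟨hzj, mem_erase.2 ⟨hzi, hz⟩⟩⟩)]
  ring

theorem eq_of_three {u v : I → ℤ} (hu : ∑ l ∈ R, u l * u l = 3) (hv : ∑ l ∈ R, v l * v l = 3)
    (h : ∑ l ∈ R, u l * v l = 3) {l : I} (hl : l ∈ R) : u l = v l := by
  have h1 : ∑ l ∈ R, (u l - v l) * (u l - v l) = 0 := by
    have : ∀ l, (u l - v l) * (u l - v l) = u l * u l + v l * v l - 2 * (u l * v l) := fun l => by ring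
    simp only [this, sum_sub_distrib, sum_add_distrib, ← mul_sum, hu, hv, h]; rfl
  exact sub_eq_zero.1 (mul_self_eq_zero.1 ((sum_eq_zero_iff_of_nonneg fun l _ => mul_self_nonneg _).1 h1 l hl))

theorem common {u v : I → ℤ} (hu : ∑ l ∈ R, u l * u l = 3) (hv : ∑ l ∈ R, v l * v l = 3)
    (h : ∑ l ∈ R, u l * v l = 2) : ∃ i ∈ R, ∃ j ∈ R, j ≠ i ∧ u i * u i = 1 ∧ u j * u j = 1 ∧ v i = u i ∧ v j = u j := by
  have key : ∀ S ⊆ R, 1 ≤ ∑ l ∈ S, u l * v l → ∃ i ∈ S, u i * u i = 1 ∧ v i = u i := fun S hS h1 => by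
    by_contra hc
    push Not at hc
    have : ∑ l ∈ S, u l * v l ≤ 0 := sum_nonpos fun l hl => by
      have := hc l hl
      rcases sq_le hu (hS hl) with a | a | a <;> rcases sq_le hv (hS hl) with b | b | b <;> simp_all
    omega
  obtain ⟨i, hi, h1, h2⟩ := key R subset_rfl (by omega)
  rw [← add_sum_erase _ _ hi, h2, h1] at h
  obtain ⟨j, hj, h3, h4⟩ := key (R.erase i) (erase_subset _ _) (by omega)
  exact ⟨i, hi, j, (mem_erase.1 hj).2, (mem_erase.1 hj).1, h1, h3, h2, h4⟩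

/-- vectors of norm three with mutual products two or three have two common entries -/
theorem sunflower {K : Type*} (c : K → I → ℤ) (a : I → ℤ) (h3 : ∀ k, ∑ l ∈ R, c k l * c k l = 3)
    (h2 : ∀ k k', ∑ l ∈ R, c k l * c k' l = 2 ∨ ∑ l ∈ R, c k l * c k' l = 3) {k1 k2 k3 k4 : K}
    (h12 : ∑ l ∈ R, c k1 l * c k2 l = 2) (h13 : ∑ l ∈ R, c k1 l * c k3 l = 2) (h14 : ∑ l ∈ R, c k1 l * c k4 l = 2)
    (h23 : ∑ l ∈ R, c k2 l * c k3 l = 2) (h24 : ∑ l ∈ R, c k2 l * c k4 l = 2) (h34 : ∑ l ∈ R, c k3 l * c k4 l = 2)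
    (ha : ∑ l ∈ R, c k1 l * a l + ∑ l ∈ R, c k2 l * a l + ∑ l ∈ R, c k3 l * a l + ∑ l ∈ R, c k4 l * a l = -2) :
    ∃ i ∈ R, ∃ j ∈ R, j ≠ i ∧ ∃ e1 e2 : ℤ, e1 * e1 = 1 ∧ e2 * e2 = 1 ∧ ∀ k, c k i = e1 ∧ c k j = e2 := by
  obtain ⟨i, hi, j, hj, hij, a1, a2, a3, a4⟩ := common (h3 k1) (h3 k2) h12
  obtain ⟨y, hy, hyi, hyj, b1, b2⟩ := rest_vec (h3 k1) hi hj hij a1 a2
  obtain ⟨z, hz, hzi, hzj, c1, c2⟩ := rest_vec (h3 k2) hi hj hij (a3 ▸ a1) (a4 ▸ a2)
  have s1 : ∀ f : I → ℤ, ∑ l ∈ R, c k1 l * f l = c k1 i * f i + c k1 j * f j + c k1 y * f y := fun f =>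
    sum_three hi hj hy hij hyi hyj fun l a b c d => by rw [b2 l a b c d, zero_mul]
  have s2 : ∀ f : I → ℤ, ∑ l ∈ R, c k2 l * f l = c k1 i * f i + c k1 j * f j + c k2 z * f z := fun f => by
    rw [← a3, ← a4]
    exact sum_three hi hj hz hij hzi hzj fun l a b c d => by rw [c2 l a b c d, zero_mul]
  have hzy : z ≠ y := by
    rintro rfl
    rw [s1, a3, a4, a1, a2] at h12
    rcases mul_self_eq_one_iff.1 b1 with e | e <;> rcases mul_self_eq_one_iff.1 c1 with e' | e' <;>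
      rw [e, e'] at h12 <;> omega
  -- the alternative for a further vector
  have alt : ∀ k, ∑ l ∈ R, c k1 l * c k l = 2 → ∑ l ∈ R, c k2 l * c k l = 2 →
      (c k i = c k1 i ∧ c k j = c k1 j ∧ c k y = 0 ∧ c k z = 0) ∨
      (c k y = c k1 y ∧ c k z = c k2 z ∧ ((c k i = c k1 i ∧ c k j = 0) ∨ (c k i = 0 ∧ c k j = c k1 j)) ∧
        ∀ f : I → ℤ, ∑ l ∈ R, c k l * f l = c k i * f i + c k j * f j + c k y * f y + c k z * f z) := by
    intro k e1 e2
    rw [s1] at e1
    rw [s2] at e2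
    have e3 := h3 k
    rw [sum_four hi hj hy hz hij hyi hyj hzi hzj hzy] at e3
    have e4 : 0 ≤ ∑ l ∈ (((R.erase i).erase j).erase y).erase z, c k l * c k l :=
      sum_nonneg fun l _ => mul_self_nonneg _
    have e5 : c k i * c k i + c k j * c k j + c k y * c k y + c k z * c k z = 3 →
        ∀ f : I → ℤ, ∑ l ∈ R, c k l * f l = c k i * f i + c k j * f j + c k y * f y + c k z * f z := fun e f => by
      rw [sum_four hi hj hy hz hij hyi hyj hzi hzj hzy, sum_eq_zero fun l hl => ?_, add_zero]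
      have e7 : ∑ l ∈ (((R.erase i).erase j).erase y).erase z, c k l * c k l = 0 := by omega
      rw [mul_self_eq_zero.1 ((sum_eq_zero_iff_of_nonneg fun l _ => mul_self_nonneg _).1 e7 l hl), zero_mul]
    have e6 : c k i * c k i + c k j * c k j + c k y * c k y + c k z * c k z ≤ 3 := by omega
    have key : (c k i = c k1 i ∧ c k j = c k1 j ∧ c k y = 0 ∧ c k z = 0) ∨
      (c k y = c k1 y ∧ c k z = c k2 z ∧ ((c k i = c k1 i ∧ c k j = 0) ∨ (c k i = 0 ∧ c k j = c k1 j)) ∧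
        c k i * c k i + c k j * c k j + c k y * c k y + c k z * c k z = 3) := by
      have t1 := sq_le (h3 k) hi
      have t2 := sq_le (h3 k) hj
      have t3 := sq_le (h3 k) hy
      have t4 := sq_le (h3 k) hz
      have u1 := mul_self_eq_one_iff.1 a1
      have u2 := mul_self_eq_one_iff.1 a2
      have u3 := mul_self_eq_one_iff.1 b1
      have u4 := mul_self_eq_one_iff.1 c1
      revert e1 e2 e6
      generalize c k i = x1, c k j = x2, c k y = x3, c k z = x4, c k1 i = y1, c k1 j = y2, c k1 y = y3,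
        c k2 z = y4 at *
      rcases t1 with rfl | rfl | rfl <;> rcases t2 with rfl | rfl | rfl <;> rcases t3 with rfl | rfl | rfl <;>
        rcases t4 with rfl | rfl | rfl <;> rcases u1 with rfl | rfl <;> rcases u2 with rfl | rfl <;>
        rcases u3 with rfl | rfl <;> rcases u4 with rfl | rfl <;> decide
    exact key.imp id fun h => ⟨h.1, h.2.1, h.2.2.1, e5 h.2.2.2⟩
  have g3 : c k3 i = c k1 i ∧ c k3 j = c k1 j ∧ c k3 y = 0 ∧ c k3 z = 0 := by
    refine (alt k3 h13 h23).resolve_right fun ⟨p1, p2, p3, p4⟩ => ?_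
    rw [p4] at h34
    rcases alt k4 h14 h24 with ⟨q1, q2, q3, q4⟩ | ⟨q1, q2, q3, q4⟩
    · rw [q1, q2, q3, q4] at h34
      rcases p3 with ⟨p5, p6⟩ | ⟨p5, p6⟩ <;> rw [p5, p6] at h34 <;> omega
    · rw [s1, s2, p4, q4, p1, p2, q1, q2] at ha
      rw [p1, p2, q1, q2] at h34
      rcases p3 with ⟨p5, p6⟩ | ⟨p5, p6⟩ <;> rcases q3 with ⟨q5, q6⟩ | ⟨q5, q6⟩ <;> rw [p5, p6, q5, q6] at h34 ha <;>
        omega
  refine ⟨i, hi, j, hj, hij, _, _, a1, a2, fun k => ?_⟩
  rcases h2 k1 k with e1 | e1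
  swap
  · exact ⟨(eq_of_three (h3 _) (h3 _) e1 hi).symm, (eq_of_three (h3 _) (h3 _) e1 hj).symm⟩
  rcases h2 k2 k with e2 | e2
  swap
  · exact ⟨(eq_of_three (h3 _) (h3 _) e2 hi).symm.trans a3, (eq_of_three (h3 _) (h3 _) e2 hj).symm.trans a4⟩
  rcases h2 k k3 with e3 | e3
  swap
  · exact ⟨(eq_of_three (h3 _) (h3 _) e3 hi).trans g3.1, (eq_of_three (h3 _) (h3 _) e3 hj).trans g3.2.1⟩
  rcases alt k e1 e2 with h | ⟨-, -, p3, p4⟩
  · exact ⟨h.1, h.2.1⟩
  · rw [p4, g3.1, g3.2.1, g3.2.2.1, g3.2.2.2] at e3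
    rcases p3 with ⟨p5, p6⟩ | ⟨p5, p6⟩ <;> rw [p5, p6] at e3 <;> omega

end

end CA.H19Tor
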