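import Cfsg.Agent.Lib.Char.Ext
import Cfsg.Agent.Lib.Char.CharMisc
import Cfsg.Prelude.Def_DegreeGraph
import Mathlib.GroupTheory.Perm.Cycle.Type

/-!
Relative character degree sets: determinants of characters, orbits of linear characters of a
normal subgroup contained in the derived subgroup, and common neighbours in the common-divisor
graph.
-/

set_option autoImplicit false

open Cfsg CChar.CharFun CChar.CharKer CChar.CharInt CA.Cons CA.Clif CA.Ext MulAction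

namespace CA.H4Rel

section det
variable {G : Type*} [Group G]

/-- the group of linear characters -/
def Lin (G : Type*) [Group G] := G →* ℂˣ

noncomputable instance : CommGroup (Lin G) := inferInstanceAs (CommGroup (G →* ℂˣ))

/-- underlying homomorphism -/
def Lin.hom (μ : Lin G) : G →* ℂˣ := μ

theorem Lin.mul_apply (μ ν : Lin G) (g : G) : (μ * ν).hom g = μ.hom g * ν.hom g := rfl

theorem Lin.one_apply (g : G) : (1 : Lin G).hom g = 1 := rfl

theorem Lin.pow_apply (μ : Lin G) (n : ℕ) (g : G) : (μ ^ n).hom g = μ.hom g ^ n := by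
  induction n with
  | zero => rw [pow_zero, pow_zero, Lin.one_apply]
  | succ n ih => rw [pow_succ, pow_succ, Lin.mul_apply, ih]

noncomputable def dh (χ : G → ℂ) : Lin G := Classical.choose (exists_detHom χ)

theorem dh_spec (χ : G → ℂ) (g : G) : ((dh χ).hom g : ℂ) = detChar χ g :=
  (congrFun (Classical.choose_spec (exists_detHom χ)) g).symm

theorem hom_ext {μ ν : Lin G} (h : ∀ g, (μ.hom g : ℂ) = ν.hom g) : μ = ν :=
  MonoidHom.ext fun g => Units.ext (h g)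

/-- linear character times a function -/
def ml (μ : Lin G) (θ : G → ℂ) : G → ℂ := fun g => (μ.hom g : ℂ) * θ g

/-- linear character as a function -/
def lc (μ : Lin G) : G → ℂ := fun g => (μ.hom g : ℂ)

theorem ml_lc (μ ν : Lin G) : ml μ (lc ν) = lc (μ * ν) := by
  funext g; simp [ml, lc, Lin.mul_apply]

theorem ml_one_apply (μ : Lin G) (θ : G → ℂ) : ml μ θ 1 = θ 1 := by simp [ml]

theorem ml_inj (μ : Lin G) : Function.Injective (ml μ) := fun α β h => by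
  funext g
  exact mul_left_cancel₀ (Units.ne_zero (μ.hom g)) (congrFun h g)

theorem lc_irr (μ : Lin G) : IsIrrCharacter G (lc μ) := irr_of_unitsHom μ.hom

theorem lc_one_apply (μ : Lin G) : lc μ 1 = (1 : ℕ) := by simp [lc]

theorem lc_ne {μ : Lin G} (h : μ ≠ 1) : lc μ ≠ fun _ => 1 := fun e =>
  h (hom_ext fun g => by simpa [lc, Lin.one_apply] using congrFun e g)

variable [Finite G]

theorem detChar_rep {V : Type*} [AddCommGroup V] [Module ℂ V] [FiniteDimensional ℂ V]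
    (ρ : Representation ℂ G V) : detChar ρ.character = fun g => LinearMap.det (ρ g) := by
  obtain ⟨n, σ, h1, h2⟩ := exists_rep_det (CChar.CharRep.isCharacter_character ρ)
  obtain ⟨e⟩ := CChar.CharMisc.nonempty_equiv_of_character_eq ρ σ h1.symm
  rw [h2]
  exact funext (det_equiv e)

theorem dh_add {α β : G → ℂ} (hα : IsCharacter G α) (hβ : IsCharacter G β) :
    dh (α + β) = dh α * dh β := by
  obtain ⟨n, ρ, rfl⟩ := hα
  obtain ⟨m, σ, rfl⟩ := hβ
  refine hom_ext fun g => ?_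
  rw [Lin.mul_apply, Units.val_mul, dh_spec, dh_spec, dh_spec,
    ← CChar.CharRep.character_prod, detChar_rep, detChar_rep, detChar_rep]
  exact LinearMap.det_prodMap _ _

theorem dh_zero : dh (0 : G → ℂ) = 1 := by
  have := dh_add (G := G) char_zero char_zero
  rw [add_zero] at this
  exact mul_eq_left.1 this.symm

theorem dh_nsmul {α : G → ℂ} (hα : IsCharacter G α) (n : ℕ) : dh (n • α) = dh α ^ n := by
  induction n with
  | zero => rw [zero_smul, pow_zero, dh_zero]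
  | succ n ih => rw [succ_nsmul, dh_add (char_nsmul n hα) hα, ih, pow_succ]

theorem dh_sum (s : Finset (G → ℂ)) (h : ∀ ψ ∈ s, IsCharacter G ψ) :
    dh (∑ ψ ∈ s, ψ) = ∏ ψ ∈ s, dh ψ := by
  classical
  induction s using Finset.induction_on with
  | empty => rw [Finset.sum_empty, Finset.prod_empty, dh_zero]
  | insert a s ha ih =>
    have h' : ∀ ψ ∈ s, IsCharacter G ψ := fun ψ hψ => h ψ (Finset.mem_insert_of_mem hψ)
    rw [Finset.sum_insert ha, Finset.prod_insert ha,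
      dh_add (h a (Finset.mem_insert_self a s)) (char_sum s h'), ih h']

omit [Finite G] in
theorem dh_comp {K : Type*} [Group K] [Finite K] (f : K →* G) {χ : G → ℂ} (hχ : IsCharacter G χ) :
    dh (fun k => χ (f k)) = (dh χ).hom.comp f := by
  obtain ⟨n, σ, rfl, h2⟩ := exists_rep_det hχ
  refine hom_ext fun k => ?_
  change _ = (((dh σ.character).hom (f k) : ℂˣ) : ℂ)
  rw [dh_spec, dh_spec, h2]
  exact congrFun (detChar_rep (σ.comp f)) k

theorem dh_lc (μ : Lin G) : dh (lc μ) = μ :=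
  hom_ext fun g => by rw [dh_spec]; exact congrFun (detChar_linear μ.hom) g

theorem dh_ml {θ : G → ℂ} (hθ : IsIrrCharacter G θ) (μ : Lin G) {f : ℕ} (hf : θ 1 = f) :
    dh (ml μ θ) = μ ^ f * dh θ :=
  hom_ext fun g => by
    rw [dh_spec, Lin.mul_apply, Units.val_mul, dh_spec, Lin.pow_apply,
      Units.val_pow_eq_pow_val]
    exact congrFun (detChar_mul_linear hθ μ.hom hf) g

theorem ml_irr {θ : G → ℂ} (hθ : IsIrrCharacter G θ) (μ : Lin G) : IsIrrCharacter G (ml μ θ) :=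
  CChar.CharOrth.irr_unitsHom_mul hθ μ.hom

end det

section orb
variable {G W : Type*} [Group G]

theorem cnt {Ω : Type*} [MulAction G Ω] [Finite Ω] (Δ : Set Ω) (x : G) (r : ℕ) [Fact r.Prime]
    (hx : x ^ r = 1) (hΔ : ∀ ω ∈ Δ, x • ω ∈ Δ) (h0 : ∀ ω ∈ Δ, x • ω ≠ ω) : r ∣ Δ.ncard := by
  classical
  haveI := Fintype.ofFinite Δ
  let f : Function.End Δ := fun ω => ⟨x • ω.1, hΔ _ ω.2⟩
  have hf : ∀ k : ℕ, ∀ ω : Δ, ((f ^ k) ω).1 = x ^ k • ω.1 := by
    intro k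
    induction k with
    | zero => intro ω; simp; rfl
    | succ k ih =>
      intro ω
      rw [pow_succ', pow_succ', mul_smul, ← ih]
      rfl
  have h1 : f ^ r ^ 1 = 1 := by
    funext ω
    apply Subtype.ext
    rw [hf, pow_one, hx, one_smul]
    rfl
  have h2 := Equiv.Perm.card_fixedPoints_modEq h1
  rw [← Nat.card_eq_fintype_card, ← Nat.card_eq_fintype_card, Nat.card_coe_set_eq,
    Nat.card_coe_set_eq] at h2
  have h3 : f.fixedPoints = ∅ := by
    rw [Set.eq_empty_iff_forall_notMem]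
    rintro ⟨a, ha⟩ h
    exact h0 a ha (congrArg Subtype.val h)
  rw [h3, Set.ncard_empty] at h2
  exact Nat.modEq_zero_iff_dvd.1 h2

variable [Finite G]

theorem trans_of_coprime {Ω : Type*} [MulAction G Ω] (H : Subgroup G) (y : Ω)
    (hc : (stabilizer G y).index.Coprime H.index) (g : G) : ∃ h ∈ H, h • y = g • y := by
  have h1 : orbit H y ⊆ orbit G y := by
    rintro _ ⟨h, rfl⟩
    exact ⟨h, rfl⟩
  have h2 : (stabilizer H y).index = (stabilizer G y ⊓ H).relIndex H := by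
    rw [Subgroup.inf_relIndex_right]; rfl
  have h3 := Subgroup.relIndex_mul_index (inf_le_right : stabilizer G y ⊓ H ≤ H)
  have h4 : (stabilizer G y).index ∣ (stabilizer H y).index := by
    refine hc.dvd_of_dvd_mul_right ?_
    rw [h2, h3]
    exact Subgroup.index_dvd_of_le inf_le_left
  have h5 := Nat.le_of_dvd (Nat.pos_of_ne_zero Subgroup.index_ne_zero_of_finite) h4
  rw [index_stabilizer, index_stabilizer] at h5
  have h6 := Set.eq_of_subset_of_ncard_le h1 h5 (Set.finite_range _)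
  have h7 : g • y ∈ orbit H y := h6 ▸ mem_orbit y g
  obtain ⟨h, hh⟩ := h7
  exact ⟨h, h.2, hh⟩

variable [CommGroup W] [MulDistribMulAction G W]

theorem mul_mem_orbit (x y : W) (hc : (stabilizer G y).index.Coprime (stabilizer G x).index)
    {x' y' : W} (hx : x' ∈ orbit G x) (hy : y' ∈ orbit G y) : x' * y' ∈ orbit G (x * y) := by
  obtain ⟨k, rfl⟩ := hx
  obtain ⟨g, rfl⟩ := hy
  obtain ⟨h, hh, e⟩ := trans_of_coprime (stabilizer G x) y hc (k⁻¹ * g)
  refine ⟨k * h, ?_⟩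
  have hh' : h • x = x := hh
  simp only
  rw [mul_smul, smul_mul', hh', e, smul_mul', mul_smul, smul_inv_smul]

omit [Finite G] in
theorem stab_inv (y : W) : stabilizer G y⁻¹ = stabilizer G y := by
  ext g
  rw [mem_stabilizer_iff, mem_stabilizer_iff, smul_inv', inv_inj]

omit [Finite G] in
theorem stab_pow (y : W) (n : ℕ) : stabilizer G y ≤ stabilizer G (y ^ n) := fun g hg => by
  rw [mem_stabilizer_iff, smul_pow', mem_stabilizer_iff.1 hg]

omit [Finite G] in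
theorem stab_le_of_coprime {x y : W} {K d : ℕ} (hy : y ^ K = 1) (hc : d.Coprime K) {n : ℕ}
    (h : x ^ n = y ^ d) : stabilizer G x ≤ stabilizer G y := by
  obtain ⟨k, hk⟩ := exists_pow_eq_self_of_coprime (x := y)
    (hc.coprime_dvd_right (orderOf_dvd_of_pow_eq_one hy))
  refine (stab_pow x (n * k)).trans ?_
  rw [pow_mul, h, hk]

theorem orbit_lemma [Finite W] (x y : W)
    (h1 : (stabilizer G y).index.Coprime (stabilizer G x).index)
    (h2 : (stabilizer G y).index.Coprime (stabilizer G (x * y)).index)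
    (hy : (stabilizer G y).index ≠ 1) :
    ∃ q : ℕ, q.Prime ∧ q ∣ orderOf y ∧ q ∣ (stabilizer G x).index := by
  obtain ⟨g, hg⟩ : ∃ g : G, g • y ≠ y := by
    by_contra! h
    exact hy (Subgroup.index_eq_one.2 (eq_top_iff.2 fun g _ => h g))
  set d := g • y * y⁻¹ with hd
  have hd1 : d ≠ 1 := fun h => hg (mul_inv_eq_one.1 h)
  have hdX : ∀ x' ∈ orbit G x, d * x' ∈ orbit G x := by
    intro x' hx'
    have h3 := mul_mem_orbit x y h1 hx' (mem_orbit y g)
    have h4 := mul_mem_orbit (x * y) y⁻¹ (by rwa [stab_inv]) h3 (mem_orbit_self y⁻¹)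
    rw [mul_inv_cancel_right] at h4
    rwa [hd, mul_comm, ← mul_assoc]
  have hdo : orderOf d ∣ orderOf y := by
    rw [orderOf_dvd_iff_pow_eq_one, hd, mul_pow, ← smul_pow', inv_pow, pow_orderOf_eq_one,
      smul_one, inv_one, mul_one]
  obtain ⟨q, hq, hqd⟩ := Nat.exists_prime_and_dvd (fun h => hd1 (orderOf_eq_one_iff.1 h))
  haveI : Fact q.Prime := ⟨hq⟩
  refine ⟨q, hq, hqd.trans hdo, ?_⟩
  have ho : orderOf (d ^ (orderOf d / q)) = q := orderOf_pow_orderOf_div (orderOf_pos d).ne' hqd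
  rw [index_stabilizer]
  refine cnt (G := W) _ (d ^ (orderOf d / q)) q (orderOf_dvd_iff_pow_eq_one.1 ho.dvd) ?_ ?_
  · generalize orderOf d / q = k
    induction k with
    | zero => simp
    | succ k ih =>
      intro ω hω
      rw [pow_succ', mul_smul]
      exact hdX _ (ih ω hω)
  · intro ω _ h
    have : d ^ (orderOf d / q) = 1 := mul_eq_right.1 h
    rw [this, orderOf_one] at ho
    exact hq.one_lt.ne ho

theorem exists_fixed [Finite W] (p : ℕ) [hp : Fact p.Prime] (h : p ∣ Nat.card W) :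
    ∃ y : W, orderOf y = p ∧ ¬ p ∣ (stabilizer G y).index := by
  obtain ⟨P⟩ : Nonempty (Sylow p G) := inferInstance
  let V : SubMulAction (P : Subgroup G) W :=
    { carrier := {y | y ^ p = 1}
      smul_mem' := fun c {y} hy => by
        change ((c : G) • y) ^ p = 1
        rw [← smul_pow', show y ^ p = 1 from hy, smul_one] }
  have hV : p ∣ Nat.card V := by
    obtain ⟨z, hz⟩ := exists_prime_orderOf_dvd_card' p h
    have h1 : z ∈ (powMonoidHom p : W →* W).ker := by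
      rw [MonoidHom.mem_ker, powMonoidHom_apply, ← hz, pow_orderOf_eq_one]
    have h2 := orderOf_dvd_natCard (⟨z, h1⟩ : (powMonoidHom p : W →* W).ker)
    rw [Subgroup.orderOf_mk, hz] at h2
    exact h2
  have h1 : (⟨1, one_pow p⟩ : V) ∈ fixedPoints (P : Subgroup G) V := fun c =>
    Subtype.ext (smul_one (c : G))
  obtain ⟨⟨b, hb⟩, hb1, hb2⟩ :=
    P.isPGroup'.exists_fixed_point_of_prime_dvd_card_of_fixed_point V hV h1
  refine ⟨b, orderOf_eq_prime hb fun e => hb2 (Subtype.ext e.symm), fun hd => ?_⟩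
  have h3 : (P : Subgroup G) ≤ stabilizer G b := fun c hc =>
    congrArg Subtype.val (hb1 ⟨c, hc⟩)
  exact P.not_dvd_index (hd.trans (Subgroup.index_dvd_of_le h3))

end orb

theorem ncop {d a c : ℕ} (hd : d ≠ 1) (h1 : d ∣ a) (h2 : d ∣ c) : ¬ a.Coprime c := fun h =>
  hd (Nat.eq_one_of_dvd_coprimes h h1 h2)

theorem ncop_of {a c s t : ℕ} (h : ¬ s.Coprime t) (h1 : s ∣ a) (h2 : t ∣ c) : ¬ a.Coprime c :=
  fun h' => h ((h'.coprime_dvd_left h1).coprime_dvd_right h2)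

section rel
variable {G : Type*} [Group G] {N : Subgroup G} [hN : N.Normal]

/-- conjugation action on the linear characters of `N` -/
noncomputable instance act (N : Subgroup G) [N.Normal] : MulDistribMulAction G (Lin N) where
  smul g μ := μ.hom.comp (MulAut.conjNormal g⁻¹).toMonoidHom
  one_smul μ := by
    change μ.hom.comp (MulAut.conjNormal (1 : G)⁻¹).toMonoidHom = μ
    rw [inv_one, map_one]; rfl
  mul_smul a b μ := by
    change μ.hom.comp (MulAut.conjNormal (a * b)⁻¹).toMonoidHom =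
      (μ.hom.comp (MulAut.conjNormal b⁻¹).toMonoidHom).comp (MulAut.conjNormal a⁻¹).toMonoidHom
    rw [mul_inv_rev, map_mul]; rfl
  smul_one _ := rfl
  smul_mul _ _ _ := rfl

theorem cj_ml (g : G) (μ : Lin N) (θ : N → ℂ) : cj g (ml μ θ) = ml (g⁻¹ • μ) (cj g θ) := by
  funext n
  change _ = ((μ.hom (MulAut.conjNormal g⁻¹⁻¹ n) : ℂˣ) : ℂ) * _
  rw [inv_inv]; rfl

theorem inertia_lc (μ : Lin N) : inertia (lc μ) = stabilizer G μ := by
  ext g
  rw [← Subgroup.inv_mem_iff (stabilizer G μ), mem_inertia, mem_stabilizer_iff]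
  have : cj g (lc μ) = lc (g⁻¹ • μ) := by
    funext n
    change _ = ((μ.hom (MulAut.conjNormal g⁻¹⁻¹ n) : ℂˣ) : ℂ)
    rw [inv_inv]; rfl
  rw [this]
  exact ⟨fun h => hom_ext (congrFun h), fun h => by rw [h]⟩

variable [Fintype G]

theorem dh_cj (g : G) {θ : N → ℂ} (hθ : IsCharacter N θ) : dh (cj g θ) = g⁻¹ • dh θ := by
  rw [cj_eq_comp]
  change _ = (dh θ).hom.comp (MulAut.conjNormal g⁻¹⁻¹).toMonoidHom
  rw [inv_inv]
  exact dh_comp (MulAut.conjNormal g).toMonoidHom hθ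

theorem inertia_le_stab {θ : N → ℂ} (hθ : IsCharacter N θ) : inertia θ ≤ stabilizer G (dh θ) := by
  intro g hg
  rw [← Subgroup.inv_mem_iff, mem_stabilizer_iff, ← dh_cj g hθ, mem_inertia.1 hg]

variable [Fintype N]

/-- `a` is the degree of an irreducible character of `G` lying over `θ` -/
def Ov (θ : N → ℂ) (a : ℕ) : Prop :=
  ∃ χ : G → ℂ, IsIrrCharacter G χ ∧ classInner (fun n : N => χ n) θ ≠ 0 ∧ charDegree χ = a

omit hN in
theorem exists_ov {θ : N → ℂ} (hθ : IsIrrCharacter N θ) : ∃ a, Ov θ a := by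
  obtain ⟨χ, h1, h2⟩ := exists_irr_over N hθ
  exact ⟨_, χ, h1, h2, rfl⟩

omit hN in
theorem mem_of_ov {θ : N → ℂ} (hθ : IsIrrCharacter N θ) (h1 : θ ≠ fun _ => 1) {a : ℕ}
    (h : Ov θ a) : a ∈ relCharDegrees N := by
  obtain ⟨χ, hχ, hi, rfl⟩ := h
  refine ⟨⟨χ, hχ⟩, ?_, rfl⟩
  by_contra! h
  apply h1
  rw [← charKer_eq_top_iff hθ, eq_top_iff]
  refine le_trans (fun n _ => ?_) (charKer_le_of_inner_ne_zero (char_restrict (char_of_irr hχ) N) hθ hi)
  exact (mem_charKer (char_restrict (char_of_irr hχ) N)).2 (h n n.2)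

omit hN in
theorem exists_under {χ : G → ℂ} (hχ : IsIrrCharacter G χ) (n : N) (h : χ n ≠ χ 1) :
    ∃ θ : N → ℂ, IsIrrCharacter N θ ∧ n ∉ charKer θ ∧ Ov θ (charDegree χ) := by
  by_contra! h'
  apply h
  exact apply_of_mem_charKer (χ := fun n : N => χ n) (mem_charKer_of_forall
    (classFun_restrict (irr_classFun hχ) N) fun θ hθ hi => by
      by_contra hn
      exact h' θ hθ hn ⟨χ, hχ, hi, rfl⟩)

omit hN in
theorem ov_of_mem {a : ℕ} (h : a ∈ relCharDegrees N) :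
    ∃ θ : N → ℂ, IsIrrCharacter N θ ∧ θ ≠ (fun _ => 1) ∧ Ov θ a := by
  obtain ⟨χ, ⟨x, hx, h⟩, rfl⟩ := h
  obtain ⟨θ, h1, h2, h3⟩ := exists_under χ.2 ⟨x, hx⟩ h
  refine ⟨θ, h1, fun e => h2 ?_, h3⟩
  rw [(charKer_eq_top_iff h1).2 e]
  exact Subgroup.mem_top _

omit hN in
theorem comm_map : (commutator N).map N.subtype = ⁅N, N⁆ := by
  rw [commutator_def, Subgroup.map_commutator, ← MonoidHom.range_eq_map, Subgroup.range_subtype]

omit hN in
theorem nonlin_of_mem {a : ℕ} (h : a ∈ relCharDegrees ⁅N, N⁆) :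
    ∃ (θ : N → ℂ) (f : ℕ), IsIrrCharacter N θ ∧ θ 1 = f ∧ f ≠ 1 ∧ Ov θ a := by
  obtain ⟨χ, ⟨x, hx, h⟩, rfl⟩ := h
  rw [← comm_map] at hx
  obtain ⟨n, hn, rfl⟩ := hx
  obtain ⟨θ, h1, h2, h3⟩ := exists_under χ.2 n h
  obtain ⟨f, -, hf⟩ := irr_apply_one h1
  refine ⟨θ, f, h1, hf, fun e => h2 ((irr_apply_one_iff h1).1 (by rw [hf, e, Nat.cast_one]) hn), h3⟩

omit hN in
theorem lin_of_not_mem {a : ℕ} (h : a ∈ relCharDegrees N) (h' : a ∉ relCharDegrees ⁅N, N⁆) :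
    ∃ μ : Lin N, μ ≠ 1 ∧ Ov (lc μ) a := by
  obtain ⟨θ, h1, h2, χ, hχ, hi, rfl⟩ := ov_of_mem h
  have h3 : θ 1 = 1 := by
    rw [irr_apply_one_iff h1]
    refine le_trans (fun n hn => ?_) (charKer_le_of_inner_ne_zero (char_restrict (char_of_irr hχ) N) h1 hi)
    rw [mem_charKer (char_restrict (char_of_irr hχ) N)]
    by_contra hne
    exact h' ⟨⟨χ, hχ⟩, ⟨n, comm_map (N := N) ▸ ⟨n, hn, rfl⟩, hne⟩, rfl⟩
  obtain ⟨μ, rfl⟩ := char_exists_unitsHom_of_apply_one (char_of_irr h1) h3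
  exact ⟨μ, fun e => h2 (by rw [show μ = (1 : Lin N) from e]; rfl), χ, hχ, hi, rfl⟩

omit hN [Fintype N] in
theorem one_lt_of_mem (hNG : N ≤ commutator G) {a : ℕ} (h : a ∈ relCharDegrees N) : 1 < a := by
  obtain ⟨χ, ⟨x, hx, h⟩, rfl⟩ := h
  have h1 := charDegree_pos χ.2
  by_contra h2
  have h3 : charDegree (χ : G → ℂ) = 1 := by omega
  exact h (apply_of_mem_charKer ((irr_apply_one_iff χ.2).1
    (by rw [irr_apply_one_eq χ.2, h3, Nat.cast_one]) (hNG hx)))

theorem ov_struct (hNG : N ≤ commutator G) {θ : N → ℂ} (hθ : IsIrrCharacter N θ) {f a : ℕ}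
    (hf : θ 1 = f) (h : Ov θ a) :
    ∃ e : ℕ, a = e * (inertia θ).index * f ∧ (∏ ψ ∈ conjs θ, dh ψ) ^ e = 1 := by
  obtain ⟨χ, hχ, hi, rfl⟩ := h
  obtain ⟨e, he⟩ := inner_char_char (char_restrict (char_of_irr hχ) N) (char_of_irr hθ)
  refine ⟨e, ?_, ?_⟩
  · have := apply_one_eq hχ hθ hi
    rw [he, hf, irr_apply_one_eq hχ] at this
    exact_mod_cast this
  · have h1 := clifford hχ hθ hi
    rw [he, Nat.cast_smul_eq_nsmul] at h1
    have h2 : ∀ ψ ∈ conjs θ, IsCharacter N ψ := fun ψ hψ => char_of_irr (conjs_irr hθ hψ)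
    rw [← dh_sum _ h2, ← dh_nsmul (char_sum _ h2), ← h1]
    refine (dh_comp N.subtype (char_of_irr hχ)).trans (MonoidHom.ext fun n => ?_)
    exact Abelianization.commutator_subset_ker (dh χ).hom (hNG n.2)

theorem index_dvd (hNG : N ≤ commutator G) {θ : N → ℂ} (hθ : IsIrrCharacter N θ) {a : ℕ}
    (h : Ov θ a) {H : Subgroup G} (hH : inertia θ ≤ H) : H.index ∣ a := by
  obtain ⟨f, -, hf⟩ := irr_apply_one hθ
  obtain ⟨e, rfl, -⟩ := ov_struct hNG hθ hf h
  exact (Subgroup.index_dvd_of_le hH).trans ((Dvd.intro_left e rfl).mul_right f)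

theorem deg_dvd (hNG : N ≤ commutator G) {θ : N → ℂ} (hθ : IsIrrCharacter N θ) {f a : ℕ}
    (hf : θ 1 = f) (h : Ov θ a) : f ∣ a := by
  obtain ⟨e, rfl, -⟩ := ov_struct hNG hθ hf h
  exact Dvd.intro_left _ rfl

theorem lin_dvd (hNG : N ≤ commutator G) {μ : Lin N} {a : ℕ} (h : Ov (lc μ) a) :
    (stabilizer G μ).index ∣ a := index_dvd hNG (lc_irr μ) h (inertia_lc μ).le

theorem ov_inv (hNG : N ≤ commutator G) {θ : N → ℂ} (hθ : IsIrrCharacter N θ) {μ : Lin N}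
    (hμ : stabilizer G μ = ⊤) {c : ℕ} (h : Ov (ml μ θ) c) :
    ∃ e : ℕ, μ ^ c * (∏ ψ ∈ conjs θ, dh ψ) ^ e = 1 := by
  classical
  obtain ⟨f, -, hf⟩ := irr_apply_one hθ
  obtain ⟨e, he, h1⟩ := ov_struct hNG (ml_irr hθ μ) ((ml_one_apply μ θ).trans hf) h
  have hμ' : ∀ g : G, g • μ = μ := fun g => mem_stabilizer_iff.1 (hμ ▸ Subgroup.mem_top g)
  have h2 : conjs (ml μ θ) = (conjs θ).image (ml μ) := by
    ext ψ
    simp only [mem_conjs, Finset.mem_image, cj_ml, hμ']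
    constructor
    · rintro ⟨g, rfl⟩
      exact ⟨_, ⟨g, rfl⟩, rfl⟩
    · rintro ⟨_, ⟨g, rfl⟩, rfl⟩
      exact ⟨g, rfl⟩
  refine ⟨e, ?_⟩
  rw [← card_conjs, h2, Finset.card_image_of_injective _ (ml_inj μ)] at he
  rw [h2, Finset.prod_image fun a _ b _ h => ml_inj μ h,
    Finset.prod_congr rfl (g := fun ψ => μ ^ f * dh ψ), Finset.prod_mul_distrib,
    Finset.prod_const, mul_pow, ← pow_mul, ← pow_mul] at h1
  · rw [← h1, he]
    congr 2
    ring
  · intro ψ hψ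
    refine dh_ml (conjs_irr hθ hψ) μ ?_
    obtain ⟨g, rfl⟩ := mem_conjs.1 hψ
    rw [cj_apply_one, hf]

theorem c2 (hNG : N ≤ commutator G) {θ : N → ℂ} (hθ : IsIrrCharacter N θ) {μ : Lin N}
    (hμ : stabilizer G μ = ⊤) {c n : ℕ} (hn : dh θ ^ n = 1) (h : Ov (ml μ θ) c) :
    μ ^ (c * n) = 1 := by
  obtain ⟨e, he⟩ := ov_inv hNG hθ hμ h
  have h1 : (∏ ψ ∈ conjs θ, dh ψ) ^ n = 1 := by
    rw [← Finset.prod_pow]
    refine Finset.prod_eq_one fun ψ hψ => ?_
    obtain ⟨g, rfl⟩ := mem_conjs.1 hψ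
    rw [dh_cj g (char_of_irr hθ), ← smul_pow', hn, smul_one]
  have h2 := congrArg (· ^ n) he
  simp only [mul_pow, one_pow] at h2
  rwa [← pow_mul, ← pow_mul, mul_comm e, pow_mul _ n e, h1, one_pow, mul_one] at h2

theorem c1 (hNG : N ≤ commutator G) {μ : Lin N} (hμ : stabilizer G μ = ⊤) {c : ℕ}
    (h : Ov (lc μ) c) : μ ^ c = 1 := by
  have := c2 hNG (lc_irr 1) hμ (c := c) (n := 1) (by rw [dh_lc, one_pow]) (by rwa [ml_lc, mul_one])
  rwa [mul_one] at this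

theorem c4 (hNG : N ≤ commutator G) {θ : N → ℂ} (hθ : IsIrrCharacter N θ) {μ : Lin N}
    (hμ : stabilizer G μ = ⊤) {a c : ℕ} (ha : Ov θ a) (h : Ov (ml μ θ) c) :
    μ ^ (c * a) = 1 := by
  obtain ⟨e, he⟩ := ov_inv hNG hθ hμ h
  obtain ⟨f, -, hf⟩ := irr_apply_one hθ
  obtain ⟨e', rfl, h1⟩ := ov_struct hNG hθ hf ha
  have h2 := congrArg (· ^ e') he
  simp only [mul_pow, one_pow] at h2
  rw [← pow_mul, ← pow_mul, mul_comm e, pow_mul _ e' e, h1, one_pow, mul_one] at h2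
  rw [mul_assoc e', ← mul_assoc, pow_mul, h2, one_pow]

theorem la (hNG : N ≤ commutator G) {θ : N → ℂ} (hθ : IsIrrCharacter N θ) {f : ℕ} (hf : θ 1 = f)
    (μ : Lin N) {K n : ℕ} (hK : K ≠ 0) (hW : ∀ ν : Lin N, ν ^ (K * n) = 1)
    (h1 : f.Coprime K) (h2 : n.Coprime K) (hμ : μ ^ K = 1) :
    ∃ θ' : N → ℂ, IsIrrCharacter N θ' ∧ θ' 1 = f ∧ inertia θ' ≤ stabilizer G μ ∧
      (stabilizer G μ = ⊤ → ∀ c, Ov θ' c → μ ^ c = 1) := by
  obtain ⟨j, -, hj⟩ := Nat.exists_mul_mod_eq_of_coprime (K - 1) h1 hK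
  obtain ⟨u, hu⟩ : K ∣ j * f + 1 := by
    have h3 : f * j + 1 ≡ K - 1 + 1 [MOD K] := Nat.ModEq.add_right 1 hj
    rw [Nat.sub_add_cancel (Nat.pos_of_ne_zero hK), mul_comm] at h3
    exact (Nat.modEq_zero_iff_dvd.1 (h3.trans (Nat.modEq_zero_iff_dvd.2 dvd_rfl)))
  have h0 := ml_irr hθ (dh θ ^ j)
  have hf0 : ml (dh θ ^ j) θ 1 = f := (ml_one_apply _ _).trans hf
  have h3 : dh (ml (dh θ ^ j) θ) ^ n = 1 := by
    rw [dh_ml hθ _ hf, ← pow_mul, ← pow_succ, hu, ← pow_mul, mul_right_comm, pow_mul, hW, one_pow]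
  refine ⟨ml μ (ml (dh θ ^ j) θ), ml_irr h0 μ, (ml_one_apply _ _).trans hf0, ?_, fun hs c hc => ?_⟩
  · refine (inertia_le_stab (char_of_irr (ml_irr h0 μ))).trans
      (stab_le_of_coprime hμ (Nat.Coprime.mul_left h1 h2) (n := n) ?_)
    rw [dh_ml h0 μ hf0, mul_pow, h3, mul_one, ← pow_mul]
  · have h4 := c2 hNG h0 hs h3 hc
    rw [pow_mul] at h4
    exact eq_one_of_coprime h2 h4 (by rw [← pow_mul, mul_comm, pow_mul, hμ, one_pow])

omit hN in
theorem card_W : Nat.card (Lin N) = ⁅N, N⁆.relIndex N := by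
  rw [show Nat.card (Lin N) = Nat.card (N →* ℂˣ) from rfl, card_unitsHom, ← comm_map, Subgroup.relIndex, Subgroup.subgroupOf,
    Subgroup.comap_map_eq_self_of_injective N.subtype_injective]

omit hN in
instance finite_W : Finite (Lin N) :=
  Nat.finite_of_card_ne_zero (by
    rw [show Nat.card (Lin N) = Nat.card (N →* ℂˣ) from rfl, card_unitsHom]
    exact Subgroup.index_ne_zero_of_finite)

omit hN [Fintype G] [Fintype N] in
theorem ne_one_of_deg {θ : N → ℂ} {f : ℕ} (hf : θ 1 = f) (h : f ≠ 1) : θ ≠ fun _ => 1 := by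
  rintro rfl
  have h' : (f : ℂ) = 1 := hf.symm
  exact h (by exact_mod_cast h')

omit hN in
theorem lin_of_deg {θ : N → ℂ} (hθ : IsIrrCharacter N θ) (hf : θ 1 = (1 : ℕ))
    (h1 : θ ≠ fun _ => 1) : ∃ μ : Lin N, μ ≠ 1 ∧ θ = lc μ := by
  obtain ⟨μ, rfl⟩ := char_exists_unitsHom_of_apply_one (char_of_irr hθ) (by rw [hf, Nat.cast_one])
  exact ⟨μ, fun e => h1 (by rw [show μ = (1 : Lin N) from e]; rfl), rfl⟩

theorem kl (hNG : N ≤ commutator G) {p : ℕ} (hp : p.Prime) {l : Lin N} (hl : orderOf l = p)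
    (ht : ¬ p ∣ (stabilizer G l).index) {d : ℕ} (hd : Ov (lc l) d) {a : ℕ}
    (ha : a ∈ relCharDegrees N) (hpa : ¬ p ∣ a) :
    ∃ c ∈ relCharDegrees N, ¬ a.Coprime c ∧ ¬ c.Coprime d := by
  obtain ⟨θ, hθ, hθ1, hθa⟩ := ov_of_mem ha
  obtain ⟨f, -, hf⟩ := irr_apply_one hθ
  have hlp : l ^ p = 1 := orderOf_dvd_iff_pow_eq_one.1 hl.dvd
  have hdv : ∀ n, l ^ n = 1 → p ∣ n := fun n h => hl ▸ orderOf_dvd_of_pow_eq_one h
  by_cases hs : stabilizer G l = ⊤
  · obtain ⟨c, hc⟩ := exists_ov (ml_irr hθ l)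
    have hpc : p ∣ c := (hp.dvd_mul.1 (hdv _ (c4 hNG hθ hs hθa hc))).resolve_right hpa
    have hne : ml l θ ≠ fun _ => 1 := by
      intro h
      have h1 : θ = lc l⁻¹ := ml_inj l (by rw [h, ml_lc, mul_inv_cancel]; rfl)
      have h2 := c1 hNG ((stab_inv l).trans hs) (h1 ▸ hθa)
      rw [inv_pow, inv_eq_one] at h2
      exact hpa (hdv _ h2)
    refine ⟨c, mem_of_ov (ml_irr hθ l) hne hc, ?_, ncop hp.ne_one hpc (hdv _ (c1 hNG hs hd))⟩
    by_cases hf1 : f = 1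
    swap
    · exact ncop hf1 (deg_dvd hNG hθ hf hθa)
        (deg_dvd hNG (ml_irr hθ l) ((ml_one_apply _ _).trans hf) hc)
    obtain ⟨μ, hμ1, rfl⟩ := lin_of_deg hθ (hf1 ▸ hf) hθ1
    rw [ml_lc] at hc
    have hl' : ∀ g : G, g • l = l := fun g => mem_stabilizer_iff.1 (hs ▸ Subgroup.mem_top g)
    have hst : stabilizer G (l * μ) = stabilizer G μ := by
      ext g
      rw [mem_stabilizer_iff, mem_stabilizer_iff, smul_mul', hl', mul_right_inj]
    by_cases hi : (stabilizer G μ).index = 1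
    · have h1 := Subgroup.index_eq_one.1 hi
      have h2 := c1 hNG (hst.trans h1) hc
      rw [mul_pow, orderOf_dvd_iff_pow_eq_one.1 (hl ▸ hpc), one_mul] at h2
      exact ncop (fun e => hμ1 (orderOf_eq_one_iff.1 e))
        (orderOf_dvd_of_pow_eq_one (c1 hNG h1 hθa)) (orderOf_dvd_of_pow_eq_one h2)
    · exact ncop hi (lin_dvd hNG hθa) (hst ▸ lin_dvd hNG hc)
  have ht1 : (stabilizer G l).index ≠ 1 := fun h => hs (Subgroup.index_eq_one.1 h)
  have htd := lin_dvd hNG hd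
  obtain ⟨k, n, hn, hkn⟩ := Nat.exists_eq_pow_mul_and_not_dvd (Nat.card_pos (α := Lin N)).ne' p
    hp.ne_one
  have hW : ∀ ν : Lin N, ν ^ (p ^ (k + 1) * n) = 1 := fun ν => by
    rw [pow_succ, mul_right_comm, ← hkn, pow_mul, pow_card_eq_one', one_pow]
  have hpn : p.Coprime n := (hp.coprime_iff_not_dvd).2 hn
  have hcop : ∀ x, ¬ p ∣ x → x.Coprime (p ^ (k + 1)) := fun x hx =>
    ((hp.coprime_iff_not_dvd).2 hx).symm.pow_right _
  by_cases hf1 : f = 1
  swap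
  · have hfa := deg_dvd hNG hθ hf hθa
    obtain ⟨θ', h1, h2, h3, -⟩ := la hNG hθ hf l (pow_ne_zero (k + 1) hp.ne_zero) hW
      (hcop f fun h => hpa (h.trans hfa)) (hcop n hn) (by rw [pow_succ', pow_mul, hlp, one_pow])
    obtain ⟨c, hc⟩ := exists_ov h1
    exact ⟨c, mem_of_ov h1 (ne_one_of_deg h2 hf1) hc, ncop hf1 hfa (deg_dvd hNG h1 h2 hc),
      ncop ht1 (index_dvd hNG h1 hc h3) htd⟩
  obtain ⟨μ, hμ1, rfl⟩ := lin_of_deg hθ (hf1 ▸ hf) hθ1
  have hy : (μ ^ p ^ (k + 1)) ^ n = 1 := by rw [← pow_mul, hW]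
  obtain ⟨j, hj⟩ := exists_pow_eq_self_of_coprime (x := μ ^ p ^ (k + 1))
    ((hcop n hn).symm.coprime_dvd_right (orderOf_dvd_of_pow_eq_one hy))
  set μ0 := (μ ^ p ^ (k + 1)) ^ j with hμ0
  have h0n : μ0 ^ n = 1 := by rw [hμ0, ← pow_mul, mul_comm, pow_mul, hy, one_pow]
  have hν : (μ0⁻¹ * μ) ^ p ^ (k + 1) = 1 := by
    rw [mul_pow, inv_pow, hμ0, ← pow_mul _ j, mul_comm j, pow_mul, hj, inv_mul_cancel]
  obtain ⟨c, hc⟩ := exists_ov (lc_irr (l * μ0))
  by_cases h0 : μ0 = 1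
  swap
  · have hne : l * μ0 ≠ 1 := by
      intro h
      apply hn (hdv n _)
      rw [eq_inv_of_mul_eq_one_left h, inv_pow, h0n, inv_one]
    have s1 : stabilizer G (l * μ0) ≤ stabilizer G l :=
      stab_le_of_coprime hlp hpn.symm (n := n) (by rw [mul_pow, h0n, mul_one])
    have s2 : stabilizer G (l * μ0) ≤ stabilizer G μ0 :=
      stab_le_of_coprime h0n hpn (n := p) (by rw [mul_pow, hlp, one_mul])
    have s3 : stabilizer G μ ≤ stabilizer G μ0 := (stab_pow μ _).trans (stab_pow _ j)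
    refine ⟨c, mem_of_ov (lc_irr _) (lc_ne hne) hc, ?_,
      ncop ht1 ((Subgroup.index_dvd_of_le s1).trans (lin_dvd hNG hc)) htd⟩
    by_cases hi : (stabilizer G μ0).index = 1
    · have h1 := Subgroup.index_eq_one.1 hi
      have h2 := c2 hNG (lc_irr (μ0⁻¹ * μ)) h1 (c := a) (by rw [dh_lc]; exact hν)
        (by rwa [ml_lc, mul_inv_cancel_left])
      have h3 := c2 hNG (lc_irr l) h1 (c := c) (by rw [dh_lc]; exact hlp)
        (by rwa [ml_lc, mul_comm])
      have h4 := orderOf_dvd_of_pow_eq_one h0n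
      exact ncop (fun e => h0 (orderOf_eq_one_iff.1 e))
        (((hcop n hn).coprime_dvd_left h4).dvd_of_dvd_mul_right (orderOf_dvd_of_pow_eq_one h2))
        ((hpn.symm.coprime_dvd_left h4).dvd_of_dvd_mul_right (orderOf_dvd_of_pow_eq_one h3))
    · exact ncop hi ((Subgroup.index_dvd_of_le s3).trans (lin_dvd hNG hθa))
        ((Subgroup.index_dvd_of_le s2).trans (lin_dvd hNG hc))
  clear hc
  rw [h0, inv_one, one_mul] at hν
  have hta := lin_dvd hNG hθa
  have ht' : (stabilizer G μ).index ≠ 1 := fun h =>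
    hμ1 (eq_one_of_coprime (hcop a hpa) (c1 hNG (Subgroup.index_eq_one.1 h) hθa) hν)
  by_cases hcp : (stabilizer G μ).index.Coprime (stabilizer G l).index
  swap
  · exact ⟨a, ha, ncop (one_lt_of_mem hNG ha).ne' dvd_rfl dvd_rfl, ncop_of hcp hta htd⟩
  obtain ⟨c, hc⟩ := exists_ov (lc_irr (l * μ))
  have hne : l * μ ≠ 1 := by
    intro h
    rw [eq_inv_of_mul_eq_one_left h, stab_inv, Nat.coprime_self] at hcp
    exact ht' hcp
  have hsc := lin_dvd hNG hc
  refine ⟨c, mem_of_ov (lc_irr _) (lc_ne hne) hc, ncop_of (fun h => ?_) hta hsc,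
    ncop_of (fun h => ?_) hsc htd⟩
  · obtain ⟨q, hq, h1, h2⟩ := orbit_lemma l μ hcp h ht'
    have h3 : q = p := (Nat.prime_dvd_prime_iff_eq hq hp).1
      (hq.dvd_of_dvd_pow (h1.trans (orderOf_dvd_of_pow_eq_one hν)))
    exact ht (h3 ▸ h2)
  · obtain ⟨q, hq, h1, h2⟩ := orbit_lemma μ l hcp.symm (by rw [mul_comm]; exact h.symm) ht1
    have h3 : q = p := (Nat.prime_dvd_prime_iff_eq hq hp).1 (hl ▸ h1)
    exact hpa ((h3 ▸ h2).trans hta)

theorem gkl (hNG : N ≤ commutator G) {μ : Lin N} (hμ : μ ≠ 1) {u : ℕ} (hu : Ov (lc μ) u)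
    {θ : N → ℂ} (hθ : IsIrrCharacter N θ) (hθ1 : θ ≠ fun _ => 1) {f : ℕ} (hf : θ 1 = f) {v : ℕ}
    (hv : Ov θ v) (huv : u.Coprime v) (hvm : v.Coprime (Nat.card (Lin N)))
    (h : f ≠ 1 ∨ u.Coprime (Nat.card (Lin N))) :
    ∃ c ∈ relCharDegrees N, ¬ u.Coprime c ∧ ¬ c.Coprime v := by
  have htu := lin_dvd hNG hu
  by_cases hf1 : f = 1
  swap
  · have hfv := deg_dvd hNG hθ hf hv
    obtain ⟨θ', h1, h2, h3, h4⟩ := la hNG hθ hf μ (n := 1) (Nat.card_pos (α := Lin N)).ne'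
      (fun ν => by rw [mul_one, pow_card_eq_one']) (hvm.coprime_dvd_left hfv)
      (Nat.coprime_one_left _) pow_card_eq_one'
    obtain ⟨c, hc⟩ := exists_ov h1
    refine ⟨c, mem_of_ov h1 (ne_one_of_deg h2 hf1) hc, ?_, ncop hf1 (deg_dvd hNG h1 h2 hc) hfv⟩
    by_cases hi : (stabilizer G μ).index = 1
    · have h5 := Subgroup.index_eq_one.1 hi
      exact ncop (fun e => hμ (orderOf_eq_one_iff.1 e))
        (orderOf_dvd_of_pow_eq_one (c1 hNG h5 hu)) (orderOf_dvd_of_pow_eq_one (h4 h5 c hc))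
    · exact ncop hi htu (index_dvd hNG h1 hc h3)
  have hum := h.resolve_left (not_not.2 hf1)
  obtain ⟨ν, hν, rfl⟩ := lin_of_deg hθ (hf1 ▸ hf) hθ1
  have htv := lin_dvd hNG hv
  have t1 : (stabilizer G μ).index ≠ 1 := fun h =>
    hμ (eq_one_of_coprime hum (c1 hNG (Subgroup.index_eq_one.1 h) hu) pow_card_eq_one')
  have t2 : (stabilizer G ν).index ≠ 1 := fun h =>
    hν (eq_one_of_coprime hvm (c1 hNG (Subgroup.index_eq_one.1 h) hv) pow_card_eq_one')
  have hcp : (stabilizer G μ).index.Coprime (stabilizer G ν).index :=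
    (huv.coprime_dvd_left htu).coprime_dvd_right htv
  obtain ⟨c, hc⟩ := exists_ov (lc_irr (ν * μ))
  have hne : ν * μ ≠ 1 := by
    intro h
    rw [eq_inv_of_mul_eq_one_left h, stab_inv, Nat.coprime_self] at hcp
    exact t1 hcp
  have hsc := lin_dvd hNG hc
  refine ⟨c, mem_of_ov (lc_irr _) (lc_ne hne) hc, ncop_of (fun h => ?_) htu hsc,
    ncop_of (fun h => ?_) hsc htv⟩
  · obtain ⟨q, hq, h1, h2⟩ := orbit_lemma ν μ hcp h t1
    exact ncop hq.ne_one (h2.trans htv) (h1.trans (orderOf_dvd_natCard μ)) hvm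
  · obtain ⟨q, hq, h1, h2⟩ := orbit_lemma μ ν hcp.symm (by rw [mul_comm]; exact h.symm) t2
    exact ncop hq.ne_one (h2.trans htu) (h1.trans (orderOf_dvd_natCard ν)) hum

omit hN [Fintype N] in
theorem reach (hNG : N ≤ commutator G) {a b : ℕ} (ha : a ∈ relCharDegrees N)
    (hb : b ∈ relCharDegrees N) (h : ¬ a.Coprime b) :
    (commonDivisorGraph.induce (relCharDegrees N)).Reachable ⟨a, ha⟩ ⟨b, hb⟩ := by
  by_cases hab : a = b
  · subst hab; rfl
  refine SimpleGraph.Adj.reachable ?_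
  change a ≠ b ∧ 1 < Nat.gcd a b
  have h1 : 0 < Nat.gcd a b := Nat.gcd_pos_of_pos_left _ (by have := one_lt_of_mem hNG ha; omega)
  exact ⟨hab, lt_of_le_of_ne h1 (Ne.symm h)⟩

theorem hub (hNG : N ≤ commutator G) {p : ℕ} (hp : p.Prime) (hpm : p ∣ Nat.card (Lin N)) :
    ∃ (l : Lin N) (d : ℕ) (hd : d ∈ relCharDegrees N), orderOf l = p ∧ Ov (lc l) d ∧
      ∀ a (ha : a ∈ relCharDegrees N), ¬ p ∣ a →
        (commonDivisorGraph.induce (relCharDegrees N)).Reachable ⟨a, ha⟩ ⟨d, hd⟩ := by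
  haveI : Fact p.Prime := ⟨hp⟩
  obtain ⟨l, hl, ht⟩ := exists_fixed (G := G) (W := Lin N) p hpm
  obtain ⟨d, hd⟩ := exists_ov (lc_irr l)
  have hl1 : l ≠ 1 := by
    rintro rfl
    rw [orderOf_one] at hl
    exact hp.one_lt.ne hl
  have hd' := mem_of_ov (lc_irr l) (lc_ne hl1) hd
  refine ⟨l, d, hd', hl, hd, fun a ha hpa => ?_⟩
  obtain ⟨c, hc, h1, h2⟩ := kl hNG hp hl ht hd ha hpa
  exact (reach hNG ha hc h1).trans (reach hNG hc hd' h2)

theorem sep (hNG : N ≤ commutator G) {a b : ℕ} (ha : a ∈ relCharDegrees N)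
    (hb : b ∈ relCharDegrees N)
    (h : ¬ (commonDivisorGraph.induce (relCharDegrees N)).Reachable ⟨a, ha⟩ ⟨b, hb⟩)
    {p : ℕ} (hp : p.Prime) (hpm : p ∣ Nat.card (Lin N)) : p ∣ a ∨ p ∣ b := by
  by_contra! h'
  obtain ⟨l, d, hd, -, -, h1⟩ := hub hNG hp hpm
  exact h ((h1 a ha h'.1).trans (h1 b hb h'.2).symm)

theorem sep2 (hNG : N ≤ commutator G) {a b : ℕ} (ha : a ∈ relCharDegrees N)
    (hb : b ∈ relCharDegrees N)
    (h : ¬ (commonDivisorGraph.induce (relCharDegrees N)).Reachable ⟨a, ha⟩ ⟨b, hb⟩)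
    {p : ℕ} (hp : p.Prime) (hpm : p ∣ Nat.card (Lin N)) (hpb : p ∣ b) :
    a.Coprime (Nat.card (Lin N)) ∧ ∀ r : ℕ, r.Prime → r ∣ Nat.card (Lin N) → r ∣ b := by
  have hab : a.Coprime b := by
    by_contra h'
    exact h (reach hNG ha hb h')
  have key : ∀ r : ℕ, r.Prime → r ∣ Nat.card (Lin N) → r ∣ b := by
    intro q hq hqm
    by_contra hqb
    have hqa := (sep hNG ha hb h hq hqm).resolve_right hqb
    have hpa : ¬ p ∣ a := fun e => ncop hp.ne_one e hpb hab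
    have hpq : p.Coprime q := (Nat.coprime_primes hp hq).2 fun e => hqb (e ▸ hpb)
    obtain ⟨l, d, hd, hl, hld, h1⟩ := hub hNG hp hpm
    obtain ⟨l', d', hd', hl', hld', h2⟩ := hub hNG hq hqm
    have r1 := h1 a ha hpa
    have r2 := h2 b hb hqb
    have hlp : l ^ p = 1 := orderOf_dvd_iff_pow_eq_one.1 hl.dvd
    have hlq : l' ^ q = 1 := orderOf_dvd_iff_pow_eq_one.1 hl'.dvd
    have t1 : (stabilizer G l).index ≠ 1 := fun e => h (r1.trans (reach hNG hd hb (ncop hp.ne_one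
      (hl ▸ orderOf_dvd_of_pow_eq_one (c1 hNG (Subgroup.index_eq_one.1 e) hld)) hpb)))
    have t2 : (stabilizer G l').index ≠ 1 := fun e => h (r2.trans (reach hNG hd' ha (ncop hq.ne_one
      (hl' ▸ orderOf_dvd_of_pow_eq_one (c1 hNG (Subgroup.index_eq_one.1 e) hld')) hqa))).symm
    obtain ⟨c, hc⟩ := exists_ov (lc_irr (l * l'))
    have hne : l * l' ≠ 1 := by
      intro e
      rw [eq_inv_of_mul_eq_one_left e, orderOf_inv, hl'] at hl
      exact hqb (hl ▸ hpb)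
    have hc' := mem_of_ov (lc_irr _) (lc_ne hne) hc
    have s1 : stabilizer G (l * l') ≤ stabilizer G l :=
      stab_le_of_coprime hlp hpq.symm (n := q) (by rw [mul_pow, hlq, mul_one])
    have s2 : stabilizer G (l * l') ≤ stabilizer G l' :=
      stab_le_of_coprime hlq hpq (n := p) (by rw [mul_pow, hlp, one_mul])
    have r3 := reach hNG hd hc' (ncop t1 (lin_dvd hNG hld)
      ((Subgroup.index_dvd_of_le s1).trans (lin_dvd hNG hc)))
    have r4 := reach hNG hd' hc' (ncop t2 (lin_dvd hNG hld')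
      ((Subgroup.index_dvd_of_le s2).trans (lin_dvd hNG hc)))
    exact h ((r1.trans r3).trans (r2.trans r4).symm)
  refine ⟨?_, key⟩
  by_contra hc
  obtain ⟨q, hq, h1, h2⟩ := Nat.Prime.not_coprime_iff_dvd.1 hc
  exact ncop hq.ne_one h1 (key q hq h2) hab

end rel

end CA.H4Rel
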