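import Cfsg.Agent.Lib.Char.H7Exc
import Cfsg.Agent.Lib.Char.CharKer

/-!
Fragments of character tables obtained from small integral combinations of columns.
-/

set_option autoImplicit false
set_option linter.unusedSectionVars false

namespace CA.H7Exc

open Subgroup Cfsg CChar.CharFun CChar.CharOrth CChar.CharInt
open scoped Classical

variable {G : Type*} [Group G] [Finite G] {gs : List G} {R : List (List ℤ)} {E : List ℤ}

/-- values of a character on a list of elements -/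
noncomputable def col (gs : List G) (χ : IrrCharacter G) : List ℤ := gs.map (iv · χ)

/-- the non-principal irreducible characters -/
noncomputable def np (G : Type*) [Group G] [Finite G] : Finset (IrrCharacter G) := Finset.univ.erase (irrOne G)

theorem sum_np {M : Type*} [AddCommMonoid M] (F : IrrCharacter G → M) :
    ∑ χ, F χ = F (irrOne G) + ∑ χ ∈ np G, F χ := (Finset.add_sum_erase _ _ (Finset.mem_univ _)).symm

theorem orth_col (h1 : ∀ g ∈ gs, IntAt g) (h2 : gs.Pairwise fun a b => ¬ IsConj a b) :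
    Orth Finset.univ (gs.map iv) (gs.map fun g => (Nat.card (centralizer ({g} : Set G)) : ℤ)) := by
  induction gs with
  | nil => trivial
  | cons g gs ih =>
    obtain ⟨h3, h4⟩ := List.pairwise_cons.1 h2
    obtain ⟨h5, h6⟩ := List.forall_mem_cons.1 h1
    exact ⟨col_self h5, List.forall_mem_map.2 fun d hd => col_zero h5 (h6 d hd) (h3 d hd), ih h6 h4⟩

def ip (k : ℤ) (ns a b : List ℤ) : ℤ :=
  (dot (List.zipWith (· * ·) a b) ns - dot a (ns.map fun _ => 1) * dot b (ns.map fun _ => 1)) / (k * k)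

def gdata (k : ℤ) (ns : List ℤ) : List (List ℤ) → List (List ℤ × ℕ)
  | [] => []
  | a :: As => (As.map (ip k ns a), (ip k ns a a).toNat) :: gdata k ns As

/-- the table fragments compatible with the Gram matrix -/
def tabs (k : ℤ) (ns : List ℤ) (As B : List (List ℤ)) : List (List (List ℤ)) :=
  (enum (gdata k ns As)).map fun R => R.map fun r => B.map (dot · r)

/-- `R` lists the signed values on `gs` of the non-principal characters not vanishing on `gs`, and `E`
the signed degrees -/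
def Pat (gs : List G) (R : List (List ℤ)) (E : List ℤ) : Prop :=
  ∃ l, Sup (np G) (gs.map iv) l ∧ l.map (row (gs.map iv)) = R ∧ l.map (fun p => p.2 * iv 1 p.1) = E

theorem exists_pat (h1 : ∀ g ∈ gs, IntAt g) (h2 : gs.Pairwise fun a b => ¬ IsConj a b) {ns : List ℤ}
    (hn : (gs.map fun g => (Nat.card (centralizer ({g} : Set G)) : ℤ)) = ns) {k : ℤ} (hk : k ≠ 0)
    (As B : List (List ℤ)) (hd : ∀ χ, ∀ a ∈ As, k ∣ dot a (col gs χ))
    (hB : ∀ χ, col gs χ = B.map (dot · (As.map fun a => dot a (col gs χ) / k))) :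
    ∃ R ∈ tabs k ns As B, ∃ E, Pat gs R E := by
  have h3 := hn ▸ orth_col h1 h2
  have h4 : ∀ χ, (gs.map iv).map (· χ) = col gs χ := fun χ => by simp [col]
  have h5 : col gs (irrOne G) = ns.map fun _ => 1 := by simp [← hn, col, iv_triv, Function.comp_def]
  have h6 : ∀ a b, (∀ χ, k ∣ dot a (col gs χ)) → (∀ χ, k ∣ dot b (col gs χ)) →
      ∑ χ ∈ np G, dot a (col gs χ) / k * (dot b (col gs χ) / k) = ip k ns a b := fun a b ha hb => by
    have := h3.sum_dot a b
    simp only [h4] at this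
    rw [ip, ← this, sum_np, h5, add_sub_cancel_left]
    refine (Int.ediv_eq_of_eq_mul_right (mul_ne_zero hk hk) ?_).symm
    rw [Finset.mul_sum]
    refine Finset.sum_congr rfl fun χ _ => ?_
    rw [mul_mul_mul_comm, Int.mul_ediv_cancel' (ha χ), Int.mul_ediv_cancel' (hb χ)]
  have h7 : Gram (np G) (As.map fun a χ => dot a (col gs χ) / k) (gdata k ns As) := by
    clear hB
    induction As with
    | nil => trivial
    | cons a As ih =>
      have ha := fun χ => hd χ a List.mem_cons_self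
      refine ⟨?_, ?_, ih fun χ b hb => hd χ b (List.mem_cons_of_mem _ hb)⟩
      · rw [List.map_map]
        exact List.map_congr_left fun b hb => h6 a b ha fun χ => hd χ b (List.mem_cons_of_mem _ hb)
      · rw [Int.toNat_of_nonneg (h6 a a ha ha ▸ Finset.sum_nonneg fun _ _ => mul_self_nonneg _)]
        exact h6 a a ha ha
  obtain ⟨l, k1, k2⟩ := exists_enum h7
  refine ⟨_, List.mem_map.2 ⟨_, k2, rfl⟩, _, l, ⟨k1.nd, k1.mem, k1.sg, fun χ hχ e => ?_⟩, ?_, rfl⟩
  · have : ∀ x ∈ col gs χ, x = 0 := by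
      rw [hB, List.forall_mem_map]
      intro b _
      rw [show (As.map fun a => dot a (col gs χ) / k) = (As.map fun _ => (0 : ℤ)).map (0 * ·) from by
        rw [List.map_map]
        exact List.map_congr_left fun a ha => k1.zero χ hχ e _ (List.mem_map_of_mem ha), dot_map_mul, zero_mul]
    exact List.forall_mem_map.2 fun g hg => this _ (List.mem_map_of_mem hg)
  · rw [List.map_map]
    refine List.map_congr_left fun p _ => ?_
    have : row (gs.map iv) p = (col gs p.1).map (p.2 * ·) := by simp [row, col]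
    rw [this, hB, List.map_map, Function.comp_apply]
    refine List.map_congr_left fun b _ => ?_
    rw [Function.comp_apply, ← dot_map_mul]
    simp [row, Function.comp_def]

theorem Pat.len (h : Pat gs R E) : E.length = R.length := by
  obtain ⟨l, -, rfl, rfl⟩ := h; simp

theorem getD_col {j : ℕ} {g : G} (hj : gs[j]? = some g) (e : ℤ) (χ : IrrCharacter G) :
    (row (gs.map iv) (χ, e)).getD j 0 = e * iv g χ := by
  simp [row, List.getD_eq_getElem?_getD, hj]

theorem Pat.sum {M : Type*} [AddCommMonoid M] (h : Pat gs R E) (F : IrrCharacter G → M) (f : List ℤ → ℤ → M)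
    (h1 : ∀ χ, (∀ g ∈ gs, iv g χ = 0) → F χ = 0)
    (h2 : ∀ χ e, e * e = 1 → F χ = f (row (gs.map iv) (χ, e)) (e * iv 1 χ)) :
    ∑ χ, F χ = F (irrOne G) + (List.zipWith f R E).sum := by
  obtain ⟨l, k, rfl, rfl⟩ := h
  rw [sum_np, k.sum F fun χ _ e => h1 χ fun g hg => e _ (List.mem_map_of_mem hg), List.zipWith_map,
    List.zipWith_self]
  exact congrArg _ (congrArg _ (List.map_congr_left fun p hp => h2 _ _ (k.sg p hp)))

theorem Pat.lin (h : Pat gs R E) (j : ℕ) {g : G} (hj : gs[j]? = some g) (hg : IntAt g) (h1 : g ≠ 1) :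
    1 + (List.zipWith (fun r d => r.getD j 0 * d) R E).sum = 0 := by
  have := col_zero hg intAt_one fun e => h1 (isConj_one_left.1 e)
  rwa [h.sum _ (fun r d => r.getD j 0 * d)
    (fun χ e => by rw [e g (List.mem_of_getElem? hj), zero_mul])
    (fun χ e he => by rw [getD_col hj]; linear_combination (-iv g χ * iv 1 χ) * he), iv_triv, iv_triv,
    mul_one] at this

theorem Pat.cub (h : Pat gs R E) (i j k : ℕ) {a b c : G} (hi : gs[i]? = some a) (hj : gs[j]? = some b)
    (hk : gs[k]? = some c) (hg : ∀ g ∈ gs, IntAt g) :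
    (cnt a b c : ℚ) * Nat.card (centralizer ({a} : Set G)) * Nat.card (centralizer ({b} : Set G)) =
      Nat.card G * (1 + (List.zipWith (fun r d => ((r.getD i 0 * r.getD j 0 * r.getD k 0 : ℤ) : ℚ) / (d : ℤ)) R E).sum) := by
  rw [cnt_eq (hg a (List.mem_of_getElem? hi)) (hg b (List.mem_of_getElem? hj)) (hg c (List.mem_of_getElem? hk)),
    h.sum _ (fun r d => ((r.getD i 0 * r.getD j 0 * r.getD k 0 : ℤ) : ℚ) / (d : ℤ))
    (fun χ e => by simp [e a (List.mem_of_getElem? hi)]) (fun χ e he => ?_)]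
  · simp [iv_triv]
  rw [getD_col hi, getD_col hj, getD_col hk]
  rcases Int.eq_one_or_neg_one_of_mul_eq_one he with rfl | rfl <;> simp [neg_div_neg_eq]

theorem Pat.all (h : Pat gs R E) (P : List ℤ → ℤ → Prop)
    (h1 : ∀ χ ≠ irrOne G, P (col gs χ) (iv 1 χ) ∧ P ((col gs χ).map (- ·)) (- iv 1 χ)) :
    List.Forall₂ P R E := by
  obtain ⟨l, k, rfl, rfl⟩ := h
  rw [List.forall₂_map_left_iff, List.forall₂_map_right_iff, List.forall₂_same]
  intro p hp
  have := h1 p.1 (Finset.ne_of_mem_erase (k.mem p hp))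
  rcases Int.eq_one_or_neg_one_of_mul_eq_one (k.sg p hp) with e | e
  · simpa [row, e, col, Function.comp_def] using this.1
  · simpa [row, e, col, Function.comp_def] using this.2

theorem Pat.sq (h : Pat gs R E) : 1 + (E.map fun d => d * d).sum ≤ Nat.card G := by
  obtain ⟨l, k, rfl, rfl⟩ := h
  rw [← sum_deg_sq, sum_np, iv_triv, mul_one, add_le_add_iff_left, List.map_map,
    show l.map _ = (l.map Prod.fst).map fun χ => iv 1 χ * iv 1 χ by
      rw [List.map_map]
      exact List.map_congr_left fun p hp => by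
        simp only [Function.comp]; linear_combination iv 1 p.1 * iv 1 p.1 * k.sg p hp,
    ← List.sum_toFinset _ k.nd]
  refine Finset.sum_le_sum_of_subset_of_nonneg (fun χ hχ => ?_) fun _ _ _ => mul_self_nonneg _
  obtain ⟨p, hp, rfl⟩ := List.mem_map.1 (List.mem_toFinset.1 hχ)
  exact k.mem p hp

theorem iv_one_ne_one (hG : commutator G = ⊤) {χ : IrrCharacter G} (h : χ ≠ irrOne G) : iv 1 χ ≠ 1 := fun e =>
  h (Subtype.ext (CChar.CharKer.irr_eq_one_of_perfect hG χ.2 (by rw [intAt_one.eq, e, Int.cast_one])))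

theorem le_inv {a : ℤ} {n : ℕ} (hn : 0 < n) (h : a ≤ -n ∨ 0 < a) : -1 / (n : ℚ) ≤ 1 / (a : ℚ) := by
  have h0 : (0 : ℚ) < n := by exact_mod_cast hn
  rcases h with h | h
  · have h1 : (a : ℚ) ≤ -n := by exact_mod_cast h
    rw [← neg_div_neg_eq 1, neg_div, neg_div, neg_le_neg_iff]
    exact one_div_le_one_div_of_le h0 (by linarith)
  · have h1 : (0 : ℚ) < a := by exact_mod_cast h
    exact (div_nonpos_of_nonpos_of_nonneg (by norm_num) h0.le).trans (one_div_pos.2 h1).le

/-- a Sylow 3-subgroup of exponent three whose normalizer controls centralizers and fusion -/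
structure Sp (T : Subgroup G) : Prop where
  cen : ∀ t ∈ T, t ≠ 1 → centralizer ({t} : Set G) ≤ normalizer (T : Set G)
  mem : ∀ g ∈ normalizer (T : Set G), g ^ 3 = 1 → g ∈ T
  exp : ∀ t ∈ T, t ^ 3 = 1
  fus : ∀ s ∈ T, ∀ t ∈ T, IsConj s t → ∃ n ∈ normalizer (T : Set G), n * s * n⁻¹ = t
  syl : ∀ g : G, g ^ 3 = 1 → ∃ t ∈ T, IsConj g t

theorem sp_of_sylow (P : Sylow 3 G) [IsMulCommutative P] (h1 : ∀ t ∈ (P : Subgroup G), t ^ 3 = 1)
    (h2 : ∀ t ∈ (P : Subgroup G), t ≠ 1 → centralizer ({t} : Set G) ≤ normalizer ((P : Subgroup G) : Set G)) :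
    Sp (P : Subgroup G) := by
  have : Fact (Nat.Prime 3) := ⟨Nat.prime_three⟩
  have h3 : ∀ g : G, g ^ 3 = 1 → IsPGroup 3 (zpowers g) := fun g hg => by
    rintro ⟨_, k, rfl⟩
    exact ⟨1, Subtype.ext (show (g ^ k) ^ 3 = 1 by rw [← zpow_natCast, zpow_comm, zpow_natCast, hg, one_zpow])⟩
  refine ⟨h2, fun g hg e => ?_, h1, fun s hs t ht e => ?_, fun g e => ?_⟩
  · have := (h3 g e).inf_normalizer_sylow P
    exact (this.le ⟨mem_zpowers g, hg⟩).2
  · obtain ⟨g, rfl⟩ := isConj_iff.1 e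
    obtain ⟨n, k1, k2⟩ := P.conj_eq_normalizer_conj_of_mem s g⁻¹ hs (by rwa [inv_inv])
    exact ⟨n⁻¹, inv_mem k1, by simpa using k2.symm⟩
  · obtain ⟨Q, hQ⟩ := (h3 g e).exists_le_sylow
    obtain ⟨x, rfl⟩ := MulAction.exists_smul_eq G Q P
    exact ⟨x * g * x⁻¹, ⟨g, hQ (mem_zpowers g), rfl⟩, isConj_iff.2 ⟨x, rfl⟩⟩

theorem Sp.tri {T : Subgroup G} (h : Sp T) {a b : G} (ha : a ^ 3 = 1) (hb : b ^ 3 = 1) (hc : a * b ∈ T)
    (h1 : a * b ≠ 1) (h2 : ¬ (IsConj a b ∧ IsConj a⁻¹ (a * b))) : a ∈ T := by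
  obtain ⟨u, k1, k2, k3, k4⟩ := (H7Exc.tri ha hb (h.exp _ hc)).resolve_left h2
  have := h.mem u (h.cen _ hc h1 (mem_centralizer_singleton_iff.2 (k3.mul_right k4))) k2
  exact h.mem a (h.cen u this k1 (mem_centralizer_singleton_iff.2 k3.symm)) ha

theorem pow_three_of_conj {a b : G} (e : IsConj a b) (ha : a ^ 3 = 1) : b ^ 3 = 1 := by
  obtain ⟨x, rfl⟩ := isConj_iff.1 e
  rw [conj_pow, ha, mul_one, mul_inv_cancel]

theorem Sp.cnt {K : Type*} [Group K] [Fintype K] {f : K →* G} (h : Sp f.range) (hf : Function.Injective f)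
    {ρ : K → K → Prop} [DecidableRel ρ] (hρ : ∀ v w, IsConj (f v) (f w) ↔ ρ v w) {a b c : K} (hc : c ≠ 1)
    (h1 : ¬ (ρ a b ∧ ρ a⁻¹ c)) :
    cnt (f a) (f b) (f c) = (Finset.univ.filter fun v => ρ a v ∧ ρ b (v⁻¹ * c)).card := by
  rw [← Nat.card_eq_finsetCard, H7Exc.cnt]
  refine (Nat.card_eq_of_bijective (fun v : (Finset.univ.filter fun v => ρ a v ∧ ρ b (v⁻¹ * c)) =>
    (⟨f v.1, by simpa only [Finset.mem_filter, Finset.mem_univ, true_and, ← hρ, map_mul, map_inv] using v.2⟩ :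
      {x : G // IsConj (f a) x ∧ IsConj (f b) (x⁻¹ * f c)}))
      ⟨fun v w e => Subtype.ext (hf (congrArg Subtype.val e :)), fun ⟨x, k1, k2⟩ => ?_⟩).symm
  obtain ⟨v, rfl⟩ : x ∈ f.range := h.tri (b := x⁻¹ * f c) (pow_three_of_conj k1 (h.exp _ ⟨a, rfl⟩))
    (pow_three_of_conj k2 (h.exp _ ⟨b, rfl⟩)) (by simp) (by simpa [map_eq_one_iff f hf] using hc) fun e => by
      rw [mul_inv_cancel_left] at e
      refine h1 ⟨(hρ _ _).1 ((k1.trans e.1).trans k2.symm), (hρ _ _).1 (IsConj.trans ?_ e.2)⟩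
      obtain ⟨y, rfl⟩ := isConj_iff.1 k1
      exact isConj_iff.2 ⟨y, by simp [mul_assoc]⟩
  exact ⟨⟨v, by simpa only [Finset.mem_filter, Finset.mem_univ, true_and, ← hρ, map_mul, map_inv]
    using And.intro k1 k2⟩, rfl⟩

theorem dvd_sum_rep {K : Type*} [Group K] [Fintype K] (f : K →* G) (hi : ∀ v, IntAt (f v)) (rep : K → K)
    (h : ∀ v, IsConj (f v) (f (rep v))) {L : List K} (hL : Finset.univ.val.map rep = L) (χ : IrrCharacter G) :
    (Fintype.card K : ℤ) ∣ (L.map fun v => iv (f v) χ).sum := by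
  obtain ⟨n, hn⟩ := avg_hom f χ
  simp only [(hi _).eq, Nat.card_eq_fintype_card] at hn
  refine ⟨n, ?_⟩
  rw [← Multiset.sum_coe, ← Multiset.map_coe, ← hL, Multiset.map_map]
  exact (Finset.sum_congr rfl fun v _ => (iv_conj (h v) χ).symm).trans (by exact_mod_cast hn)

abbrev Z3 := Multiplicative (ZMod 3)

def k2 (i j : ZMod 3) : Z3 × Z3 := (.ofAdd i, .ofAdd j)

theorem exists_hom2 {T : Subgroup G} [IsMulCommutative T] (hT : Nat.card T = 9) (h3 : ∀ t ∈ T, t ^ 3 = 1)
    {x y : G} (hx : x ∈ T) (hy : y ∈ T) (h1 : x ≠ 1) (h2 : y ≠ 1 ∧ y ≠ x ∧ y ≠ x⁻¹) :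
    ∃ f : Z3 × Z3 →* G, Function.Injective f ∧ f.range = T ∧ f (k2 1 0) = x ∧ f (k2 0 1) = y := by
  have c : Commute x y := setLike_mul_comm hx hy
  let f := (hn 3 (h3 x hx)).noncommCoprod (hn 3 (h3 y hy)) (commute_hn _ _ c)
  have e1 : f (k2 1 0) = x := show x ^ 1 * y ^ 0 = x by simp
  have e2 : f (k2 0 1) = y := show x ^ 0 * y ^ 1 = y by simp
  have h4 : f.range ≤ T := by rintro _ ⟨v, rfl⟩; exact mul_mem (pow_mem hx _) (pow_mem hy _)
  have h5 : x ≠ x⁻¹ := fun e => h1 (by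
    have := h3 x hx
    rwa [pow_succ, pow_two, eq_inv_iff_mul_eq_one.1 e, one_mul] at this)
  have h6 : 4 ≤ Nat.card f.range := by
    have : ({1, x, x⁻¹, y} : Set G).ncard = 4 := by
      rw [Set.ncard_insert_of_notMem (by simp [h1.symm, h2.1.symm, h1]),
        Set.ncard_insert_of_notMem (by simp [h5, h2.2.1.symm]), Set.ncard_pair h2.2.2.symm]
    rw [← this]
    refine Set.ncard_le_ncard (t := (f.range : Set G)) ?_
    rintro _ (rfl | rfl | rfl | rfl)
    exacts [one_mem _, ⟨_, e1⟩, inv_mem ⟨_, e1⟩, ⟨_, e2⟩]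
  have h7 : Nat.card f.range = 9 := by
    have := hT ▸ card_dvd_of_le h4
    have := Nat.le_of_dvd (by norm_num) this
    generalize Nat.card f.range = n at *
    interval_cases n <;> omega
  refine ⟨f, ?_, eq_of_le_of_card_ge h4 (by omega), e1, e2⟩
  have := (f.rangeRestrict_surjective.bijective_of_nat_card_le (by rw [h7]; simp)).1
  exact fun v w e => this (Subtype.ext e)

/-- the size of the intersection of a class with `T` -/
theorem Sp.card_cls {T : Subgroup G} (h : Sp T) {t : G} (ht : t ∈ T) (h1 : t ≠ 1) :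
    {s | s ∈ T ∧ IsConj t s}.ncard * Nat.card (centralizer ({t} : Set G)) = Nat.card (normalizer (T : Set G)) := by
  let N := normalizer (T : Set G)
  let : MulAction N G := MulAction.compHom G (MulAut.conj.comp N.subtype)
  have e : ∀ (n : N) (g : G), n • g = n * g * n⁻¹ := fun _ _ => rfl
  have h2 : {s | s ∈ T ∧ IsConj t s} = MulAction.orbit N t := Set.ext fun s =>
    ⟨fun k => let ⟨n, k1, k2⟩ := h.fus t ht s k.1 k.2; ⟨⟨n, k1⟩, k2⟩, by
      rintro ⟨n, rfl⟩
      exact ⟨(mem_normalizer_iff.1 n.2 t).1 ht, isConj_iff.2 ⟨n, rfl⟩⟩⟩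
  have h3 : MulAction.stabilizer N t = (centralizer ({t} : Set G)).subgroupOf N := by
    ext n
    simp [e, mem_subgroupOf, mem_centralizer_singleton_iff, mul_inv_eq_iff_eq_mul]
  rw [h2, ← MulAction.index_stabilizer, ← Nat.card_congr (subgroupOfEquivOfLe (h.cen t ht h1)).toEquiv, ← h3,
    index_mul_card]

end CA.H7Exc
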