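import Cfsg.Agent.Lib.Char.H7Exc2

/-!
Table fragments for arbitrary integral columns; real parts at elements of order three.
-/

set_option autoImplicit false
set_option linter.unusedSectionVars false

namespace CA.H7Exc

open Subgroup Cfsg CChar.CharFun CChar.CharOrth CChar.CharInt
open scoped Classical ComplexConjugate

variable {G : Type*} [Group G] [Finite G] {cs : List (IrrCharacter G → ℤ)} {R : List (List ℤ)} {E : List ℤ}
  {g h : G}

/-- twice the real part of the value -/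
noncomputable def rv (g : G) (χ : IrrCharacter G) : ℤ := ⌊(χ.1 g + χ.1 g⁻¹).re⌋

theorem rv_eq (h3 : g ^ 3 = 1) (χ : IrrCharacter G) : χ.1 g + χ.1 g⁻¹ = rv g χ := by
  obtain ⟨n, hn⟩ : ∃ n : ℤ, χ.1 g + χ.1 g⁻¹ = n := GalC.exists_int_of_fixed
    ((char_isIntegral (char_of_irr χ.2) g).add (char_isIntegral (char_of_irr χ.2) g⁻¹)) fun σ => by
      obtain ⟨k, h1, h2⟩ := GalC.exists_pow_of_hom σ.toRingHom (orderOf_pos g)
      have e1 := Cons.map_char_apply σ.toRingHom (char_of_irr χ.2) g k h2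
      have e2 := Cons.map_char_apply σ.toRingHom (char_of_irr χ.2) g⁻¹ k (by rwa [orderOf_inv])
      refine (map_add σ.toRingHom _ _).trans ?_
      rw [e1, e2, inv_pow, pow_eq_pow_mod k h3]
      have e3 : g ^ 2 = g⁻¹ := eq_inv_of_mul_eq_one_left (by rw [← pow_succ, h3])
      rcases (by omega : k % 3 = 0 ∨ k % 3 = 1 ∨ k % 3 = 2) with e | e | e
      · rw [orderOf_eq_one_iff.1 ((Nat.dvd_prime Nat.prime_three).1 (orderOf_dvd_of_pow_eq_one h3) |>.resolve_right
          fun e4 => by rw [e4, Nat.coprime_comm, Nat.Prime.coprime_iff_not_dvd Nat.prime_three] at h1; omega), one_pow]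
      · rw [e, pow_one]
      · rw [e, e3, inv_inv, add_comm]
  simp [rv, hn]

theorem rv_real (hg : IntAt g) (χ : IrrCharacter G) : rv g χ = 2 * iv g χ := by
  rw [rv, char_apply_inv (char_of_irr χ.2), hg.eq, map_intCast, ← Int.cast_add, Complex.intCast_re, Int.floor_intCast,
    two_mul]

theorem rv_inv (χ : IrrCharacter G) : rv g⁻¹ χ = rv g χ := by rw [rv, rv, inv_inv, add_comm]

theorem conj_inv_of (e : IsConj g h) : IsConj g⁻¹ h⁻¹ := by
  obtain ⟨y, rfl⟩ := isConj_iff.1 e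
  exact isConj_iff.2 ⟨y, by simp [mul_assoc]⟩

theorem rv_conj (e : IsConj g h) (χ : IrrCharacter G) : rv g χ = rv h χ := by
  rw [rv, rv, classFun_of_isConj (irr_classFun χ.2) e, classFun_of_isConj (irr_classFun χ.2) (conj_inv_of e)]

theorem rv_triv : rv g (irrOne G) = 2 := by simp [rv, irrOne_apply]

theorem rv_zero (h3 : g ^ 3 = 1) (hh : IntAt h) (e1 : ¬ IsConj g h) (e2 : ¬ IsConj g⁻¹ h) :
    ∑ χ, rv g χ * iv h χ = 0 := by
  have := Fintype.ofFinite G
  have k := congrArg₂ (· + ·) (sum_irr_mul_conj_of_not_isConj e1) (sum_irr_mul_conj_of_not_isConj e2)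
  simp only [← Finset.sum_add_distrib, ← add_mul, rv_eq h3, hh.eq, map_intCast, add_zero] at k
  exact_mod_cast k

theorem rv_self (h3 : g ^ 3 = 1) (e : ¬ IsConj g g⁻¹) :
    ∑ χ, rv g χ * rv g χ = 2 * Nat.card (centralizer ({g} : Set G)) := by
  have := Fintype.ofFinite G
  have k1 := sum_irr_mul_conj_of_isConj (IsConj.refl g)
  have k2 := sum_irr_mul_conj_of_not_isConj e
  have k3 := congrArg conj k1
  have k4 := congrArg conj k2
  simp only [map_sum, map_mul, ← char_apply_inv (char_of_irr (Subtype.prop _)), inv_inv, map_natCast,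
    map_zero] at k1 k2 k3 k4
  have k := congrArg₂ (· + ·) (congrArg₂ (· + ·) k1 k2) (congrArg₂ (· + ·) k3 k4)
  simp only [← Finset.sum_add_distrib] at k
  rw [Finset.sum_congr rfl fun χ _ => show _ = ((rv g χ * rv g χ : ℤ) : ℂ) by
    rw [Int.cast_mul, ← rv_eq h3]; ring] at k
  have k5 : ((∑ χ, rv g χ * rv g χ : ℤ) : ℂ) = (2 * Nat.card (centralizer ({g} : Set G)) : ℤ) := by
    push_cast at k ⊢; rw [k]; ring
  exact_mod_cast k5

theorem dvd_sum_rv {K K' : Type*} [Group K] [Group K'] [Fintype K'] (f : K →* G) (hi : ∀ v, f v ^ 3 = 1)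
    (rep : K → K) (h : ∀ v, IsConj (f v) (f (rep v)) ∨ IsConj (f v⁻¹) (f (rep v))) (φ : K' →* K) {L : List K}
    (hL : Finset.univ.val.map (fun v => rep (φ v)) = L) (χ : IrrCharacter G) :
    (Fintype.card K' : ℤ) ∣ (L.map fun v => rv (f v) χ).sum := by
  obtain ⟨n, hn⟩ := avg_hom (f.comp φ) χ
  have h2 := congrArg conj hn
  simp only [map_sum, ← char_apply_inv (char_of_irr χ.2), map_mul, map_natCast] at h2
  have h3 := congrArg₂ (· + ·) hn h2
  simp only [← Finset.sum_add_distrib, MonoidHom.comp_apply, rv_eq (hi _), Nat.card_eq_fintype_card,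
    ← mul_add] at h3
  refine ⟨n + n, ?_⟩
  rw [← Multiset.sum_coe, ← Multiset.map_coe, ← hL, Multiset.map_map]
  refine (Finset.sum_congr rfl fun v _ => ?_).trans (by exact_mod_cast h3 : ∑ v, rv (f (φ v)) χ = _)
  rcases h (φ v) with e | e
  · exact (rv_conj e χ).symm
  · exact (rv_conj e χ).symm.trans (by rw [map_inv, rv_inv])

def ipC (k : ℤ) (ns ts a b : List ℤ) : ℤ := (dot (List.zipWith (· * ·) a b) ns - dot a ts * dot b ts) / (k * k)

def gdataC (k : ℤ) (ns ts : List ℤ) : List (List ℤ) → List (List ℤ × ℕ)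
  | [] => []
  | a :: As => (As.map (ipC k ns ts a), (ipC k ns ts a a).toNat) :: gdataC k ns ts As

def tabsC (k : ℤ) (ns ts : List ℤ) (As B : List (List ℤ)) : List (List (List ℤ)) :=
  (enum (gdataC k ns ts As)).map fun R => R.map fun r => B.map (dot · r)

def PatC (cs : List (IrrCharacter G → ℤ)) (R : List (List ℤ)) (E : List ℤ) : Prop :=
  ∃ l, Sup (np G) cs l ∧ l.map (row cs) = R ∧ l.map (fun p => p.2 * iv 1 p.1) = E

theorem exists_patC {ns ts : List ℤ} (h3 : Orth Finset.univ cs ns) (h5 : cs.map (· (irrOne G)) = ts) {k : ℤ}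
    (hk : k ≠ 0) (As B : List (List ℤ)) (hd : ∀ χ, ∀ a ∈ As, k ∣ dot a (cs.map (· χ)))
    (hB : ∀ χ, cs.map (· χ) = B.map (dot · (As.map fun a => dot a (cs.map (· χ)) / k))) :
    ∃ R ∈ tabsC k ns ts As B, ∃ E, PatC cs R E := by
  have h6 : ∀ a b, (∀ χ, k ∣ dot a (cs.map (· χ))) → (∀ χ, k ∣ dot b (cs.map (· χ))) →
      ∑ χ ∈ np G, dot a (cs.map (· χ)) / k * (dot b (cs.map (· χ)) / k) = ipC k ns ts a b := fun a b ha hb => by
    rw [ipC, ← h3.sum_dot a b, sum_np, h5, add_sub_cancel_left]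
    refine (Int.ediv_eq_of_eq_mul_right (mul_ne_zero hk hk) ?_).symm
    rw [Finset.mul_sum]
    refine Finset.sum_congr rfl fun χ _ => ?_
    rw [mul_mul_mul_comm, Int.mul_ediv_cancel' (ha χ), Int.mul_ediv_cancel' (hb χ)]
  have h7 : Gram (np G) (As.map fun a χ => dot a (cs.map (· χ)) / k) (gdataC k ns ts As) := by
    clear hB
    induction As with
    | nil => trivial
    | cons a As ih =>
      have ha := fun χ => hd χ a List.mem_cons_self
      refine ⟨?_, ?_, ih fun χ b hb => hd χ b (List.mem_cons_of_mem _ hb)⟩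
      · rw [List.map_map]
        exact List.map_congr_left fun b hb => h6 a b ha fun χ => hd χ b (List.mem_cons_of_mem _ hb)
      · rw [Int.toNat_of_nonneg (h6 a a ha ha ▸ Finset.sum_nonneg fun _ _ => mul_self_nonneg _)]
        exact h6 a a ha ha
  obtain ⟨l, k1, k2⟩ := exists_enum h7
  refine ⟨_, List.mem_map.2 ⟨_, k2, rfl⟩, _, l, ⟨k1.nd, k1.mem, k1.sg, fun χ hχ e => ?_⟩, ?_, rfl⟩
  · have : ∀ x ∈ cs.map (· χ), x = 0 := by
      rw [hB, List.forall_mem_map]
      intro b _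
      rw [show (As.map fun a => dot a (cs.map (· χ)) / k) = (As.map fun _ => (0 : ℤ)).map (0 * ·) from by
        rw [List.map_map]
        exact List.map_congr_left fun a ha => k1.zero χ hχ e _ (List.mem_map_of_mem ha), dot_map_mul, zero_mul]
    exact List.forall_mem_map.1 this
  · rw [List.map_map]
    refine List.map_congr_left fun p _ => ?_
    have : row cs p = (cs.map (· p.1)).map (p.2 * ·) := by simp [row]
    rw [this, hB, List.map_map, Function.comp_apply]
    refine List.map_congr_left fun b _ => ?_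
    rw [Function.comp_apply, ← dot_map_mul]
    simp [row, Function.comp_def]

theorem PatC.len (h : PatC cs R E) : E.length = R.length := by
  obtain ⟨l, -, rfl, rfl⟩ := h; simp

theorem getD_row {j : ℕ} {c : IrrCharacter G → ℤ} (hj : cs[j]? = some c) (e : ℤ) (χ : IrrCharacter G) :
    (row cs (χ, e)).getD j 0 = e * c χ := by
  simp [row, List.getD_eq_getElem?_getD, hj]

theorem PatC.sum {M : Type*} [AddCommMonoid M] (h : PatC cs R E) (F : IrrCharacter G → M) (f : List ℤ → ℤ → M)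
    (h1 : ∀ χ, (∀ c ∈ cs, c χ = 0) → F χ = 0)
    (h2 : ∀ χ e, e * e = 1 → F χ = f (row cs (χ, e)) (e * iv 1 χ)) :
    ∑ χ, F χ = F (irrOne G) + (List.zipWith f R E).sum := by
  obtain ⟨l, k, rfl, rfl⟩ := h
  rw [sum_np, k.sum F fun χ _ e => h1 χ e, List.zipWith_map, List.zipWith_self]
  exact congrArg _ (congrArg _ (List.map_congr_left fun p hp => h2 _ _ (k.sg p hp)))

theorem PatC.lin (h : PatC cs R E) (j : ℕ) {c : IrrCharacter G → ℤ} (hj : cs[j]? = some c)
    (h1 : ∑ χ, c χ * iv 1 χ = 0) : c (irrOne G) + (List.zipWith (fun r d => r.getD j 0 * d) R E).sum = 0 := by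
  rwa [h.sum _ (fun r d => r.getD j 0 * d)
    (fun χ e => by rw [e c (List.mem_of_getElem? hj), zero_mul])
    (fun χ e he => by rw [getD_row hj]; linear_combination (-c χ * iv 1 χ) * he), iv_triv, mul_one] at h1

theorem col_one (hg : IntAt g) (h1 : g ≠ 1) : ∑ χ, iv g χ * iv 1 χ = 0 :=
  col_zero hg intAt_one fun e => h1 (isConj_one_left.1 e)

theorem PatC.cub (h : PatC cs R E) (i j k : ℕ) {a b c : G} (hi : cs[i]? = some (iv a)) (hj : cs[j]? = some (iv b))
    (hk : cs[k]? = some (iv c)) (ha : IntAt a) (hb : IntAt b) (hc : IntAt c) :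
    (cnt a b c : ℚ) * Nat.card (centralizer ({a} : Set G)) * Nat.card (centralizer ({b} : Set G)) =
      Nat.card G * (1 + (List.zipWith (fun r d => ((r.getD i 0 * r.getD j 0 * r.getD k 0 : ℤ) : ℚ) / (d : ℤ)) R E).sum) := by
  rw [cnt_eq ha hb hc, h.sum _ (fun r d => ((r.getD i 0 * r.getD j 0 * r.getD k 0 : ℤ) : ℚ) / (d : ℤ))
    (fun χ e => by simp [e _ (List.mem_of_getElem? hi)]) (fun χ e he => ?_)]
  · simp [iv_triv]
  rw [getD_row hi, getD_row hj, getD_row hk]
  rcases Int.eq_one_or_neg_one_of_mul_eq_one he with rfl | rfl <;> simp [neg_div_neg_eq]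

theorem PatC.all (h : PatC cs R E) (P : List ℤ → ℤ → Prop)
    (h1 : ∀ χ ≠ irrOne G, P (cs.map (· χ)) (iv 1 χ) ∧ P (cs.map (- · χ)) (- iv 1 χ)) :
    List.Forall₂ P R E := by
  obtain ⟨l, k, rfl, rfl⟩ := h
  rw [List.forall₂_map_left_iff, List.forall₂_map_right_iff, List.forall₂_same]
  intro p hp
  have := h1 p.1 (Finset.ne_of_mem_erase (k.mem p hp))
  rcases Int.eq_one_or_neg_one_of_mul_eq_one (k.sg p hp) with e | e
  · simpa [row, e] using this.1
  · simpa [row, e] using this.2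

theorem PatC.sq (h : PatC cs R E) : 1 + (E.map fun d => d * d).sum ≤ Nat.card G := by
  obtain ⟨l, k, rfl, rfl⟩ := h
  rw [← sum_deg_sq, sum_np, iv_triv, mul_one, add_le_add_iff_left, List.map_map,
    show l.map _ = (l.map Prod.fst).map fun χ => iv 1 χ * iv 1 χ by
      rw [List.map_map]
      exact List.map_congr_left fun p hp => by
        simp only [Function.comp]; linear_combination iv 1 p.1 * iv 1 p.1 * k.sg p hp,
    ← List.sum_toFinset _ k.nd]
  refine Finset.sum_le_sum_of_subset_of_nonneg (fun χ hχ => ?_) fun _ _ _ => mul_self_nonneg _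
  obtain ⟨p, hp, rfl⟩ := List.mem_map.1 (List.mem_toFinset.1 hχ)
  exact k.mem p hp

/-- a non-real column in front of integral columns -/
theorem orth_rv {gs : List G} (h1 : ∀ g ∈ gs, IntAt g) (h2 : gs.Pairwise fun a b => ¬ IsConj a b) (h3 : g ^ 3 = 1)
    (h4 : ¬ IsConj g g⁻¹) (h5 : ∀ h ∈ gs, ¬ IsConj g h ∧ ¬ IsConj g⁻¹ h) :
    Orth Finset.univ (rv g :: gs.map iv) (2 * Nat.card (centralizer ({g} : Set G)) ::
      gs.map fun g => (Nat.card (centralizer ({g} : Set G)) : ℤ)) :=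
  ⟨rv_self h3 h4, List.forall_mem_map.2 fun d hd => rv_zero h3 (h1 d hd) (h5 d hd).1 (h5 d hd).2, orth_col h1 h2⟩

/-- a split extension of `K` by `V` inside `G` -/
structure Sd {K V : Type*} [Group K] [Group V] (act : V → K → K) (f : K →* G) (s : V →* G) (H : Subgroup G) :
    Prop where
  cj : ∀ x v, s x * f v * (s x)⁻¹ = f (act x v)
  mem : ∀ h, h ∈ H ↔ ∃ v x, h = f v * s x
  inj : ∀ v x, f v * s x = 1 → v = 1 ∧ x = 1

namespace Sd

variable {K V : Type*} [CommGroup K] [Group V] {act : V → K → K} {f : K →* G} {s : V →* G} {H : Subgroup G}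

theorem mul (h : Sd act f s H) (v w : K) (x y : V) : f v * s x * (f w * s y) = f (v * act x w) * s (x * y) := by
  rw [map_mul, map_mul, ← h.cj]; group

theorem eq_iff (h : Sd act f s H) {v w : K} {x y : V} : f v * s x = f w * s y ↔ v = w ∧ x = y := by
  refine ⟨fun e => ?_, by rintro ⟨rfl, rfl⟩; rfl⟩
  have := h.inj (w⁻¹ * v) (x * y⁻¹) (by
    rw [map_mul, map_mul, map_inv, map_inv, mul_assoc, ← mul_assoc (f v), e]; group)
  exact ⟨(inv_mul_eq_one.1 this.1).symm, mul_inv_eq_one.1 this.2⟩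

theorem finj (h : Sd act f s H) : Function.Injective f := fun v w e =>
  (h.eq_iff (x := 1) (y := 1)).1 (by rw [e]) |>.1

theorem pow (h : Sd act f s H) (v : K) (x : V) (n : ℕ) : ∃ w, (f v * s x) ^ n = f w * s (x ^ n) := by
  induction n with
  | zero => exact ⟨1, by simp⟩
  | succ n ih => obtain ⟨w, e⟩ := ih; exact ⟨_, by rw [pow_succ, e, h.mul, pow_succ]⟩

theorem pow_eq_one (h : Sd act f s H) {v : K} {x : V} {n : ℕ} (e : (f v * s x) ^ n = 1) : x ^ n = 1 := by
  obtain ⟨w, k⟩ := h.pow v x n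
  exact (h.inj _ _ (k ▸ e)).2

theorem isConj_iff (h : Sd act f s H) (hS : Sp f.range) (hN : normalizer (f.range : Set G) = H) (v w : K) :
    IsConj (f v) (f w) ↔ ∃ x, act x v = w := by
  refine ⟨fun e => ?_, fun ⟨x, e⟩ => _root_.isConj_iff.2 ⟨s x, e ▸ h.cj x v⟩⟩
  obtain ⟨n, k1, k2⟩ := hS.fus _ ⟨v, rfl⟩ _ ⟨w, rfl⟩ e
  obtain ⟨u, x, rfl⟩ := (h.mem n).1 (hN ▸ k1)
  refine ⟨x, h.finj ?_⟩
  rw [← k2, show f u * s x * f v * (f u * s x)⁻¹ = f u * (s x * f v * (s x)⁻¹) * (f u)⁻¹ by group, h.cj,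
    ← map_inv, ← map_mul, ← map_mul, mul_inv_cancel_comm]

theorem card_cent [Fintype K] [Fintype V] [DecidableEq K] [DecidableEq V] (h : Sd act f s H) (v : K) (x : V)
    (hc : centralizer ({f v * s x} : Set G) ≤ H) : Nat.card (centralizer ({f v * s x} : Set G)) =
      (Finset.univ.filter fun q : K × V => q.1 * act q.2 v = v * act x q.1 ∧ q.2 * x = x * q.2).card := by
  rw [← Nat.card_eq_finsetCard]
  refine (Nat.card_eq_of_bijective
    (fun q : (Finset.univ.filter fun q : K × V => q.1 * act q.2 v = v * act x q.1 ∧ q.2 * x = x * q.2) =>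
      (⟨f q.1.1 * s q.1.2, by
        rw [mem_centralizer_singleton_iff, h.mul, h.mul, h.eq_iff]; exact (Finset.mem_filter.1 q.2).2⟩ :
        centralizer ({f v * s x} : Set G)))
    ⟨fun p q e => Subtype.ext (Prod.ext_iff.2 (h.eq_iff.1 (congrArg Subtype.val e :))), fun ⟨g, hg⟩ => ?_⟩).symm
  obtain ⟨u, y, rfl⟩ := (h.mem g).1 (hc hg)
  exact ⟨⟨(u, y), by rwa [mem_centralizer_singleton_iff, h.mul, h.mul, h.eq_iff, ← Finset.mem_filter_univ
    (p := fun q : K × V => q.1 * act q.2 v = v * act x q.1 ∧ q.2 * x = x * q.2) (u, y)] at hg⟩, rfl⟩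

theorem card (h : Sd act f s H) : Nat.card H = Nat.card K * Nat.card V := by
  rw [← Nat.card_prod]
  exact (Nat.card_eq_of_bijective (fun q : K × V => (⟨f q.1 * s q.2, (h.mem _).2 ⟨_, _, rfl⟩⟩ : H))
    ⟨fun p q e => Prod.ext_iff.2 (h.eq_iff.1 (congrArg Subtype.val e :)), fun ⟨g, hg⟩ =>
      let ⟨u, y, e⟩ := (h.mem g).1 hg; ⟨(u, y), Subtype.ext e.symm⟩⟩).symm

theorem of_closure {S : Set G} (h1 : ∀ x v, s x * f v * (s x)⁻¹ = f (act x v))
    (h2 : ∀ v x, f v * s x = 1 → v = 1 ∧ x = 1) (h3 : ∀ g ∈ S, ∃ v x, g = f v * s x) (h4 : ∀ v, f v ∈ closure S)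
    (h5 : ∀ x, s x ∈ closure S) : Sd act f s (closure S) := by
  refine ⟨h1, fun g => ⟨fun hg => ?_, by rintro ⟨v, x, rfl⟩; exact mul_mem (h4 v) (h5 x)⟩, h2⟩
  induction hg using closure_induction with
  | mem g hg => exact h3 g hg
  | one => exact ⟨1, 1, by simp⟩
  | mul _ _ _ _ k1 k2 =>
    obtain ⟨v, x, rfl⟩ := k1
    obtain ⟨w, y, rfl⟩ := k2
    exact ⟨v * act x w, x * y, by rw [map_mul, map_mul, ← h1]; group⟩
  | inv _ _ k =>
    obtain ⟨v, x, rfl⟩ := k
    exact ⟨act x⁻¹ v⁻¹, x⁻¹, by rw [← h1, map_inv, map_inv]; group⟩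

theorem of_equiv {G' : Type*} [Group G'] {H' : Subgroup G'} (h : Sd act f s H) (e : H' ≃* H) :
    ∃ (f' : K →* G') (s' : V →* G'), Sd act f' s' H' := by
  have h1 : ∀ v, f v ∈ H := fun v => (h.mem _).2 ⟨v, 1, by simp⟩
  have h2 : ∀ x, s x ∈ H := fun x => (h.mem _).2 ⟨1, x, by simp⟩
  let F : H →* G' := H'.subtype.comp e.symm.toMonoidHom
  have h3 : Function.Injective F := Subtype.val_injective.comp e.symm.injective
  refine ⟨F.comp (f.codRestrict H h1), F.comp (s.codRestrict H h2), fun x v => ?_, fun g => ⟨fun hg => ?_, ?_⟩,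
    fun v x k => h.inj v x ?_⟩
  · simp only [MonoidHom.comp_apply, ← map_inv F, ← map_mul F]
    exact congrArg F (Subtype.ext (h.cj x v))
  · obtain ⟨v, x, k⟩ := (h.mem _).1 (e ⟨g, hg⟩).2
    refine ⟨v, x, ?_⟩
    simp only [MonoidHom.comp_apply, ← map_mul F]
    rw [show f.codRestrict H h1 v * s.codRestrict H h2 x = e ⟨g, hg⟩ from Subtype.ext k.symm]
    simp [F]
  · rintro ⟨v, x, rfl⟩
    exact mul_mem (e.symm _).2 (e.symm _).2
  · simp only [MonoidHom.comp_apply, ← map_mul F, map_eq_one_iff F h3] at k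
    exact congrArg Subtype.val k

theorem sp (h : Sd act f s H) (h3 : ∀ v : K, v ^ 3 = 1) (hV : ∀ (x : V) (n : ℕ), x ^ 3 ^ n = 1 → x = 1)
    (hN : normalizer (f.range : Set G) = H)
    (hC : ∀ t ∈ f.range, t ≠ 1 → centralizer ({t} : Set G) ≤ H) : Sp f.range := by
  have : Fact (Nat.Prime 3) := ⟨Nat.prime_three⟩
  have h4 : ∀ t ∈ f.range, t ^ 3 = 1 := by rintro _ ⟨v, rfl⟩; rw [← map_pow, h3, map_one]
  obtain ⟨P, hP⟩ := IsPGroup.exists_le_sylow (p := 3) (P := f.range) fun t => ⟨1, Subtype.ext (h4 t t.2)⟩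
  have h5 : f.range = P := by
    by_contra k
    have : Group.IsNilpotent P := P.2.isNilpotent
    obtain ⟨g, k1, k2⟩ := SetLike.exists_of_lt (Group.normalizerCondition_of_isNilpotent (f.range.subgroupOf P)
      (lt_top_iff_ne_top.2 fun e => k (le_antisymm hP (subgroupOf_eq_top.1 e))))
    rw [← subgroupOf_normalizer_eq hP, mem_subgroupOf, hN] at k1
    obtain ⟨v, x, e⟩ := (h.mem _).1 k1
    obtain ⟨n, hn⟩ := P.2 g
    refine k2 ⟨v, ?_⟩
    rw [coe_subtype, e, hV x n (h.pow_eq_one (v := v) (e ▸ congrArg Subtype.val hn)), map_one, mul_one]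
  have : IsMulCommutative P := h5 ▸ inferInstance
  exact h5 ▸ sp_of_sylow P (h5 ▸ h4) (h5 ▸ hN ▸ hC)

end Sd

end CA.H7Exc
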