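import Cfsg.Agent.Lib.Char.H7Exc3
import Cfsg.Agent.Lib.Block.H11Cy2
import Cfsg.Agent.Lib.Block.H13Prin
import Cfsg.Agent.Lib.Grp.Coprime2

/-!
Groups with a self-centralizing elementary abelian Sylow 3-subgroup of order nine whose normalizer
contains the centralizers of its elements: the four-group case.
-/

set_option autoImplicit false
set_option linter.unusedSectionVars false

namespace CA.H7Exc

open Subgroup Cfsg CChar.CharFun CChar.CharOrth CChar.CharInt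
abbrev K2 := Z3 × Z3
abbrev Z2 := Multiplicative (ZMod 2)

def lin (p q v : K2) : K2 := p ^ v.1.toAdd.val * q ^ v.2.toAdd.val

def C4 (α β : K2 → K2) (x y : K2) : Prop := α x = x ∧ α y = y⁻¹ ∧ β x = x⁻¹ ∧ β y = y

instance (α β : K2 → K2) (x y : K2) : Decidable (C4 α β x y) := by unfold C4; infer_instance

set_option synthInstance.maxSize 2000 in
theorem four_basis : ∀ p q, (∀ v, lin p q (lin p q v) = v) → (∃ v, lin p q v ≠ v) → ∀ p' q',
    (∀ v, lin p' q' (lin p' q' v) = v) → (∃ v, lin p' q' v ≠ v) → (∃ v, lin p' q' v ≠ lin p q v) →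
    (∀ v, lin p q (lin p' q' v) = lin p' q' (lin p q v)) → ∃ x ≠ 1, ∃ y, (y ≠ 1 ∧ y ≠ x ∧ y ≠ x⁻¹) ∧
      (C4 (lin p q) (lin p' q') x y ∨ C4 (lin p q) (fun v => lin p q (lin p' q' v)) x y ∨
      C4 (lin p' q') (fun v => lin p q (lin p' q' v)) x y) := by
  decide +kernel

set_option synthInstance.maxSize 2000 in
theorem d8_basis : ∀ p q, (∀ v, lin p q (lin p q (lin p q (lin p q v))) = v) → (∃ v, lin p q (lin p q v) ≠ v) →
    ∀ p' q', (∀ v, lin p' q' (lin p' q' v) = v) → (∀ v, lin p q (lin p' q' (lin p q v)) = lin p' q' v) →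
      ∃ x ≠ 1, (lin p q x ≠ 1 ∧ lin p q x ≠ x ∧ lin p q x ≠ x⁻¹) ∧ lin p q (lin p q x) = x⁻¹ ∧ lin p' q' x = x ∧
        lin p' q' (lin p q x) = (lin p q x)⁻¹ := by
  decide +kernel

open scoped Classical

variable {G : Type*} [Group G] [Finite G]

theorem Sp.ne_zero {T : Subgroup G} (h : Sp T) (hC : centralizer (T : Set G) ≤ T) {t u z : G} (ht : t ∈ T)
    (h1 : t ≠ 1) (hu : Commute t u) (h2 : u * u = 1) (hz : ¬ 3 ∣ (centralizer ({z} : Set G)).index)
    {χ : IrrCharacter G} (hχ : χ.1 (t * u) ≠ 0) : χ.1 z ≠ 0 := by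
  have : Fact (Nat.Prime 3) := ⟨Nat.prime_three⟩
  obtain ⟨M, hM⟩ := BlkVal.exists_isPModular Nat.prime_three
  have h3 : χ ∈ principalBlock M G := by
    by_contra k
    let N := normalizer (T : Set G)
    have := Fintype.ofFinite N
    have h4 : t * u ∈ N := mul_mem (le_normalizer ht) (h.cen t ht h1 (mem_centralizer_singleton_iff.2 hu.symm))
    have h5 := H13Prin.blockPart_res_of_not_mem hM N ⟨_, h4⟩ (by
      rw [H12PPart.pPart_mul_of Nat.prime_three hu ⟨1, orderOf_eq_prime (h.exp t ht) h1⟩ fun e =>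
        absurd (e.trans (orderOf_dvd_of_pow_eq_one (by rwa [pow_two] : u ^ 2 = 1))) (by norm_num)]
      exact h.cen t ht h1) k
    rw [H11Cy2.eq_univ (P := T.subgroupOf N) hM BlkCore.isPBlock_principalBlock
      (IsPGroup.comap_subtype (fun x => ⟨1, Subtype.ext (h.exp _ x.2)⟩ : IsPGroup 3 T)) fun x hx => hC fun y hy =>
        congrArg Subtype.val (hx ⟨y, le_normalizer hy⟩ hy)] at h5
    refine hχ (Eq.trans ?_ h5)
    rw [blockPart, finsum_mem_univ, finsum_eq_sum_of_fintype]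
    convert classFun_apply_eq_sum (char_classFun (char_restrict (char_of_irr χ.2) N)) ⟨_, h4⟩
  intro k
  have h4 := H13Prin.res_omega_of_mem hM h3 (BlkAlg.classSum_mem_Z z) (BlkRed.classSum_mem_OG z)
  rw [BlkOmega.omega_classSum (irr_classFun χ.2), BlkOmega.omega_classSum (irr_classFun (irrOne G).2)] at h4
  simp only [centralChar, k, irrOne_apply, mul_zero, zero_div, mul_one, div_one, BlkVal.res_zero, BlkVal.res_natCast] at h4
  exact hz ((BlkVal.natCast_k_eq_zero_iff hM _).1 h4.symm)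

theorem Pat.all' {gs : List G} {R : List (List ℤ)} {E : List ℤ} (h : Pat gs R E) (P : List ℤ → Prop)
    (h1 : ∀ χ ≠ irrOne G, P (col gs χ) ∧ P ((col gs χ).map (- ·))) : ∀ r ∈ R, P r := by
  have := h.all (fun r _ => P r) h1
  clear h
  induction this with
  | nil => simp
  | cons k _ ih => exact List.forall_mem_cons.2 ⟨k, ih⟩

theorem conj_lin {f : K2 →* G} {g : G} {p q : K2} (h1 : g * f (k2 1 0) * g⁻¹ = f p) (h2 : g * f (k2 0 1) * g⁻¹ = f q)
    (v : K2) : g * f v * g⁻¹ = f (lin p q v) := by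
  rw [lin, map_mul, map_pow, map_pow, ← h1, ← h2, conj_pow, conj_pow, conj_mul, ← map_pow, ← map_pow, ← map_mul]
  congr 3
  revert v; decide

theorem exists_lin {f : K2 →* G} {g : G} (hg : g ∈ normalizer (f.range : Set G)) :
    ∃ p q, ∀ v, g * f v * g⁻¹ = f (lin p q v) := by
  obtain ⟨p, hp⟩ := (mem_normalizer_iff.1 hg _).1 (⟨k2 1 0, rfl⟩ : f _ ∈ f.range)
  obtain ⟨q, hq⟩ := (mem_normalizer_iff.1 hg _).1 (⟨k2 0 1, rfl⟩ : f _ ∈ f.range)
  exact ⟨p, q, conj_lin hp.symm hq.symm⟩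

theorem sd_of {K V : Type*} [CommGroup K] [Group V] [Finite K] [Finite V] {act : V → K → K} {f : K →* G} {s : V →* G}
    (hf : Function.Injective f) (h1 : ∀ x v, s x * f v * (s x)⁻¹ = f (act x v))
    (h2 : ∀ x, (∀ v, act x v = v) → x = 1) (h3 : Nat.card (normalizer (f.range : Set G)) = Nat.card K * Nat.card V) :
    Sd act f s (normalizer (f.range : Set G)) := by
  have h := Sd.of_closure (S := f.range ∪ s.range) h1 (fun v x e => by
    have k : x = 1 := h2 x fun w => hf (by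
      rw [← h1, eq_inv_of_mul_eq_one_right e, ← map_inv, ← map_inv, ← map_mul, ← map_mul, mul_inv_cancel_comm])
    exact ⟨hf (by simpa [k] using e), k⟩)
    (by rintro _ (⟨v, rfl⟩ | ⟨x, rfl⟩); exacts [⟨v, 1, by simp⟩, ⟨1, x, by simp⟩])
    (fun v => Subgroup.subset_closure (Or.inl (⟨v, rfl⟩ : f v ∈ f.range))) fun x =>
      Subgroup.subset_closure (Or.inr (⟨x, rfl⟩ : s x ∈ s.range))
  rwa [eq_of_le_of_card_ge ((closure_le _).2 ?_) (h3.trans h.card.symm).le] at h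
  rintro _ (k | ⟨x, rfl⟩)
  · exact le_normalizer k
  · exact mem_normalizer_fintype (by rintro _ ⟨v, rfl⟩; exact ⟨_, (h1 x v).symm⟩)

def v2 (i j : ZMod 2) : Z2 × Z2 := (.ofAdd i, .ofAdd j)

def act4 (q : Z2 × Z2) (v : K2) : K2 := (if q.2 = 1 then v.1 else v.1⁻¹, if q.1 = 1 then v.2 else v.2⁻¹)

def rep4 (v : K2) : K2 := k2 (if v.1 = 1 then 0 else 1) (if v.2 = 1 then 0 else 1)

theorem eq_of {x y c : ℤ} (hx : x ≠ 0) (hy : y ≠ 0) (hc : c ≠ 0) (h1 : x + y = -c)
    (h2 : (x : ℚ)⁻¹ + (y : ℚ)⁻¹ = -4 * (c : ℚ)⁻¹) : x = y := by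
  have : (x : ℚ) ≠ 0 := by exact_mod_cast hx
  have : (y : ℚ) ≠ 0 := by exact_mod_cast hy
  have : (c : ℚ) ≠ 0 := by exact_mod_cast hc
  field_simp at h2
  have h3 : (y + x) * c = -(x * y * 4) := by exact_mod_cast h2
  exact sub_eq_zero.1 (pow_eq_zero_iff two_ne_zero |>.1 (by linear_combination (x + y - c) * h1 - h3 + c * h1))

namespace Sd

variable {V : Type*} [Group V] [Fintype V] [DecidableEq V] {act : V → K2 → K2} {f : K2 →* G} {s : V →* G}
  (h : Sd act f s (normalizer (f.range : Set G))) (hS : Sp f.range)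
include h hS

theorem ne_one {v : K2} (hv : v ≠ 1) : f v ≠ 1 := by simpa [map_eq_one_iff f h.finj] using hv

theorem intAt {v : K2} (e : ∃ x, act x v = v⁻¹) : IntAt (f v) :=
  intAt_of_real (by rw [show 6 = 3 * 2 from rfl, pow_mul, hS.exp _ ⟨v, rfl⟩, one_pow])
    (map_inv f v ▸ (h.isConj_iff hS rfl _ _).2 e)

theorem cc {v : K2} (hv : v ≠ 1) : Nat.card (centralizer ({f v} : Set G)) =
    (Finset.univ.filter fun q : K2 × V => q.1 * act q.2 v = v * act 1 q.1 ∧ q.2 * 1 = 1 * q.2).card := by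
  have := h.card_cent v 1 (by rw [map_one, mul_one]; exact hS.cen _ ⟨v, rfl⟩ (h.ne_one hS hv))
  rwa [map_one, mul_one] at this

theorem sq {v : K2} {x : V} (hx : x * x = 1) (e : act x v = v) : (f v * s x) ^ 2 = f (v * v) := by
  rw [pow_two, h.mul, e, hx, map_one, mul_one]

theorem comm {v : K2} {x : V} (e : act x v = v) : Commute (f v) (s x) :=
  (mul_inv_eq_iff_eq_mul.1 ((h.cj x v).trans (congrArg f e))).symm

theorem intAt' {v : K2} {x : V} (y : V) (e : x * x = 1 ∧ act x v = v ∧ act y v = v⁻¹ ∧ y * x = x * y) :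
    IntAt (f v * s x) :=
  intAt_of_real (by rw [show 6 = 2 * 3 from rfl, pow_mul, h.sq hS e.1 e.2.1, hS.exp _ ⟨_, rfl⟩]) (_root_.isConj_iff.2 ⟨s y, by
    rw [← conj_mul, h.cj, e.2.2.1, ← map_inv, ← map_mul, ← map_mul, e.2.2.2, mul_inv_cancel_right,
      (h.comm hS e.2.1).eq, mul_inv_rev, ← map_inv s, inv_eq_of_mul_eq_one_left e.1, map_inv]⟩)

theorem cc' {v : K2} {x : V} (e : v ≠ 1 ∧ x * x = 1 ∧ act x v = v) : Nat.card (centralizer ({f v * s x} : Set G)) =
    (Finset.univ.filter fun q : K2 × V => q.1 * act q.2 v = v * act x q.1 ∧ q.2 * x = x * q.2).card :=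
  h.card_cent v x (le_trans (fun g hg => mem_centralizer_singleton_iff.2 (h.sq hS e.2.1 e.2.2 ▸
    (Commute.pow_right (mem_centralizer_singleton_iff.1 hg) 2).eq))
    (hS.cen _ ⟨_, rfl⟩ (h.ne_one hS ((by decide : ∀ v : K2, v ≠ 1 → v * v ≠ 1) v e.1))))

theorem nc1 {v w : K2} {x : V} (hx : x ^ 3 ≠ 1) : ¬ IsConj (f v) (f w * s x) := fun e =>
  hx (h.pow_eq_one (pow_three_of_conj e (hS.exp _ ⟨_, rfl⟩)))

theorem nc2 {v w : K2} {x y : V} (e : x * x = 1 ∧ y * y = 1 ∧ act x v = v ∧ act y w = w ∧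
    ¬ ∃ z, act z (v * v) = w * w) : ¬ IsConj (f v * s x) (f w * s y) := fun k =>
  e.2.2.2.2 ((h.isConj_iff hS rfl _ _).1 (by rw [← h.sq hS e.1 e.2.2.1, ← h.sq hS e.2.1 e.2.2.2.1]; exact k.pow 2))

theorem cent_le (h2 : ∀ x, (∀ v, act x v = v) → x = 1) : centralizer (f.range : Set G) ≤ f.range := fun g hg => by
  obtain ⟨v, x, rfl⟩ := (h.mem g).1 (centralizer_le_normalizer _ hg)
  rw [h2 x fun w => h.finj ?_, map_one, mul_one]
  · exact ⟨v, rfl⟩
  have := hg _ ⟨w, rfl⟩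
  rw [← mul_one (f w), ← map_one s, h.mul, h.mul, h.eq_iff] at this
  have k := h.cj 1 v
  rw [map_one, one_mul, inv_one, mul_one] at k
  rw [← h.finj k, mul_comm] at this
  exact congrArg f (mul_left_cancel this.1).symm

theorem nz (h2 : ∀ x, (∀ v, act x v = v) → x = 1) (hV : ¬ 3 ∣ (normalizer (f.range : Set G)).index * Fintype.card V)
    {v : K2} (x : V) (e : v ≠ 1 ∧ x * x = 1 ∧ act x v = v) (w : K2) (hi : IntAt (f v * s x)) (hw : IntAt (f w))
    {χ : IrrCharacter G} (hχ : iv (f w) χ = 0) : iv (f v * s x) χ = 0 := by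
  by_contra k
  refine hS.ne_zero (h.cent_le hS h2) ⟨v, rfl⟩ (h.ne_one hS e.1) (h.comm hS e.2.2) (by rw [← map_mul, e.2.1, map_one])
    (z := f w) (fun k1 => hV (k1.trans ((index_dvd_of_le (H := f.range) ?_).trans (dvd_of_eq ?_)))) (χ := χ)
    (by rw [hi.eq]; exact_mod_cast k) (by rw [hw.eq, hχ, Int.cast_zero])
  · rintro _ ⟨u, rfl⟩
    rw [mem_centralizer_singleton_iff, ← map_mul, ← map_mul, mul_comm]
  · refine Nat.eq_of_mul_eq_mul_right (Nat.card_pos (α := f.range)) ?_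
    rw [index_mul_card, mul_assoc, mul_comm (Fintype.card V), ← Nat.card_congr (MonoidHom.ofInjective h.finj).toEquiv,
      ← Nat.card_eq_fintype_card, ← h.card, index_mul_card]

end Sd

theorem Sp.not_dvd {T : Subgroup G} (h : Sp T) (P : Sylow 3 G) (hP : (P : Subgroup G) = T) :
    ¬ 3 ∣ (normalizer (T : Set G)).index := fun k =>
  have : Fact (Nat.Prime 3) := ⟨Nat.prime_three⟩
  P.not_dvd_index (k.trans (hP ▸ index_dvd_of_le le_normalizer))

theorem main4 {f : K2 →* G} {s : Z2 × Z2 →* G} (h : Sd act4 f s (normalizer (f.range : Set G))) (hS : Sp f.range)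
    (hN : ¬ 3 ∣ (normalizer (f.range : Set G)).index) : Nat.card G = 36 := by
  have hρ := h.isConj_iff hS rfl
  have ix := h.intAt hS (v := k2 1 0) (by decide)
  have iy := h.intAt hS (v := k2 0 1) (by decide)
  have iz := h.intAt hS (v := k2 1 1) (by decide)
  have iu := h.intAt' hS (v := k2 1 0) (x := v2 1 0) (v2 0 1) (by decide)
  have iw := h.intAt' hS (v := k2 0 1) (x := v2 0 1) (v2 1 0) (by decide)
  have hg : ∀ g ∈ [f (k2 1 0), f (k2 0 1), f (k2 1 1), f (k2 1 0) * s (v2 1 0), f (k2 0 1) * s (v2 0 1)], IntAt g := by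
    simp only [List.forall_mem_cons, *]; simp
  have hd : ∀ v, (∃ x, act4 x v = v⁻¹) → ∀ χ, 3 ∣ iv 1 χ - iv (f v) χ := fun v e =>
    dvd_three (hS.exp _ ⟨v, rfl⟩) (map_inv f v ▸ (hρ _ _).2 e)
  have he : ∀ χ, (3 ∣ iv 1 χ - iv (f (k2 1 0)) χ ∧ 3 ∣ iv 1 χ - iv (f (k2 0 1)) χ ∧ 3 ∣ iv 1 χ - iv (f (k2 1 1)) χ) ∧
      2 ∣ iv (f (k2 1 0)) χ - iv (f (k2 1 0) * s (v2 1 0)) χ ∧ 2 ∣ iv (f (k2 0 1)) χ - iv (f (k2 0 1) * s (v2 0 1)) χ :=
    fun χ => ⟨⟨hd _ (by decide) χ, hd _ (by decide) χ, hd _ (by decide) χ⟩,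
      dvd_two (by rw [← map_mul]; exact map_one s) (h.comm hS (by decide)) ix iu χ,
      dvd_two (by rw [← map_mul]; exact map_one s) (h.comm hS (by decide)) iy iw χ⟩
  obtain ⟨R, hR, E, hP⟩ := exists_pat hg (by
      simp only [List.pairwise_cons, List.forall_mem_cons, hρ, List.not_mem_nil, false_imp_iff, implies_true,
        List.Pairwise.nil, and_true]
      and_intros <;> first | decide | exact h.nc1 hS (by decide) | exact h.nc2 hS (by decide))
    (ns := [18, 18, 9, 6, 6]) (by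
      simp only [List.map_cons, List.map_nil]
      rw [h.cc hS (by decide), h.cc hS (by decide), h.cc hS (by decide), h.cc' hS (by decide), h.cc' hS (by decide)]
      decide) (k := 6) (by norm_num)
    [[0, -2, 2, 0, 0], [0, 1, 2, 0, -3], [0, 1, 2, 0, 3], [1, 0, 2, -3, 0], [1, 0, 2, 3, 0]]
    [[-2, -2, -2, 3, 3], [-2, 1, 1, 0, 0], [1, 1, 1, 0, 0], [0, 0, 0, -1, 1], [0, -1, 1, 0, 0]]
    (fun χ => by have := he χ; simp [col]; omega) (fun χ => by have := he χ; simp [col]; omega)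
  have hz := fun (v : K2) x e => h.nz hS (by decide) (by
    rw [show Fintype.card (Z2 × Z2) = 4 from rfl]; omega) (v := v) x e (k2 1 1)
  obtain rfl : R = [[-2, 1, 1, 0, 1], [1, 1, 1, -1, 1], [-2, 1, 1, 0, -1], [1, 1, 1, 1, -1], [1, 1, 1, -1, -1],
      [-2, -2, 1, 0, 0], [1, -2, 1, 1, 0], [1, -2, 1, -1, 0]] := by
    have := hP.all' (fun r => r.getD 2 0 = 0 → r.getD 3 0 = 0 ∧ r.getD 4 0 = 0) fun χ _ => by
      have k1 := hz _ _ (by decide) iu iz (χ := χ)
      have k2 := hz _ _ (by decide) iw iz (χ := χ)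
      simp [col]; tauto
    clear hP; revert R; decide +kernel
  have k0 := hP.all (fun r d => d ≠ 0) fun χ hχ => by have := iv_one_pos χ; omega
  obtain ⟨b2, l2, b2', l3, l1, c, b1, b1', rfl⟩ : ∃ b2 l2 b2' l3 l1 c b1 b1', E = [b2, l2, b2', l3, l1, c, b1, b1'] := by
    match E, hP.len with | [_, _, _, _, _, _, _, _], _ => exact ⟨_, _, _, _, _, _, _, _, rfl⟩
  have m0 := hP.lin 0 rfl ix (h.ne_one hS (by decide))
  have m1 := hP.lin 1 rfl iy (h.ne_one hS (by decide))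
  have m2 := hP.lin 2 rfl iz (h.ne_one hS (by decide))
  have m3 := hP.lin 3 rfl iu fun e => absurd (h.inj _ _ e).2 (by decide)
  have m4 := hP.lin 4 rfl iw fun e => absurd (h.inj _ _ e).2 (by decide)
  have q1 := hP.cub 0 0 1 rfl rfl rfl hg
  have q2 := hP.cub 1 1 0 rfl rfl rfl hg
  have q3 := hP.cub 0 0 2 rfl rfl rfl hg
  have q4 := hP.cub 0 1 2 rfl rfl rfl hg
  rw [hS.cnt h.finj hρ (by decide) (by decide), show Finset.card _ = 0 by decide] at q1 q2 q3
  rw [hS.cnt h.finj hρ (by decide) (by decide), show Finset.card _ = 1 by decide, h.cc hS (by decide),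
    h.cc hS (by decide), show Finset.card _ = 18 by decide, show Finset.card _ = 18 by decide] at q4
  clear * - k0 m0 m1 m2 m3 m4 q1 q2 q3 q4
  simp [Nat.card_pos.ne', div_eq_mul_inv] at k0 m0 m1 m2 m3 m4 q1 q2 q3 q4
  obtain ⟨z1, z2, z3, z4, z5, z6, z7, z8⟩ := k0
  obtain rfl := eq_of z7 z8 z6 (by omega) (by linarith)
  obtain rfl := eq_of z1 z3 z6 (by omega) (by linarith)
  obtain rfl : l1 = 1 := by omega
  obtain rfl : l2 = l3 := by omega
  obtain rfl : b1 = -1 - l2 := by omega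
  obtain rfl : b2 = -1 - l2 := by omega
  obtain rfl : c = -2 * (-1 - l2) := by omega
  have z9 := eq_of (c := -1 - l2) one_ne_zero z2 z1 (by ring) (by push_cast at *; rw [mul_inv] at *; linarith)
  subst z9
  norm_num at q4
  exact_mod_cast (by linarith : (Nat.card G : ℚ) = 36)

theorem cj_all {V : Type*} [Group V] {act : V → K2 → K2} {f : K2 →* G} {s : V →* G} (a b : V)
    (h0 : ∀ v, act 1 v = v) (h1 : ∀ x y v, act (x * y) v = act x (act y v))
    (h2 : ∀ x, ∃ i < 4, ∃ j < 2, x = a ^ i * b ^ j) (ha : ∀ v, s a * f v * (s a)⁻¹ = f (act a v))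
    (hb : ∀ v, s b * f v * (s b)⁻¹ = f (act b v)) (x : V) : ∀ v, s x * f v * (s x)⁻¹ = f (act x v) := by
  have k1 : ∀ x y, (∀ v, s x * f v * (s x)⁻¹ = f (act x v)) → (∀ v, s y * f v * (s y)⁻¹ = f (act y v)) →
      ∀ v, s (x * y) * f v * (s (x * y))⁻¹ = f (act (x * y) v) := fun x y e1 e2 v => by
    rw [h1, ← e1, ← e2, map_mul]; group
  have k2 : ∀ x, (∀ v, s x * f v * (s x)⁻¹ = f (act x v)) → ∀ n : ℕ,
      ∀ v, s (x ^ n) * f v * (s (x ^ n))⁻¹ = f (act (x ^ n) v) := fun x e n => by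
    induction n with
    | zero => simp [h0]
    | succ n ih => exact pow_succ x n ▸ k1 _ _ ih e
  obtain ⟨i, -, j, -, rfl⟩ := h2 x
  exact k1 _ _ (k2 _ ha i) (k2 _ hb j)

/-- the standing hypotheses -/
structure Hy (P : Sylow 3 G) : Prop where
  card : Nat.card (P : Subgroup G) = 9
  exp : ∀ t ∈ (P : Subgroup G), t ^ 3 = 1
  cen : ∀ t ∈ (P : Subgroup G), t ≠ 1 → centralizer ({t} : Set G) ≤ normalizer ((P : Subgroup G) : Set G)

namespace Hy

variable {P : Sylow 3 G} (h : Hy P)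
include h

theorem comm : IsMulCommutative (P : Subgroup G) :=
  have : Fact (Nat.Prime 3) := ⟨Nat.prime_three⟩
  IsPGroup.isMulCommutative_of_card_eq_prime_sq (p := 3) h.card

theorem sp : Sp (P : Subgroup G) := have := h.comm; sp_of_sylow P h.exp h.cen

theorem hom {x y : G} (hx : x ∈ (P : Subgroup G)) (hy : y ∈ (P : Subgroup G)) (h1 : x ≠ 1) (h2 : y ≠ 1 ∧ y ≠ x ∧ y ≠ x⁻¹) :
    ∃ f : K2 →* G, Function.Injective f ∧ f.range = P ∧ f (k2 1 0) = x ∧ f (k2 0 1) = y :=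
  have := h.comm; exists_hom2 h.card h.exp hx hy h1 h2

theorem hom' : ∃ f : K2 →* G, Function.Injective f ∧ f.range = P := by
  have k : ∀ S : Set G, S.ncard ≤ 3 → ∃ y ∈ (P : Subgroup G), y ∉ S := fun S hS =>
    Set.exists_mem_notMem_of_ncard_lt_ncard (hS.trans_lt (by
      rw [← Nat.card_coe_set_eq]; exact h.card.symm ▸ by norm_num))
  obtain ⟨x, hx, h1⟩ := k {1} (by simp)
  obtain ⟨y, hy, h2⟩ := k {1, x, x⁻¹} ((Set.ncard_insert_le _ _).trans (Nat.succ_le_succ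
    ((Set.ncard_insert_le _ _).trans (by simp))))
  obtain ⟨f, k1, k2, -⟩ := h.hom hx hy h1 (by simpa [not_or] using h2)
  exact ⟨f, k1, k2⟩

theorem four {x y a b : G} (hx : x ∈ (P : Subgroup G)) (hy : y ∈ (P : Subgroup G)) (h1 : x ≠ 1)
    (h2 : y ≠ 1 ∧ y ≠ x ∧ y ≠ x⁻¹) (ha : a ^ 2 = 1) (hb : b ^ 2 = 1) (hab : Commute a b) (e1 : a * x * a⁻¹ = x)
    (e2 : a * y * a⁻¹ = y⁻¹) (e3 : b * x * b⁻¹ = x⁻¹) (e4 : b * y * b⁻¹ = y)
    (hN : Nat.card (normalizer ((P : Subgroup G) : Set G)) = 36) : normalizer ((P : Subgroup G) : Set G) = ⊤ := by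
  obtain ⟨f, hf, k, rfl, rfl⟩ := h.hom hx hy h1 h2
  let s := (hn 2 ha).noncommCoprod (hn 2 hb) (commute_hn _ _ hab)
  have k1 : s (v2 1 0) = a := show a ^ 1 * b ^ 0 = a by simp
  have k2 : s (v2 0 1) = b := show a ^ 0 * b ^ 1 = b by simp
  have k3 := sd_of (act := act4) (s := s) hf (cj_all (v2 1 0) (v2 0 1) (by decide) (by decide) (by decide)
    (fun v => by rw [k1, conj_lin e1 (e2.trans (map_inv f _).symm)]; congr 1; revert v; decide)
    (fun v => by rw [k2, conj_lin (e3.trans (map_inv f _).symm) e4]; congr 1; revert v; decide)) (by decide)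
    (by rw [k, hN]; simp)
  exact eq_top_of_card_eq _ (hN.trans (main4 k3 (k ▸ h.sp) (k ▸ h.sp.not_dvd P rfl)).symm)

theorem eq_bot (hC : centralizer ((P : Subgroup G) : Set G) ≤ P) {M : Subgroup G} [M.Normal]
    (hM : ¬ 3 ∣ Nat.card M) : M = ⊥ := by
  obtain ⟨f, hf, k⟩ := h.hom'
  have h1 := Coprime2.le_of_forall_centralizer_singleton (K := M) (L := normalizer ((P : Subgroup G) : Set G)) h.comm
    (fun e => by
      rw [← k, ← (MonoidHom.ofInjective hf).isCyclic] at e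
      obtain ⟨g, hg⟩ := e.exists_ofOrder_eq_natCard
      have := orderOf_dvd_of_pow_eq_one ((by decide : ∀ g : K2, g ^ 3 = 1) g)
      simp [hg] at this)
    le_normalizer_of_normal (by
      rw [h.card]; exact Nat.Coprime.pow_left 2 ((Nat.Prime.coprime_iff_not_dvd Nat.prime_three).2 hM))
    fun a ha e => inf_le_right.trans (h.cen a ha e)
  have h2 : ∀ g ∈ M, g ∈ (P : Subgroup G) → g = 1 := fun g k1 k2 => by
    by_contra e
    exact hM (orderOf_eq_prime (p := 3) (h.exp g k2) e ▸ M.orderOf_dvd_natCard k1)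
  refine eq_bot_iff.2 fun g hg => h2 g hg (hC fun t ht => ?_)
  have := h2 (t⁻¹ * g * t * g⁻¹) (mul_mem (by simpa using ‹M.Normal›.conj_mem g hg t⁻¹) (inv_mem hg))
    (by rw [mul_assoc, mul_assoc, ← mul_assoc g]; exact mul_mem (inv_mem ht) ((mem_normalizer_iff.1 (h1 hg) t).1 ht))
  rwa [mul_inv_eq_one, mul_assoc, inv_mul_eq_iff_eq_mul, eq_comm] at this

end Hy

theorem Hy.four' {P : Sylow 3 G} (h : Hy P) (hC : centralizer ((P : Subgroup G) : Set G) ≤ P) {a b : G}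
    (ha : a ∈ normalizer ((P : Subgroup G) : Set G)) (hb : b ∈ normalizer ((P : Subgroup G) : Set G))
    (ha2 : a ^ 2 = 1) (hb2 : b ^ 2 = 1) (hab : Commute a b) (h1 : a ≠ 1) (h2 : b ≠ 1) (h3 : a ≠ b)
    (hN : Nat.card (normalizer ((P : Subgroup G) : Set G)) = 36) : normalizer ((P : Subgroup G) : Set G) = ⊤ := by
  obtain ⟨f, hf, k⟩ := h.hom'
  obtain ⟨p, q, e⟩ := exists_lin (f := f) (k ▸ ha)
  obtain ⟨p', q', e'⟩ := exists_lin (f := f) (k ▸ hb)
  have k0 : ∀ v, f v ∈ (P : Subgroup G) := fun v => k ▸ ⟨v, rfl⟩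
  have k1 : ∀ g : G, g ^ 2 = 1 → (∀ v, g * f v * g⁻¹ = f v) → g = 1 := fun g e1 e2 => by
    have := h.exp g (hC fun t ht => by
      obtain ⟨v, rfl⟩ := k.ge ht
      exact (mul_inv_eq_iff_eq_mul.1 (e2 v)).symm)
    rwa [pow_succ, e1, one_mul] at this
  have k2 : ∀ g : G, g ^ 2 = 1 → ∀ t, g * (g * t * g⁻¹) * g⁻¹ = t := fun g e t => by
    rw [show g * (g * t * g⁻¹) * g⁻¹ = g ^ 2 * t * (g ^ 2)⁻¹ by rw [pow_two]; group, e]; simp
  have k3 : (a * b) ^ 2 = 1 := by rw [hab.mul_pow, ha2, hb2, mul_one]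
  have k4 : ∀ v, a * b * f v * (a * b)⁻¹ = f (lin p q (lin p' q' v)) := fun v => by rw [← e, ← e']; group
  obtain ⟨x, x1, y, y1, k5⟩ := four_basis p q (fun v => hf (by rw [← e, ← e, k2 a ha2]))
    (not_forall.1 fun k => h1 (k1 a ha2 fun v => by rw [e, k])) p' q' (fun v => hf (by rw [← e', ← e', k2 b hb2]))
    (not_forall.1 fun k => h2 (k1 b hb2 fun v => by rw [e', k]))
    (not_forall.1 fun k => h3 ((eq_inv_of_mul_eq_one_left (k1 _ k3 fun v => by rw [k4, k, ← e, ← e, k2 a ha2])).trans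
      (inv_eq_of_mul_eq_one_left (pow_two b ▸ hb2))))
    fun v => hf (by rw [← k4, hab.eq, ← e', ← e]; group)
  have x2 : f x ≠ 1 := by simpa [map_eq_one_iff f hf] using x1
  have y2 : f y ≠ 1 ∧ f y ≠ f x ∧ f y ≠ (f x)⁻¹ := by
    simpa only [← map_inv, Ne, hf.eq_iff, map_eq_one_iff f hf] using y1
  rcases k5 with k | k | k
  · exact h.four (k0 x) (k0 y) x2 y2 ha2 hb2 hab (by rw [e, k.1]) (by rw [e, k.2.1, map_inv])
      (by rw [e', k.2.2.1, map_inv]) (by rw [e', k.2.2.2]) hN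
  · exact h.four (k0 x) (k0 y) x2 y2 ha2 k3 ((Commute.refl a).mul_right hab) (by rw [e, k.1]) (by rw [e, k.2.1, map_inv])
      ((k4 x).trans ((congrArg f k.2.2.1).trans (map_inv f x))) ((k4 y).trans (congrArg f k.2.2.2)) hN
  · exact h.four (k0 x) (k0 y) x2 y2 hb2 k3 (hab.symm.mul_right (Commute.refl b)) (by rw [e', k.1])
      (by rw [e', k.2.1, map_inv]) ((k4 x).trans ((congrArg f k.2.2.1).trans (map_inv f x))) ((k4 y).trans (congrArg f k.2.2.2)) hN

/-- a complement to the Sylow subgroup in its normalizer -/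
theorem exists_sec (P : Sylow 3 G) {V : Type*} [Group V]
    (e : normalizer ((P : Subgroup G) : Set G) ⧸ (P : Subgroup G).subgroupOf (normalizer ((P : Subgroup G) : Set G)) ≃* V) :
    ∃ s : V →* G, Function.Injective s ∧ (∀ x, s x ∈ normalizer ((P : Subgroup G) : Set G)) ∧
      Nat.card (normalizer ((P : Subgroup G) : Set G)) = Nat.card (P : Subgroup G) * Nat.card V := by
  have : Fact (Nat.Prime 3) := ⟨Nat.prime_three⟩
  have h1 := Nat.card_congr (subgroupOfEquivOfLe (le_normalizer (H := (P : Subgroup G)))).toEquiv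
  obtain ⟨K, hK⟩ := exists_right_complement'_of_coprime (N := (P : Subgroup G).subgroupOf (normalizer ((P : Subgroup G) : Set G)))
    (P.subtype le_normalizer).card_coprime_index
  refine ⟨(normalizer _).subtype.comp (K.subtype.comp (hK.symm.QuotientMulEquiv.toMonoidHom.comp e.symm.toMonoidHom)),
    Subtype.val_injective.comp (Subtype.val_injective.comp (hK.symm.QuotientMulEquiv.injective.comp e.symm.injective)),
    fun x => Subtype.prop _, ?_⟩
  rw [← h1, ← Nat.card_congr e.toEquiv, mul_comm, ← card_eq_card_quotient_mul_card_subgroup]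

end CA.H7Exc
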