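import Cfsg.Agent.Lib.Char.H7Exc4
import Cfsg.Agent.Lib.Block.BlkGal
import Cfsg.Agent.S0496

/-!
The dihedral case: a Sylow 3-subgroup of order nine with automizer dihedral of order eight.
-/

set_option autoImplicit false
set_option linter.unusedSectionVars false

namespace CA.H7Exc

open Subgroup Cfsg CChar.CharFun CChar.CharOrth CChar.CharInt CChar.CharKer

def fQ (a p : ℤ) : ℚ := 1 + 2 * (1 / (a : ℚ)) + 8 * (1 / (p : ℚ)) + 2 * (1 / ((1 + a + p : ℤ) : ℚ))

def sQ (a p c : ℤ) : ℚ := fQ a p + 1 / (c : ℚ) + 2 * (1 / ((a + c + p : ℤ) : ℚ))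

def okc (a p c : ℤ) : Prop :=
  sQ a p c ≤ 0 ∨ 648 < sQ a p c * (1 + 2 * (a * a) + p * p + 2 * ((1 + a + p) * (1 + a + p)) + c * c +
    2 * ((a + c + p) * (a + c + p)) : ℤ) ∨ c = 1 ∨ (648 / sQ a p c).den ≠ 1 ∨
    sQ a p c < 9 * (1 / ((1 + a + p : ℤ) : ℚ) + 1 / ((a + c + p : ℤ) : ℚ)) ∨
    (a, c, p) ∈ [(-8, 28, -25), (10, -8, -16), (10, 10, -16)]

instance (a p c : ℤ) : Decidable (okc a p c) := by unfold okc; infer_instance

def okp (a p : ℤ) : Prop :=
  648 < (fQ a p - 21 / 40) * (1 + 2 * (a * a) + p * p + 2 * ((1 + a + p) * (1 + a + p)) : ℤ) ∨ a = 1 ∨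
    ((fQ a p ≤ -1 / 20 ∨ 1 / 20 ≤ fQ a p) ∧ ∀ k ∈ List.range 28, okc a p (9 * (k : ℕ) - 125) ∧
      okc a p (9 * (k : ℕ) - 122 - a - p)) ∨
    ((fQ a p ≤ -1 / 200 ∨ 1 / 200 ≤ fQ a p) ∧ -420 ≤ a + p ∧ a + p ≤ 420 ∧
      ∀ k ∈ List.range 378, okc a p (9 * (k : ℕ) - 1700))

instance (a p : ℤ) : Decidable (okp a p) := by unfold okp; infer_instance

theorem okp_all : ∀ i ∈ List.range 90, ∀ j ∈ List.range 90, okp (9 * (i : ℕ) - 404) (9 * (j : ℕ) - 403) := by
  decide +kernel

theorem inv_le {a : ℤ} {n : ℕ} (hn : 0 < n) (h : a < 0 ∨ n ≤ a) : 1 / (a : ℚ) ≤ 1 / (n : ℚ) := by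
  have := le_inv (a := -a) hn (by omega)
  rw [Int.cast_neg, div_neg, neg_div] at this
  linarith

theorem num8 {a p c : ℤ} {n : ℕ} (ha : a % 9 = 1) (hc : c % 9 = 1) (hp : p % 9 = 2) (ha1 : a ≠ 1) (hc1 : c ≠ 1)
    (h1 : n * sQ a p c = 648) (h2 : 9 * (1 / ((1 + a + p : ℤ) : ℚ) + 1 / ((a + c + p : ℤ) : ℚ)) ≤ sQ a p c)
    (h3 : 1 + 2 * (a * a) + p * p + 2 * ((1 + a + p) * (1 + a + p)) + c * c + 2 * ((a + c + p) * (a + c + p)) ≤ n) :
    (a, c, p) ∈ [(-8, 28, -25), (10, -8, -16), (10, 10, -16)] := by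
  have n0 : (0 : ℚ) ≤ n := Nat.cast_nonneg n
  have s0 : 0 < sQ a p c := by by_contra k; nlinarith
  have key : ∀ (m : ℕ) (q : ℚ), m ≤ n → q ≤ sQ a p c → 648 < m * q → False := fun m q k1 k2 k3 => by
    have : (m : ℚ) ≤ n := by exact_mod_cast k1
    have : (0 : ℚ) ≤ m := Nat.cast_nonneg m
    nlinarith
  have z1 := mul_self_nonneg a
  have z2 := mul_self_nonneg p
  have z3 := mul_self_nonneg c
  have z4 := mul_self_nonneg (1 + a + p)
  have z5 := mul_self_nonneg (a + c + p)
  have sq : ∀ (x : ℤ) (m : ℕ), x ≤ -m ∨ m ≤ x → x * x ≤ n → m * m ≤ n := fun x m k1 k2 => by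
    have : (0 : ℤ) ≤ m := Nat.cast_nonneg m
    exact_mod_cast (by rcases k1 with k | k <;> nlinarith : (m : ℤ) * m ≤ n)
  have e1 := le_inv (a := a) (n := 8) (by norm_num) (by omega)
  have e2 := le_inv (a := c) (n := 8) (by norm_num) (by omega)
  have e3 := le_inv (a := 1 + a + p) (n := 5) (by norm_num) (by omega)
  have e4 := le_inv (a := a + c + p) (n := 5) (by norm_num) (by omega)
  have b1 : -400 ≤ p ∧ p ≤ 400 := by
    by_contra k
    have e5 := le_inv (a := p) (n := 400) (by norm_num) (by omega)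
    refine key _ (1 / 40) (sq p 400 (by omega) (by omega)) ?_ (by norm_num)
    by_cases k1 : 1 + a + p ≤ -200 ∨ 200 ≤ 1 + a + p
    · have := le_inv (a := 1 + a + p) (n := 200) (by norm_num) (by omega)
      simp only [sQ, fQ, Nat.cast_ofNat] at *; linarith
    · have := le_inv (a := a) (n := 190) (by norm_num) (by omega)
      simp only [sQ, fQ, Nat.cast_ofNat] at *; linarith
  have b2 : -400 ≤ a ∧ a ≤ 400 := by
    by_contra k
    have e5 := le_inv (a := a) (n := 400) (by norm_num) (by omega)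
    refine key _ (1 / 40) (sq a 400 (by omega) (by omega)) ?_ (by norm_num)
    by_cases k1 : 1 + a + p ≤ -200 ∨ 200 ≤ 1 + a + p
    · have := le_inv (a := 1 + a + p) (n := 200) (by norm_num) (by omega)
      by_cases k2 : p = -7
      · have := inv_le (a := a) (n := 400) (by norm_num) (by omega)
        have := inv_le (a := c) (n := 10) (by norm_num) (by omega)
        have : 1 / (p : ℚ) = -1 / 7 := by rw [k2]; norm_num
        simp only [sQ, fQ, Nat.cast_ofNat] at *; linarith
      have := le_inv (a := p) (n := 16) (by norm_num) (by omega)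
      by_cases k3 : c ≤ -99 ∨ 99 ≤ c
      · have := le_inv (a := c) (n := 99) (by norm_num) (by omega)
        simp only [sQ, fQ, Nat.cast_ofNat] at *; linarith
      · have := le_inv (a := a + c + p) (n := 99) (by norm_num) (by omega)
        simp only [sQ, fQ, Nat.cast_ofNat] at *; linarith
    · have := le_inv (a := p) (n := 190) (by norm_num) (by omega)
      simp only [sQ, fQ, Nat.cast_ofNat] at *; linarith
  have k := okp_all ((a + 404) / 9).toNat (List.mem_range.2 (by omega)) ((p + 403) / 9).toNat (List.mem_range.2 (by omega))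
  rw [show 9 * (((a + 404) / 9).toNat : ℤ) - 404 = a by omega, show 9 * (((p + 403) / 9).toNat : ℤ) - 403 = p by omega] at k
  suffices k : okc a p c by
    rcases k with k | k | k | k | k | k
    · linarith
    · have : ((1 + 2 * (a * a) + p * p + 2 * ((1 + a + p) * (1 + a + p)) + c * c + 2 * ((a + c + p) * (a + c + p)) : ℤ) : ℚ)
        ≤ n := by exact_mod_cast h3
      nlinarith
    · exact absurd k hc1
    · exact absurd (by rw [← h1, mul_div_cancel_right₀ _ s0.ne', Rat.den_natCast]) k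
    · linarith
    · exact k
  rcases k with k | k | ⟨k1, k⟩ | ⟨k1, k2, k3, k⟩
  · refine (key (1 + 2 * (a * a) + p * p + 2 * ((1 + a + p) * (1 + a + p))).toNat (fQ a p - 21 / 40) (by omega)
      (by simp only [sQ, Nat.cast_ofNat] at *; linarith) ?_).elim
    rwa [← Int.cast_natCast, Int.toNat_of_nonneg (by omega), mul_comm]
  · exact absurd k ha1
  · by_cases b3 : -125 ≤ c ∧ c ≤ 120
    · have k := (k ((c + 125) / 9).toNat (List.mem_range.2 (by omega))).1
      rwa [show 9 * (((c + 125) / 9).toNat : ℤ) - 125 = c by omega] at k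
    by_cases b4 : -122 ≤ a + c + p ∧ a + c + p ≤ 121
    · have k := (k ((a + c + p + 122) / 9).toNat (List.mem_range.2 (by omega))).2
      rwa [show 9 * (((a + c + p + 122) / 9).toNat : ℤ) - 122 - a - p = c by omega] at k
    have := le_inv (a := c) (n := 120) (by norm_num) (by omega)
    have := le_inv (a := a + c + p) (n := 120) (by norm_num) (by omega)
    have := inv_le (a := c) (n := 120) (by norm_num) (by omega)
    have := inv_le (a := a + c + p) (n := 120) (by norm_num) (by omega)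
    have k2 : 120 * 120 ≤ c * c := by rcases (by omega : c ≤ -120 ∨ 120 ≤ c) with k | k <;> nlinarith
    have k3 : 120 * 120 ≤ (a + c + p) * (a + c + p) := by
      rcases (by omega : a + c + p ≤ -120 ∨ 120 ≤ a + c + p) with k | k <;> nlinarith
    refine (key 43200 (1 / 40) (by omega) ?_ (by norm_num)).elim
    simp only [sQ, Nat.cast_ofNat] at *
    rcases k1 with k1 | k1 <;> linarith
  by_cases b3 : c ≤ -1701 ∨ 1701 ≤ c
  · have := le_inv (a := c) (n := 1700) (by norm_num) (by omega)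
    have := le_inv (a := a + c + p) (n := 1280) (by norm_num) (by omega)
    have := inv_le (a := c) (n := 1700) (by norm_num) (by omega)
    have := inv_le (a := a + c + p) (n := 1280) (by norm_num) (by omega)
    refine (key _ (1 / 400) (sq c 1700 (by omega) (by omega)) ?_ (by norm_num)).elim
    simp only [sQ, Nat.cast_ofNat] at *
    rcases k1 with k1 | k1 <;> linarith
  have k := k ((c + 1700) / 9).toNat (List.mem_range.2 (by omega))
  rwa [show 9 * (((c + 1700) / 9).toNat : ℤ) - 1700 = c by omega] at k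

end CA.H7Exc
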