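import Cfsg.Agent.Lib.Char.H7Exc5
import Cfsg.Agent.Lib.Grp.H13Hom
import Cfsg.Agent.Lib.Perm.AutAn
import Cfsg.Agent.S3341

/-!
The dihedral case, group theoretic part.
-/

set_option autoImplicit false
set_option linter.unusedSectionVars false

namespace CA.H7Exc

open Subgroup Cfsg CChar.CharFun CChar.CharOrth CChar.CharInt CChar.CharKer DihedralGroup

abbrev D8 := DihedralGroup 4
abbrev Z4 := Multiplicative (ZMod 4)

def rot (v : K2) : K2 := (v.2⁻¹, v.1)

def act8 : D8 → K2 → K2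
  | r i, v => rot^[i.val] v
  | sr i, v => ((rot^[i.val] v).1, (rot^[i.val] v).2⁻¹)

def actr (x : Z4) (v : K2) : K2 := rot^[x.toAdd.val] v

def act2 (x : Z2) (v : K2) : K2 := if x = 1 then v else v⁻¹

open scoped Classical

variable {G : Type*} [Group G] [Finite G]

theorem five [IsSimpleGroup G] {gs : List G} {R : List (List ℤ)} {E : List ℤ} (h : Pat gs R E) {x : G}
    (hx : gs[0]? = some x) (h3 : x ^ 3 = 1) (hr : IsConj x x⁻¹) (h17 : Nat.Coprime 17 (Nat.card G))
    (h7 : 7 ∣ Nat.card G)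
    (hE : (List.zipWith (fun r d => if r.getD 0 0 * d = 10 ∧ d * d = 25 then 1 else 0) R E).sum = 1) : False := by
  have h1 := h.sum (fun χ => if iv x χ * iv 1 χ = 10 ∧ iv 1 χ * iv 1 χ = 25 then 1 else 0)
    (fun r d => if r.getD 0 0 * d = 10 ∧ d * d = 25 then 1 else 0)
    (fun χ e => by simp [e x (List.mem_of_getElem? hx)]) fun χ e he => by
      rw [getD_col hx, mul_mul_mul_comm e _ e, mul_mul_mul_comm e (iv 1 χ) e, he, one_mul, one_mul]
  rw [hE, iv_triv, iv_triv, if_neg (by norm_num), ← Finset.card_filter] at h1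
  obtain ⟨χ, hχ⟩ := Finset.card_eq_one.1 h1
  have h2 := (Finset.mem_filter.1 (hχ.ge (Finset.mem_singleton_self χ))).2
  have h4 : BlkGal.pw h17 χ = χ := Finset.mem_singleton.1 (hχ.le (Finset.mem_filter.2 ⟨Finset.mem_univ _, by
    have e1 : iv 1 (BlkGal.pw h17 χ) = iv 1 χ := by simp [iv]
    have e2 : iv x (BlkGal.pw h17 χ) = iv x χ := by
      rw [iv_conj hr χ, iv, iv, BlkGal.pw_apply, pow_eq_pow_mod _ h3,
        eq_inv_of_mul_eq_one_left (by rw [← pow_succ, h3] : x ^ (17 % 3) * x = 1)]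
    rwa [e1, e2]⟩))
  have : Fact (Nat.Prime 7) := ⟨by norm_num⟩
  obtain ⟨g, hg⟩ := exists_prime_orderOf_dvd_card' 7 h7
  have h5 : g ^ 7 = 1 := hg ▸ pow_orderOf_eq_one g
  have h6 : ∀ i, χ.1 (g ^ (i * 17 % 7)) = χ.1 (g ^ i) := fun i => by
    rw [← pow_eq_pow_mod _ h5, pow_mul, (BlkGal.pw_eq_self_iff h17).1 h4]
  obtain ⟨k, hk⟩ := avg1 7 h5 χ
  have h8 : iv 1 χ = 5 := by have := iv_one_pos χ; nlinarith [h2.2]
  have e1 := h6 1; have e2 := h6 3; have e3 := h6 2; have e4 := h6 6; have e5 := h6 4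
  simp only [Finset.sum_range_succ, Finset.sum_range_zero, pow_zero, intAt_one.eq, h8] at hk
  norm_num at e1 e2 e3 e4 e5 hk
  rw [e5, e4, e3, e2, e1] at hk
  obtain ⟨m, hm⟩ := int_dvd_of_isIntegral_div (a := 7 * k - 5) (n := 6) (by norm_num) (by
    convert char_isIntegral (char_of_irr χ.2) g using 1
    push_cast; linear_combination (-1 / 6 : ℂ) * hk)
  have h9 : χ.1 g = m := by
    have : (7 * k - 5 : ℂ) = 6 * m := by exact_mod_cast hm
    linear_combination (1 / 6 : ℂ) * (hk + this)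
  have h10 := char_norm_le (char_of_irr χ.2) g
  rw [h9, intAt_one.eq, h8, Complex.norm_intCast, Complex.norm_intCast] at h10
  have h11 : |m| ≤ |5| := by exact_mod_cast h10
  rw [abs_le] at h11
  have h12 : g ∈ charKer χ.1 := (mem_charKer (char_of_irr χ.2)).2 (by
    rw [h9, intAt_one.eq, h8, show m = 5 by norm_num at h11; omega])
  rw [charKer_eq_bot_of_simple χ.2 fun e => by
    rw [show χ = irrOne G from Subtype.ext e, iv_triv] at h8; omega, mem_bot] at h12
  simp [h12] at hg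

theorem prod_eq {x y z w : ℤ} (hx : x ≠ 0) (hy : y ≠ 0) (hz : z ≠ 0) (hw : w ≠ 0) (h1 : x + y = z + w)
    (h0 : x + y ≠ 0) (h2 : (x : ℚ)⁻¹ + (y : ℚ)⁻¹ = (z : ℚ)⁻¹ + (w : ℚ)⁻¹) : x * y = z * w := by
  have : (x : ℚ) ≠ 0 := by exact_mod_cast hx
  have : (y : ℚ) ≠ 0 := by exact_mod_cast hy
  have : (z : ℚ) ≠ 0 := by exact_mod_cast hz
  have : (w : ℚ) ≠ 0 := by exact_mod_cast hw
  field_simp at h2
  have h3 : (y + x) * z * w = x * y * (w + z) := by exact_mod_cast h2
  exact mul_left_cancel₀ h0 (by linear_combination -h3 + x * y * h1)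

theorem main8 [IsSimpleGroup G] (hG : ¬ IsMulCommutative G) {f : K2 →* G} {s : D8 →* G}
    (h : Sd act8 f s (normalizer (f.range : Set G))) (hS : Sp f.range)
    (hN : ¬ 3 ∣ (normalizer (f.range : Set G)).index) : False := by
  have hG' : commutator G = ⊤ := (IsSimpleGroup.eq_bot_or_eq_top_of_normal _ inferInstance).resolve_left fun h =>
    hG ⟨⟨fun a b => mem_center_iff.1 (((commutator_eq_bot_iff_center_eq_top G).1 h).ge (mem_top b)) a⟩⟩
  have hρ := h.isConj_iff hS rfl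
  have hi : ∀ v, IntAt (f v) := fun v => h.intAt hS (by revert v; decide)
  have iu := h.intAt' hS (v := k2 1 0) (x := sr 0) (r 2) (by decide)
  have iw := h.intAt' hS (v := k2 1 1) (x := sr 3) (r 2) (by decide)
  have hg : ∀ g ∈ [f (k2 1 0), f (k2 1 1), f (k2 1 0) * s (sr 0), f (k2 1 1) * s (sr 3)], IntAt g := by
    simp only [List.forall_mem_cons, *]; simp
  have hr : ∀ v, IsConj (f v) (f v)⁻¹ := fun v => map_inv f v ▸ (hρ _ _).2 (by revert v; decide)
  have he : ∀ χ, (3 ∣ iv 1 χ - iv (f (k2 1 0)) χ ∧ 3 ∣ iv 1 χ - iv (f (k2 1 1)) χ) ∧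
      2 ∣ iv (f (k2 1 0)) χ - iv (f (k2 1 0) * s (sr 0)) χ ∧ 2 ∣ iv (f (k2 1 1)) χ - iv (f (k2 1 1) * s (sr 3)) χ :=
    fun χ => ⟨⟨dvd_three (hS.exp _ ⟨_, rfl⟩) (hr _) χ, dvd_three (hS.exp _ ⟨_, rfl⟩) (hr _) χ⟩,
      dvd_two (by rw [← map_mul]; exact map_one s) (h.comm hS (by decide)) (hi _) iu χ,
      dvd_two (by rw [← map_mul]; exact map_one s) (h.comm hS (by decide)) (hi _) iw χ⟩
  obtain ⟨R, hR, E, hP⟩ := exists_pat hg (by
      simp only [List.pairwise_cons, List.forall_mem_cons, hρ, List.not_mem_nil, false_imp_iff, implies_true,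
        List.Pairwise.nil, and_true]
      and_intros <;> first | decide | exact h.nc1 hS (by decide) | exact h.nc2 hS (by decide))
    (ns := [18, 18, 6, 6]) (by
      simp only [List.map_cons, List.map_nil]
      rw [h.cc hS (by decide), h.cc hS (by decide), h.cc' hS (by decide), h.cc' hS (by decide)]
      decide +kernel) (k := 6) (by norm_num)
    [[2, 1, 0, -3], [2, 1, 0, 3], [1, 2, -3, 0], [1, 2, 3, 0]]
    [[2, 2, -1, -1], [-1, -1, 2, 2], [0, 0, -1, 1], [-1, 1, 0, 0]]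
    (fun χ => by have := he χ; simp [col]; omega) (fun χ => by have := he χ; simp [col]; omega)
  have hz := fun (v : K2) x e w k χ => h.nz hS (by decide) (by
    rw [show Fintype.card D8 = 8 from rfl]; omega) (v := v) x e w k (hi w) (χ := χ)
  obtain rfl : R = [[-1, 2, 1, 0], [-1, 2, -1, 0], [2, -1, 0, 1], [1, 1, -1, 1], [2, -1, 0, -1], [1, 1, 1, -1],
      [1, 1, -1, -1], [2, 2, 0, 0]] := by
    have := hP.all' (fun r => r.getD 0 0 = 0 ∨ r.getD 1 0 = 0 → r.getD 2 0 = 0 ∧ r.getD 3 0 = 0) fun χ _ => by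
      have k1 := fun w => hz _ _ (by decide) w iu χ
      have k2 := fun w => hz _ _ (by decide) w iw χ
      simp only [col, List.map_cons, List.getD_cons_zero, List.getD_cons_succ, neg_eq_zero, and_self]
      rintro (e | e) <;> exact ⟨k1 _ e, k2 _ e⟩
    clear hP; revert R; decide +kernel
  have k0 := hP.all (fun r d => 9 ∣ d + 4 * r.getD 0 0 + 4 * r.getD 1 0 ∧ d ≠ 1) fun χ hχ => by
    have := dvd_sum_rep f hi (fun v => if v = 1 then 1 else if v.1 = 1 ∨ v.2 = 1 then k2 1 0 else k2 1 1)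
      (fun v => (hρ _ _).2 (by revert v; decide))
      (L := [1, k2 1 0, k2 1 0, k2 1 0, k2 1 0, k2 1 1, k2 1 1, k2 1 1, k2 1 1]) (by decide) χ
    have := iv_one_pos χ; have := iv_one_ne_one hG' hχ
    simp [col] at *; omega
  obtain ⟨n2, n1, m2, a, m1, b, c, p, rfl⟩ : ∃ n2 n1 m2 a m1 b c p, E = [n2, n1, m2, a, m1, b, c, p] := by
    match E, hP.len with | [_, _, _, _, _, _, _, _], _ => exact ⟨_, _, _, _, _, _, _, _, rfl⟩
  have l0 := hP.lin 0 rfl (hi _) (h.ne_one hS (by decide))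
  have l1 := hP.lin 1 rfl (hi _) (h.ne_one hS (by decide))
  have l2 := hP.lin 2 rfl iu fun e => absurd (h.inj _ _ e).2 (by decide)
  have l3 := hP.lin 3 rfl iw fun e => absurd (h.inj _ _ e).2 (by decide)
  have q1 := hP.cub 0 0 1 rfl rfl rfl hg
  have q2 := hP.cub 1 1 0 rfl rfl rfl hg
  have q3 := hP.cub 0 0 0 rfl rfl rfl hg
  have q4 := hP.sq
  rw [hS.cnt h.finj hρ (by decide) (by decide), show Finset.card _ = 2 by decide, h.cc hS (by decide),
    show Finset.card _ = 18 by decide +kernel] at q1 q2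
  have q5 := nonneg_of_mul_nonneg_right (le_of_le_of_eq (by positivity) q3) (by exact_mod_cast Nat.card_pos)
  have n0 : (Nat.card G : ℚ) ≠ 0 := by exact_mod_cast Nat.card_pos.ne'
  have q6 := mul_left_cancel₀ n0 (q1.symm.trans q2)
  have k5 := five hP rfl (hS.exp _ ⟨_, rfl⟩) (hr _)
  clear * - k0 l0 l1 l2 l3 q1 q4 q5 q6 k5 hG
  simp [div_eq_mul_inv] at k0 l0 l1 l2 l3 q1 q4 q5 q6
  have := prod_eq (x := m1) (y := m2) (z := n1) (w := n2) (by omega) (by omega) (by omega) (by omega) (by omega)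
    (by omega) (by linarith)
  obtain rfl : m2 = -(1 + a + p) := by omega
  obtain rfl : n2 = -(1 + b + p) := by omega
  obtain rfl : m1 = -(b + c + p) := by omega
  obtain rfl : n1 = -(a + c + p) := by omega
  obtain rfl : a = b := sub_eq_zero.1 ((mul_eq_zero.1 (by linear_combination this : (a - b) * (c - 1) = 0)).resolve_right
    (by omega))
  have k1 : Nat.card G * sQ a p c = 648 := by
    simp only [sQ, fQ, one_div, Int.cast_neg, inv_neg] at *; linear_combination -q1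
  have k := num8 (by omega) (by omega) (by omega) (by omega) (by omega) k1
    (by simp only [sQ, fQ, one_div, Int.cast_neg, inv_neg] at *; linarith) (by linarith)
  simp only [List.mem_cons, Prod.mk.injEq, List.not_mem_nil, or_false] at k
  rcases k with ⟨rfl, rfl, rfl⟩ | ⟨rfl, rfl, rfl⟩ | ⟨rfl, rfl, rfl⟩ <;> norm_num [sQ, fQ] at k1
  · have : Nat.card G = 201600 := by exact_mod_cast (by linarith : (Nat.card G : ℚ) = 201600)
    exact k5 (by rw [this]; norm_num) (by rw [this]; norm_num) (by decide)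
  · have : Nat.card G = 20160 := by exact_mod_cast (by linarith : (Nat.card G : ℚ) = 20160)
    exact k5 (by rw [this]; norm_num) (by rw [this]; norm_num) (by decide)
  · have : Nat.card G = 720 := by exact_mod_cast (by linarith : (Nat.card G : ℚ) = 720)
    have := Cfsg.Agent.S0496.result hG (by omega)
    omega

namespace Hy

variable {P : Sylow 3 G} (h : Hy P)
include h

theorem sub {K : Subgroup G} (hK : (P : Subgroup G) ≤ K) : Hy (P.subtype hK) ∧
    normalizer (((P.subtype hK : Sylow 3 K) : Subgroup K) : Set K) = (normalizer ((P : Subgroup G) : Set G)).subgroupOf K := by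
  have e := (subgroupOf_normalizer_eq hK).symm
  refine ⟨⟨(Nat.card_congr (subgroupOfEquivOfLe hK).toEquiv).trans h.card, fun t ht => Subtype.ext (h.exp t ht),
    fun t ht k g hg => e.ge (h.cen t ht (fun e => k (Subtype.ext e)) ?_)⟩, e⟩
  exact mem_centralizer_singleton_iff.2 (congrArg Subtype.val (mem_centralizer_singleton_iff.1 hg))

theorem descent {V : Type*} [Group V] [Finite V] {act : V → K2 → K2} {f : K2 →* G} {s : V →* G}
    (hs : Sd act f s (normalizer (f.range : Set G))) (hf : f.range = P) (hV : IsPGroup 2 V) {M : Subgroup G} [M.Normal]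
    (h1 : (P : Subgroup G) ≤ M) (h2 : M ≠ ⊤) : ∃ K : Subgroup G, (P : Subgroup G) ≤ K ∧ K.index = 2 ∧ (∃ x, s x ∉ K) ∧
      Nat.card ((normalizer ((P : Subgroup G) : Set G)).subgroupOf K) * 2 = 9 * Nat.card V ∧
      ((normalizer ((P : Subgroup G) : Set G)).subgroupOf K = ⊤ → normalizer ((P : Subgroup G) : Set G) = ⊤) := by
  have h3 := P.normalizer_sup_eq_top' h1
  rw [hf] at hs
  have h4 : ∀ K, M ≤ K → (∀ x, s x ∈ K) → K = ⊤ := fun K k1 k2 => top_le_iff.1 (h3.ge.trans (sup_le (fun g hg => by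
    obtain ⟨v, x, rfl⟩ := (hs.mem g).1 hg
    exact mul_mem (k1 (h1 (hf.le ⟨v, rfl⟩))) (k2 x)) k1))
  have h5 : Function.Surjective ((QuotientGroup.mk' M).comp s) := by
    rw [← MonoidHom.range_eq_top, ← (comap_injective (QuotientGroup.mk'_surjective M)).eq_iff, comap_top]
    exact h4 _ (fun g hg => by
      rw [mem_comap, QuotientGroup.mk'_apply, (QuotientGroup.eq_one_iff g).2 hg]; exact one_mem _) fun x => ⟨x, rfl⟩
  obtain ⟨n, hn⟩ := IsPGroup.iff_card.1 (hV.of_surjective _ h5)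
  obtain ⟨n, rfl⟩ := Nat.exists_eq_succ_of_ne_zero (show n ≠ 0 by
    rintro rfl; exact h2 (index_eq_one.1 hn))
  obtain ⟨L, hL⟩ := Sylow.exists_subgroup_card_pow_prime (G := G ⧸ M) 2 (n := n) (hn ▸ pow_dvd_pow 2 n.le_succ)
  have h6 : (L.comap (QuotientGroup.mk' M)).index = 2 := by
    rw [index_comap_of_surjective _ (QuotientGroup.mk'_surjective M)]
    have := L.card_mul_index
    rw [hL, hn, pow_succ] at this
    exact Nat.eq_of_mul_eq_mul_left (by positivity) this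
  have h7 : M ≤ L.comap (QuotientGroup.mk' M) := QuotientGroup.le_comap_mk' M L
  generalize L.comap (QuotientGroup.mk' M) = K at *
  have h8 : ∃ x, s x ∉ K := not_forall.1 fun k => by simp [h4 K h7 k] at h6
  have := normal_of_index_eq_two h6
  have h9 : Nat.card ((normalizer ((P : Subgroup G) : Set G)).subgroupOf K) * 2 = 9 * Nat.card V := by
    have k1 := card_mul_index (K.subgroupOf (normalizer ((P : Subgroup G) : Set G)))
    rw [hs.card, ← relIndex, (Nat.dvd_prime Nat.prime_two).1 (h6 ▸ relIndex_dvd_index_of_normal _ _) |>.resolve_left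
      fun e => h8.elim fun x hx => hx (relIndex_eq_one.1 e ((hs.mem _).2 ⟨1, x, by simp⟩))] at k1
    rw [← inf_subgroupOf_right, Nat.card_congr (subgroupOfEquivOfLe inf_le_right).toEquiv, inf_comm,
      ← Nat.card_congr (subgroupOfEquivOfLe inf_le_right).toEquiv, inf_subgroupOf_right, k1]
    simp
  refine ⟨K, h1.trans h7, h6, h8, h9, fun e => eq_top_of_card_eq _ ?_⟩
  rw [e, card_top] at h9
  rw [hs.card, ← K.card_mul_index, h6, h9]
  simp

theorem le_of_rot (hC : centralizer ((P : Subgroup G) : Set G) ≤ P) {f : K2 →* G} (hf : f.range = P) {g : G}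
    (hg : ∀ v, g * f v * g⁻¹ = f (rot v)) {M : Subgroup G} [hM : M.Normal] (h1 : M ≠ ⊥) : (P : Subgroup G) ≤ M := by
  obtain ⟨a, ha⟩ := exists_prime_orderOf_dvd_card' (G := M) 3 (by_contra fun k => h1 (h.eq_bot hC k))
  obtain ⟨_, k, e⟩ := h.sp.syl a (congrArg Subtype.val (ha ▸ pow_orderOf_eq_one a))
  obtain ⟨v, rfl⟩ := hf.ge k
  obtain ⟨y, e⟩ := isConj_iff.1 e
  have k1 : f v ∈ M := e ▸ hM.conj_mem _ a.2 y
  have k2 : v ≠ 1 := by
    rintro rfl
    rw [map_one, conj_eq_one_iff, OneMemClass.coe_eq_one] at e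
    simp [e] at ha
  rw [← hf]
  rintro _ ⟨w, rfl⟩
  obtain ⟨i, -, j, -, rfl⟩ := (by decide : ∀ v w : K2, v ≠ 1 → ∃ i < 3, ∃ j < 3, w = v ^ i * rot v ^ j) v w k2
  rw [map_mul, map_pow, map_pow, ← hg]
  exact mul_mem (pow_mem k1 _) (pow_mem (hM.conj_mem _ k1 g) _)

theorem one (hN : Nat.card (normalizer ((P : Subgroup G) : Set G)) = 9) : normalizer ((P : Subgroup G) : Set G) = ⊤ := by
  have h1 := eq_of_le_of_card_ge (le_normalizer (H := (P : Subgroup G))) (hN.trans h.card.symm).le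
  have := h.comm
  obtain ⟨M, _, hM⟩ := H13Hom.exists_compl P (h1 ▸ le_centralizer _)
  rw [← h1, ← isComplement'_bot_left, ← h.eq_bot (M := M) ((centralizer_le_normalizer _).trans h1.ge)
    (hM.index_eq_card ▸ P.not_dvd_index)]
  exact hM

theorem two {z : G} (hz : z ^ 2 = 1) (h1 : ∀ t ∈ (P : Subgroup G), z * t * z⁻¹ = t⁻¹)
    (hN : Nat.card (normalizer ((P : Subgroup G) : Set G)) = 18) : normalizer ((P : Subgroup G) : Set G) = ⊤ := by
  obtain ⟨f, hf, k⟩ := h.hom'
  have k0 : ∀ v, z * f v * z⁻¹ = f v⁻¹ := fun v => by rw [h1 _ (k.le ⟨v, rfl⟩), map_inv]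
  have k1 := sd_of (act := act2) (s := hn 2 hz) hf (cj_all (.ofAdd 1) 1 (by decide) (by decide) (by decide)
    (fun v => by rw [show hn 2 hz (.ofAdd 1) = z from pow_one z, k0]; rfl) (fun v => by simp [act2])) (by decide)
    (by rw [k, hN]; simp)
  have hS := k ▸ h.sp
  by_cases hG : commutator G = ⊤
  · exact (Cfsg.Agent.S3341.case2 hG hS hf (fun v hv => by rw [k1.cc hS hv]; revert v; decide) fun v w => by
      rw [k1.isConj_iff hS rfl]; revert v w; decide).elim
  obtain ⟨K, e1, -, -, e2, e3⟩ := h.descent k1 k (IsPGroup.of_card (n := 1) (by simp)) (M := commutator G) (by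
    rw [← k]
    rintro _ ⟨v, rfl⟩
    have := commutator_mem_commutator (mem_top z) (mem_top (f v))
    rwa [commutatorElement_def, k0, ← map_inv, ← map_mul, (by decide : ∀ v : K2, v⁻¹ * v⁻¹ = v)] at this) hG
  exact e3 ((h.sub e1).2 ▸ (h.sub e1).1.one (by rw [(h.sub e1).2]; rw [show Nat.card Z2 = 2 by simp] at e2; omega))

theorem not_comm [IsSimpleGroup G] : ¬ IsMulCommutative G := H28Simp.not_comm_of_card fun e => by
  have h1 := h.card ▸ card_subgroup_dvd_card (P : Subgroup G)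
  exact absurd ((Nat.dvd_prime e).1 h1 |>.resolve_left (by norm_num) ▸ e) (by norm_num)

theorem cyc {f : K2 →* G} (hf : Function.Injective f) (k : f.range = P) {g : G} (hg : g ^ 4 = 1)
    (h1 : ∀ v, g * f v * g⁻¹ = f (rot v)) (hN : Nat.card (normalizer ((P : Subgroup G) : Set G)) = 36) :
    normalizer ((P : Subgroup G) : Set G) = ⊤ ∨ Nonempty (G ≃* alternatingGroup (Fin 6)) := by
  have k0 : hn 4 hg (.ofAdd 1) = g := pow_one g
  have k1 := sd_of (act := actr) (s := hn 4 hg) hf (cj_all (.ofAdd 1) 1 (by decide) (by decide) (by decide)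
    (fun v => by rw [k0, h1]; rfl) (fun v => by simp [actr])) (by decide) (by rw [k, hN]; simp)
  have hS := k ▸ h.sp
  have : Nontrivial G := ⟨_, _, k1.ne_one hS (v := k2 1 0) (by decide)⟩
  by_cases hG : IsSimpleGroup G
  · refine .inr (Cfsg.Agent.S3341.result P _ rfl h.comm h.exp h.card ⟨f (k2 1 0), f (k2 1 1),
      orderOf_eq_prime (hS.exp _ ⟨_, rfl⟩) (k1.ne_one hS (by decide)),
      orderOf_eq_prime (hS.exp _ ⟨_, rfl⟩) (k1.ne_one hS (by decide)),
      fun y e => absurd ((k1.isConj_iff hS rfl _ _).1 (isConj_iff.2 ⟨y, e⟩)) (by decide)⟩ fun t ht e => ?_)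
    obtain ⟨v, rfl⟩ := k.ge ht
    have := h.comm
    refine (eq_of_le_of_card_ge (fun y hy => mem_centralizer_singleton_iff.2 (setLike_mul_comm hy ht)) ?_).symm
    have hv : v ≠ 1 := by rintro rfl; exact e (map_one f)
    rw [h.card, k1.cc hS hv]
    clear * - hv; revert v; decide
  obtain ⟨M, hM, e1, e2⟩ : ∃ M : Subgroup G, M.Normal ∧ M ≠ ⊥ ∧ M ≠ ⊤ := by
    by_contra e; exact hG ⟨fun M hM => by by_contra e'; exact e ⟨M, hM, not_or.1 e'⟩⟩
  obtain ⟨K, e1, e2, -, e3, e4⟩ := h.descent k1 k (IsPGroup.of_card (n := 2) (by simp))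
    (h.le_of_rot (k ▸ k1.cent_le hS (by decide)) k h1 e1) e2
  refine .inl (e4 ((h.sub e1).2 ▸ (h.sub e1).1.two (z := ⟨g ^ 2, sq_mem_of_index_two e2 g⟩)
    (Subtype.ext (by simpa [← pow_mul] using hg)) (fun t ht => Subtype.ext ?_)
    (by rw [(h.sub e1).2]; rw [show Nat.card Z4 = 4 by simp] at e3; omega)))
  obtain ⟨v, e⟩ := k.ge ht
  change g ^ 2 * t * (g ^ 2)⁻¹ = (t : G)⁻¹
  rw [show (t : G) = f v from e.symm, ← map_inv, ← (by decide : ∀ v, rot (rot v) = v⁻¹), ← h1, ← h1, pow_two]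
  group

theorem dih (s : D8 →* G) (hs : Function.Injective s) (hC : centralizer ((P : Subgroup G) : Set G) ≤ P)
    (h1 : ∀ x, s x ∈ normalizer ((P : Subgroup G) : Set G))
    (hN : Nat.card (normalizer ((P : Subgroup G) : Set G)) = 72) :
    ∃ f : K2 →* G, f.range = P ∧ Sd act8 f s (normalizer (f.range : Set G)) := by
  obtain ⟨f, hf, k⟩ := h.hom'
  obtain ⟨p, q, e⟩ := exists_lin (f := f) (k ▸ h1 (r 1))
  obtain ⟨p', q', e'⟩ := exists_lin (f := f) (k ▸ h1 (sr 0))
  have k1 : ∀ x y t, s x * (s y * t * (s y)⁻¹) * (s x)⁻¹ = s (x * y) * t * (s (x * y))⁻¹ := fun x y t => by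
    rw [map_mul]; group
  obtain ⟨x, x1, y1, e1, e2, e3⟩ := d8_basis p q
    (fun v => hf (by rw [← e, ← e, ← e, ← e, k1, k1, k1, show (r 1 * r 1 * r 1 * r 1 : D8) = 1 by decide]; simp))
    (not_forall.1 fun k2 => absurd (hs (show s ((r 1 * r 1) ^ 3) = s 1 by
      rw [map_pow, map_one]
      refine h.exp _ (hC fun t ht => ?_)
      obtain ⟨v, rfl⟩ := k.ge ht
      exact (mul_inv_eq_iff_eq_mul.1 (by rw [← k1, e, e, k2])).symm)) (by decide)) p' q'
    (fun v => hf (by rw [← e', ← e', k1, show (sr 0 * sr 0 : D8) = 1 by decide]; simp))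
    fun v => hf (by rw [← e, ← e', ← e, ← e', k1, k1, show (r 1 * sr 0 * r 1 : D8) = sr 0 by decide])
  obtain ⟨f', hf', k', e4, e5⟩ := h.hom (k.le ⟨x, rfl⟩) (k.le ⟨lin p q x, rfl⟩)
    (by simpa [map_eq_one_iff f hf] using x1)
    (by simpa only [← map_inv, Ne, hf.eq_iff, map_eq_one_iff f hf] using y1)
  exact ⟨f', k', sd_of hf' (cj_all (r 1) (sr 0) (by decide) (by decide) (by decide)
    (fun v => by
      rw [conj_lin (p := k2 0 1) (q := (k2 1 0)⁻¹) (by rw [e4, e5, e]) (by rw [map_inv, e4, e5, e, e1, map_inv])]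
      congr 1; revert v; decide)
    (fun v => by
      rw [conj_lin (p := k2 1 0) (q := (k2 0 1)⁻¹) (by rw [e4, e', e2]) (by rw [map_inv, e5, e', e3, map_inv])]
      congr 1; revert v; decide)) (by decide) (by rw [k', hN, nat_card]; simp)⟩

theorem dih_simple [IsSimpleGroup G] (s : D8 →* G) (hs : Function.Injective s)
    (hC : centralizer ((P : Subgroup G) : Set G) ≤ P) (h1 : ∀ x, s x ∈ normalizer ((P : Subgroup G) : Set G))
    (hN : Nat.card (normalizer ((P : Subgroup G) : Set G)) = 72) : False :=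
  let ⟨_, k, k1⟩ := h.dih s hs hC h1 hN
  main8 h.not_comm k1 (k ▸ h.sp) (k ▸ h.sp.not_dvd P rfl)

theorem dih_main (s : D8 →* G) (hs : Function.Injective s)
    (hC : centralizer ((P : Subgroup G) : Set G) ≤ P) (h1 : ∀ x, s x ∈ normalizer ((P : Subgroup G) : Set G))
    (hN : Nat.card (normalizer ((P : Subgroup G) : Set G)) = 72) :
    normalizer ((P : Subgroup G) : Set G) = ⊤ ∨ Nonempty (G ≃* Equiv.Perm (Fin 6)) := by
  obtain ⟨f, k, k1⟩ := h.dih s hs hC h1 hN
  have hS := k ▸ h.sp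
  have : Nontrivial G := ⟨_, _, k1.ne_one hS (v := k2 1 0) (by decide)⟩
  obtain ⟨M, hM, e1, e2⟩ : ∃ M : Subgroup G, M.Normal ∧ M ≠ ⊥ ∧ M ≠ ⊤ := by
    by_contra e
    have : IsSimpleGroup G := ⟨fun M hM => by by_contra e'; exact e ⟨M, hM, not_or.1 e'⟩⟩
    exact h.dih_simple s hs hC h1 hN
  obtain ⟨K, e1, e2, ⟨x, hx⟩, e3, e4⟩ := h.descent k1 k (IsPGroup.of_card (n := 3) (by rw [nat_card]; rfl))
    (h.le_of_rot hC k (k1.cj (r 1)) e1) e2
  rw [nat_card] at e3
  obtain ⟨h', e5⟩ := h.sub e1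
  have e6 : s (r 2) ∈ K := by rw [show (r 2 : D8) = r 1 ^ 2 by decide, map_pow]; exact sq_mem_of_index_two e2 _
  by_cases e7 : s (r 1) ∈ K
  swap
  · obtain ⟨i, hi⟩ : ∃ i, s (sr i) ∈ K := by
      by_cases e : s (sr 0) ∈ K
      exacts [⟨0, e⟩, ⟨1, by
        rw [show (sr 1 : D8) = sr 0 * r 1 by decide, map_mul, mul_mem_iff_of_index_two e2]; exact iff_of_false e e7⟩]
    have k3 : ∀ (x : D8) (hx : s x ∈ K), x ≠ 1 → (⟨s x, hx⟩ : K) ≠ 1 := fun x hx e e' =>
      e (hs ((congrArg Subtype.val e').trans (map_one s).symm))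
    refine .inl (e4 (e5 ▸ h'.four' (fun g hg => hC fun t ht => congrArg Subtype.val (hg ⟨t, e1 ht⟩ ht))
      (a := ⟨_, hi⟩) (b := ⟨_, e6⟩) (e5.ge (h1 _)) (e5.ge (h1 _))
      (Subtype.ext (show s _ ^ 2 = 1 by rw [← map_pow, pow_two, sr_mul_self, map_one]))
      (Subtype.ext (show s _ ^ 2 = 1 by rw [← map_pow, show (r 2 : D8) ^ 2 = 1 by decide, map_one]))
      (Subtype.ext (Commute.map ((by decide : ∀ i, (sr i : D8) * r 2 = r 2 * sr i) i) s).eq)
      (k3 _ _ ((by decide : ∀ i, (sr i : D8) ≠ 1) i)) (k3 _ _ (by decide)) (fun e => by simpa using hs (congrArg Subtype.val e))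
      (by rw [e5]; omega)))
  have e8 : ∀ i, s (sr i) ∉ K := fun i hi => hx (by
    obtain ⟨j, -, l, -, rfl⟩ := (by decide : ∀ i, ∀ x : D8, ∃ j < 4, ∃ l < 2, x = r 1 ^ j * sr i ^ l) i x
    rw [map_mul, map_pow, map_pow]
    exact mul_mem (pow_mem e7 _) (pow_mem hi _))
  have e9 : ∀ v, f v ∈ K := fun v => e1 (k.le ⟨v, rfl⟩)
  refine (h'.cyc (f := f.codRestrict K e9) (fun v w e => k1.finj (congrArg Subtype.val e)) ?_ (g := ⟨_, e7⟩)
    (Subtype.ext (show s _ ^ 4 = 1 by rw [← map_pow, show (r 1 : D8) ^ 4 = 1 by decide, map_one]))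
    (fun v => Subtype.ext (k1.cj (r 1) v)) (by rw [e5]; omega)).imp (fun e => e4 (e5 ▸ e)) fun ⟨e⟩ => ?_
  · ext g
    exact ⟨by rintro ⟨v, rfl⟩; exact k.le ⟨v, rfl⟩, fun hg => let ⟨v, e⟩ := k.ge hg; ⟨v, Subtype.ext e⟩⟩
  have := normal_of_index_eq_two e2
  have c1 : Nat.card K = 360 := by rw [Nat.card_congr e.toEquiv, nat_card_alternatingGroup]; simp [Nat.factorial]
  let φ : G →* MulAut (alternatingGroup (Fin 6)) := (MulAut.congr e).toMonoidHom.comp MulAut.conjNormal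
  have c2 : Function.Injective φ := by
    refine (MulAut.congr e).injective.comp ((injective_iff_map_eq_one _).2 fun g hg => by_contra fun k3 => ?_)
    have k4 : ∀ y ∈ K, y * g = g * y := fun y hy =>
      (mul_inv_eq_iff_eq_mul.1 (show g * y * g⁻¹ = y from congrArg Subtype.val (DFunLike.congr_fun hg (⟨y, hy⟩ : K)))).symm
    have := card_le_of_le (show K ≤ _ from fun y hy =>
      h.cen g (hC fun t ht => k4 t (e1 ht)) k3 (mem_centralizer_singleton_iff.2 (k4 y hy)))
    omega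
  have c3 : ∀ (g : G) (y : K), y ^ 3 = 1 → IsConj y (MulAut.conjNormal g y) := fun g y hy => by
    obtain ⟨t, ht, k3⟩ := h'.sp.syl y hy
    obtain ⟨v, hv⟩ := k.ge ht
    obtain ⟨i, hi⟩ := (by decide : ∀ v, ∃ i, act8 (sr i) v = v) v
    obtain ⟨u, rfl⟩ := isConj_iff.1 k3.symm
    refine k3.trans (isConj_iff.2 ?_)
    by_cases hg : g ∈ K
    · exact ⟨⟨g, hg⟩ * u, Subtype.ext (by simp [mul_assoc])⟩
    refine ⟨⟨g * u * s (sr i), by simp [mul_mem_iff_of_index_two e2, hg, e8]⟩, Subtype.ext ?_⟩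
    have := k1.cj (sr i) v
    rw [hi, hv, coe_subtype] at this
    change g * u * s (sr i) * t * (g * u * s (sr i))⁻¹ = g * (u * t * (u : G)⁻¹) * g⁻¹
    nth_rw 2 [← this]
    group
  have c4 : φ.range ≤ (MulAut.conjNormal : Equiv.Perm (Fin 6) →* _).range := by
    rintro _ ⟨g, rfl⟩
    refine AutAn.exists_conj_of_three (by simp) _ fun y hy => ?_
    have k3 := ((alternatingGroup _).subtype.comp e.toMonoidHom).map_isConj (c3 g (e.symm y) (by
      rw [← map_pow, show y ^ 3 = 1 from Subtype.ext (hy.orderOf ▸ pow_orderOf_eq_one _), map_one]))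
    rw [Equiv.Perm.isConj_iff_cycleType_eq] at k3
    exact k3.symm.trans ((congrArg (fun z : alternatingGroup (Fin 6) => z.1.cycleType) (e.apply_symm_apply y)).trans hy)
  have c5 := AutAn.conjNormal_injective (α := Fin 6) (by simp)
  exact ⟨(MonoidHom.ofInjective c2).trans ((MulEquiv.subgroupCongr (eq_of_le_of_card_ge c4 (by
    rw [← Nat.card_congr (MonoidHom.ofInjective c2).toEquiv, ← Nat.card_congr (MonoidHom.ofInjective c5).toEquiv,
      ← K.card_mul_index, c1, e2, Nat.card_perm]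
    simp [Nat.factorial]))).trans (MonoidHom.ofInjective c5).symm)⟩

end Hy

end CA.H7Exc
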