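import Mathlib
import Cfsg.Agent.Lib.Char.H7Kcc
import Cfsg.Agent.Lib.Block.H7Gr2
import Cfsg.Agent.Lib.Grp.H7Max
import Cfsg.Agent.Lib.Grp.ABG0
import Cfsg.Agent.Lib.Grp.H13Misc
import Cfsg.Agent.S0483
import Cfsg.Agent.S0201
import Cfsg.Agent.S3331

/-! Simple groups with a small centralizer, and the order 20160 with nine classes. -/

set_option autoImplicit false

namespace CA.H7Kc

open Subgroup CA.H28Syl CA.H28SC Cfsg Matrix
open scoped MatrixGroups

variable {G : Type*} [Group G] [Finite G]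

theorem inv_bd {x : G} (hx : orderOf x = 2) :
    Nat.card G ≤ Nat.card (ConjClasses G) * cc x * cc x := by
  classical
  have := Fintype.ofFinite G
  have h1 : Nat.card G / cc x ≤ Nat.card {g : G // orderOf g = 2} := by
    rw [← fiber, Nat.card_eq_fintype_card, Fintype.card_subtype]
    exact Finset.card_le_card fun g hg => Finset.mem_filter.2 ⟨Finset.mem_univ _,
      (ord_conj (ConjClasses.mk_eq_mk_iff_isConj.1 (Finset.mem_filter.1 hg).2)).trans hx⟩
  have h4 := (Nat.mul_le_mul h1 h1).trans inv_sq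
  obtain ⟨m, hm⟩ : cc x ∣ Nat.card G := card_subgroup_dvd_card _
  have h0 : 0 < cc x := Nat.card_pos
  have h5 : 0 < m := Nat.pos_of_mul_pos_left (hm ▸ Nat.card_pos)
  rw [hm, Nat.mul_div_cancel_left _ h0] at h4
  have h6 : m ≤ Nat.card (ConjClasses G) * cc x := Nat.le_of_mul_le_mul_right (by linarith) h5
  rw [hm]
  nlinarith

variable [IsSimpleGroup G] (hG : ¬ IsMulCommutative G)
include hG

theorem three {x : G} (hx : x ≠ 1) (h : cc x = 3) : Nat.card G ≤ 168 := by
  have := Fact.mk Nat.prime_three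
  have hs := sc_of hx h
  have q : ∀ N : Subgroup G, N = ⊥ → Nat.card G = Nat.card (G ⧸ N) := by
    rintro _ rfl
    exact Nat.card_congr QuotientGroup.quotientBot.symm.toEquiv
  rcases Agent.S3331.result (zpowers x) (by rw [Nat.card_zpowers, hs.ord])
    (by rw [centralizer_zpowers, hs.cent]) with ⟨N, hN, -, h2, h3⟩ | ⟨N, hN, h2, -, ⟨e⟩⟩ | ⟨⟨e⟩⟩
  · rcases hN.eq_bot_or_eq_top with h4 | rfl
    · rw [q N h4]
      rcases h3 with h3 | ⟨⟨e⟩⟩
      · omega
      · rw [Nat.card_congr e.toEquiv, Nat.card_perm]; simp [Nat.factorial]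
    · rw [card_top] at h2
      exact absurd (Nat.Coprime.eq_one_of_dvd h2.symm (h ▸ card_subgroup_dvd_card (CC x))) (by decide)
  · rcases hN.eq_bot_or_eq_top with h4 | rfl
    · have := two_mul_nat_card_alternatingGroup (α := Fin 5)
      rw [Nat.card_perm, Nat.card_fin] at this
      rw [q N h4, Nat.card_congr e.toEquiv]
      simp only [Nat.factorial] at this
      omega
    · exact absurd ⟨⟨fun a b => congrArg Subtype.val
        (h2.is_comm.comm (⟨a, trivial⟩ : (⊤ : Subgroup G)) ⟨b, trivial⟩)⟩⟩ hG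
  · have := CA.SLnCard.card_PSL2_odd (F := ZMod 7) (by rw [Nat.card_zmod]; decide)
    rw [Nat.card_zmod] at this
    rw [Nat.card_congr e.toEquiv]
    omega

theorem four {x : G} (hx : orderOf x = 4) (h : cc x = 4) :
    (∃ (F : Type) (_ : Field F) (_ : Fintype F), Odd (Fintype.card F) ∧ 3 < Fintype.card F ∧
      Nonempty (G ≃* PSL(2, F))) ∨ Nonempty (G ≃* alternatingGroup (Fin 7)) := by
  have := Fact.mk Nat.prime_two
  have c4 : Nat.card (zpowers x) = 2 ^ 2 := by rw [Nat.card_zpowers, hx]; rfl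
  obtain ⟨S, hS⟩ := (IsPGroup.of_card c4).exists_le_sylow
  have hc : zpowers x = CC x := eq_of_le_of_card_ge (zpowers_le_CC x) (by rw [c4]; exact h.le)
  have hO : ∀ N : Subgroup G, N.Normal → Odd (Nat.card N) → N = ⊥ := fun N h1 h2 =>
    h1.eq_bot_or_eq_top.resolve_right fun e => by
      rw [e, card_top] at h2
      exact absurd (h2.of_dvd_nat (card_subgroup_dvd_card (zpowers x))) (by rw [c4]; decide)
  have hZ : center G = ⊥ := (inferInstance : (center G).Normal).eq_bot_or_eq_top.resolve_right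
    fun h => hG ⟨⟨fun a b => mem_center_iff.1 (h.ge (mem_top b)) a⟩⟩
  rcases hS.eq_or_lt with e | hQ
  · have h1 : IsCyclic S := e ▸ inferInstance
    have h2 : (Nat.card G).minFac = 2 := (Nat.minFac_eq_two_iff _).2
      ((by decide : 2 ∣ 2 ^ 2).trans (c4 ▸ card_subgroup_dvd_card _))
    have h3 := (h1.isComplement' h2).card_mul
    rcases (MonoidHom.normal_ker (MonoidHom.transferSylow S
      (h1.normalizer_le_centralizer h2))).eq_bot_or_eq_top with h4 | h4
    · rw [h4, card_bot, one_mul, ← e] at h3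
      have h5 := eq_top_of_card_eq _ h3
      exact absurd ⟨⟨fun a b => by
        obtain ⟨i, rfl⟩ := h5.ge (mem_top a)
        obtain ⟨j, rfl⟩ := h5.ge (mem_top b)
        exact zpow_mul_comm x i j⟩⟩ hG
    · rw [h4, card_top, ← e, c4] at h3
      have := @Nat.card_pos G _ _
      omega
  obtain ⟨n, hn⟩ := S.isPGroup'.exists_card_eq
  have h1 : Nat.card (zpowers x) < Nat.card S := (card_le_of_le hS).lt_of_ne fun e =>
    hQ.ne (eq_of_le_of_card_ge hS e.ge)
  obtain ⟨n, rfl⟩ : ∃ k, n = k + 3 := by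
    refine ⟨n - 3, ?_⟩
    have := (Nat.pow_lt_pow_iff_right one_lt_two).1 (c4 ▸ hn ▸ h1)
    omega
  have h2 : (⊤ : Subgroup S) ⊓ centralizer ((zpowers x).subgroupOf S : Set S) ≤
      (zpowers x).subgroupOf S := fun t ht => hc.ge (mem_CC.2 (congrArg Subtype.val
        (ht.2 ⟨x, hS (mem_zpowers x)⟩ (mem_zpowers x))).symm)
  obtain ⟨a, y, h4, h5⟩ := H7Max.mc3_of_class hn (H7Max.lcs_ne_bot_of_selfcent Nat.prime_two
    (card_top.trans hn) le_top ((Nat.card_congr (subgroupOfEquivOfLe hS).toEquiv).trans c4) h2)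
  rcases h4.list h5 with ⟨k, h6⟩ | ⟨k, h6, h7⟩ | ⟨k, ⟨h6⟩⟩
  · have : Group.IsPerfect G := ⟨(commutator_normal ⊤ ⊤).eq_bot_or_eq_top.resolve_left fun h => hG
      ⟨⟨fun x y => commutatorElement_eq_one_iff_mul_comm.1
        (h.le (commutator_mem_commutator trivial trivial))⟩⟩⟩
    have q : G ≃* G ⧸ oddCore G := ((QuotientGroup.quotientMulEquivOfEq
      (CA.H13Zstar.core_eq_bot hO)).trans QuotientGroup.quotientBot).symm
    exact (Agent.S0483.result S _ (by have := @Nat.one_le_two_pow k; rw [pow_add]; omega) h6).imp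
      (fun ⟨F, i, j, h1, h2, ⟨e⟩⟩ => ⟨F, i, j, h1, h2, ⟨q.trans e⟩⟩) fun ⟨e⟩ => ⟨q.trans e⟩
  · obtain ⟨m, a, y, hm, h8, e⟩ := CA.MC3.exists_of_qd (S := (S : Subgroup G)) ⟨k + 3, by omega, h6, h7⟩
    obtain ⟨k, rfl⟩ : ∃ k, m = k + 1 := ⟨m - 1, by omega⟩
    have h9 := (CA.ABG0.fus_of_pResidual h8 hm S e
      (CA.PRes.pResidual_two_eq_top_iff.2 (CA.H13Misc.no_index_two hG))).2
    have h10 : IsConj x (a ^ (2 ^ k : ℤ)) := by
      rcases CA.MC3.four_cases h8 S e rfl hx with e | e | e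
      exacts [e, absurd e.2 (by decide),
        e.1.trans (CA.MC3.isConj_c_of_fus (h8.shift 1) e.2 rfl (by omega) h9)]
    have h11 := (CC (a ^ (2 ^ k : ℤ))).orderOf_dvd_natCard
      (mem_CC_iff_commute.2 ((Commute.refl a).zpow_right _))
    rw [← cc, ← cc_conj h10, h, h8.ord] at h11
    have := (Nat.pow_dvd_pow_iff_le_right one_lt_two).1 (show _ ∣ 2 ^ 2 from h11)
    omega
  · have := Agent.S0201.result S k h6 hO
    rw [hZ, card_bot] at this
    omega

open Finset CA.H28Prin CA.H28Sol CA.H7Gr CChar.CharOrth CChar.CharRep CChar.CharFun CChar.CharKer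
  CChar.CharInt CA.H28Trick CA.H28Br2 CA.H28BT CA.H28Simp CA.H28M11 CA.H12Cover in
theorem big (hn : Nat.card G = 20160) (hk : Nat.card (ConjClasses G) = 9) {x y : G} (hx : x ≠ 1)
    (hy : y ≠ 1) (h5 : cc x = 5) (h7 : cc y = 7) : False := by
  classical
  have sx := sc_of hx h5
  have sy := sc_of hy h7
  obtain ⟨d⟩ := exists_P1 sx.isSylGen
  obtain ⟨d'⟩ := exists_P1 sy.isSylGen
  obtain ⟨s, hs, l, H⟩ := has_of_check hG sx.isSylGen d (B := 142) (al := fun _ => true)
    (S := [(336, 4, 14, [21, 56, -64]), (336, 4, -21, [-14, 56, -64]), (336, 4, -21, [21, 21, -64]),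
      (336, 4, 64, [-14, 21, 56]), (336, 4, 64, [21, 21, 21]), (336, 4, -56, [-14, 21, -64]),
      (2016, 2, 7, [6]), (2016, 2, -63, [-64])]) hn (fun _ _ => rfl) (by decide +kernel)
  obtain ⟨s', hs', l', H'⟩ := has_of_check hG sy.isSylGen d' (B := 142) (al := fun _ => true)
    (S := [(120, 2, 16, [15]), (120, 6, 20, [15, -20, 36, 36, -48]),
      (120, 6, 20, [15, -20, -48, -48, 120]), (120, 6, -15, [-20, -20, 36, 36, -48]),
      (120, 6, -15, [-20, -20, -48, -48, 120]), (120, 6, 48, [15, -20, -20, 36, 36]),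
      (120, 6, 48, [15, -20, -20, -48, 120]), (120, 6, -36, [15, -20, -20, 36, -48]),
      (120, 6, -120, [15, -20, -20, -48, -48]), (960, 3, 10, [-6, 15]), (960, 3, 45, [-20, 64]),
      (960, 3, 80, [15, 64])]) hn (fun _ _ => rfl) (by decide +kernel)
  have e1 := sx.card_eq
  have e2 := sy.card_eq
  rw [hn, H.ee_eq, H.syl] at e1
  rw [hn, H'.ee_eq, H'.syl] at e2
  have t1 : s.2.1 = 2 ∧ ((s.2.2.1.natAbs = 7 ∧ s.2.2.2 = [6]) ∨
      (s.2.2.1.natAbs = 63 ∧ s.2.2.2 = [-64])) := by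
    revert e1; revert hs; generalize s = s; revert s; decide
  have t2 : s'.2.1 = 3 ∧ s'.2.2.2.length = 2 ∧
      (CA.H7Gr.sq 7 s' = 462 ∨ CA.H7Gr.sq 7 s' = 8547 ∨ CA.H7Gr.sq 7 s' = 17122) := by
    revert e2; revert hs'; generalize s' = s'; revert s'; decide
  have c1 := split d' sy (fun _ => 1)
  have c2 := sq_eq H' sy
  have c3 := d.card_Y
  simp only [sum_const, smul_eq_mul, mul_one, d'.card_X, d'.card_Y, H'.ee_eq, t2.1, card_univ] at c1
  rw [← Nat.card_eq_fintype_card, card_irr, hk] at c1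
  rw [H.ee_eq, t1.1] at c3
  set T := univ.filter fun χ : IrrCharacter G => 7 ∣ charDegree χ.1
  have c4 : d.Y ⊆ T := fun ψ hψ => mem_filter.2 ⟨mem_univ _, by
    rw [degY H hψ]; rcases t1.2 with e | e <;> rw [e.1] <;> decide⟩
  have c5 : ∀ χ ∈ T \ d.Y, 35 ∣ charDegree χ.1 := fun χ hχ => by
    obtain ⟨a1, a2⟩ := mem_sdiff.1 hχ
    have a3 := (mem_filter.1 a1).2
    refine Nat.Coprime.mul_dvd_of_dvd_of_dvd (by decide : Nat.Coprime 5 7) (by_contra fun e => ?_) a3
    rcases List.mem_cons.1 ((H.mem χ).1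
      (((d.mem_iff_not_dvd sx.isSylGen sx.VV_eq_bot χ).2 e).resolve_right a2)) with rfl | e'
    · rw [degree_one] at a3; omega
    · have := degX H ▸ List.mem_map_of_mem (f := fun χ : IrrCharacter G => charDegree χ.1) e'
      rcases t1.2 with e | e <;> simp [e.2] at this <;> omega
  obtain ⟨α, β, ne, e⟩ := card_eq_two.1 (show (T \ d.Y).card = 2 by
    rw [card_sdiff_of_subset c4]; omega)
  rw [← sum_sdiff c4, e, sum_pair ne, sum_congr rfl (s₁ := d.Y) fun ψ h => by rw [degY H h],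
    sum_const, c3, hn] at c2
  obtain ⟨u, hu⟩ := c5 α (by simp [e])
  obtain ⟨v, hv⟩ := c5 β (by simp [e])
  have u0 : 0 < u := Nat.pos_of_mul_pos_left (hu ▸ charDegree_pos α.2)
  have v0 : 0 < v := Nat.pos_of_mul_pos_left (hv ▸ charDegree_pos β.2)
  rw [hu, hv, mul_pow, mul_pow, smul_eq_mul] at c2
  have u1 : u < 5 := lt_of_pow_lt_pow_left₀ 2 (by decide) (by omega)
  have v1 : v < 5 := lt_of_pow_lt_pow_left₀ 2 (by decide) (by omega)
  rcases t1.2 with e | e <;> rw [e.1] at c2 <;> interval_cases u <;> interval_cases v <;> omega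

end CA.H7Kc
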