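/-
Weight spaces of abelian subgroups, on the level of characters.
-/
import Cfsg.Agent.Lib.Char.CharInt

set_option autoImplicit false

namespace CA.Wt

open Cfsg CChar.CharRep CChar.CharFun CChar.CharOrth CChar.CharKer Finset

variable {G A : Type*} [Group G] [AddCommGroup A] [Fintype A]

/-- the trace of `g` composed with the projection to the `ψ`-weight space of `x` -/
noncomputable def wt (χ : G → ℂ) (x : AddChar A G) (ψ : AddChar A ℂ) (g : G) : ℂ :=
  (Fintype.card A : ℂ)⁻¹ * ∑ a, χ (g * x a) * ψ (-a)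

theorem card_ne : (Fintype.card A : ℂ) ≠ 0 := Nat.cast_ne_zero.2 Fintype.card_ne_zero

theorem sum_char (ψ φ : AddChar A ℂ) [Decidable (ψ = φ)] : ∑ a, ψ a * φ (-a) = if ψ = φ then (Fintype.card A : ℂ) else 0 := by
  split_ifs with h
  · simp [h, ← AddChar.map_add_eq_mul]
  · exact AddChar.sum_eq_zero_of_ne_one (ψ := ψ / φ) (div_ne_one.2 h)

variable {χ : G → ℂ} {x : AddChar A G} {ψ : AddChar A ℂ}

theorem wt_mul (g : G) (b : A) : wt χ x ψ (g * x b) = ψ b * wt χ x ψ g := by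
  rw [wt, wt, mul_left_comm, mul_sum _ _ (ψ b)]
  refine congrArg _ (Fintype.sum_equiv (Equiv.addLeft b) _ _ fun a => ?_)
  simp only [Equiv.coe_addLeft, mul_assoc, ← AddChar.map_add_eq_mul, mul_left_comm (ψ b), neg_add, add_neg_cancel_left]

theorem wt_conj (hχ : IsClassFunction G χ) {h : G} (σ : A ≃+ A) (hσ : ∀ a, h * x a * h⁻¹ = x (σ a)) {ψ' : AddChar A ℂ}
    (e : ∀ a, ψ' (σ a) = ψ a) (g : G) : wt χ x ψ' (h * g * h⁻¹) = wt χ x ψ g := by
  refine congrArg _ (Fintype.sum_equiv σ.toEquiv _ _ fun a => ?_).symm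
  rw [← hχ (g * x a) h, ← e, map_neg]
  simp [← hσ, mul_assoc]

theorem wt_mul' (hχ : IsClassFunction G χ) (g : G) (b : A) : wt χ x ψ (x b * g) = ψ b * wt χ x ψ g := by
  rw [← wt_mul, ← wt_conj hχ (h := x b) (.refl A) (fun a => by
    rw [← AddChar.map_neg_eq_inv, ← AddChar.map_add_eq_mul, ← AddChar.map_add_eq_mul]; simp) (fun _ => rfl) (g * x b)]
  simp [mul_assoc]

theorem wt_eq_zero (hχ : IsClassFunction G χ) {g : G} {a b : A} (h : g * x a = x b * g) (hψ : ψ a ≠ ψ b) : wt χ x ψ g = 0 := by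
  have := (wt_mul g a).symm.trans (h ▸ wt_mul' hχ g b : wt χ x ψ _ = _)
  exact (mul_eq_mul_right_iff.1 this).resolve_left hψ

theorem char_wt [Finite G] (hχ : IsCharacter G χ) {S : Type*} [Group S] [Finite S] (f : S →* G)
    (hS : ∀ s a, ∃ b, f s * x a * (f s)⁻¹ = x b ∧ ψ b = ψ a) (hx : Function.Injective x) : IsCharacter S fun s => wt χ x ψ (f s) := by
  obtain ⟨n, ρ, rfl⟩ := hχ
  let e : Module.End ℂ (Fin n → ℂ) := (Fintype.card A : ℂ)⁻¹ • ∑ a, ψ (-a) • ρ (x a)
  have e1 : ∀ b, ρ (x b) * e = ψ b • e := fun b => by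
    rw [mul_smul_comm, smul_comm (ψ b), mul_sum, smul_sum (r := ψ b)]
    refine congrArg _ (Fintype.sum_equiv (Equiv.addLeft b) _ _ fun a => ?_)
    simp [smul_smul, ← AddChar.map_add_eq_mul, ← map_mul]
  have e2 : e * e = e := by
    change (_ • _) * e = e
    simp [sum_mul, e1, smul_smul, ← AddChar.map_add_eq_mul, ← Nat.cast_smul_eq_nsmul ℂ]
  have e3 : ∀ s, ρ (f s) * e = e * ρ (f s) := fun s => by
    choose σ h1 h2 using hS s
    have : Function.Bijective σ := Finite.injective_iff_bijective.1 fun a b h => hx (mul_left_cancel (mul_right_cancel ((h1 a).trans (h ▸ (h1 b).symm))))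
    rw [mul_smul_comm, smul_mul_assoc, mul_sum, sum_mul]
    refine congrArg _ (Fintype.sum_bijective σ this _ _ fun a => ?_)
    rw [mul_smul_comm, smul_mul_assoc, ← map_mul, ← map_mul, ← h1, inv_mul_cancel_right, AddChar.map_neg_eq_inv, AddChar.map_neg_eq_inv, h2]
  let W : Subrepresentation (ρ.comp f) := ⟨LinearMap.range e, by
    rintro s _ ⟨v, rfl⟩; exact ⟨ρ (f s) v, (LinearMap.congr_fun (e3 s) v).symm⟩⟩
  convert isCharacter_character W.toRepresentation using 2 with s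
  have h : ∀ v, (ρ (f s) * e) v ∈ LinearMap.range e := fun v => ⟨ρ (f s) v, (LinearMap.congr_fun (e3 s) v).symm⟩
  trans LinearMap.trace ℂ _ (ρ (f s) * e)
  · simp [wt, e, mul_sum, Representation.character, mul_comm]
  rw [← LinearMap.trace_restrict_eq_of_forall_mem _ _ h]
  refine congrArg _ (LinearMap.ext ?_)
  rintro ⟨_, v, rfl⟩
  exact Subtype.ext (congrArg (ρ (f s)) (LinearMap.congr_fun e2 v))

theorem exists_mult [Finite G] (hχ : IsCharacter G χ) (hx : Function.Injective x) (ψ : AddChar A ℂ) : ∃ m : ℕ, wt χ x ψ 1 = m := by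
  simpa using char_apply_one (char_wt (ψ := ψ) hχ (1 : Unit →* G) (fun _ a => ⟨a, by simp⟩) hx)

/-- the elements normalizing `x` and fixing `ψ` -/
def stab (x : AddChar A G) (hx : Function.Injective x) (ψ : AddChar A ℂ) : Subgroup G where
  carrier := {g | ∀ a, ∃ b, g * x a * g⁻¹ = x b ∧ ψ b = ψ a}
  one_mem' a := ⟨a, by simp⟩
  mul_mem' {g h} hg hh a := by
    obtain ⟨b, h1, h2⟩ := hh a
    obtain ⟨c, h3, h4⟩ := hg b
    exact ⟨c, by rw [← h3, ← h1]; group, h4.trans h2⟩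
  inv_mem' {g} hg a := by
    choose σ h1 h2 using hg
    obtain ⟨b, rfl⟩ := Finite.injective_iff_surjective.1
      (fun a b h => hx (mul_left_cancel (mul_right_cancel ((h1 a).trans (h ▸ (h1 b).symm)))) : Function.Injective σ) a
    exact ⟨b, by rw [← h1]; group, (h2 b).symm⟩

theorem char_stab [Finite G] (hχ : IsCharacter G χ) (hx : Function.Injective x) (ψ : AddChar A ℂ) :
    IsCharacter (stab x hx ψ) fun s => wt χ x ψ s := char_wt hχ (stab x hx ψ).subtype (fun s => s.2) hx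

theorem wt_eq_zero_of [Finite G] (hχ : IsCharacter G χ) (hx : Function.Injective x) (h0 : wt χ x ψ 1 = 0) {g : G}
    (hg : ∀ a, ∃ b, g * x a * g⁻¹ = x b) : wt χ x ψ g = 0 := by
  by_cases h : g ∈ stab x hx ψ
  · exact congrFun (char_eq_zero_of_apply_one (char_stab hχ hx ψ) h0) ⟨g, h⟩
  obtain ⟨a, ha⟩ := not_forall.1 h
  obtain ⟨b, hb⟩ := hg a
  exact wt_eq_zero (char_classFun hχ) (mul_inv_eq_iff_eq_mul.1 hb) fun e => ha ⟨b, hb, e.symm⟩

theorem wt_comm [Finite G] (hχ : IsCharacter G χ) (hx : Function.Injective x) (h1 : wt χ x ψ 1 = 1) {g : G}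
    (hg : g ∈ ⁅stab x hx ψ, stab x hx ψ⁆) : wt χ x ψ g = 1 := by
  rw [← Subgroup.map_subtype_commutator] at hg
  obtain ⟨s, hs, rfl⟩ := hg
  exact (apply_of_mem_charKer (commutator_le_charKer (char_stab hχ hx ψ) h1 hs)).trans h1

/-- a parametrisation of the characters of `A` -/
structure Par (Y A : Type*) [AddCommGroup Y] [AddCommGroup A] where
  e : Y → AddChar A ℂ
  add : ∀ y z a, e (y + z) a = e y a * e z a
  sep : ∀ a ≠ 0, ∃ y, e y a ≠ 1
  card : Nat.card Y = Nat.card A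

variable {Y : Type*} [AddCommGroup Y] [Fintype Y] (P : Par Y A)

omit [Fintype Y] in
theorem Par.zero : P.e 0 = 1 := DFunLike.ext _ _ fun a => by
  have := P.add 0 0 a
  rw [add_zero, left_eq_mul₀ (by rw [← norm_ne_zero_iff]; simp)] at this
  exact this

theorem Par.sum [DecidableEq A] (a : A) : ∑ y, P.e y a = if a = 0 then (Fintype.card A : ℂ) else 0 := by
  split_ifs with h
  · simp [h, ← Nat.card_eq_fintype_card, P.card]
  · obtain ⟨y, hy⟩ := P.sep a h
    exact AddChar.sum_eq_zero_of_ne_one (ψ := ⟨fun y => P.e y a, by simp [P.zero], fun y z => P.add y z a⟩)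
      fun e => hy (DFunLike.congr_fun e y)

theorem sum_wt (g : G) : ∑ y, wt χ x (P.e y) g = χ g := by
  classical
  simp [wt, ← mul_sum, sum_comm (γ := Y), P.sum, mul_comm (χ g)]

theorem Par.inj : Function.Injective P.e := by
  classical
  have := (Nat.bijective_iff_surjective_and_card P.e).2 ⟨fun ψ => by_contra fun h => ?_, by
    rw [P.card, Nat.card_eq_fintype_card, Nat.card_eq_fintype_card, AddChar.card_eq]⟩
  · exact this.1
  have := sum_wt P (χ := fun a : Multiplicative A => ψ a.toAdd) (x := ⟨.ofAdd, rfl, fun _ _ => rfl⟩) 1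
  simp [wt, sum_char, fun y => (not_exists.1 h y : ¬ _ = _), eq_comm (a := ψ)] at this

theorem wt_res {B : Type*} [AddCommGroup B] [Fintype B] (ι : B →+ A) (φ : AddChar B ℂ) (g : G)
    [DecidablePred fun y => (P.e y).compAddMonoidHom ι = φ] :
    wt χ (x.compAddMonoidHom ι) φ g = ∑ y with (P.e y).compAddMonoidHom ι = φ, wt χ x (P.e y) g := by
  have : ∀ b, χ (g * x (ι b)) = ∑ y, (P.e y).compAddMonoidHom ι b * wt χ x (P.e y) g := fun b => by
    rw [← sum_wt P (χ := χ) (x := x)]; simp [wt_mul]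
  rw [wt, sum_filter]
  simp only [AddChar.compAddMonoidHom_apply (ψ := x), this, sum_mul]
  rw [sum_comm, mul_sum]
  refine sum_congr rfl fun y _ => ?_
  simp only [mul_right_comm _ (wt ..), ← sum_mul, sum_char]
  split_ifs <;> simp

/-- the multiplicities -/
theorem exists_mults [Finite G] (hχ : IsCharacter G χ) (hx : Function.Injective x) : ∃ m : Y → ℕ, (∀ y, wt χ x (P.e y) 1 = m y) ∧
    (∀ a, χ (x a) = ∑ y, m y * P.e y a) ∧ ∀ h (σ : A ≃+ A), (∀ a, h * x a * h⁻¹ = x (σ a)) → ∀ y z, (∀ a, P.e z (σ a) = P.e y a) → m z = m y := by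
  choose m hm using fun y => exists_mult hχ hx (P.e y)
  refine ⟨m, hm, fun a => ?_, fun h σ hσ y z e => ?_⟩
  · rw [← sum_wt P (χ := χ) (x := x), ← one_mul (x a)]; simp only [wt_mul, hm, mul_comm]
  · simpa [hm] using wt_conj (char_classFun hχ) σ hσ e 1

/-- the parametrisation given by a pairing into a field -/
noncomputable def Par.of {K : Type*} [Field K] (ψ : AddChar K ℂ) (B : Y →+ A →+ K) (hB : ∀ a ≠ 0, ∃ y, ψ (B y a) ≠ 1)
    (h : Nat.card Y = Nat.card A) : Par Y A :=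
  ⟨fun y => ψ.compAddMonoidHom (B y), fun y z a => by simp [AddChar.map_add_eq_mul], hB, h⟩

theorem exists_addChar (K : Type*) [AddCommGroup K] [Finite K] {c : K} (hc : c ≠ 0) : ∃ ψ : AddChar K ℂ, ψ c ≠ 1 :=
  AddChar.exists_apply_ne_zero.2 hc

/-- the Heisenberg bound -/
theorem heis {S : Type*} [Group S] [Finite S] {θ : S → ℂ} (hθ : IsCharacter S θ) {m : ℕ} (hm : θ 1 = m) (h0 : m ≠ 0) (Z : Subgroup S)
    (h : ∀ g ∉ Z, θ g = 0) : Z.index ≤ m ^ 2 := by
  classical
  have := Fintype.ofFinite S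
  obtain ⟨n, hn⟩ := inner_char_char hθ hθ
  have n0 : n ≠ 0 := by
    rintro rfl
    rw [inner_self_eq_zero.1 (hn.trans Nat.cast_zero)] at hm
    exact h0 (by simpa using hm.symm)
  have h1 := congrArg Complex.re hn
  rw [inner_self_re, Complex.natCast_re, inv_mul_eq_iff_eq_mul₀ (by simp)] at h1
  have h2 : ∑ g, ‖θ g‖ ^ 2 ≤ ∑ g with g ∈ Z, (m : ℝ) ^ 2 := by
    rw [sum_filter]
    refine sum_le_sum fun g _ => ?_
    split_ifs with hg
    · exact pow_le_pow_left₀ (norm_nonneg _) (by simpa [hm] using char_norm_le hθ g) 2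
    · simp [h g hg]
  rw [h1, sum_const, nsmul_eq_mul, ← Z.card_mul_index, ← Fintype.card_subtype, ← Nat.card_eq_fintype_card, Nat.cast_mul, mul_assoc,
    mul_le_mul_iff_right₀ (Nat.cast_pos.2 Nat.card_pos)] at h2
  exact (Nat.le_mul_of_pos_right _ (Nat.pos_of_ne_zero n0)).trans (by exact_mod_cast h2)

end CA.Wt
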